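import Groth.Agent.BlowRegLib.Trivial
import Groth.Agent.DCohRestrLib.Iso

/-!
# Bundles trivial near the fibres are pulled back from the base
-/

set_option autoImplicit false
set_option linter.style.haveILetI false
set_option linter.unusedSectionVars false
set_option maxHeartbeats 1000000
set_option backward.isDefEq.respectTransparency false
set_option backward.isDefEq.respectTransparency.types false

universe u

open CategoryTheory CategoryTheory.Limits AlgebraicGeometry TopologicalSpace Opposite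
open KFlatLib (pb)

noncomputable section

namespace BlowRegLib

/-- The blow-up is an isomorphism over an open missing the centre. -/
theorem isIso_off_centre {X P : Scheme.{u}} {b : X ⟶ P} {𝓘 : P.IdealSheafData} (hb : BlowUp.IsBlowUp b 𝓘)
    (W : P.Opens) (hW : 𝓘.comap W.ι = ⊤) : IsIso (b ∣_ W) := by
  have h1 : BlowUp.IsBlowUp (b ∣_ W) (⊤ : (W : Scheme.{u}).IdealSheafData) :=
    hW ▸ BlowUpLib.isBlowUp_of_isPullback (isPullback_morphismRestrict b W).flip hb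
  have h2 : BlowUp.IsBlowUp (𝟙 (W : Scheme.{u})) (⊤ : (W : Scheme.{u}).IdealSheafData) := by
    refine ⟨fun x => ?_, fun Y g _ => ⟨g, Category.comp_id g, fun h hh => by rw [← hh, Category.comp_id]⟩⟩
    obtain ⟨U, hU, hxU, -⟩ := exists_isAffineOpen_mem_and_subset (x := x) (U := ⊤) trivial
    refine ⟨⟨U, hU⟩, hxU, 1, one_mem _, ?_⟩
    rw [Scheme.IdealSheafData.comap_id, Ideal.span_singleton_one]
    rfl
  obtain ⟨e, he⟩ := BlowUpLib.exists_iso h2 h1
  rw [← he, Category.comp_id]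
  infer_instance

/-- A map onto a free module that hits the basis is an epimorphism. -/
theorem epi_of_surjective_top {Z : Scheme.{u}} {A : Z.Modules} {n : ℕ} (φ : A ⟶ FlatMod.freeMod Z n)
    (h : Function.Surjective (φ.app ⊤)) : Epi φ := by
  refine Preadditive.epi_of_cancel_zero _ fun {B} g hg => Sigma.hom_ext _ _ fun j => ?_
  rw [comp_zero]
  let σ := Sigma.ι (fun _ : Fin n => Coh.structureModule Z) j ≫ g
  show σ = 0
  have h0 : σ.app ⊤ (1 : Γ(Z, ⊤)) = 0 := by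
    obtain ⟨x, hx⟩ := h ((Sigma.ι (fun _ : Fin n => Coh.structureModule Z) j).app ⊤ (1 : Γ(Z, ⊤)))
    show g.app ⊤ ((Sigma.ι (fun _ : Fin n => Coh.structureModule Z) j).app ⊤ (1 : Γ(Z, ⊤))) = 0
    rw [← hx]
    exact congr(Scheme.Modules.Hom.app $hg ⊤ x)
  apply Scheme.Modules.hom_ext
  intro V
  refine ConcreteCategory.hom_ext _ _ fun (s : Γ(Z, V)) => ?_
  have e : (s • (Coh.structureModule Z).presheaf.map (homOfLE (le_top : V ≤ ⊤)).op (1 : Γ(Z, ⊤)) :
      Γ(Coh.structureModule Z, V)) = s :=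
    (congrArg (s * ·) (map_one (Z.presheaf.map (homOfLE (le_top : V ≤ ⊤)).op).hom)).trans (mul_one s)
  refine (congrArg (σ.app V) e.symm).trans ?_
  refine (QCohLib.app_smul σ V s _).trans ?_
  refine (congrArg (s • ·) (QCohLib.app_map σ (homOfLE (le_top : V ≤ ⊤)) (1 : Γ(Z, ⊤)))).trans ?_
  rw [h0, map_zero, smul_zero]
  rfl

variable {X P : Scheme.{u}} {b : X ⟶ P} {𝓘 : P.IdealSheafData} [IsLocallyNoetherian P]

/-- The direct image is free where the module is. -/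
theorem nonempty_push_free (hb : BlowUp.IsBlowUp b 𝓘) (hreg : LocReg 𝓘 1) {F : X.Modules} {W : P.Opens} {n : ℕ}
    (s : F.restrict (b ⁻¹ᵁ W).ι ≅ FlatMod.freeMod ((b ⁻¹ᵁ W : X.Opens) : Scheme.{u}) n) :
    Nonempty (((Coh.push b).obj F).restrict W.ι ≅ FlatMod.freeMod (W : Scheme.{u}) n) := by
  haveI : IsLocallyNoetherian (W : Scheme.{u}) := LocallyOfFiniteType.isLocallyNoetherian W.ι
  have hb' := BlowUpLib.isBlowUp_of_isPullback (isPullback_morphismRestrict b W).flip hb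
  have hreg' : LocReg (𝓘.comap W.ι) 1 := fun y => by
    obtain ⟨U, hy, r, f, hr, hf, hI⟩ := hreg (W.ι y)
    obtain ⟨V, hV, hyV, hVle⟩ := exists_isAffineOpen_mem_and_subset (x := y) (U := W.ι ⁻¹ᵁ U.1) hy
    obtain ⟨g, hg, hgI⟩ := exists_local hf hI W.ι ⟨V, hV⟩ hVle
    exact ⟨⟨V, hV⟩, hyV, r, g, hr, hg, hgI⟩
  have hfree : FlatMod.IsFinLocFree (FlatMod.freeMod (W : Scheme.{u}) n) := fun x => ⟨⊤, n, trivial,
    ⟨(Scheme.Modules.restrictFunctorIsoPullback _).app _ ≪≫ KFlatLib.pullFreeIso _ n⟩⟩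
  haveI := isIso_unit hb' hreg' hfree
  exact ⟨(Groth.Agent.DCohRestrLib.restrictPushIso b W).app F ≪≫
    (Scheme.Modules.pushforward (b ∣_ W)).mapIso (s ≪≫ (KFlatLib.pullFreeIso (b ∣_ W) n).symm) ≪≫
    (asIso ((Scheme.Modules.pullbackPushforwardAdjunction (b ∣_ W)).unit.app (FlatMod.freeMod (W : Scheme.{u}) n))).symm⟩

/-- **A bundle free over the members of a cover of the base descends.** -/
theorem counit_of_locally_trivial (hb : BlowUp.IsBlowUp b 𝓘) (hreg : LocReg 𝓘 1) {F : X.Modules}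
    (h : ∀ y : P, ∃ (W : P.Opens) (n : ℕ), y ∈ W ∧
      Nonempty (F.restrict (b ⁻¹ᵁ W).ι ≅ FlatMod.freeMod ((b ⁻¹ᵁ W : X.Opens) : Scheme.{u}) n)) :
    FlatMod.IsFinLocFree ((Coh.push b).obj F) ∧
      IsIso ((Scheme.Modules.pullbackPushforwardAdjunction b).counit.app F) := by
  let a := Scheme.Modules.pullbackPushforwardAdjunction b
  have hG : FlatMod.IsFinLocFree ((Coh.push b).obj F) := fun y => by
    obtain ⟨W, n, hy, ⟨s⟩⟩ := h y
    exact ⟨W, n, hy, nonempty_push_free hb hreg s⟩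
  refine ⟨hG, ?_⟩
  haveI := isIso_unit hb hreg hG
  haveI : IsIso (a.unit.app ((Scheme.Modules.pushforward b).obj F) ≫ (Scheme.Modules.pushforward b).map (a.counit.app F)) := by
    rw [a.right_triangle_components F]; infer_instance
  haveI hpe : IsIso ((Scheme.Modules.pushforward b).map (a.counit.app F)) :=
    IsIso.of_isIso_comp_left (a.unit.app ((Scheme.Modules.pushforward b).obj F)) _
  have hloc : ∀ (W : P.Opens) (n : ℕ),
      (F.restrict (b ⁻¹ᵁ W).ι ≅ FlatMod.freeMod ((b ⁻¹ᵁ W : X.Opens) : Scheme.{u}) n) →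
      IsIso ((Scheme.Modules.restrictFunctor (b ⁻¹ᵁ W).ι).map (a.counit.app F)) := fun W n s => by
    let O := b ⁻¹ᵁ W
    let ε' : (pb b ((Coh.push b).obj F)).restrict O.ι ⟶ FlatMod.freeMod (O : Scheme.{u}) n :=
      (Scheme.Modules.restrictFunctor O.ι).map (a.counit.app F) ≫ s.hom
    haveI : Epi ε' := epi_of_surjective_top ε' fun y => by
      have hbij : Function.Bijective ((a.counit.app F).app O) :=
        (ConcreteCategory.isIso_iff_bijective _).1 (Scheme.Modules.Hom.isIso_iff_isIso_app.1 hpe W)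
      have hbij' : Function.Bijective ((a.counit.app F).app (O.ι ''ᵁ ⊤)) := by
        rw [O.ι_image_top]; exact hbij
      obtain ⟨x, hx⟩ := hbij'.2 (s.inv.app ⊤ y)
      refine ⟨x, ?_⟩
      show s.hom.app ⊤ ((a.counit.app F).app (O.ι ''ᵁ ⊤) x) = y
      refine (congrArg (s.hom.app ⊤) hx).trans ?_
      exact congr(Scheme.Modules.Hom.app $(s.inv_hom_id) ⊤ y)
    obtain ⟨g⟩ := nonempty_push_free hb hreg s
    let g' : (pb b ((Coh.push b).obj F)).restrict O.ι ≅ FlatMod.freeMod (O : Scheme.{u}) n :=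
      (Scheme.Modules.restrictFunctorIsoPullback O.ι).app _ ≪≫ (Scheme.Modules.pullbackComp O.ι b).app _ ≪≫
        (Scheme.Modules.pullbackCongr (morphismRestrict_ι b W).symm).app _ ≪≫
        ((Scheme.Modules.pullbackComp _ _).app _).symm ≪≫
        (Scheme.Modules.pullback (b ∣_ W)).mapIso (((Scheme.Modules.restrictFunctorIsoPullback W.ι).app _).symm ≪≫ g) ≪≫
        KFlatLib.pullFreeIso _ n
    have hr : FlatMod.IsFinLocFreeOfRank n (FlatMod.freeMod (O : Scheme.{u}) n) := fun v =>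
      ⟨⊤, trivial, ⟨(Scheme.Modules.restrictFunctorIsoPullback _).app _ ≪≫ KFlatLib.pullFreeIso _ n⟩⟩
    haveI : IsIso ε' := QuotSchLib.isIso_of_epi_rank (fun v => ⟨⊤, trivial,
      ⟨(Scheme.Modules.restrictFunctor _).mapIso g' ≪≫ (Scheme.Modules.restrictFunctorIsoPullback _).app _ ≪≫
        KFlatLib.pullFreeIso _ n⟩⟩) hr ε'
    exact IsIso.of_isIso_comp_right _ s.hom
  refine RpushLib.isIso_of_bijective_basis (a.counit.app F) (B := {U : X.Opens | ∃ (W : P.Opens) (n : ℕ),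
    U ≤ b ⁻¹ᵁ W ∧ Nonempty (F.restrict (b ⁻¹ᵁ W).ι ≅ FlatMod.freeMod ((b ⁻¹ᵁ W : X.Opens) : Scheme.{u}) n)}) ?_ ?_
  · refine Opens.isBasis_iff_nbhd.2 fun {U x} hx => ?_
    obtain ⟨W, n, hy, hs⟩ := h (b x)
    exact ⟨U ⊓ b ⁻¹ᵁ W, ⟨W, n, inf_le_right, hs⟩, ⟨hx, hy⟩, inf_le_left⟩
  · rintro U ⟨W, n, hle, ⟨s⟩⟩
    have h2 := (ConcreteCategory.isIso_iff_bijective _).1
      (Scheme.Modules.Hom.isIso_iff_isIso_app.1 (hloc W n s) ((b ⁻¹ᵁ W).ι ⁻¹ᵁ U))
    have h3 : (b ⁻¹ᵁ W).ι ''ᵁ ((b ⁻¹ᵁ W).ι ⁻¹ᵁ U) = U := by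
      rw [Scheme.Hom.image_preimage_eq_opensRange_inf, Scheme.Opens.opensRange_ι]
      exact inf_eq_right.2 hle
    have h4 : Function.Bijective ((a.counit.app F).app ((b ⁻¹ᵁ W).ι ''ᵁ ((b ⁻¹ᵁ W).ι ⁻¹ᵁ U))) := h2
    rw [h3] at h4
    exact h4

/-- Triviality near the fibres over isolated points and away from the centre. -/
theorem exists_free_over (hb : BlowUp.IsBlowUp b 𝓘) [IsProper b] {F : X.Modules} (hF : FlatMod.IsFinLocFree F)
    (y : P) (h : y ∈ (𝓘.support : Set P) → ∃ (V : X.Opens) (n : ℕ), (∀ x, b x = y → x ∈ V) ∧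
      Nonempty (F.restrict V.ι ≅ FlatMod.freeMod (V : Scheme.{u}) n)) :
    ∃ (W : P.Opens) (n : ℕ), y ∈ W ∧
      Nonempty (F.restrict (b ⁻¹ᵁ W).ι ≅ FlatMod.freeMod ((b ⁻¹ᵁ W : X.Opens) : Scheme.{u}) n) := by
  obtain ⟨V, n, hV, ⟨s⟩⟩ : ∃ (V : X.Opens) (n : ℕ), (∀ x, b x = y → x ∈ V) ∧
      Nonempty (F.restrict V.ι ≅ FlatMod.freeMod (V : Scheme.{u}) n) := by
    by_cases hy : y ∈ (𝓘.support : Set P)
    · exact h hy
    · obtain ⟨W, hW, hyW, hWs⟩ := exists_isAffineOpen_mem_and_subset (x := y)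
        (U := ⟨(𝓘.support : Set P)ᶜ, 𝓘.support.isClosed.isOpen_compl⟩) hy
      haveI : IsAffine (W : Scheme.{u}) := hW
      have htop : 𝓘.comap W.ι = ⊤ := Scheme.IdealSheafData.ext_of_isAffine (by
        rw [Groth.Agent.S4666.ideal_comap_eq 𝓘 W.ι ⟨W, hW⟩ ⟨⊤, isAffineOpen_top _⟩ (fun x _ => x.2),
          CDivRatioLib.ideal_eq_top 𝓘 ⟨W, hW⟩ fun x hx hxs => hWs hx hxs, Ideal.map_top]
        rfl)
      haveI := isIso_off_centre hb W htop
      obtain ⟨x, hx⟩ := (b ∣_ W).surjective ⟨y, hyW⟩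
      obtain ⟨V, n, hxV, hs⟩ := hF ((b ⁻¹ᵁ W).ι x)
      refine ⟨V, n, fun x' hx' => ?_, hs⟩
      have hinj := (b ∣_ W).homeomorph.injective
      have hx'W : x' ∈ b ⁻¹ᵁ W := by
        show b x' ∈ W
        rw [hx']; exact hyW
      have e : (⟨x', hx'W⟩ : (b ⁻¹ᵁ W : X.Opens)) = x := by
        refine (b ∣_ W).isOpenEmbedding.injective ?_
        rw [hx]
        refine Subtype.ext ?_
        exact (congrArg (fun φ : ((b ⁻¹ᵁ W : X.Opens) : Scheme.{u}) ⟶ P => φ ⟨x', hx'W⟩)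
          (morphismRestrict_ι b W)).trans hx'
      rw [show x' = (b ⁻¹ᵁ W).ι x from congrArg Subtype.val e]
      exact hxV
  let C : Set P := b '' ((V : Set X)ᶜ)
  have hC : IsClosed C := b.isClosedMap _ V.isOpen.isClosed_compl
  refine ⟨⟨Cᶜ, hC.isOpen_compl⟩, n, fun ⟨x, hx, hxy⟩ => hx (hV x hxy), ?_⟩
  have hle : b ⁻¹ᵁ ⟨Cᶜ, hC.isOpen_compl⟩ ≤ V := fun x hx => by_contra fun hne => hx ⟨x, hne, rfl⟩
  exact ⟨(Scheme.Modules.restrictFunctorIsoPullback _).app F ≪≫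
    (Scheme.Modules.pullbackCongr (X.homOfLE_ι hle).symm).app F ≪≫ ((Scheme.Modules.pullbackComp _ _).app F).symm ≪≫
    (Scheme.Modules.pullback (X.homOfLE hle)).mapIso (((Scheme.Modules.restrictFunctorIsoPullback V.ι).app F).symm ≪≫ s) ≪≫
    KFlatLib.pullFreeIso _ n⟩

end BlowRegLib

namespace BlowRegLib

/-- The counit on bundles trivial on the exceptional divisor over finitely many points. -/
theorem counit_of_trivial_on_exceptional {S S' : Scheme.{u}} [IsLocallyNoetherian S] {σ : S' ⟶ S} {s : ℕ}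
    (P : Fin s → S) (hP : Function.Injective P) (hPc : ∀ i, IsClosed ({P i} : Set S)) (hZ : IsClosed (Set.range P))
    (hpt : ∀ i, IsRegularLocalRing (S.presheaf.stalk (P i)) ∧ ringKrullDim (S.presheaf.stalk (P i)) = (2 : ℕ))
    (hσ : BlowUp.IsBlowUp σ (Scheme.IdealSheafData.vanishingIdeal ⟨Set.range P, hZ⟩))
    {F : S'.Modules} (hF : FlatMod.IsFinLocFree F) (r : ℕ)
    (hE : Nonempty (pb (BlowUp.exceptional σ (Scheme.IdealSheafData.vanishingIdeal ⟨Set.range P, hZ⟩)).subschemeι F ≅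
      FlatMod.freeMod (BlowUp.exceptional σ (Scheme.IdealSheafData.vanishingIdeal ⟨Set.range P, hZ⟩)).subscheme r)) :
    LocReg (Scheme.IdealSheafData.vanishingIdeal ⟨Set.range P, hZ⟩) 1 ∧
      ∀ y : S, ∃ (W : S.Opens) (n : ℕ), y ∈ W ∧
        Nonempty (F.restrict (σ ⁻¹ᵁ W).ι ≅ FlatMod.freeMod ((σ ⁻¹ᵁ W : S'.Opens) : Scheme.{u}) n) := by
  let 𝓘 := Scheme.IdealSheafData.vanishingIdeal (⟨Set.range P, hZ⟩ : Closeds S)
  have hchart := fun i => by
    haveI := (hpt i).1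
    exact exists_isolated_chart P hP hPc hZ i (hpt i).2
  have hreg : LocReg 𝓘 1 := fun y => by
    by_cases hy : y ∈ Set.range P
    · obtain ⟨i, rfl⟩ := hy
      obtain ⟨W, hiW, f, hf, hI, -⟩ := hchart i
      exact ⟨W, hiW, 2, f, one_le_two, hf, hI⟩
    · obtain ⟨V, hV, hyV, hVs⟩ := exists_isAffineOpen_mem_and_subset (x := y)
        (U := ⟨(Set.range P)ᶜ, hZ.isOpen_compl⟩) hy
      refine ⟨⟨V, hV⟩, hyV, 1, fun _ => 1, le_rfl, nr_one, ?_⟩
      rw [BlowPtLib.vanishingIdeal_eq_top _ ⟨V, hV⟩ fun x hx h => hVs hx h, Set.range_const, Ideal.span_singleton_one]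
  refine ⟨hreg, fun y => ?_⟩
  haveI := isProper_b hσ
  refine exists_free_over hσ hF y fun hy => ?_
  obtain ⟨i, rfl⟩ : y ∈ Set.range P := by
    rwa [Scheme.IdealSheafData.coe_support_vanishingIdeal] at hy
  obtain ⟨W, hiW, f, hf, hI, hag⟩ := hchart i
  obtain ⟨t⟩ := hE
  let 𝓙 := Scheme.IdealSheafData.vanishingIdeal (⟨{P i}, hPc i⟩ : Closeds S)
  have hle : 𝓘.comap σ ≤ 𝓙.comap σ :=
    (Scheme.IdealSheafData.map_gc σ).monotone_l (Scheme.IdealSheafData.gc.monotone_u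
      (show (⟨{P i}, hPc i⟩ : Closeds S) ≤ ⟨Set.range P, hZ⟩ from fun x hx => ⟨i, (show x = P i from hx).symm⟩))
  let ι' := Scheme.IdealSheafData.inclusion hle
  obtain ⟨V, hV, hs⟩ := exists_trivial_near_point (m := 1) (𝓙 := 𝓙) hσ hf hI hag
    (fun x hx => by
      rw [← SetLike.mem_coe, Scheme.IdealSheafData.coe_support_vanishingIdeal] at hx
      exact (show x = P i from hx) ▸ hiW) hF
    ((Scheme.Modules.pullbackCongr (Scheme.IdealSheafData.inclusion_subschemeι hle).symm).app F ≪≫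
      ((Scheme.Modules.pullbackComp ι' (𝓘.comap σ).subschemeι).app F).symm ≪≫
      (Scheme.Modules.pullback ι').mapIso t ≪≫ KFlatLib.pullFreeIso ι' r)
  refine ⟨V, r, fun x hx => hV ?_, hs⟩
  rw [Scheme.IdealSheafData.support_comap]
  show σ x ∈ (𝓙.support : Set S)
  rw [Scheme.IdealSheafData.coe_support_vanishingIdeal]
  exact hx

end BlowRegLib
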