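import Groth.Agent.BlowRegLib.Embed
import Groth.Agent.BlowUpLib.RegSmooth
import Groth.Agent.BlowPtLib.Rows
import Groth.Agent.LichtLib.Ample
import Groth.Agent.QCohLib.Vanishing
import Groth.Agent.QuotSchLib.Fibre

/-!
# Cohomology on the blow-up of an affine scheme in a quasi-regular ideal
-/

set_option autoImplicit false
set_option linter.style.haveILetI false
set_option linter.unusedSectionVars false
set_option maxHeartbeats 1000000
set_option backward.isDefEq.respectTransparency false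
set_option backward.isDefEq.respectTransparency.types false

universe u

open CategoryTheory CategoryTheory.Limits AlgebraicGeometry TopologicalSpace Opposite
open HilbPolyLib (congrLeft congrRight assocIso swapIso unitLeft)
open KFlatLib (pb)
open Groth.Agent.QReg16Lib (QR)

noncomputable section

namespace BlowRegLib

/-- Pulled back twists as powers, over any ring. -/
theorem nonempty_pb_twist_pow {Z : Scheme.{u}} {R : Type u} [CommRing R] {m : ℕ} (φ : Z ⟶ CohB1.ProjSpace m R) :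
    ∀ n : ℕ, Nonempty (CohB1.tensorPow (pb φ (Twist.twistProjSpace m R 1)) n ≅ pb φ (Twist.twistProjSpace m R (n : ℤ)))
  | 0 => by
    obtain ⟨z⟩ := PicPnLib.twist_zero m R
    exact ⟨(KFlatLib.pullUnitIso φ).symm ≪≫ (Scheme.Modules.pullback φ).mapIso (z.symm ≪≫ eqToIso (by simp))⟩
  | n + 1 => by
    obtain ⟨e⟩ := nonempty_pb_twist_pow φ n
    obtain ⟨p⟩ := BlowPtLib.nonempty_pb_tensor φ (Twist.twistProjSpace m R (n : ℤ)) (Twist.twistProjSpace m R 1)
    obtain ⟨a⟩ := PicPnLib.twist_add m R (n : ℤ) 1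
    exact ⟨congrLeft e _ ≪≫ p.symm ≪≫ (Scheme.Modules.pullback φ).mapIso (a ≪≫ eqToIso (by rw [Nat.cast_succ]))⟩

theorem nonempty_pb_twist_inverse {Z : Scheme.{u}} {R : Type u} [CommRing R] {m : ℕ} (φ : Z ⟶ CohB1.ProjSpace m R) :
    Nonempty (CohB1.tensorMod (pb φ (Twist.twistProjSpace m R 1)) (pb φ (Twist.twistProjSpace m R (-1))) ≅
      Coh.structureModule Z) := by
  obtain ⟨p⟩ := BlowPtLib.nonempty_pb_tensor φ (Twist.twistProjSpace m R 1) (Twist.twistProjSpace m R (-1))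
  obtain ⟨a⟩ := PicPnLib.twist_add m R 1 (-1)
  obtain ⟨z⟩ := PicPnLib.twist_zero m R
  exact ⟨p.symm ≪≫ (Scheme.Modules.pullback φ).mapIso
    (a ≪≫ eqToIso (congrArg (Twist.twistProjSpace m R) (add_neg_cancel (1 : ℤ))) ≪≫ z) ≪≫ KFlatLib.pullUnitIso φ⟩

variable {P X : Scheme.{u}} [IsAffine P] {b : X ⟶ P} {𝓘 : P.IdealSheafData} (hb : BlowUp.IsBlowUp b 𝓘) {m : ℕ}
  (a : Fin (m + 1) → Γ(P, ⊤)) (ha : Ideal.span (Set.range a) = 𝓘.ideal ⟨⊤, isAffineOpen_top P⟩) (hQR : QR a)

include hb ha hQR in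
/-- The exceptional divisor. -/
theorem exists_exceptional_affine : ∃ (R : CommRingCat.{u})
    (φ : (𝓘.comap b).subscheme ⟶ CohB1.ProjSpace m R),
    IsIso φ ∧ Nonempty (pb φ (Twist.twistProjSpace m R 1) ≅
      pb (𝓘.comap b).subschemeι (ClSub.idealMod (𝓘.comap b))) := by
  let U₀ : P.affineOpens := ⟨⊤, isAffineOpen_top P⟩
  have hγ : ∀ c : Γ(P, ⊤), cstP P.toSpecΓ (⊤ : P.Opens) c = c := fun c => by
    have h1 : (Scheme.ΓSpecIso Γ(P, ⊤)).inv ≫ P.toSpecΓ.appTop = 𝟙 _ := by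
      rw [← cancel_epi (Scheme.ΓSpecIso Γ(P, ⊤)).hom, Iso.hom_inv_id_assoc, Category.comp_id,
        Scheme.toSpecΓ_appTop]
    simp [cstP, ProjUP.toGlobal]
    exact congr($h1 c)
  obtain ⟨φ, hφ, -, hφt⟩ := exists_embedding (𝓙 := 𝓘) hb P.toSpecΓ U₀ rfl (fun x _ => trivial) a ha
    (fun x => ⟨x, by rw [show cstP P.toSpecΓ (⊤ : P.Opens) x = x from hγ x, sub_self]; exact zero_mem _⟩)
    (fun d F hF h s => by
      rw [show cstP P.toSpecΓ (⊤ : P.Opens) (F.coeff s) = F.coeff s from hγ _]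
      refine ha ▸ hQR d F hF ?_ s
      rw [show Ideal.span (Set.range a) = 𝓘.ideal U₀ from ha]
      have e : cstP P.toSpecΓ (⊤ : P.Opens) = RingHom.id _ := RingHom.ext hγ
      rwa [show MvPolynomial.eval a F = MvPolynomial.eval₂ (cstP P.toSpecΓ (⊤ : P.Opens)) a F by rw [e]; rfl])
  exact ⟨CommRingCat.of _, φ, hφ, hφt⟩

include hb ha hQR in
/-- Cohomology of the restrictions to the exceptional divisor. -/
theorem sub_restrict_pow (n q : ℕ) (hq : 1 ≤ q) :
    Subsingleton (Coh.HH (𝓘.comap b).subscheme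
      (pb (𝓘.comap b).subschemeι (CohB1.tensorPow (ClSub.idealMod (𝓘.comap b)) n)) q) := by
  obtain ⟨R, φ, hφ, ⟨e⟩⟩ := exists_exceptional_affine hb a ha hQR
  haveI := hφ
  haveI : Coh.IsQCoh (Twist.twistProjSpace m R (n : ℤ)) :=
    FinLFAnn.isQCoh_of_isFinLocFree (AmpleDevLib.isFinLocFree_of_isInvertible (PicPnLib.twist_inv m R _))
  obtain ⟨p⟩ := CurveDualLib.nonempty_pb_tensorPow (𝓘.comap b).subschemeι (ClSub.idealMod (𝓘.comap b)) n
  obtain ⟨c⟩ := CurveDualLib.nonempty_tensorPow_congr e.symm n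
  obtain ⟨w⟩ := nonempty_pb_twist_pow φ n
  exact HdgLefLib.sub_iso (p ≪≫ c ≪≫ w).symm q ((QuotSchLib.subsingleton_HH_pullback_iso (asIso φ) _ q).2
    (PnCohLib.subsingleton_HH_twist _ q (fun x => by omega) (fun x => by omega)))

include hb ha hQR in
/-- Cohomology of the restriction of an inverse. -/
theorem sub_restrict_inverse {L : X.Modules} (hL : CohB1.tensorMod L (ClSub.idealMod (𝓘.comap b)) ≅ Coh.structureModule X)
    (q : ℕ) (hq : 1 ≤ q ∨ 1 ≤ m) :
    Subsingleton (Coh.HH (𝓘.comap b).subscheme (pb (𝓘.comap b).subschemeι L) q) := by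
  obtain ⟨R, φ, hφ, ⟨e⟩⟩ := exists_exceptional_affine hb a ha hQR
  haveI := hφ
  haveI : Coh.IsQCoh (Twist.twistProjSpace m R (-1)) :=
    FinLFAnn.isQCoh_of_isFinLocFree (AmpleDevLib.isFinLocFree_of_isInvertible (PicPnLib.twist_inv m R _))
  let i := (𝓘.comap b).subschemeι
  obtain ⟨p⟩ := BlowPtLib.nonempty_pb_tensor i L (ClSub.idealMod (𝓘.comap b))
  obtain ⟨z⟩ := nonempty_pb_twist_inverse φ
  obtain ⟨f⟩ := BlowPtLib.nonempty_inverse_congr
    (p.symm ≪≫ (Scheme.Modules.pullback i).mapIso hL ≪≫ KFlatLib.pullUnitIso i) z e.symm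
  exact HdgLefLib.sub_iso f.symm q ((QuotSchLib.subsingleton_HH_pullback_iso (asIso φ) _ q).2
    (PnCohLib.subsingleton_HH_twist _ q (fun x => by omega) (fun x => by omega)))

/-- The restriction to a closed subscheme, pushed forward. -/
theorem sub_push_closed {Y : Scheme.{u}} (I : Y.IdealSheafData) {F : Y.Modules} (hF : PicF.IsInvertible F) (q : ℕ)
    (h : Subsingleton (Coh.HH I.subscheme (pb I.subschemeι F) q)) :
    Subsingleton (Coh.HH Y ((Coh.push I.subschemeι).obj (pb I.subschemeι F)) q) := by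
  haveI : Coh.IsQCoh (pb I.subschemeι F) := FinLFAnn.isQCoh_of_isFinLocFree
    (AmpleDevLib.isFinLocFree_of_isInvertible (AmpleDevLib.isInvertible_pb _ hF))
  obtain ⟨E⟩ := QCohLib.nonempty_HH_push I.subschemeι (pb I.subschemeι F) q
  exact E.symm.toEquiv.subsingleton

include hb ha hQR in
/-- **The powers of the exceptional ideal are acyclic.** -/
theorem sub_pow [IsNoetherian P] (n q : ℕ) (hq : 1 ≤ q) :
    Subsingleton (Coh.HH X (CohB1.tensorPow (ClSub.idealMod (𝓘.comap b)) n) q) := by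
  have h𝓘 : BlowUp.IsFiniteTypeIdeal 𝓘 := fun U => by
    haveI := IsLocallyNoetherian.component_noetherian U
    exact IsNoetherian.noetherian _
  haveI := BlowUpLib.isProper_of_isBlowUp hb h𝓘
  haveI : IsLocallyNoetherian X := LocallyOfFiniteType.isLocallyNoetherian b
  let J := ClSub.idealMod (𝓘.comap b)
  have hJ : PicF.IsInvertible J := IntMultLib.isInvertible_idealMod _ hb.1
  obtain ⟨n₀, hn₀⟩ := LichtLib.exists_vanishing hb h𝓘 (Coh.structureModule X) (DevissLib.isCoh_structureModule X)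
  have hlarge : ∀ N, n₀ ≤ N → Subsingleton (Coh.HH X (CohB1.tensorPow J N) q) := fun N hN => by
    obtain ⟨E⟩ := hn₀ N hN q
    haveI : Coh.IsQCoh (CohB1.tensorMod (Coh.structureModule X) (CohB1.tensorPow J N)) :=
      FinLFAnn.isQCoh_of_isFinLocFree (AmpleDevLib.isFinLocFree_of_isInvertible (HilbPolyLib.isInvertible_tensor
        CurvLib.isInvertible_structureModule (AmpleThLib.tensorPow_isInvertible hJ N)))
    haveI : Coh.IsQCoh ((Coh.push b).obj (CohB1.tensorMod (Coh.structureModule X) (CohB1.tensorPow J N))) :=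
      QCohLib.isQCoh_pushforward b _
    haveI := QCohLib.subsingleton_HH_affine
      ((Coh.push b).obj (CohB1.tensorMod (Coh.structureModule X) (CohB1.tensorPow J N))) q hq
    exact HdgLefLib.sub_iso (unitLeft _) q E.toEquiv.subsingleton
  have hdown : ∀ d N, n₀ ≤ N + d → Subsingleton (Coh.HH X (CohB1.tensorPow J N) q) := by
    intro d
    induction d with
    | zero => exact fun N h => hlarge N (by omega)
    | succ d ih =>
      intro N h
      have hF := AmpleThLib.tensorPow_isInvertible hJ N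
      obtain ⟨T, hT, ⟨e₁⟩, ⟨e₂⟩, ⟨e₃⟩⟩ := HdgLefLib.exists_restrict_seq (𝓘.comap b)
        (AmpleDevLib.isFinLocFree_of_isInvertible hF)
      exact HdgLefLib.sub_iso e₂ q (HdgLefLib.sub₂ hT (HdgLefLib.sub_iso e₁.symm q (ih (N + 1) (by omega)))
        (HdgLefLib.sub_iso e₃.symm q (sub_push_closed _ hF q (sub_restrict_pow hb a ha hQR N q hq))))
  exact hdown n₀ n (by omega)

include hb ha hQR in
/-- An inverse of the exceptional ideal is acyclic. -/
theorem sub_inverse [IsNoetherian P] {L : X.Modules} (hLi : PicF.IsInvertible L)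
    (hL : CohB1.tensorMod L (ClSub.idealMod (𝓘.comap b)) ≅ Coh.structureModule X)
    (q : ℕ) (hq : 1 ≤ q) : Subsingleton (Coh.HH X L q) := by
  obtain ⟨T, hT, ⟨e₁⟩, ⟨e₂⟩, ⟨e₃⟩⟩ := HdgLefLib.exists_restrict_seq (𝓘.comap b)
    (AmpleDevLib.isFinLocFree_of_isInvertible hLi)
  exact HdgLefLib.sub_iso e₂ q (HdgLefLib.sub₂ hT (HdgLefLib.sub_iso (e₁ ≪≫ hL).symm q (sub_pow hb a ha hQR 0 q hq))
    (HdgLefLib.sub_iso e₃.symm q (sub_push_closed _ hLi q (sub_restrict_inverse hb a ha hQR hL q (Or.inl hq)))))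

end BlowRegLib
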