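import Groth.Agent.BlowRegLib.Point
import Groth.Agent.PnCohLib.Resol
import Groth.Agent.QuotSchLib.ZeroLocus
import Groth.Agent.CohCmpLib.StratIff
import Groth.Agent.QCohLib.Gen
import Groth.Agent.S10844

/-!
# Bundles trivial on the exceptional divisor are trivial near it
-/

set_option autoImplicit false
set_option linter.style.haveILetI false
set_option linter.unusedSectionVars false
set_option maxHeartbeats 1000000
set_option backward.isDefEq.respectTransparency false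
set_option backward.isDefEq.respectTransparency.types false

universe u

open CategoryTheory CategoryTheory.Limits AlgebraicGeometry TopologicalSpace Opposite
open HilbPolyLib (congrLeft congrRight assocIso swapIso unitLeft)
open KFlatLib (pb)
open CohB1 (tensorMod tensorPow)
open Groth.Agent.QReg16Lib (QR)

noncomputable section

namespace BlowRegLib

section Affine

variable {P X : Scheme.{u}} [IsAffine P] [IsNoetherian P] {b : X ⟶ P} {𝓘 : P.IdealSheafData}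
  (hb : BlowUp.IsBlowUp b 𝓘) {m : ℕ} (a : Fin (m + 1) → Γ(P, ⊤))
  (ha : Ideal.span (Set.range a) = 𝓘.ideal ⟨⊤, isAffineOpen_top P⟩) (hQR : QR a)
  {F : X.Modules} (hF : FlatMod.IsFinLocFree F) {r : ℕ}
  (t : pb (𝓘.comap b).subschemeι F ≅ FlatMod.freeMod (𝓘.comap b).subscheme r)

include hb ha hQR hF t in
/-- A bundle trivial on the divisor, twisted by the exceptional ideal, has no `H¹`. -/
theorem sub_H1_twist : Subsingleton (Coh.HH X (tensorMod F (ClSub.idealMod (𝓘.comap b))) 1) := by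
  have h𝓘 : BlowUp.IsFiniteTypeIdeal 𝓘 := fun U => by
    haveI := IsLocallyNoetherian.component_noetherian U
    exact IsNoetherian.noetherian _
  haveI := BlowUpLib.isProper_of_isBlowUp hb h𝓘
  haveI : IsLocallyNoetherian X := LocallyOfFiniteType.isLocallyNoetherian b
  let J := ClSub.idealMod (𝓘.comap b)
  have hJ : PicF.IsInvertible J := IntMultLib.isInvertible_idealMod _ hb.1
  have hvb : ∀ N, FlatMod.IsFinLocFree (tensorMod F (tensorPow J N)) := fun N =>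
    HdgLefLib.finLocFree_tensor hF (AmpleThLib.tensorPow_isInvertible hJ N)
  have hFc : Coh.IsCoh F := Groth.Agent.PerfLib.isCoh_of_isFinLocFree hF
  obtain ⟨n₀, hn₀⟩ := LichtLib.exists_vanishing hb h𝓘 F hFc
  have hlarge : ∀ N, n₀ ≤ N → Subsingleton (Coh.HH X (tensorMod F (tensorPow J N)) 1) := fun N hN => by
    obtain ⟨E⟩ := hn₀ N hN 1
    haveI : Coh.IsQCoh (tensorMod F (tensorPow J N)) := FinLFAnn.isQCoh_of_isFinLocFree (hvb N)
    haveI : Coh.IsQCoh ((Coh.push b).obj (tensorMod F (tensorPow J N))) := QCohLib.isQCoh_pushforward b _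
    haveI := QCohLib.subsingleton_HH_affine ((Coh.push b).obj (tensorMod F (tensorPow J N))) 1 one_pos
    exact E.toEquiv.subsingleton
  have hdiv : ∀ N, Subsingleton (Coh.HH (𝓘.comap b).subscheme
      (pb (𝓘.comap b).subschemeι (tensorMod F (tensorPow J N))) 1) := fun N => by
    obtain ⟨p⟩ := BlowPtLib.nonempty_pb_tensor (𝓘.comap b).subschemeι F (tensorPow J N)
    exact HdgLefLib.sub_iso (swapIso _ _ ≪≫ congrLeft t.symm _ ≪≫ p.symm) 1
      (PnCohLib.subsingleton_HH_tensor_free _ 1 (sub_restrict_pow hb a ha hQR N 1 le_rfl) r)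
  have hdown : ∀ d N, n₀ ≤ N + d → Subsingleton (Coh.HH X (tensorMod F (tensorPow J N)) 1) := by
    intro d
    induction d with
    | zero => exact fun N h => hlarge N (by omega)
    | succ d ih =>
      intro N h
      obtain ⟨T, hT, ⟨e₁⟩, ⟨e₂⟩, ⟨e₃⟩⟩ := HdgLefLib.exists_restrict_seq (𝓘.comap b) (hvb N)
      haveI : Coh.IsQCoh (pb (𝓘.comap b).subschemeι (tensorMod F (tensorPow J N))) :=
        FinLFAnn.isQCoh_of_isFinLocFree (KFlatLib.isFinLocFree_pull _ (hvb N))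
      obtain ⟨E⟩ := QCohLib.nonempty_HH_push (𝓘.comap b).subschemeι
        (pb (𝓘.comap b).subschemeι (tensorMod F (tensorPow J N))) 1
      haveI := hdiv N
      exact HdgLefLib.sub_iso e₂ 1 (HdgLefLib.sub₂ hT
        (HdgLefLib.sub_iso (e₁ ≪≫ assocIso _ _ _).symm 1 (ih (N + 1) (by omega)))
        (HdgLefLib.sub_iso e₃.symm 1 E.symm.toEquiv.subsingleton))
  exact HdgLefLib.sub_iso (congrRight F (unitLeft J)) 1 (hdown n₀ 1 (by omega))

include hb ha hQR hF t in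
/-- **A bundle trivial on the divisor is trivial near it.** -/
theorem exists_trivial_near_divisor : ∃ V : X.Opens, ((𝓘.comap b).support : Set X) ⊆ V ∧
    Nonempty (F.restrict V.ι ≅ FlatMod.freeMod (V : Scheme.{u}) r) := by
  let ι := (𝓘.comap b).subschemeι
  haveI : Coh.IsQCoh F := FinLFAnn.isQCoh_of_isFinLocFree hF
  haveI hQfree : Coh.IsQCoh (FlatMod.freeMod X r) :=
    FinLFAnn.isQCoh_of_isFinLocFree fun x => ⟨⊤, r, trivial,
      ⟨(Scheme.Modules.restrictFunctorIsoPullback _).app _ ≪≫ KFlatLib.pullFreeIso _ r⟩⟩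
  obtain ⟨T, hT, ⟨e₁⟩, ⟨e₂⟩, ⟨e₃⟩⟩ := HdgLefLib.exists_restrict_seq (𝓘.comap b) hF
  haveI := hT.epi_g
  have h1 := HdgLefLib.sub_iso e₁.symm 1 (sub_H1_twist hb a ha hQR hF t)
  have hsurj : ∀ σ : Coh.structureModule X ⟶ T.X₃, ∃ h : Coh.structureModule X ⟶ T.X₂, h ≫ T.g = σ := fun σ => by
    haveI : Subsingleton (QCohLib.HU ((T.map (QCohLib.toAbF _)).X₁) 1 ⊤) := (QCohLib.subsingleton_H_iff _ _).1 h1
    obtain ⟨x, hx⟩ := QCohLib.exists_lift_of_subsingleton (S := T.map (QCohLib.toAbF _))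
      (QCohLib.toAbF_shortExact hT) (σ.app ⊤ (1 : Γ(X, ⊤)))
    refine ⟨QCohLib.unitHom T.X₂ x, ?_⟩
    rw [QCohLib.app_unitHom_app]
    apply Scheme.Modules.hom_ext
    intro V
    refine ConcreteCategory.hom_ext _ _ fun (s : Γ(X, V)) => ?_
    refine (QCohLib.unitHom_app _ _ _ _).trans ?_
    refine (congrArg (fun y => s • T.X₃.presheaf.map (homOfLE (le_top : V ≤ ⊤)).op y) hx).trans ?_
    refine (congrArg (s • ·) (QCohLib.app_map σ (homOfLE (le_top : V ≤ ⊤)) (1 : Γ(X, ⊤))).symm).trans ?_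
    refine (QCohLib.app_smul σ V s _).symm.trans (congrArg (σ.app V) ?_)
    exact (congrArg (s * ·) (map_one (X.presheaf.map (homOfLE (le_top : V ≤ ⊤)).op).hom)).trans (mul_one s)
  let c : FlatMod.freeMod X r ⟶ (Coh.push ι).obj (pb ι F) :=
    (Scheme.Modules.pullbackPushforwardAdjunction ι).homEquiv _ _ ((KFlatLib.pullFreeIso ι r).hom ≫ t.inv)
  choose h hh using fun j : Fin r => hsurj (Sigma.ι (fun _ : Fin r => Coh.structureModule X) j ≫ c ≫ e₃.inv)
  let ψ : FlatMod.freeMod X r ⟶ F := Sigma.desc h ≫ e₂.hom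
  let q : F ⟶ (Coh.push ι).obj (pb ι F) := e₂.inv ≫ T.g ≫ e₃.hom
  have hψ : ψ ≫ q = c := Sigma.hom_ext _ _ fun j => by
    simp only [ψ, q, Category.assoc, Iso.hom_inv_id_assoc, Sigma.ι_desc_assoc]
    rw [← Category.assoc (h j), hh j]
    simp
  let qhat : pb ι F ⟶ pb ι F := ((Scheme.Modules.pullbackPushforwardAdjunction ι).homEquiv _ _).symm q
  have hq : (Scheme.Modules.pullback ι).map ψ ≫ qhat = (KFlatLib.pullFreeIso ι r).hom ≫ t.inv := by
    rw [← Adjunction.homEquiv_naturality_left_symm, hψ]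
    exact Equiv.symm_apply_apply _ _
  have hrk : FlatMod.IsFinLocFreeOfRank r (pb ι F) := fun z =>
    ⟨⊤, trivial, ⟨(Scheme.Modules.restrictFunctor _).mapIso t ≪≫
      (Scheme.Modules.restrictFunctorIsoPullback _).app _ ≪≫ KFlatLib.pullFreeIso _ r⟩⟩
  haveI : IsIso ((Scheme.Modules.pullback ι).map ψ ≫ qhat) := hq ▸ inferInstance
  haveI : Epi qhat := epi_of_epi ((Scheme.Modules.pullback ι).map ψ) qhat
  haveI : IsIso qhat := QuotSchLib.isIso_of_epi_rank hrk hrk qhat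
  haveI : IsIso ((Scheme.Modules.pullback ι).map ψ) := IsIso.of_isIso_comp_right _ qhat
  obtain ⟨U, hU⟩ := Groth.Agent.S10844.result (S := X) (Groth.Agent.PerfLib.isCoh_of_isFinLocFree hF).2 ψ
  have hEU : Set.range ι.base ⊆ (U : Set X) := (hU _ ι).2 inferInstance
  haveI hepi : Epi ((Scheme.Modules.pullback U.ι).map ψ) := (hU _ U.ι).1 (by rw [Scheme.Opens.range_ι])
  let R : X.Opens := sSup {O : X.Opens | Nonempty (F.restrict O.ι ≅ FlatMod.freeMod (O : Scheme.{u}) r)}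
  have hER : ∀ z : (𝓘.comap b).subscheme, ι z ∈ R := fun z => by
    obtain ⟨O, n, hzO, ⟨eO⟩⟩ := hF (ι z)
    have e' : (pb ι F).restrict (ι ⁻¹ᵁ O).ι ≅ FlatMod.freeMod _ n :=
      (Scheme.Modules.restrictFunctorIsoPullback _).app _ ≪≫ (Scheme.Modules.pullbackComp _ ι).app F ≪≫
        (Scheme.Modules.pullbackCongr (morphismRestrict_ι ι O).symm).app F ≪≫
        ((Scheme.Modules.pullbackComp _ _).app F).symm ≪≫
        (Scheme.Modules.pullback (ι ∣_ O)).mapIso (((Scheme.Modules.restrictFunctorIsoPullback O.ι).app F).symm ≪≫ eO) ≪≫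
        KFlatLib.pullFreeIso _ n
    obtain ⟨O', hzO', ⟨e''⟩⟩ := hrk z
    obtain rfl := CohCmpLib.rank_unique (pb ι F) (x := z) hzO hzO' ⟨e'⟩ ⟨e''⟩
    exact Opens.mem_sSup.2 ⟨O, ⟨eO⟩, hzO⟩
  let V : X.Opens := U ⊓ R
  refine ⟨V, fun x hx => ?_, ?_⟩
  · obtain ⟨z, rfl⟩ := (Scheme.IdealSheafData.range_subschemeι (𝓘.comap b)).ge hx
    exact ⟨hEU ⟨z, rfl⟩, hER z⟩
  · haveI : Epi ((Scheme.Modules.pullback V.ι).map ψ) := (hU _ V.ι).1 (by
      rw [Scheme.Opens.range_ι]; exact fun x hx => hx.1)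
    have hrV : FlatMod.IsFinLocFreeOfRank r (pb V.ι F) := fun v => by
      obtain ⟨O, ⟨eO⟩, hvO⟩ : ∃ O : X.Opens, Nonempty (F.restrict O.ι ≅ FlatMod.freeMod (O : Scheme.{u}) r) ∧
          V.ι v ∈ O := Opens.mem_sSup.1 v.2.2
      exact ⟨V.ι ⁻¹ᵁ O, hvO, ⟨(Scheme.Modules.restrictFunctorIsoPullback _).app _ ≪≫
        (Scheme.Modules.pullbackComp _ V.ι).app F ≪≫
        (Scheme.Modules.pullbackCongr (morphismRestrict_ι V.ι O).symm).app F ≪≫
        ((Scheme.Modules.pullbackComp _ _).app F).symm ≪≫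
        (Scheme.Modules.pullback (V.ι ∣_ O)).mapIso (((Scheme.Modules.restrictFunctorIsoPullback O.ι).app F).symm ≪≫ eO) ≪≫
        KFlatLib.pullFreeIso _ r⟩⟩
    have hfree : FlatMod.IsFinLocFreeOfRank r (FlatMod.freeMod (V : Scheme.{u}) r) := fun v =>
      ⟨⊤, trivial, ⟨(Scheme.Modules.restrictFunctorIsoPullback _).app _ ≪≫ KFlatLib.pullFreeIso _ r⟩⟩
    let ψ' : FlatMod.freeMod (V : Scheme.{u}) r ⟶ pb V.ι F :=
      (KFlatLib.pullFreeIso V.ι r).inv ≫ (Scheme.Modules.pullback V.ι).map ψ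
    haveI : IsIso ψ' := QuotSchLib.isIso_of_epi_rank hfree hrV ψ'
    exact ⟨(Scheme.Modules.restrictFunctorIsoPullback V.ι).app F ≪≫ (asIso ψ').symm⟩

end Affine

/-- **Global version at an isolated centre.** -/
theorem exists_trivial_near_point {P X : Scheme.{u}} [IsLocallyNoetherian P] {b : X ⟶ P} {𝓘 𝓙 : P.IdealSheafData}
    (hb : BlowUp.IsBlowUp b 𝓘) {U : P.affineOpens} {m : ℕ} {f : Fin (m + 1) → Γ(P, U.1)} (hf : FVLib.NR f)
    (hI : Ideal.span (Set.range f) = 𝓘.ideal U) (hag : 𝓙.ideal U = 𝓘.ideal U) (hsupp : ∀ x, x ∈ 𝓙.support → x ∈ U.1)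
    {F : X.Modules} (hF : FlatMod.IsFinLocFree F) {r : ℕ}
    (t : pb (𝓙.comap b).subschemeι F ≅ FlatMod.freeMod (𝓙.comap b).subscheme r) :
    ∃ V : X.Opens, ((𝓙.comap b).support : Set X) ⊆ V ∧
      Nonempty (F.restrict V.ι ≅ FlatMod.freeMod (V : Scheme.{u}) r) := by
  haveI : IsAffine (U.1 : Scheme.{u}) := U.2
  haveI := isNoetherian_affine U.1 U.2
  obtain ⟨hb', he, a, hQR, ha⟩ := exists_affine_data hb hf hI U.1 U.2 le_rfl
  have hUeq : 𝓙.comap U.1.ι = 𝓘.comap U.1.ι := Scheme.IdealSheafData.ext_of_isAffine (by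
    rw [Groth.Agent.S4666.ideal_comap_eq 𝓙 U.1.ι U ⟨⊤, isAffineOpen_top _⟩ (fun x _ => x.2),
      Groth.Agent.S4666.ideal_comap_eq 𝓘 U.1.ι U ⟨⊤, isAffineOpen_top _⟩ (fun x _ => x.2), hag])
  let O := b ⁻¹ᵁ U.1
  let K := 𝓙.comap b
  have hK : (𝓘.comap U.1.ι).comap (b ∣_ U.1) = K.comap O.ι := by
    rw [← hUeq, ← Scheme.IdealSheafData.comap_comp, morphismRestrict_ι, Scheme.IdealSheafData.comap_comp]
  let ψ : (K.comap O.ι).subscheme ⟶ K.subscheme := (K.comapIso O.ι).hom ≫ pullback.snd O.ι K.subschemeι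
  have hψ : ψ ≫ K.subschemeι = (K.comap O.ι).subschemeι ≫ O.ι := by
    rw [Category.assoc, ← pullback.condition, ← Category.assoc, Scheme.IdealSheafData.comapIso_hom_fst]
  have tO : Nonempty (pb ((𝓘.comap U.1.ι).comap (b ∣_ U.1)).subschemeι (pb O.ι F) ≅
      FlatMod.freeMod ((𝓘.comap U.1.ι).comap (b ∣_ U.1)).subscheme r) := by
    rw [hK]
    exact ⟨(Scheme.Modules.pullbackComp _ O.ι).app F ≪≫ (Scheme.Modules.pullbackCongr hψ.symm).app F ≪≫
      ((Scheme.Modules.pullbackComp ψ K.subschemeι).app F).symm ≪≫ (Scheme.Modules.pullback ψ).mapIso t ≪≫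
      KFlatLib.pullFreeIso ψ r⟩
  obtain ⟨tO⟩ := tO
  obtain ⟨V₀, hV₀, ⟨s⟩⟩ := exists_trivial_near_divisor hb' a ha hQR (KFlatLib.isFinLocFree_pull O.ι hF) tO
  refine ⟨O.ι ''ᵁ V₀, fun x hx => ?_, ?_⟩
  · have hxO : x ∈ O := hsupp _ ((Scheme.IdealSheafData.support_comap _ b).le hx)
    refine ⟨⟨x, hxO⟩, hV₀ ?_, rfl⟩
    rw [hK, Scheme.IdealSheafData.support_comap]
    exact hx
  · let e := O.ι.isoImage V₀
    refine ⟨(Scheme.Modules.restrictFunctorIsoPullback _).app F ≪≫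
      (Scheme.Modules.pullbackCongr (show (O.ι ''ᵁ V₀).ι = e.inv ≫ V₀.ι ≫ O.ι by
        rw [← Scheme.Hom.isoImage_hom_ι O.ι V₀, Iso.inv_hom_id_assoc])).app F ≪≫
      ((Scheme.Modules.pullbackComp _ _).app F).symm ≪≫
      (Scheme.Modules.pullback e.inv).mapIso (((Scheme.Modules.pullbackComp _ _).app F).symm ≪≫
        ((Scheme.Modules.restrictFunctorIsoPullback V₀.ι).app _).symm ≪≫ s) ≪≫ KFlatLib.pullFreeIso _ r⟩

end BlowRegLib

namespace BlowRegLib

/-- A chart at one of finitely many points avoiding the others. -/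
theorem exists_isolated_chart {X : Scheme.{u}} [IsLocallyNoetherian X] {s : ℕ} (P : Fin s → X)
    (hP : Function.Injective P) (hPc : ∀ i, IsClosed ({P i} : Set X)) (hZ : IsClosed (Set.range P)) (i : Fin s)
    [IsRegularLocalRing (X.presheaf.stalk (P i))] {d : ℕ} (hd : ringKrullDim (X.presheaf.stalk (P i)) = d) :
    ∃ (W : X.affineOpens) (_ : P i ∈ W.1) (f : Fin d → Γ(X, W.1)), FVLib.NR f ∧
      Ideal.span (Set.range f) = (Scheme.IdealSheafData.vanishingIdeal ⟨Set.range P, hZ⟩).ideal W ∧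
      (Scheme.IdealSheafData.vanishingIdeal ⟨{P i}, hPc i⟩).ideal W =
        (Scheme.IdealSheafData.vanishingIdeal ⟨Set.range P, hZ⟩).ideal W := by
  obtain ⟨U, hPU, a, ha, hspan⟩ := exists_point_chart (P i) (hPc i) d hd
  let C : Set X := P '' {j | j ≠ i}
  have hC : IsClosed C := by
    have e : C = ⋃ j ∈ {j : Fin s | j ≠ i}, ({P j} : Set X) := by
      ext x
      simp [C, eq_comm]
    rw [e]
    exact (Set.toFinite _).isClosed_biUnion fun j _ => hPc j
  obtain ⟨W, hW, hiW, hWle⟩ := exists_isAffineOpen_mem_and_subset (x := P i)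
    (U := U.1 ⊓ ⟨Cᶜ, hC.isOpen_compl⟩) ⟨hPU, fun ⟨j, hj, e⟩ => hj (hP e)⟩
  obtain ⟨g, hg, hgI⟩ := exists_local ha hspan (𝟙 X) ⟨W, hW⟩ (fun x hx => (hWle hx).1)
  rw [Scheme.IdealSheafData.comap_id] at hgI
  have e : (Scheme.IdealSheafData.vanishingIdeal ⟨{P i}, hPc i⟩).ideal ⟨W, hW⟩ =
      (Scheme.IdealSheafData.vanishingIdeal ⟨Set.range P, hZ⟩).ideal ⟨W, hW⟩ := by
    rw [BlowPtLib.vanishingIdeal_eq_prime _ ⟨W, hW⟩ (P i) hiW fun x _ => Iff.rfl,
      BlowPtLib.vanishingIdeal_eq_prime (⟨Set.range P, hZ⟩ : Closeds X) ⟨W, hW⟩ (P i) hiW fun x hx => ⟨?_, fun e => ⟨i, e.symm⟩⟩]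
    rintro ⟨j, rfl⟩
    by_contra hne
    exact (hWle hx).2 ⟨j, fun e => hne (by rw [e]), rfl⟩
  exact ⟨⟨W, hW⟩, hiW, g, hg, hgI.trans e, e⟩

end BlowRegLib
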