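import Groth.Agent.BlowRegLib.Surface
import Groth.Agent.BlowRegLib.Trivial
import Groth.Agent.VBP1Lib.Twist
import Groth.Agent.BlowUpLib.Props

/-!
# The exceptional lines over finitely many points of a surface
-/

set_option autoImplicit false
set_option linter.style.haveILetI false
set_option linter.unusedSectionVars false
set_option maxHeartbeats 1000000
set_option backward.isDefEq.respectTransparency false
set_option backward.isDefEq.respectTransparency.types false

universe u

open CategoryTheory CategoryTheory.Limits AlgebraicGeometry TopologicalSpace Opposite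
open HilbPolyLib (congrLeft congrRight assocIso swapIso unitLeft)
open KFlatLib (pb)
open CohB1 (tensorMod)

noncomputable section

namespace BlowRegLib

variable {X : Scheme.{u}} {s : ℕ} (P : Fin s → X) (hP : Function.Injective P)
  (hPc : ∀ i, IsClosed ({P i} : Set X)) (hZ : IsClosed (Set.range P))

include hP hPc in
/-- An affine neighbourhood of one point avoiding the others. -/
theorem exists_affine_avoid (i : Fin s) : ∃ W : X.affineOpens, P i ∈ W.1 ∧ ∀ j, j ≠ i → P j ∉ W.1 := by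
  have hC : IsClosed (P '' {j | j ≠ i}) := by
    have e : P '' {j | j ≠ i} = ⋃ j ∈ {j : Fin s | j ≠ i}, ({P j} : Set X) := by
      ext x
      simp [eq_comm]
    rw [e]
    exact (Set.toFinite _).isClosed_biUnion fun j _ => hPc j
  obtain ⟨W, hW, hiW, hWle⟩ := exists_isAffineOpen_mem_and_subset (x := P i)
    (U := ⟨(P '' {j | j ≠ i})ᶜ, hC.isOpen_compl⟩) (fun ⟨j, hj, e⟩ => hj (hP e))
  exact ⟨⟨W, hW⟩, hiW, fun j hj h => hWle h ⟨j, hj, rfl⟩⟩

include hP in
/-- The ideal of a finite set of closed points is the product of their ideals. -/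
theorem vanishingIdeal_range_eq_prod :
    Scheme.IdealSheafData.vanishingIdeal ⟨Set.range P, hZ⟩ =
      ∏ i, Scheme.IdealSheafData.vanishingIdeal ⟨{P i}, hPc i⟩ := by
  classical
  let A := {W : X.affineOpens // (∀ j, P j ∉ W.1) ∨ ∃ i, P i ∈ W.1 ∧ ∀ j, j ≠ i → P j ∉ W.1}
  refine Scheme.IdealSheafData.ext_of_iSup_eq_top (fun W : A => W.1) ?_ fun W => ?_
  · refine top_le_iff.1 fun x _ => Opens.mem_iSup.2 ?_
    by_cases hx : x ∈ Set.range P
    · obtain ⟨i, rfl⟩ := hx
      obtain ⟨W, h1, h2⟩ := exists_affine_avoid P hP hPc i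
      exact ⟨⟨W, Or.inr ⟨i, h1, h2⟩⟩, h1⟩
    · obtain ⟨W, hW, hxW, hWle⟩ := exists_isAffineOpen_mem_and_subset (x := x)
        (U := ⟨(Set.range P)ᶜ, hZ.isOpen_compl⟩) hx
      exact ⟨⟨⟨W, hW⟩, Or.inl fun j h => hWle h ⟨j, rfl⟩⟩, hxW⟩
  · have hprod : ∀ T : Finset (Fin s), (∏ i ∈ T, Scheme.IdealSheafData.vanishingIdeal ⟨{P i}, hPc i⟩).ideal W.1 =
        ∏ i ∈ T, (Scheme.IdealSheafData.vanishingIdeal ⟨{P i}, hPc i⟩).ideal W.1 := fun T => by
      induction T using Finset.induction_on with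
      | empty =>
        rw [Finset.prod_empty, Finset.prod_empty, Scheme.IdealSheafData.one_eq_top, Scheme.IdealSheafData.ideal_top,
          Pi.top_apply, Ideal.one_eq_top]
      | insert a T ha ih =>
        rw [Finset.prod_insert ha, Finset.prod_insert ha, Scheme.IdealSheafData.ideal_mul, Pi.mul_apply, ih]
    rw [hprod]
    obtain hn | ⟨i, hi, hn⟩ := W.2
    · rw [BlowPtLib.vanishingIdeal_eq_top (⟨Set.range P, hZ⟩ : Closeds X) W.1 (fun x hx ⟨j, hj⟩ => hn j (hj ▸ hx)),
        Finset.prod_eq_one fun j _ => ?_, Ideal.one_eq_top]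
      rw [BlowPtLib.vanishingIdeal_eq_top (⟨{P j}, hPc j⟩ : Closeds X) W.1 (fun x hx h => hn j ((show x = P j from h) ▸ hx)),
        Ideal.one_eq_top]
    · rw [Fintype.prod_eq_single i fun j hj => ?_]
      · rw [BlowPtLib.vanishingIdeal_eq_prime (⟨{P i}, hPc i⟩ : Closeds X) W.1 (P i) hi fun x _ => Iff.rfl,
          BlowPtLib.vanishingIdeal_eq_prime (⟨Set.range P, hZ⟩ : Closeds X) W.1 (P i) hi fun x hx => ⟨?_, fun e => ⟨i, e.symm⟩⟩]
        rintro ⟨j, rfl⟩
        by_contra h
        exact hn j (fun e => h (congrArg P e)) hx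
      · rw [BlowPtLib.vanishingIdeal_eq_top (⟨{P j}, hPc j⟩ : Closeds X) W.1 (fun x hx h => hn j hj ((show x = P j from h) ▸ hx)), Ideal.one_eq_top]

include hP hPc in
/-- The ideal of the exceptional divisor is the product of those of the lines. -/
theorem comap_range_eq_prod {X' : Scheme.{u}} (σ : X' ⟶ X) :
    (Scheme.IdealSheafData.vanishingIdeal ⟨Set.range P, hZ⟩).comap σ =
      ∏ i, (Scheme.IdealSheafData.vanishingIdeal ⟨{P i}, hPc i⟩).comap σ := by
  rw [vanishingIdeal_range_eq_prod P hP hPc hZ]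
  generalize (Finset.univ : Finset (Fin s)) = T
  induction T using Finset.induction_on with
  | empty => rw [Finset.prod_empty, Finset.prod_empty, Scheme.IdealSheafData.one_eq_top,
      Scheme.IdealSheafData.comap_top, Scheme.IdealSheafData.one_eq_top]
  | insert a T ha ih => rw [Finset.prod_insert ha, Finset.prod_insert ha, BlowUpLib.comap_mul, ih]

include hP in
/-- Different exceptional lines are disjoint. -/
theorem comap_disjoint {X' : Scheme.{u}} (σ : X' ⟶ X) (i j : Fin s) (hij : i ≠ j) (x : X')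
    (hi : x ∈ ((Scheme.IdealSheafData.vanishingIdeal ⟨{P i}, hPc i⟩).comap σ).support) :
    x ∉ ((Scheme.IdealSheafData.vanishingIdeal ⟨{P j}, hPc j⟩).comap σ).support := fun hj => by
  have h : ∀ l, x ∈ ((Scheme.IdealSheafData.vanishingIdeal ⟨{P l}, hPc l⟩).comap σ).support → σ x = P l := fun l hl => by
    have h' := (Scheme.IdealSheafData.support_comap _ σ).le hl
    rw [SetLike.mem_coe.symm] at h'
    exact h'
  exact hij (hP ((h i hi).symm.trans (h j hj)))

variable {k : Type u} [Field k] [IsAlgClosed k] [IsLocallyNoetherian X] [X.Over (Spec (CommRingCat.of k))]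
  [LocallyOfFiniteType (X ↘ Spec (CommRingCat.of k))]
  (hreg : ∀ i, IsRegularLocalRing (X.presheaf.stalk (P i)) ∧ ringKrullDim (X.presheaf.stalk (P i)) = (2 : ℕ))
  {X' : Scheme.{u}} {σ : X' ⟶ X}
  (hσ : BlowUp.IsBlowUp σ (Scheme.IdealSheafData.vanishingIdeal ⟨Set.range P, hZ⟩))

/-- The ideal of the `i`-th line. -/
abbrev lineI (σ : X' ⟶ X) (i : Fin s) : X'.IdealSheafData :=
  (Scheme.IdealSheafData.vanishingIdeal ⟨{P i}, hPc i⟩).comap σ

include hP hreg hσ in
/-- **The exceptional lines.** -/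
theorem exists_line (i : Fin s) : BlowUp.IsEffCartierIdeal (lineI P hPc σ i) ∧
    ∃ φ : (lineI P hPc σ i).subscheme ⟶ CohB1.ProjSpace 1 k, IsIso φ ∧
      φ ≫ CohB1.ProjSpace.toSpec 1 k = (lineI P hPc σ i).subschemeι ≫ σ ≫ (X ↘ Spec (CommRingCat.of k)) ∧
      Nonempty (pb φ (Twist.twistProjSpace 1 k 1) ≅
        pb (lineI P hPc σ i).subschemeι (ClSub.idealMod (lineI P hPc σ i))) := by
  constructor
  · have h := hσ.1
    rw [comap_range_eq_prod P hP hPc hZ σ, ← Finset.mul_prod_erase Finset.univ _ (Finset.mem_univ i)] at h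
    exact Groth.Agent.S1683.left_of_mul h
  · haveI := (hreg i).1
    obtain ⟨U, hPU, a, hnr, ha, hag⟩ := exists_isolated_chart P hP hPc hZ i (hreg i).2
    have hsupp : ∀ x, x ∈ (Scheme.IdealSheafData.vanishingIdeal ⟨{P i}, hPc i⟩).support → x ∈ U.1 := fun x hx => by
      rw [← SetLike.mem_coe, Scheme.IdealSheafData.coe_support_vanishingIdeal] at hx
      exact (show x = P i from hx) ▸ hPU
    obtain ⟨hqr, hspan⟩ := qr_rev hnr
    rw [← hag] at ha
    have hne : Ideal.span (Set.range fun l => a (Fin.rev l)) ≠ ⊤ := by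
      rw [hspan, ha, BlowPtLib.vanishingIdeal_eq_prime _ U (P i) hPU fun x _ => Iff.rfl]
      exact (U.2.primeIdealOf ⟨P i, hPU⟩).isPrime.ne_top
    exact BlowPtLib.exists_embedding (m := 1) hσ (X ↘ Spec (CommRingCat.of k)) U hag hsupp
      (fun l => a (Fin.rev l)) (hspan.trans ha) (exists_const_sub_mem _ (P i) (hPc i) U hPU)
      (fun d F hF h => eq_zero_of_eval_mem _ hqr hne d F hF (by rwa [hspan.trans ha]))

omit [IsAlgClosed k] [IsLocallyNoetherian X] [X.Over (Spec (CommRingCat.of k))] in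
/-- A line bundle has a degree on a line. -/
theorem exists_deg {Y : Scheme.{u}} {E : Y.IdealSheafData} (φ : E.subscheme ⟶ CohB1.ProjSpace 1 k) [IsIso φ]
    {L : Y.Modules} (hL : PicF.IsInvertible L) :
    ∃ d : ℤ, Nonempty (pb E.subschemeι L ≅ pb φ (Twist.twistProjSpace 1 k d)) := by
  obtain ⟨e⟩ := VBP1Lib.exists_iso_twist k (AmpleDevLib.isInvertible_pb (inv φ) (AmpleDevLib.isInvertible_pb E.subschemeι hL))
  exact ⟨_, ⟨((Scheme.Modules.pullback φ).mapIso e.symm ≪≫ (Scheme.Modules.pullbackComp φ (inv φ)).app _ ≪≫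
    (Scheme.Modules.pullbackCongr (IsIso.hom_inv_id φ)).app _ ≪≫ (Scheme.Modules.pullbackId _).app _).symm⟩⟩

end BlowRegLib
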