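import Groth.Agent.BlowRegLib.EmbedClosed
import Groth.Agent.BlowRegLib.Trivial
import Groth.Agent.BlowRegLib.Affine
import Groth.Agent.BlowRegLib.ExcData

/-!
# The blow-up of a regular local ring of dimension two
-/

set_option autoImplicit false
set_option linter.style.haveILetI false
set_option maxHeartbeats 1000000
set_option backward.isDefEq.respectTransparency false
set_option backward.isDefEq.respectTransparency.types false

universe u

open CategoryTheory CategoryTheory.Limits AlgebraicGeometry TopologicalSpace Opposite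
open Groth.Agent.QReg16Lib (QR)
open KFlatLib (pb)

noncomputable section

namespace BlowRegLib

/-- The maximal ideal of a regular local ring of dimension two as seen on its spectrum. -/
theorem exists_regTwo_gens (A : Type u) [CommRing A] [IsRegularLocalRing A] (hA : ringKrullDim A = 2) :
    ((Curv2.idealSheaf A (IsLocalRing.maximalIdeal A)).ideal ⟨⊤, isAffineOpen_top _⟩).IsMaximal ∧
    ∃ a : Fin (1 + 1) → Γ(Spec (CommRingCat.of A), ⊤), QR a ∧
      Ideal.span (Set.range a) = (Curv2.idealSheaf A (IsLocalRing.maximalIdeal A)).ideal ⟨⊤, isAffineOpen_top _⟩ := by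
  let e : A ≃+* Γ(Spec (CommRingCat.of A), ⊤) := (Scheme.ΓSpecIso (CommRingCat.of A)).symm.commRingCatIsoToRingEquiv
  have htop : (Curv2.idealSheaf A (IsLocalRing.maximalIdeal A)).ideal ⟨⊤, isAffineOpen_top _⟩ =
      (IsLocalRing.maximalIdeal A).map e.toRingHom := by
    show ((IsLocalRing.maximalIdeal A).map (Scheme.ΓSpecIso (CommRingCat.of A)).inv.hom).map _ = _
    simp only [homOfLE_refl, op_id, CategoryTheory.Functor.map_id, CommRingCat.hom_id, Ideal.map_id]
    rfl
  refine ⟨htop ▸ Ideal.map_isMaximal_of_equiv e, ?_⟩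
  letI := Ideal.Quotient.field (IsLocalRing.maximalIdeal A)
  obtain ⟨ls, hls, hlsm⟩ := CommAlgDim.exists_isRegular_of_regular_quotient (J := IsLocalRing.maximalIdeal A)
  have hlen : ls.length = 2 := by
    have h := ringKrullDim_add_length_eq_ringKrullDim_of_isRegular _ hls
    rw [ringKrullDim_eq_of_ringEquiv (Ideal.quotEquivOfEq hlsm), ringKrullDim_eq_zero_of_field, zero_add, hA] at h
    exact_mod_cast h
  let f : Fin (1 + 1) → A := fun i => ls.get (i.cast hlen.symm)
  have hf : List.ofFn f = ls := by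
    refine List.ext_get (by simp [hlen]) fun i h1 h2 => ?_
    rw [List.get_ofFn]
    rfl
  have hnr : FVLib.NR f := (FVLib.nr_iff _).2 (by rw [hf]; exact hls.toIsWeaklyRegular)
  have hspan : Ideal.span (Set.range f) = IsLocalRing.maximalIdeal A := by
    rw [← hlsm, Ideal.ofList, ← hf]
    exact congrArg Ideal.span (Set.ext fun x => by simp only [List.mem_ofFn, Set.mem_range, Set.mem_ofPred_eq, eq_comm])
  obtain ⟨h1, h2⟩ := qr_rev (nr_map e.toRingHom (RingHom.Flat.of_bijective e.bijective) hnr)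
  refine ⟨_, h1, h2.trans ?_⟩
  rw [htop, ← hspan, Ideal.map_span, ← Set.range_comp]
  rfl

/-- **The blow-up of a regular local ring of dimension two in its closed point.** -/
theorem blowup_regTwo (A : Type u) [CommRing A] [IsRegularLocalRing A] (hA : ringKrullDim A = 2)
    (X : Scheme.{u}) (b : X ⟶ Spec (CommRingCat.of A))
    (hb : BlowUp.IsBlowUp b (Curv2.idealSheaf A (IsLocalRing.maximalIdeal A))) :
    (∃ r : X ⟶ CohB1.ProjSpace 1 A, IsClosedImmersion r ∧ r ≫ CohB1.ProjSpace.toSpec 1 A = b ∧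
      Nonempty ((Scheme.Modules.pullback r).obj (Twist.twistProjSpace 1 A 1) ≅
        ClSub.idealMod (BlowUp.exceptional b (Curv2.idealSheaf A (IsLocalRing.maximalIdeal A))))) ∧
    Models.IsExcCurve (BlowUp.exceptional b (Curv2.idealSheaf A (IsLocalRing.maximalIdeal A))).subschemeι := by
  let 𝓘 := Curv2.idealSheaf A (IsLocalRing.maximalIdeal A)
  obtain ⟨hmax, a, hQR, ha⟩ := exists_regTwo_gens A hA
  obtain ⟨r, hr, hrb, hrt⟩ := exists_closed_embedding (k := A) hb (𝟙 _) (fun x => by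
    refine ⟨(Scheme.ΓSpecIso (CommRingCat.of A)).hom x, ?_⟩
    simp [cstP, ProjUP.toGlobal]) a ha
  refine ⟨⟨r, hr, hrb.trans (Category.comp_id b), hrt⟩, ?_⟩
  obtain ⟨K, hK, φ, hφ, -, ⟨eφ⟩⟩ := exists_exceptional_str hb a ha hQR
  haveI := hφ
  subst hK
  let J := 𝓘.comap b
  refine ⟨by rw [Scheme.IdealSheafData.ker_subschemeι]; exact hb.1,
    Γ(Spec (CommRingCat.of A), ⊤) ⧸ 𝓘.ideal ⟨⊤, isAffineOpen_top _⟩,
    (Ideal.Quotient.maximal_ideal_iff_isField_quotient _).1 hmax |>.toField, (asIso φ).symm, ?_⟩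
  show Nonempty (pb (inv φ ≫ J.subschemeι) (ClSub.idealMod J.subschemeι.ker) ≅ _)
  rw [Scheme.IdealSheafData.ker_subschemeι]
  exact ⟨((Scheme.Modules.pullbackComp (inv φ) J.subschemeι).app _).symm ≪≫
    (Scheme.Modules.pullback (inv φ)).mapIso eφ.symm ≪≫ (Scheme.Modules.pullbackComp _ _).app _ ≪≫
    (Scheme.Modules.pullbackCongr (IsIso.inv_hom_id φ)).app _ ≪≫ (Scheme.Modules.pullbackId _).app _⟩

end BlowRegLib

namespace BlowRegLib

open HilbPolyLib (congrLeft congrRight assocIso swapIso unitLeft)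
open CohB1 (tensorMod tensorPow)

/-- The free module on one generator. -/
def freeOne (Z : Scheme.{u}) : FlatMod.freeMod Z 1 ≅ Coh.structureModule Z :=
  coproductUniqueIso (fun _ : Fin 1 => Coh.structureModule Z)

/-- Inverses are unique. -/
theorem nonempty_inverse_unique {Z : Scheme.{u}} {L A B : Z.Modules} (hA : tensorMod A L ≅ Coh.structureModule Z)
    (hB : tensorMod L B ≅ Coh.structureModule Z) : Nonempty (A ≅ B) :=
  ⟨(PicPnLib.unitRight A).symm ≪≫ congrRight A hB.symm ≪≫ (assocIso A L B).symm ≪≫ congrLeft hA B ≪≫ unitLeft B⟩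

/-- Negative powers of a pulled back twist. -/
theorem nonempty_pb_twist_negPow {Z : Scheme.{u}} {R : Type u} [CommRing R] {m : ℕ} (φ : Z ⟶ CohB1.ProjSpace m R) :
    ∀ n : ℕ, Nonempty (tensorPow (pb φ (Twist.twistProjSpace m R (-1))) n ≅ pb φ (Twist.twistProjSpace m R (-(n : ℤ))))
  | 0 => by
    obtain ⟨z⟩ := PicPnLib.twist_zero m R
    exact ⟨(KFlatLib.pullUnitIso φ).symm ≪≫ (Scheme.Modules.pullback φ).mapIso (z.symm ≪≫ eqToIso (by simp))⟩
  | n + 1 => by
    obtain ⟨e⟩ := nonempty_pb_twist_negPow φ n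
    obtain ⟨p⟩ := BlowPtLib.nonempty_pb_tensor φ (Twist.twistProjSpace m R (-(n : ℤ))) (Twist.twistProjSpace m R (-1))
    obtain ⟨a⟩ := PicPnLib.twist_add m R (-(n : ℤ)) (-1)
    exact ⟨congrLeft e _ ≪≫ p.symm ≪≫ (Scheme.Modules.pullback φ).mapIso
      (a ≪≫ eqToIso (congrArg (Twist.twistProjSpace m R) (by push_cast; ring)))⟩

/-- **The Picard group of the blow-up of a regular local ring of dimension two.** -/
theorem pic_regTwo (A : Type u) [CommRing A] [IsRegularLocalRing A] (hA : ringKrullDim A = 2)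
    (X : Scheme.{u}) (b : X ⟶ Spec (CommRingCat.of A))
    (hb : BlowUp.IsBlowUp b (Curv2.idealSheaf A (IsLocalRing.maximalIdeal A)))
    (M : X.Modules) (hM : ClSub.IsInverseOf M (ClSub.idealMod (BlowUp.exceptional b (Curv2.idealSheaf A (IsLocalRing.maximalIdeal A))))) :
    (∀ L : X.Modules, PicF.IsInvertible L → ∃ n : ℕ,
      Nonempty (L ≅ CohB1.tensorPow (ClSub.idealMod (BlowUp.exceptional b (Curv2.idealSheaf A (IsLocalRing.maximalIdeal A)))) n) ∨
        Nonempty (L ≅ CohB1.tensorPow M n)) ∧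
    ∀ n : ℕ, 1 ≤ n →
      IsEmpty (CohB1.tensorPow (ClSub.idealMod (BlowUp.exceptional b (Curv2.idealSheaf A (IsLocalRing.maximalIdeal A)))) n ≅
        Coh.structureModule X) := by
  let P := Spec (CommRingCat.of A)
  let 𝓘 := Curv2.idealSheaf A (IsLocalRing.maximalIdeal A)
  let J := 𝓘.comap b
  let I := ClSub.idealMod J
  haveI : IsNoetherian P := by
    haveI : IsNoetherianRing (CommRingCat.of A) := inferInstanceAs (IsNoetherianRing A)
    infer_instance
  obtain ⟨hmax, a, hQR, ha⟩ := exists_regTwo_gens A hA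
  obtain ⟨K, hK, φ, hφ, -, ⟨eφ⟩⟩ := exists_exceptional_str hb a ha hQR
  haveI := hφ
  letI : Field (Γ(P, ⊤) ⧸ K) := ((Ideal.Quotient.maximal_ideal_iff_isField_quotient _).1 (hK ▸ hmax)).toField
  let κ := Γ(P, ⊤) ⧸ K
  let T := fun d : ℤ => pb φ (Twist.twistProjSpace 1 κ d)
  have hI : PicF.IsInvertible I := IntMultLib.isInvertible_idealMod _ hb.1
  obtain ⟨eM⟩ := hM
  have hMi : PicF.IsInvertible M := IntMultLib.isInvertible_of_inverse hI (swapIso I M ≪≫ eM)
  -- restrictions to the divisor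
  have rI : ∀ n : ℕ, Nonempty (pb J.subschemeι (tensorPow I n) ≅ T n) := fun n => by
    obtain ⟨p⟩ := CurveDualLib.nonempty_pb_tensorPow J.subschemeι I n
    obtain ⟨c⟩ := CurveDualLib.nonempty_tensorPow_congr eφ.symm n
    obtain ⟨q⟩ := nonempty_pb_twist_pow φ n
    exact ⟨p ≪≫ c ≪≫ q⟩
  have rM : ∀ n : ℕ, Nonempty (pb J.subschemeι (tensorPow M n) ≅ T (-(n : ℤ))) := fun n => by
    obtain ⟨p⟩ := CurveDualLib.nonempty_pb_tensorPow J.subschemeι M n
    obtain ⟨pt⟩ := BlowPtLib.nonempty_pb_tensor J.subschemeι M I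
    obtain ⟨i⟩ := nonempty_pb_twist_inverse φ
    obtain ⟨e1⟩ := nonempty_inverse_unique (L := pb J.subschemeι I) (A := pb J.subschemeι M) (B := T (-1))
      (pt.symm ≪≫ (Scheme.Modules.pullback J.subschemeι).mapIso eM ≪≫ KFlatLib.pullUnitIso J.subschemeι)
      (congrLeft eφ.symm _ ≪≫ i)
    obtain ⟨c⟩ := CurveDualLib.nonempty_tensorPow_congr e1 n
    obtain ⟨q⟩ := nonempty_pb_twist_negPow φ n
    exact ⟨p ≪≫ c ≪≫ q⟩
  have hcancel : ∀ n : ℕ, Nonempty (tensorMod (tensorPow I n) (tensorPow M n) ≅ Coh.structureModule X) := fun n => by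
    induction n with
    | zero => exact ⟨unitLeft _⟩
    | succ m ih =>
      obtain ⟨u⟩ := ih
      exact ⟨assocIso (tensorPow I m) I _ ≪≫ congrRight _ (swapIso I _ ≪≫ assocIso (tensorPow M m) M I ≪≫
        congrRight _ eM ≪≫ PicPnLib.unitRight _) ≪≫ u⟩
  have key : ∀ (L G G' : X.Modules) (d : ℤ), PicF.IsInvertible L → PicF.IsInvertible G' →
      (pb J.subschemeι L ≅ T d) → (pb J.subschemeι G' ≅ T (-d)) → (tensorMod G' G ≅ Coh.structureModule X) →
      Nonempty (L ≅ G) := fun L G G' d hL hG' eL eG eGG => by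
    let F := tensorMod L G'
    have hF : PicF.IsInvertible F := HilbPolyLib.isInvertible_tensor hL hG'
    obtain ⟨q⟩ := BlowPtLib.nonempty_pb_tensor J.subschemeι L G'
    obtain ⟨q'⟩ := BlowPtLib.nonempty_pb_tensor φ (Twist.twistProjSpace 1 κ d) (Twist.twistProjSpace 1 κ (-d))
    obtain ⟨a'⟩ := PicPnLib.twist_add 1 κ d (-d)
    obtain ⟨z⟩ := PicPnLib.twist_zero 1 κ
    let t0 : pb J.subschemeι F ≅ Coh.structureModule J.subscheme :=
      q ≪≫ congrLeft eL _ ≪≫ congrRight _ eG ≪≫ q'.symm ≪≫ (Scheme.Modules.pullback φ).mapIso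
        (a' ≪≫ eqToIso (congrArg (Twist.twistProjSpace 1 κ) (add_neg_cancel d)) ≪≫ z) ≪≫ KFlatLib.pullUnitIso φ
    obtain ⟨V, hV, ⟨s⟩⟩ := exists_trivial_near_divisor hb a ha hQR (AmpleDevLib.isFinLocFree_of_isInvertible hF) (r := 1)
      (t0 ≪≫ (freeOne _).symm)
    haveI := isProper_b hb
    have hVtop : V = ⊤ := by
      refine top_unique fun x _ => by_contra fun hx => ?_
      have hC : IsClosed (b '' ((V : Set X)ᶜ)) := b.isClosedMap _ V.isOpen.isClosed_compl
      obtain ⟨x', hx', hbx'⟩ := (IsLocalRing.specializes_closedPoint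
        (R := A) (b x)).mem_closed hC ⟨x, hx, rfl⟩
      refine hx' (hV ?_)
      show x' ∈ (𝓘.comap b).support
      rw [Scheme.IdealSheafData.support_comap]
      show b x' ∈ 𝓘.support
      rw [hbx']
      show IsLocalRing.closedPoint A ∈ (𝓘.support : Set P)
      rw [show 𝓘 = Scheme.IdealSheafData.ofIdealTop ((IsLocalRing.maximalIdeal A).map
        (Scheme.ΓSpecIso (CommRingCat.of A)).inv.hom) from rfl, Scheme.IdealSheafData.coe_support_ofIdealTop,
        Spec_zeroLocus, ← Ideal.coe_comap,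
        Ideal.comap_map_of_bijective _ (ConcreteCategory.bijective_of_isIso (Scheme.ΓSpecIso (CommRingCat.of A)).inv)]
      exact le_refl (IsLocalRing.maximalIdeal A)
    subst hVtop
    let tF : F ≅ Coh.structureModule X :=
      ((Scheme.Modules.pullbackId X).app F).symm ≪≫
        (Scheme.Modules.pullbackCongr (X.topIso.inv_hom_id.symm.trans (congrArg (X.topIso.inv ≫ ·) X.topIso_hom))).app F ≪≫
        ((Scheme.Modules.pullbackComp X.topIso.inv (⊤ : X.Opens).ι).app F).symm ≪≫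
        (Scheme.Modules.pullback X.topIso.inv).mapIso (((Scheme.Modules.restrictFunctorIsoPullback _).app F).symm ≪≫ s ≪≫
          freeOne _) ≪≫ KFlatLib.pullUnitIso _
    exact ⟨(PicPnLib.unitRight L).symm ≪≫ congrRight L eGG.symm ≪≫ (assocIso L G' G).symm ≪≫ congrLeft tF G ≪≫ unitLeft G⟩
  refine ⟨fun L hL => ?_, fun n hn => ⟨fun e => ?_⟩⟩
  · obtain ⟨eL⟩ := VBP1Lib.exists_iso_twist κ (AmpleDevLib.isInvertible_pb (inv φ) (AmpleDevLib.isInvertible_pb J.subschemeι hL))
    let eL' : pb J.subschemeι L ≅ T (Curv2.deg κ (CohB1.ProjSpace 1 κ) (pb (inv φ) (pb J.subschemeι L)) 1) :=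
      ((Scheme.Modules.pullbackId _).app _).symm ≪≫ (Scheme.Modules.pullbackCongr (IsIso.hom_inv_id φ).symm).app _ ≪≫
        ((Scheme.Modules.pullbackComp φ (inv φ)).app _).symm ≪≫ (Scheme.Modules.pullback φ).mapIso eL
    obtain ⟨n, hn | hn⟩ := Int.eq_nat_or_neg (Curv2.deg κ (CohB1.ProjSpace 1 κ) (pb (inv φ) (pb J.subschemeι L)) 1)
    · obtain ⟨r⟩ := rM n
      obtain ⟨c⟩ := hcancel n
      exact ⟨n, Or.inl (key L _ _ n hL (AmpleThLib.tensorPow_isInvertible hMi n) (eL' ≪≫ eqToIso (congrArg T hn)) r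
        (swapIso _ _ ≪≫ c))⟩
    · obtain ⟨r⟩ := rI n
      obtain ⟨c⟩ := hcancel n
      exact ⟨n, Or.inr (key L _ _ (-(n : ℤ)) hL (AmpleThLib.tensorPow_isInvertible hI n) (eL' ≪≫ eqToIso (congrArg T hn))
        (r ≪≫ eqToIso (congrArg T (neg_neg (n : ℤ)).symm)) c)⟩
  · obtain ⟨r⟩ := rI n
    obtain ⟨z⟩ := PicPnLib.twist_zero 1 κ
    let u : pb φ (Twist.twistProjSpace 1 κ (n : ℤ)) ≅ pb φ (Twist.twistProjSpace 1 κ 0) :=
      r.symm ≪≫ (Scheme.Modules.pullback J.subschemeι).mapIso e ≪≫ KFlatLib.pullUnitIso _ ≪≫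
        ((Scheme.Modules.pullback φ).mapIso z ≪≫ KFlatLib.pullUnitIso φ).symm
    let back : ∀ F : (CohB1.ProjSpace 1 κ).Modules, pb (inv φ) (pb φ F) ≅ F := fun F =>
      (Scheme.Modules.pullbackComp (inv φ) φ).app F ≪≫ (Scheme.Modules.pullbackCongr (IsIso.inv_hom_id φ)).app F ≪≫
        (Scheme.Modules.pullbackId _).app F
    letI : (CohB1.ProjSpace 1 κ).Over (Spec (CommRingCat.of κ)) := ⟨CohB1.ProjSpace.toSpec 1 κ⟩
    have h := CurvLib.euler_congr (k := κ) ((back _).symm ≪≫ (Scheme.Modules.pullback (inv φ)).mapIso u ≪≫ back _)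
    rw [euler_line_field, euler_line_field] at h
    omega

end BlowRegLib
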