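import Groth.Agent.BlowRegLib.ExcPoint
import Groth.Agent.BlowRegLib.RegTwo
import Groth.Agent.BlowRegLib.Counit
import Groth.Agent.AlgSpRegLib.ImageReduced
import Groth.Agent.H0Lib.Rigidity
import Groth.Agent.PicPnLib.Twist

/-!
# Exceptional curves of the first kind and their contractions
-/

set_option autoImplicit false
set_option linter.style.haveILetI false
set_option linter.unusedSectionVars false
set_option maxHeartbeats 1000000
set_option backward.isDefEq.respectTransparency false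
set_option backward.isDefEq.respectTransparency.types false

universe u

open CategoryTheory CategoryTheory.Limits AlgebraicGeometry TopologicalSpace Opposite
open HilbPolyLib (congrLeft congrRight assocIso swapIso unitLeft)
open CohB1 (tensorMod tensorPow)
open KFlatLib (pb)

noncomputable section

namespace BlowRegLib

local notation "O'" => Twist.twistProjSpace 1

/-- Pulling back along inverse morphisms. -/
theorem nonempty_pb_back {A B : Scheme.{u}} (f : A ⟶ B) (g : B ⟶ A) (h : f ≫ g = 𝟙 A) (F : A.Modules) :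
    Nonempty (pb f (pb g F) ≅ F) :=
  ⟨(Scheme.Modules.pullbackComp f g).app F ≪≫ (Scheme.Modules.pullbackCongr h).app F ≪≫
    (Scheme.Modules.pullbackId A).app F⟩

/-- Isomorphisms of projective lines preserve `O(1)`. -/
theorem twist_one_pb_iso {k k' : Type u} [Field k] [Field k'] (θ : CohB1.ProjSpace 1 k ⟶ CohB1.ProjSpace 1 k')
    [IsIso θ] : Nonempty (pb θ (O' k' 1) ≅ O' k 1) := by
  -- `O(1)` has sections and negative twists have none
  have hz : ∀ (K : Type u) [Field K] (d : ℤ), Subsingleton (Coh.HH (CohB1.ProjSpace 1 K) (O' K d) 0) ↔ d < 0 := fun K _ d => by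
    refine ⟨fun h => ?_, fun hd => PnCohLib.subsingleton_HH_twist (n := 1) (R := K) d 0 (by omega) (by omega)⟩
    by_contra hd
    letI : (CohB1.ProjSpace 1 K).Over (Spec (CommRingCat.of K)) := ⟨CohB1.ProjSpace.toSpec 1 K⟩
    have h0 := VBP1Lib.finrank_h0_twist K d
    haveI := h
    rw [Module.finrank_zero_of_subsingleton] at h0
    omega
  obtain ⟨e⟩ := VBP1Lib.exists_iso_twist k (AmpleDevLib.isInvertible_pb θ (PicPnLib.twist_inv 1 k' 1))
  obtain ⟨e'⟩ := VBP1Lib.exists_iso_twist k' (AmpleDevLib.isInvertible_pb (inv θ) (PicPnLib.twist_inv 1 k 1))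
  generalize Curv2.deg k (CohB1.ProjSpace 1 k) (pb θ (O' k' 1)) 1 = c at e
  generalize Curv2.deg k' (CohB1.ProjSpace 1 k') (pb (inv θ) (O' k 1)) 1 = c' at e'
  haveI : ∀ (K : Type u) [Field K] (d : ℤ), Coh.IsQCoh (O' K d) := fun K _ d =>
    FinLFAnn.isQCoh_of_isFinLocFree (AmpleDevLib.isFinLocFree_of_isInvertible (PicPnLib.twist_inv 1 K d))
  have hc : 0 ≤ c := not_lt.1 fun h => by
    have h1 : Subsingleton (Coh.HH _ (pb θ (O' k' 1)) 0) := HdgLefLib.sub_iso e.symm 0 ((hz k c).2 h)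
    have h2 := (hz k' 1).1 ((QuotSchLib.subsingleton_HH_pullback_iso (asIso θ) (O' k' 1) 0).1 h1)
    omega
  obtain ⟨m, rfl⟩ : ∃ m : ℕ, c = (m : ℤ) := ⟨c.toNat, (Int.toNat_of_nonneg hc).symm⟩
  -- compare with the inverse
  obtain ⟨b⟩ := nonempty_pb_back (inv θ) θ (IsIso.inv_hom_id θ) (O' k' 1)
  obtain ⟨q⟩ := nonempty_pb_twist_pow (𝟙 (CohB1.ProjSpace 1 k)) m
  obtain ⟨c1⟩ := CurveDualLib.nonempty_tensorPow_congr
    ((Scheme.Modules.pullbackId (CohB1.ProjSpace 1 k)).app (O' k 1)).symm m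
  obtain ⟨p⟩ := CurveDualLib.nonempty_pb_tensorPow (inv θ) (O' k 1) m
  obtain ⟨c2⟩ := CurveDualLib.nonempty_tensorPow_congr e' m
  let base : O' k' 1 ≅ tensorPow (O' k' c') m :=
    b.symm ≪≫ (Scheme.Modules.pullback (inv θ)).mapIso (e ≪≫
      ((Scheme.Modules.pullbackId _).app _).symm ≪≫ q.symm ≪≫ c1.symm) ≪≫ p ≪≫ c2
  have hpow : ∀ j : ℕ, Nonempty (tensorPow (O' k' c') j ≅ O' k' (c' * j)) := fun j => by
    induction j with
    | zero =>
      obtain ⟨z⟩ := PicPnLib.twist_zero 1 k'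
      exact ⟨(eqToIso (by simp) ≪≫ z).symm⟩
    | succ j ih =>
      obtain ⟨u⟩ := ih
      obtain ⟨a⟩ := PicPnLib.twist_add 1 k' (c' * j) c'
      exact ⟨congrLeft u _ ≪≫ a ≪≫ eqToIso (congrArg (O' k') (by push_cast; ring))⟩
  obtain ⟨u⟩ := hpow m
  have hmul := PicPnLib.twist_injective 1 k' le_rfl (base ≪≫ u)
  have hc' : 0 ≤ c' := not_lt.1 fun h => by
    have h1 : Subsingleton (Coh.HH _ (pb (inv θ) (O' k 1)) 0) := HdgLefLib.sub_iso e'.symm 0 ((hz k' c').2 h)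
    have h2 := (hz k 1).1 ((QuotSchLib.subsingleton_HH_pullback_iso (asIso (inv θ)) (O' k 1) 0).1 h1)
    omega
  have hm : (m : ℤ) = 1 := Int.eq_one_of_mul_eq_one_left (Int.natCast_nonneg m) hmul.symm
  exact ⟨e ≪≫ eqToIso (congrArg (O' k) hm)⟩

/-- The conormal bundle of an exceptional curve in any coordinates. -/
theorem conormal_excCurve {E X : Scheme.{u}} {ι : E ⟶ X} (hE : Models.IsExcCurve ι) {k : Type u} [Field k]
    (e : CohB1.ProjSpace 1 k ≅ E) : Nonempty (pb (e.hom ≫ ι) (ClSub.idealMod ι.ker) ≅ O' k 1) := by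
  obtain ⟨-, k', _, e', ⟨c⟩⟩ := hE
  obtain ⟨t⟩ := twist_one_pb_iso (e.hom ≫ e'.inv)
  exact ⟨(Scheme.Modules.pullbackCongr (show e.hom ≫ ι = (e.hom ≫ e'.inv) ≫ e'.hom ≫ ι by simp)).app _ ≪≫
    ((Scheme.Modules.pullbackComp _ _).app _).symm ≪≫ (Scheme.Modules.pullback _).mapIso c ≪≫ t⟩

/-- **Twisting by an exceptional curve keeps the vanishing of `H¹`.** -/
theorem h1_twist_excCurve {E X : Scheme.{u}} [IsNoetherian X] (ι : E ⟶ X) [IsClosedImmersion ι]
    (hE : Models.IsExcCurve ι) (M : X.Modules) (hM : ClSub.IsInverseOf M (ClSub.idealMod ι.ker))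
    (L : X.Modules) (hL : PicF.IsInvertible L)
    (k : Type u) [Field k] (e : CohB1.ProjSpace 1 k ≅ E) (n : ℕ)
    (hn : Nonempty ((Scheme.Modules.pullback (e.hom ≫ ι)).obj L ≅ O' k (n : ℤ)))
    (h1 : Subsingleton (Coh.HH X L 1)) (i : ℕ) (hi : i ≤ n + 1) :
    Subsingleton (Coh.HH X (CohB1.tensorMod L (CohB1.tensorPow M i)) 1) := by
  obtain ⟨eM⟩ := hM
  obtain ⟨eL⟩ := hn
  obtain ⟨eI⟩ := conormal_excCurve hE e
  let g := e.hom ≫ ι
  let I := ClSub.idealMod ι.ker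
  have hI : PicF.IsInvertible I := IntMultLib.isInvertible_idealMod _ hE.1
  have hMi : PicF.IsInvertible M := IntMultLib.isInvertible_of_inverse hI (swapIso I M ≪≫ eM)
  obtain ⟨pt⟩ := BlowPtLib.nonempty_pb_tensor g M I
  obtain ⟨inv1⟩ := nonempty_pb_twist_inverse (𝟙 (CohB1.ProjSpace 1 k))
  obtain ⟨eM'⟩ := nonempty_inverse_unique (L := pb g I) (A := pb g M) (B := pb (𝟙 _) (O' k (-1)))
    (pt.symm ≪≫ (Scheme.Modules.pullback g).mapIso eM ≪≫ KFlatLib.pullUnitIso g)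
    (congrLeft (eI ≪≫ ((Scheme.Modules.pullbackId _).app (O' k 1)).symm) _ ≪≫ inv1)
  have hdeg : ∀ j : ℕ, Nonempty (pb g (tensorMod L (tensorPow M j)) ≅ O' k ((n : ℤ) - j)) := fun j => by
    obtain ⟨p1⟩ := BlowPtLib.nonempty_pb_tensor g L (tensorPow M j)
    obtain ⟨p2⟩ := CurveDualLib.nonempty_pb_tensorPow g M j
    obtain ⟨c⟩ := CurveDualLib.nonempty_tensorPow_congr eM' j
    obtain ⟨q⟩ := nonempty_pb_twist_negPow (𝟙 (CohB1.ProjSpace 1 k)) j
    obtain ⟨a⟩ := PicPnLib.twist_add 1 k (n : ℤ) (-(j : ℤ))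
    exact ⟨p1 ≪≫ congrLeft eL _ ≪≫ congrRight _ (p2 ≪≫ c ≪≫ q ≪≫ (Scheme.Modules.pullbackId _).app _) ≪≫ a ≪≫
      eqToIso (congrArg (O' k) (sub_eq_add_neg (n : ℤ) j).symm)⟩
  let ψ : ι.ker.subscheme ⟶ E := IsClosedImmersion.lift ι ι.ker.subschemeι (by rw [Scheme.IdealSheafData.ker_subschemeι])
  have hψ : ψ ≫ ι = ι.ker.subschemeι := IsClosedImmersion.lift_fac _ _ _
  let ψ' : E ⟶ ι.ker.subscheme := IsClosedImmersion.lift ι.ker.subschemeι ι (by rw [Scheme.IdealSheafData.ker_subschemeι])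
  have hψ' : ψ' ≫ ι.ker.subschemeι = ι := IsClosedImmersion.lift_fac _ _ _
  haveI : IsIso ψ := ⟨ψ', by rw [← cancel_mono ι.ker.subschemeι, Category.assoc, hψ', hψ, Category.id_comp],
    by rw [← cancel_mono ι, Category.assoc, hψ, hψ', Category.id_comp]⟩
  haveI : ∀ d : ℤ, Coh.IsQCoh (O' k d) := fun d =>
    FinLFAnn.isQCoh_of_isFinLocFree (AmpleDevLib.isFinLocFree_of_isInvertible (PicPnLib.twist_inv 1 k d))
  induction i with
  | zero => exact HdgLefLib.sub_iso (PicPnLib.unitRight L).symm 1 h1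
  | succ j ih =>
    let N := tensorMod L (tensorPow M (j + 1))
    have hN : PicF.IsInvertible N := HilbPolyLib.isInvertible_tensor hL (AmpleThLib.tensorPow_isInvertible hMi _)
    obtain ⟨T, hT, ⟨e₁⟩, ⟨e₂⟩, ⟨e₃⟩⟩ := HdgLefLib.exists_restrict_seq ι.ker (AmpleDevLib.isFinLocFree_of_isInvertible hN)
    haveI : Coh.IsQCoh (pb ι.ker.subschemeι N) := FinLFAnn.isQCoh_of_isFinLocFree
      (AmpleDevLib.isFinLocFree_of_isInvertible (AmpleDevLib.isInvertible_pb _ hN))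
    obtain ⟨d⟩ := hdeg (j + 1)
    let θ : ι.ker.subscheme ≅ CohB1.ProjSpace 1 k := asIso ψ ≪≫ e.symm
    have hθ : θ.hom ≫ g = ι.ker.subschemeι := by simp [θ, g, hψ]
    have h0 : Subsingleton (Coh.HH (CohB1.ProjSpace 1 k) (O' k ((n : ℤ) - ((j + 1 : ℕ) : ℤ))) 1) :=
      PnCohLib.subsingleton_HH_twist (n := 1) (R := k) ((n : ℤ) - ((j + 1 : ℕ) : ℤ)) 1 (by omega) (by omega)
    have hp : Subsingleton (Coh.HH ι.ker.subscheme (pb θ.hom (O' k ((n : ℤ) - ((j + 1 : ℕ) : ℤ)))) 1) :=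
      (QuotSchLib.subsingleton_HH_pullback_iso θ (O' k ((n : ℤ) - ((j + 1 : ℕ) : ℤ))) 1).2 h0
    let u : pb ι.ker.subschemeι N ≅ pb θ.hom (O' k ((n : ℤ) - ((j + 1 : ℕ) : ℤ))) :=
      ((Scheme.Modules.pullbackCongr hθ).app N).symm ≪≫
        ((Scheme.Modules.pullbackComp θ.hom g).app N).symm ≪≫ (Scheme.Modules.pullback θ.hom).mapIso d
    have hsub : Subsingleton (Coh.HH ι.ker.subscheme (pb ι.ker.subschemeι N) 1) := HdgLefLib.sub_iso u.symm 1 hp
    obtain ⟨E'⟩ := QCohLib.nonempty_HH_push ι.ker.subschemeι (pb ι.ker.subschemeι N) 1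
    haveI := hsub
    refine HdgLefLib.sub_iso e₂ 1 (HdgLefLib.sub₂ hT (HdgLefLib.sub_iso (Iso.symm ?_) 1 (ih (by omega)))
      (HdgLefLib.sub_iso e₃.symm 1 E'.symm.toEquiv.subsingleton))
    exact e₁ ≪≫ assocIso L _ I ≪≫ congrRight L (assocIso (tensorPow M j) M I ≪≫ congrRight _ eM ≪≫ PicPnLib.unitRight _)

section Contraction

variable {E X X' : Scheme.{u}} [IsNoetherian X] (ι : E ⟶ X) [IsClosedImmersion ι]
  (hE : Models.IsExcCurve ι) (b : X ⟶ X') (hb : Models.IsContractionOf ι b)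

include hE hb in
/-- The data of a contraction. -/
theorem contraction_data : IsLocallyNoetherian X' ∧ IsProper b ∧ Surjective b ∧
    ∃ (y : X') (hy : IsClosed ({y} : Set X')), IsRegularLocalRing (X'.presheaf.stalk y) ∧
      ringKrullDim (X'.presheaf.stalk y) = (2 : ℕ) ∧
      BlowUp.IsBlowUp b (Scheme.IdealSheafData.vanishingIdeal ⟨{y}, hy⟩) ∧
      LocReg (Scheme.IdealSheafData.vanishingIdeal ⟨{y}, hy⟩) 1 ∧
      IsIso (b ∣_ (⟨({y} : Set X')ᶜ, hy.isOpen_compl⟩ : X'.Opens)) ∧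
      Set.range ι = b ⁻¹' {y} ∧
      ι.ker = (Scheme.IdealSheafData.vanishingIdeal ⟨{y}, hy⟩).comap b := by
  obtain ⟨hN, hP, y, hy, hrange, hreg, hdim, hbl⟩ := hb
  haveI := hN; haveI := hP; haveI := hreg
  let 𝓙 := Scheme.IdealSheafData.vanishingIdeal (⟨{y}, hy⟩ : Closeds X')
  let J := 𝓙.comap b
  obtain ⟨φ, hφ, -, -⟩ := exc_point y hy 1 (by rw [hdim]; norm_num) hbl
  haveI := hφ
  obtain ⟨-, k, _, e, -⟩ := hE
  haveI : IsIntegral (CohB1.ProjSpace 1 k) := GenusZeroLib.isIntegral_projSpace _ _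
  haveI : IsIntegral (CohB1.ProjSpace 1 (X'.residueField y)) := GenusZeroLib.isIntegral_projSpace _ _
  haveI : Nonempty E := ⟨e.hom (genericPoint (CohB1.ProjSpace 1 k))⟩
  haveI : IsIntegral E := isIntegral_of_isOpenImmersion e.inv
  haveI : Nonempty J.subscheme := ⟨inv φ (genericPoint (CohB1.ProjSpace 1 (X'.residueField y)))⟩
  haveI : IsIntegral J.subscheme := isIntegral_of_isOpenImmersion φ
  have hJsupp : Set.range J.subschemeι = b ⁻¹' {y} := by
    rw [Scheme.IdealSheafData.range_subschemeι, Scheme.IdealSheafData.support_comap]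
    ext z
    show b z ∈ 𝓙.support ↔ _
    rw [← SetLike.mem_coe, Scheme.IdealSheafData.coe_support_vanishingIdeal]
    rfl
  have hsub : Set.range ι ⊆ Set.range J.subschemeι := by
    rw [hJsupp]
    rintro _ ⟨c, rfl⟩
    exact hrange.le ⟨c, rfl⟩
  have heq : Set.range ι = Set.range J.subschemeι := by
    refine hsub.antisymm ?_
    let T : Set J.subscheme := J.subschemeι ⁻¹' Set.range ι
    suffices hT : T = Set.univ by
      rintro _ ⟨z, rfl⟩
      exact (hT.ge (Set.mem_univ z) : z ∈ T)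
    by_contra hne
    have hJd : topologicalKrullDim J.subscheme = 1 := by
      rw [IsHomeomorph.topologicalKrullDim_eq _ φ.homeomorph.isHomeomorph, GenusZeroLib.dim_projSpace]; rfl
    have hd0 := CurvLib.topologicalKrullDim_le_zero_of_lt hJd
      (ι.isClosedEmbedding.isClosed_range.preimage J.subschemeι.continuous) hne
    have hEd : topologicalKrullDim E = 1 := by
      rw [← IsHomeomorph.topologicalKrullDim_eq _ e.hom.homeomorph.isHomeomorph, GenusZeroLib.dim_projSpace]; rfl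
    have himg : J.subschemeι '' T = Set.range ι := Set.image_preimage_eq_of_subset hsub
    have e1 := (J.subschemeι.isEmbedding.homeomorphImage T).trans
      ((Homeomorph.setCongr himg).trans ι.isEmbedding.toHomeomorph.symm)
    rw [IsHomeomorph.topologicalKrullDim_eq _ e1.isHomeomorph, hEd] at hd0
    norm_num at hd0
  have hker : ι.ker = J := by
    rw [AlgSpRegLib.ker_eq_vanishingIdeal ι, AlgSpRegLib.eq_vanishingIdeal_support J]
    congr 1
    refine Closeds.ext ?_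
    rw [Closeds.coe_closure, heq, J.range_subschemeι]
    exact J.support.isClosed.closure_eq
  obtain ⟨U, hyU, a, hnr, ha⟩ := exists_point_chart y hy 2 (by rw [hdim]; norm_num)
  have hlr : LocReg 𝓙 1 := fun z => by
    by_cases hz : z = y
    · exact ⟨U, hz ▸ hyU, 2, a, one_le_two, hnr, ha⟩
    · obtain ⟨V, hV, hzV, hVs⟩ := exists_isAffineOpen_mem_and_subset (x := z)
        (U := ⟨({y} : Set X')ᶜ, hy.isOpen_compl⟩) hz
      refine ⟨⟨V, hV⟩, hzV, 1, fun _ => 1, le_rfl, nr_one, ?_⟩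
      rw [BlowPtLib.vanishingIdeal_eq_top _ ⟨V, hV⟩ fun x hx h => hVs hx h, Set.range_const, Ideal.span_singleton_one]
  let W : X'.Opens := ⟨({y} : Set X')ᶜ, hy.isOpen_compl⟩
  haveI hiso : IsIso (b ∣_ W) := isIso_off_centre hbl W (BlowPtLib.comap_eq_top_of_disjoint W.ι 𝓙 fun z h => by
    rw [← SetLike.mem_coe, Scheme.IdealSheafData.coe_support_vanishingIdeal] at h
    exact z.2 h)
  have hsurj : Surjective b := ⟨fun z => by
    by_cases hz : z = y
    · obtain ⟨c⟩ := (inferInstance : Nonempty E)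
      exact ⟨ι c, (Set.mem_singleton_iff.1 (hrange.le ⟨c, rfl⟩)).trans hz.symm⟩
    · obtain ⟨a, ha⟩ := (b ∣_ W).homeomorph.surjective ⟨z, hz⟩
      exact ⟨a.1, (morphismRestrict_base_coe b W a).symm.trans (congrArg Subtype.val ha)⟩⟩
  exact ⟨inferInstance, hP, hsurj, y, hy, hreg, by rw [hdim]; norm_num, hbl, hlr, hiso, heq.trans hJsupp, hker⟩

include hE hb in
/-- **Picard groups along a contraction.** -/
theorem pic_contraction :
    (∀ L₁ L₂ : X'.Modules, PicF.IsInvertible L₁ → PicF.IsInvertible L₂ →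
      Nonempty ((Scheme.Modules.pullback b).obj L₁ ≅ (Scheme.Modules.pullback b).obj L₂) → Nonempty (L₁ ≅ L₂)) ∧
    ∀ L : X.Modules, PicF.IsInvertible L →
      ((∃ L' : X'.Modules, PicF.IsInvertible L' ∧ Nonempty ((Scheme.Modules.pullback b).obj L' ≅ L)) ↔
        Nonempty ((Scheme.Modules.pullback ι).obj L ≅ Coh.structureModule E)) := by
  obtain ⟨hN, hP, hsurj, y, hy, hreg, hdim, hbl, hlr, hiso, hrange, hker⟩ := contraction_data ι hE b hb
  haveI := hN; haveI := hP; haveI := hreg; haveI := hsurj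
  refine ⟨fun L₁ L₂ h₁ h₂ ⟨t⟩ => ?_, fun L hL => ⟨fun ⟨L', hL', ⟨t⟩⟩ => ?_, fun ⟨t⟩ => ?_⟩⟩
  · haveI := isIso_unit hbl hlr (AmpleDevLib.isFinLocFree_of_isInvertible h₁)
    haveI := isIso_unit hbl hlr (AmpleDevLib.isFinLocFree_of_isInvertible h₂)
    exact ⟨asIso ((Scheme.Modules.pullbackPushforwardAdjunction b).unit.app L₁) ≪≫
      (Scheme.Modules.pushforward b).mapIso t ≪≫
      (asIso ((Scheme.Modules.pullbackPushforwardAdjunction b).unit.app L₂)).symm⟩
  · obtain ⟨V, hyV, ⟨s⟩⟩ := hL' y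
    obtain ⟨f⟩ := BlowPtLib.nonempty_pb_trivial (ι ≫ b) V (fun z => by
      rw [Scheme.Hom.comp_apply, show b (ι z) = y from hrange.le ⟨z, rfl⟩]
      exact hyV) s
    exact ⟨(Scheme.Modules.pullback ι).mapIso t.symm ≪≫ (Scheme.Modules.pullbackComp ι b).app L' ≪≫ f⟩
  · let Z : Fin 1 → X' := fun _ => y
    have hZr : Set.range Z = {y} := Set.range_const
    have hZ : IsClosed (Set.range Z) := hZr ▸ hy
    have hvi : Scheme.IdealSheafData.vanishingIdeal (⟨Set.range Z, hZ⟩ : Closeds X') =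
        Scheme.IdealSheafData.vanishingIdeal ⟨{y}, hy⟩ := by
      congr 1; exact Closeds.ext hZr
    have hbl' : BlowUp.IsBlowUp b (Scheme.IdealSheafData.vanishingIdeal ⟨Set.range Z, hZ⟩) := hvi ▸ hbl
    have hexc : BlowUp.exceptional b (Scheme.IdealSheafData.vanishingIdeal ⟨Set.range Z, hZ⟩) = ι.ker := by
      show (Scheme.IdealSheafData.vanishingIdeal ⟨Set.range Z, hZ⟩).comap b = _
      rw [hvi, hker]
    obtain ⟨hreg', hloc⟩ := counit_of_trivial_on_exceptional Z (fun a b _ => Subsingleton.elim a b) (fun _ => hy) hZ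
      (fun _ => ⟨hreg, hdim⟩) hbl' (AmpleDevLib.isFinLocFree_of_isInvertible hL) 1 (by
        rw [hexc]
        let ψ := IsClosedImmersion.lift ι ι.ker.subschemeι (by rw [Scheme.IdealSheafData.ker_subschemeι])
        exact ⟨(Scheme.Modules.pullbackCongr (IsClosedImmersion.lift_fac ι ι.ker.subschemeι _).symm).app L ≪≫
          ((Scheme.Modules.pullbackComp ψ ι).app L).symm ≪≫ (Scheme.Modules.pullback ψ).mapIso t ≪≫
          KFlatLib.pullUnitIso ψ ≪≫ (freeOne _).symm⟩)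
    obtain ⟨-, hc⟩ := counit_of_locally_trivial hbl' hreg' hloc
    haveI := hc
    refine ⟨(Coh.push b).obj L, fun z => ?_,
      ⟨asIso ((Scheme.Modules.pullbackPushforwardAdjunction b).counit.app L)⟩⟩
    obtain ⟨W, m, hW, ⟨s⟩⟩ := hloc z
    obtain ⟨x, hx⟩ := hsurj.surj z
    haveI : Nonempty ((b ⁻¹ᵁ W : X.Opens) : Scheme.{u}) := ⟨⟨x, show b x ∈ W from hx ▸ hW⟩⟩
    obtain rfl := CohCmpLib.eq_one_of_rank_one_free (AmpleThLib.restrict_isInvertible hL _) s
    obtain ⟨s'⟩ := nonempty_push_free hbl' hreg' s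
    exact ⟨W, hW, ⟨s' ≪≫ freeOne _⟩⟩

include hE hb in
/-- Functions are pushed forward to functions along a contraction. -/
theorem bijective_app_contraction : Surjective b ∧ IsProper b ∧ ∀ U : X'.Opens, Function.Bijective (b.app U).hom := by
  obtain ⟨hN, hP, hsurj, y, hy, hreg, hdim, hbl, hlr, hiso, hrange, hker⟩ := contraction_data ι hE b hb
  haveI := hN
  refine ⟨hsurj, hP, fun U => ?_⟩
  have h : IsIso (ClSub.unitToPush b) := isIso_unitToPush hbl hlr
  show Function.Bijective ((ClSub.unitToPush b).app U)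
  exact (ConcreteCategory.isIso_iff_bijective _).1 (Scheme.Modules.Hom.isIso_iff_isIso_app.1 h U)

omit hE hb in
/-- A contraction maps to any other. -/
theorem exists_contraction_map {X₁ X₂ : Scheme.{u}} (hE : Models.IsExcCurve ι) (b₁ : X ⟶ X₁)
    (hb₁ : Models.IsContractionOf ι b₁) (b₂ : X ⟶ X₂) (hb₂ : Models.IsContractionOf ι b₂) :
    ∃ k : X₁ ⟶ X₂, b₁ ≫ k = b₂ := by
  obtain ⟨hs, hP, hbij⟩ := bijective_app_contraction ι hE b₁ hb₁
  haveI := hs; haveI := hP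
  obtain ⟨-, -, -, y₁, hy₁, -, -, -, -, hiso, hrange, -⟩ := contraction_data ι hE b₁ hb₁
  obtain ⟨-, -, -, y₂, hy₂, -, -, -, -, -, hrange₂, -⟩ := contraction_data ι hE b₂ hb₂
  have hcol : ((⊤ : X₁.Opens) : Set X₁) ⊆ H0Lib.collapse b₁ b₂ := fun t _ => by
    by_cases ht : t = y₁
    · refine ⟨y₂, fun x hx => ?_⟩
      have h1 : x ∈ Set.range ι := hrange.ge (show b₁ x = y₁ from hx.trans ht)
      exact Set.mem_singleton_iff.1 (hrange₂.le h1)
    · obtain ⟨x, hx⟩ := hs.surj t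
      refine ⟨b₂ x, fun x' hx' => congrArg b₂ ?_⟩
      let W : X₁.Opens := ⟨({y₁} : Set X₁)ᶜ, hy₁.isOpen_compl⟩
      haveI : IsIso (b₁ ∣_ W) := hiso
      have hm : ∀ z : X, b₁ z = t → z ∈ b₁ ⁻¹ᵁ W := fun z hz => by
        show b₁ z ∈ W
        rw [hz]
        exact ht
      have := (b₁ ∣_ W).homeomorph.injective (a₁ := ⟨x', hm x' hx'⟩) (a₂ := ⟨x, hm x hx⟩) (Subtype.ext (by
        show ((b₁ ∣_ W) ⟨x', hm x' hx'⟩).1 = ((b₁ ∣_ W) ⟨x, hm x hx⟩).1
        rw [morphismRestrict_base_coe, morphismRestrict_base_coe]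
        exact hx'.trans hx.symm))
      exact congrArg Subtype.val this
  obtain ⟨k, hk⟩ := H0Lib.exists_factor_on b₁ b₂ hbij ⊤ hcol
  refine ⟨X₁.topIso.inv ≫ k, ?_⟩
  haveI : IsIso (b₁ ⁻¹ᵁ (⊤ : X₁.Opens)).ι := inferInstanceAs (IsIso X.topIso.hom)
  rw [← cancel_epi (b₁ ⁻¹ᵁ (⊤ : X₁.Opens)).ι, hk, ← morphismRestrict_ι_assoc]
  congr 1
  rw [← Category.assoc, show (⊤ : X₁.Opens).ι ≫ X₁.topIso.inv = 𝟙 _ from X₁.topIso.hom_inv_id, Category.id_comp]

omit hE hb in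
/-- **Contractions are unique.** -/
theorem contraction_unique {X₁ X₂ : Scheme.{u}} (hE : Models.IsExcCurve ι) (b₁ : X ⟶ X₁)
    (hb₁ : Models.IsContractionOf ι b₁) (b₂ : X ⟶ X₂) (hb₂ : Models.IsContractionOf ι b₂) :
    ∃! e : X₁ ≅ X₂, b₁ ≫ e.hom = b₂ := by
  obtain ⟨hs₁, hP₁, hbij₁⟩ := bijective_app_contraction ι hE b₁ hb₁
  obtain ⟨hs₂, hP₂, hbij₂⟩ := bijective_app_contraction ι hE b₂ hb₂
  haveI := hs₁; haveI := hs₂
  obtain ⟨k, hk⟩ := exists_contraction_map ι hE b₁ hb₁ b₂ hb₂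
  obtain ⟨k', hk'⟩ := exists_contraction_map ι hE b₂ hb₂ b₁ hb₁
  refine ⟨⟨k, k', H0Lib.hom_ext_of_bijective b₁ hbij₁ _ _ (by rw [reassoc_of% hk, hk', Category.comp_id]),
    H0Lib.hom_ext_of_bijective b₂ hbij₂ _ _ (by rw [reassoc_of% hk', hk, Category.comp_id])⟩, hk, fun e he => ?_⟩
  exact Iso.ext (H0Lib.hom_ext_of_bijective b₁ hbij₁ _ _ (he.trans hk.symm))

end Contraction

end BlowRegLib

namespace BlowRegLib

/-- **The universal property of a contraction.** -/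
theorem contraction_universal {E X X' : Scheme.{u}} [IsNoetherian X] (ι : E ⟶ X) [IsClosedImmersion ι]
    (hE : Models.IsExcCurve ι) (b : X ⟶ X') (hb : Models.IsContractionOf ι b)
    {Y : Scheme.{u}} (φ : X ⟶ Y) (y : Y) (hφ : Set.range ((ι ≫ φ).base : E → Y) = {y}) :
    ∃! ψ : X' ⟶ Y, b ≫ ψ = φ := by
  obtain ⟨hs, hP, hbij⟩ := bijective_app_contraction ι hE b hb
  haveI := hs; haveI := hP
  obtain ⟨-, -, -, y₁, hy₁, -, -, -, -, hiso, hrange, -⟩ := contraction_data ι hE b hb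
  have hcol : ((⊤ : X'.Opens) : Set X') ⊆ H0Lib.collapse b φ := fun t _ => by
    by_cases ht : t = y₁
    · refine ⟨y, fun x hx => ?_⟩
      obtain ⟨c, rfl⟩ := hrange.ge (show b x = y₁ from hx.trans ht)
      exact Set.mem_singleton_iff.1 (hφ.le ⟨c, rfl⟩)
    · obtain ⟨x, hx⟩ := hs.surj t
      refine ⟨φ x, fun x' hx' => congrArg φ ?_⟩
      let W : X'.Opens := ⟨({y₁} : Set X')ᶜ, hy₁.isOpen_compl⟩
      haveI : IsIso (b ∣_ W) := hiso
      have hm : ∀ z : X, b z = t → z ∈ b ⁻¹ᵁ W := fun z hz => by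
        show b z ∈ W
        rw [hz]
        exact ht
      have := (b ∣_ W).homeomorph.injective (a₁ := ⟨x', hm x' hx'⟩) (a₂ := ⟨x, hm x hx⟩) (Subtype.ext (by
        show ((b ∣_ W) ⟨x', hm x' hx'⟩).1 = ((b ∣_ W) ⟨x, hm x hx⟩).1
        rw [morphismRestrict_base_coe, morphismRestrict_base_coe]
        exact hx'.trans hx.symm))
      exact congrArg Subtype.val this
  obtain ⟨k, hk⟩ := H0Lib.exists_factor_on b φ hbij ⊤ hcol
  have hfac : b ≫ X'.topIso.inv ≫ k = φ := by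
    haveI : IsIso (b ⁻¹ᵁ (⊤ : X'.Opens)).ι := inferInstanceAs (IsIso X.topIso.hom)
    rw [← cancel_epi (b ⁻¹ᵁ (⊤ : X'.Opens)).ι, hk, ← morphismRestrict_ι_assoc]
    congr 1
    rw [← Category.assoc, show (⊤ : X'.Opens).ι ≫ X'.topIso.inv = 𝟙 _ from X'.topIso.hom_inv_id, Category.id_comp]
  exact ⟨_, hfac, fun ψ hψ => H0Lib.hom_ext_of_bijective b hbij _ _ (hψ.trans hfac.symm)⟩

end BlowRegLib
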