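import Groth.Agent.BlowPtLib.Chart
import Groth.Agent.BlowUpLib.RegChart
import Groth.Agent.LichtLib.Ample

/-!
# Functions on the blow-up in an ideal containing a regular pair
-/

set_option autoImplicit false
set_option linter.style.haveILetI false
set_option linter.unusedSectionVars false
set_option maxHeartbeats 1000000
set_option backward.isDefEq.respectTransparency false
set_option backward.isDefEq.respectTransparency.types false

universe u

open CategoryTheory CategoryTheory.Limits AlgebraicGeometry TopologicalSpace Opposite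

noncomputable section

namespace BlowRegLib

variable {R : Type u} [CommRing R]

/-- Regularity passes to powers of the first element. -/
theorem dvd_pow_of_dvd_mul {u v : R} (hu : u ∈ nonZeroDivisors R) (huv : ∀ x, u ∣ v * x → u ∣ x) :
    ∀ (N : ℕ) (y : R), u ^ N ∣ v * y → u ^ N ∣ y
  | 0, y, _ => by simp
  | N + 1, y, h => by
    obtain ⟨y', rfl⟩ := huv y (dvd_trans (dvd_pow_self u (Nat.succ_ne_zero N)) h)
    have h' : u * u ^ N ∣ u * (v * y') := by
      rw [← pow_succ', show u * (v * y') = v * (u * y') by ring]; exact h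
    obtain ⟨c, hc⟩ := h'
    have h2 : v * y' = u ^ N * c := by
      refine (mul_cancel_left_mem_nonZeroDivisors hu).1 ?_
      rw [hc, mul_assoc]
    obtain ⟨d, rfl⟩ := dvd_pow_of_dvd_mul hu huv N y' ⟨c, h2⟩
    exact ⟨d, by ring⟩

theorem dvd_pow_of_dvd_pow_mul {u v : R} (hu : u ∈ nonZeroDivisors R) (huv : ∀ x, u ∣ v * x → u ∣ x) (N : ℕ) :
    ∀ (M : ℕ) (y : R), u ^ N ∣ v ^ M * y → u ^ N ∣ y
  | 0, y, h => by simpa using h
  | M + 1, y, h => dvd_pow_of_dvd_mul hu huv N y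
      (dvd_pow_of_dvd_pow_mul hu huv N M (v * y) (by rwa [pow_succ, mul_assoc] at h))

/-- A non-zero-divisor stays one in a localisation. -/
theorem eq_zero_of_away {u a : R} (hu : u ∈ nonZeroDivisors R) {w : Localization.Away a}
    (h : w * algebraMap R (Localization.Away a) u = 0) : w = 0 := by
  obtain ⟨⟨y, s⟩, rfl⟩ := IsLocalization.mk'_surjective (Submonoid.powers a) w
  rw [← IsLocalization.mk'_one (M := Submonoid.powers a) (Localization.Away a) u, ← IsLocalization.mk'_mul,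
    IsLocalization.mk'_eq_zero_iff] at h
  obtain ⟨⟨c, hc⟩, hcy⟩ := h
  refine (IsLocalization.mk'_eq_zero_iff y s).2 ⟨⟨c, hc⟩, mem_nonZeroDivisors_iff_right.1 hu _ ?_⟩
  rw [mul_assoc]
  exact hcy

variable {P X : Scheme.{u}} {b : X ⟶ P} {𝓘 : P.IdealSheafData} (hb : BlowUp.IsBlowUp b 𝓘) (U₀ : P.affineOpens)

include hb in
/-- The charts cover. -/
theorem exists_chart_cover (y : X) (hy : b y ∈ U₀.1) :
    ∃ (a : Γ(P, U₀.1)) (_ : a ∈ 𝓘.ideal U₀) (W : X.affineOpens) (hW : W.1 ≤ b ⁻¹ᵁ U₀.1)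
      (ξ : Γ(X, W.1) →+* BlowUp.affineAlgebra Γ(P, U₀.1) (𝓘.ideal U₀) a),
      y ∈ W.1 ∧ Function.Injective ξ ∧
      ∀ x, ξ ((b.appLE U₀.1 W.1 hW).hom x) = algebraMap Γ(P, U₀.1) _ x := by
  obtain ⟨a, ha, W', hW', hyW', hnz, hgen, -⟩ := LichtLib.exists_chart_open hb U₀ y hy
  obtain ⟨W, hW, ξ, hξ, hξκ, -, -, hmax⟩ := BlowPtLib.exists_chart_of_mem hb U₀ a ha
  exact ⟨a, ha, W, hW, ξ, hmax W' hW' hnz hgen hyW', hξ.1, hξκ⟩

variable {u v : Γ(P, U₀.1)} (hu : u ∈ nonZeroDivisors Γ(P, U₀.1)) (huI : u ∈ 𝓘.ideal U₀)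
  (hcase : 𝓘.ideal U₀ = Ideal.span {u} ∨ (v ∈ 𝓘.ideal U₀ ∧ ∀ x, u ∣ v * x → u ∣ x))

include hb hu huI hcase in
/-- **The functions on the blow-up over an affine open are the functions of the base.** -/
theorem bijective_app : Function.Bijective (b.app U₀.1) := by
  obtain ⟨Wu, hWu, ξu, hξu, hξuκ, -, -, hmax⟩ := BlowPtLib.exists_chart_of_mem hb U₀ u huI
  let res : ∀ (T : X.Opens) (_ : T ≤ b ⁻¹ᵁ U₀.1), Γ(X, b ⁻¹ᵁ U₀.1) →+* Γ(X, T) := fun T h =>
    (X.presheaf.map (homOfLE h).op).hom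
  have hres : ∀ (T : X.Opens) (h : T ≤ b ⁻¹ᵁ U₀.1) (x : Γ(P, U₀.1)),
      res T h (b.app U₀.1 x) = (b.appLE U₀.1 T h).hom x := fun T h x => rfl
  -- a function killed on the chart of `u` is killed by a power of `u` on every affine open
  have hkill : ∀ (T : X.affineOpens) (hT : T.1 ≤ b ⁻¹ᵁ U₀.1) (e : Γ(X, T.1)),
      (∀ (S : X.Opens) (h1 : S ≤ T.1) (_ : S ≤ Wu.1), X.presheaf.map (homOfLE h1).op e = 0) →
      ∃ k : ℕ, (b.appLE U₀.1 T.1 hT).hom u ^ k * e = 0 := by
    intro T hT e he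
    let τ := (b.appLE U₀.1 T.1 hT).hom u
    let S : X.Opens := X.basicOpen τ
    have hST : S ≤ T.1 := X.basicOpen_le τ
    have hS : IsAffineOpen S := T.2.basicOpen τ
    have hSO : S ≤ b ⁻¹ᵁ U₀.1 := hST.trans hT
    have hunit : IsUnit ((b.appLE U₀.1 S hSO).hom u) := by
      have h1 := RingedSpace.isUnit_res_basicOpen (X := X.toLocallyRingedSpace.toRingedSpace) τ
      rw [← Scheme.Hom.appLE_map b hT (homOfLE hST).op]
      exact h1
    have hSW : S ≤ Wu.1 := by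
      refine hmax ⟨S, hS⟩ hSO hunit.mem_nonZeroDivisors ?_
      rw [Ideal.span_singleton_eq_top.2 hunit, eq_top_iff,
        Groth.Agent.S4666.ideal_comap_eq 𝓘 b U₀ ⟨S, hS⟩ hSO]
      exact (Ideal.eq_top_of_isUnit_mem _ (Ideal.mem_map_of_mem _ huI) hunit).ge
    haveI := T.2.isLocalization_basicOpen τ
    have h0 : algebraMap Γ(X, T.1) Γ(X, X.basicOpen τ) e = 0 := he S hST hSW
    obtain ⟨⟨_, k, rfl⟩, hk⟩ := (IsLocalization.map_eq_zero_iff (Submonoid.powers τ) _ e).1 h0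
    exact ⟨k, hk⟩
  refine ⟨(injective_iff_map_eq_zero _).2 fun x hx => ?_, fun z => ?_⟩
  · have h1 := congrArg ξu (congrArg (res Wu.1 hWu) hx)
    erw [hres, hξuκ, map_zero, map_zero] at h1
    have h2 : algebraMap Γ(P, U₀.1) (Localization.Away u) x = 0 := congrArg Subtype.val h1
    obtain ⟨⟨_, k, rfl⟩, hk⟩ := (IsLocalization.map_eq_zero_iff (Submonoid.powers u) _ x).1 h2
    exact mem_nonZeroDivisors_iff_left.1 (pow_mem hu k) x hk
  obtain ⟨N, y, hy, hzy⟩ := BlowUpLib.exists_frac_of_mem huI (ξu (res Wu.1 hWu z)).2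
  have hzu : res Wu.1 hWu z * (b.appLE U₀.1 Wu.1 hWu).hom u ^ N = (b.appLE U₀.1 Wu.1 hWu).hom y := by
    refine hξu.1 (Subtype.ext ?_)
    rw [map_mul, map_pow, hξuκ, hξuκ]
    exact hzy
  have hdvd : u ^ N ∣ y := by
    rcases hcase with h | ⟨hvI, huv⟩
    · rwa [h, Ideal.span_singleton_pow, Ideal.mem_span_singleton] at hy
    · obtain ⟨Wv, hWv, ξv, hξv, hξvκ, -, -, -⟩ := BlowPtLib.exists_chart_of_mem hb U₀ v hvI
      obtain ⟨M, y', -, hzy'⟩ := BlowUpLib.exists_frac_of_mem hvI (ξv (res Wv.1 hWv z)).2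
      let κ := (b.appLE U₀.1 Wv.1 hWv).hom
      obtain ⟨k, hk⟩ := hkill Wv hWv (res Wv.1 hWv z * κ u ^ N - κ y) fun S h1 h2 => by
        have e1 := congrArg (X.presheaf.map (homOfLE h2).op) hzu
        simp only [κ, res, map_sub, map_mul, map_pow, ← CommRingCat.comp_apply, Scheme.Hom.appLE_map,
          ← Functor.map_comp] at e1 ⊢
        rw [sub_eq_zero]
        exact e1
      have h3 := congrArg (fun t => ((ξv t : BlowUp.affineAlgebra Γ(P, U₀.1) (𝓘.ideal U₀) v) : Localization.Away v)) hk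
      simp only [κ, map_mul, map_sub, map_pow, map_zero, hξvκ] at h3
      push_cast at h3
      have h4 : algebraMap Γ(P, U₀.1) (Localization.Away v) (u ^ k * (y' * u ^ N - y * v ^ M)) = 0 := by
        have e2 : ((ξv (res Wv.1 hWv z) : BlowUp.affineAlgebra Γ(P, U₀.1) (𝓘.ideal U₀) v) : Localization.Away v) *
            algebraMap Γ(P, U₀.1) (Localization.Away v) v ^ M = algebraMap Γ(P, U₀.1) (Localization.Away v) y' := hzy'
        simp only [map_mul, map_sub, map_pow, ← e2]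
        linear_combination (algebraMap Γ(P, U₀.1) (Localization.Away v) v ^ M) * h3
      obtain ⟨⟨_, i, rfl⟩, hi⟩ := (IsLocalization.map_eq_zero_iff (Submonoid.powers v) _ _).1 h4
      have h5 : v ^ i * (y' * u ^ N - y * v ^ M) = 0 :=
        mem_nonZeroDivisors_iff_left.1 (pow_mem hu k) _ (by rw [← hi]; ring)
      refine dvd_pow_of_dvd_pow_mul hu huv N (i + M) y ⟨v ^ i * y', ?_⟩
      linear_combination -h5
  obtain ⟨c, rfl⟩ := hdvd
  refine ⟨c, ?_⟩
  -- `z` and `c` agree on the chart of `u`, hence everywhere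
  have hWuc : res Wu.1 hWu z = (b.appLE U₀.1 Wu.1 hWu).hom c := by
    have hnz : ∀ t, t * (b.appLE U₀.1 Wu.1 hWu).hom u = 0 → t = 0 := fun t ht => by
      refine hξu.1 (Subtype.ext ?_)
      rw [map_zero]
      refine eq_zero_of_away hu ?_
      have := congrArg (fun t => ((ξu t : BlowUp.affineAlgebra Γ(P, U₀.1) (𝓘.ideal U₀) u) : Localization.Away u)) ht
      simpa [hξuκ] using this
    have hpow : ∀ (n : ℕ) t, t * (b.appLE U₀.1 Wu.1 hWu).hom u ^ n = 0 → t = 0 := by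
      intro n
      induction n with
      | zero => intro t ht; simpa using ht
      | succ n ih => intro t ht; exact hnz t (ih _ (by rw [← ht]; ring))
    refine sub_eq_zero.1 (hpow N _ ?_)
    rw [sub_mul, hzu, map_mul, map_pow]
    ring
  have hloc : ∀ q : ↥(b ⁻¹ᵁ U₀.1), ∃ (W : X.Opens) (hW : W ≤ b ⁻¹ᵁ U₀.1), q.1 ∈ W ∧
      res W hW (b.app U₀.1 c) = res W hW z := by
    intro q
    obtain ⟨a, ha, W, hW, ξ, hqW, hξ, hξκ⟩ := exists_chart_cover hb U₀ q.1 q.2
    refine ⟨W.1, hW, hqW, ?_⟩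
    obtain ⟨k, hk⟩ := hkill W hW (res W.1 hW (b.app U₀.1 c) - res W.1 hW z) fun S h1 h2 => by
      have e1 := congrArg (X.presheaf.map (homOfLE h2).op) hWuc
      rw [hres]
      simp only [res, map_sub, ← CommRingCat.comp_apply, Scheme.Hom.appLE_map, ← Functor.map_comp] at e1 ⊢
      rw [sub_eq_zero]
      exact e1.symm
    refine sub_eq_zero.1 (hξ (Subtype.ext ?_))
    rw [map_zero]
    have h3 := congrArg (fun t => ((ξ t : BlowUp.affineAlgebra Γ(P, U₀.1) (𝓘.ideal U₀) a) : Localization.Away a)) hk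
    simp only [map_mul, map_pow, map_zero, hξκ] at h3
    refine eq_zero_of_away (pow_mem hu k) ?_
    rw [map_pow, mul_comm]
    exact h3
  choose W hW hqW he using hloc
  exact X.sheaf.eq_of_locally_eq' (fun q : ↥(b ⁻¹ᵁ U₀.1) => W q) _ (fun q => homOfLE (hW q))
    (fun x hx => Opens.mem_iSup.2 ⟨⟨x, hx⟩, hqW _⟩) _ _ he

end BlowRegLib
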