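import Groth.Agent.BlowRegLib.Affine
import Groth.Agent.BlowRegLib.Sections
import Groth.Agent.DCohRestrLib.Iso
import Groth.Agent.RpushLib.Vanish
import Groth.Agent.RpushLib.AdjIso
import Groth.Agent.CohCmpLib.PicApps
import Groth.Agent.KFlatLib.PerfectPull
import Groth.Agent.PicH1Lib.FlatIdeal
import Groth.Agent.QCohLib.Modules
import Groth.Prelude.Def_RegImm

/-!
# Direct images along blow-ups in regularly immersed centres
-/

set_option autoImplicit false
set_option linter.style.haveILetI false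
set_option linter.unusedSectionVars false
set_option maxHeartbeats 1000000
set_option backward.isDefEq.respectTransparency false
set_option backward.isDefEq.respectTransparency.types false

universe u

open CategoryTheory CategoryTheory.Limits AlgebraicGeometry TopologicalSpace Opposite
open HilbPolyLib (congrLeft congrRight assocIso swapIso unitLeft)
open KFlatLib (pb)
open Groth.Agent.QReg16Lib (QR)

noncomputable section

namespace BlowRegLib

variable {P X : Scheme.{u}}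

/-- Locally generated by at least `d` elements forming a regular sequence. -/
def LocReg (𝓘 : P.IdealSheafData) (d : ℕ) : Prop :=
  ∀ y : P, ∃ U : P.affineOpens, y ∈ U.1 ∧ ∃ (r : ℕ) (f : Fin r → Γ(P, U.1)), d ≤ r ∧ FVLib.NR f ∧
    Ideal.span (Set.range f) = 𝓘.ideal U

theorem nr_map {R S : Type u} [CommRing R] [CommRing S] (ψ : R →+* S) (hψ : ψ.Flat) {r : ℕ} {f : Fin r → R}
    (hf : FVLib.NR f) : FVLib.NR (fun i => ψ (f i)) := by
  letI := ψ.toAlgebra
  haveI : Module.Flat R S := hψ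
  have h := RingTheory.Sequence.IsWeaklyRegular.of_flat (S := S) ((FVLib.nr_iff f).1 hf)
  rw [List.map_ofFn] at h
  exact (FVLib.nr_iff _).2 h

theorem nr_one {R : Type u} [CommRing R] {r : ℕ} : FVLib.NR (fun _ : Fin r => (1 : R)) :=
  fun _ a h => by rwa [one_mul] at h

/-- A quasi-regular family from a regular one. -/
theorem qr_rev {R : Type u} [CommRing R] {r : ℕ} {f : Fin r → R} (hf : FVLib.NR f) :
    QR (fun i => f (Fin.rev i)) ∧ Ideal.span (Set.range fun i => f (Fin.rev i)) = Ideal.span (Set.range f) := by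
  refine ⟨Groth.Agent.QReg16Lib.qr_of_nr' _ (Groth.Agent.QReg16Lib.nr'_of_nr _ hf), ?_⟩
  rw [show (fun i => f (Fin.rev i)) = f ∘ Fin.rev from rfl, Fin.rev_surjective.range_comp]

/-- Regularity at the beginning of a family. -/
theorem exists_pair {R : Type u} [CommRing R] {r : ℕ} {f : Fin r → R} (hr : 1 ≤ r) (hf : FVLib.NR f)
    {I : Ideal R} (hI : Ideal.span (Set.range f) = I) :
    ∃ u v : R, u ∈ nonZeroDivisors R ∧ u ∈ I ∧ (I = Ideal.span {u} ∨ (v ∈ I ∧ ∀ x, u ∣ v * x → u ∣ x)) := by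
  obtain ⟨r, rfl⟩ : ∃ r', r = r' + 1 := ⟨r - 1, by omega⟩
  have h0 : f 0 ∈ nonZeroDivisors R := by
    refine mem_nonZeroDivisors_iff_left.2 fun a ha => ?_
    have h := hf 0 a
    rw [show {j : Fin (r + 1) | j < 0} = ∅ from Set.eq_empty_iff_forall_notMem.2 fun j hj => absurd hj (Fin.not_lt_zero j),
      Set.image_empty, Ideal.span_empty] at h
    exact h (by rw [ha]; exact zero_mem _)
  rcases r with _ | r
  · refine ⟨f 0, f 0, h0, hI ▸ Ideal.subset_span ⟨0, rfl⟩, Or.inl ?_⟩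
    rw [← hI]
    refine congrArg Ideal.span (Set.ext fun x => ⟨?_, ?_⟩)
    · rintro ⟨j, rfl⟩
      rw [show j = 0 from Fin.ext (by omega)]
      exact Set.mem_singleton _
    · rintro rfl
      exact ⟨0, rfl⟩
  · refine ⟨f 0, f 1, h0, hI ▸ Ideal.subset_span ⟨0, rfl⟩, Or.inr ⟨hI ▸ Ideal.subset_span ⟨1, rfl⟩, fun x hx => ?_⟩⟩
    have h := hf 1 x
    have hset : {j : Fin (r + 1 + 1) | j < 1} = {0} := Set.ext fun j => by
      simp only [Set.mem_setOf_eq, Set.mem_singleton_iff, Fin.lt_def, Fin.ext_iff, Fin.val_zero, Fin.val_one]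
      omega
    rw [hset, Set.image_singleton, Ideal.mem_span_singleton, Ideal.mem_span_singleton] at h
    exact h hx

/-- A regular closed immersion of codimension at least `d`. -/
theorem locReg_of_range {Z : Scheme.{u}} (i : Z ⟶ P) [IsClosedImmersion i] (d : ℕ)
    (h : ∀ z : Z, ∃ U : P.affineOpens, i z ∈ U.1 ∧ ∃ rs : List Γ(P, U.1), d ≤ rs.length ∧
      RingTheory.Sequence.IsWeaklyRegular Γ(P, U.1) rs ∧ i.ker.ideal U = Ideal.ofList rs) (hd : 1 ≤ d) :
    LocReg i.ker d := by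
  intro y
  by_cases hy : y ∈ Set.range i
  · obtain ⟨z, rfl⟩ := hy
    obtain ⟨U, hU, rs, hlen, hreg, hker⟩ := h z
    refine ⟨U, hU, rs.length, rs.get, hlen, (FVLib.nr_iff _).2 (by rwa [List.ofFn_get]), ?_⟩
    rw [hker]
    show _ = Ideal.span {x | x ∈ rs}
    exact congrArg Ideal.span (Set.ext fun x => by simp [List.mem_iff_get])
  · obtain ⟨U, hU, hyU, hUs⟩ := exists_isAffineOpen_mem_and_subset (x := y)
      (U := ⟨(Set.range i)ᶜ, i.isClosedEmbedding.isClosed_range.isOpen_compl⟩) hy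
    refine ⟨⟨U, hU⟩, hyU, d, fun _ => 1, le_rfl, nr_one, ?_⟩
    rw [CDivRatioLib.ideal_eq_top i.ker ⟨U, hU⟩ fun x hx hxs => hUs hx (by
      have h1 : x ∈ (i.ker.support : Set P) := hxs
      rw [Scheme.Hom.support_ker, i.isClosedEmbedding.isClosed_range.closure_eq] at h1
      exact h1)]
    exact eq_top_iff.2 ((Ideal.eq_top_of_isUnit_mem _
      (Ideal.subset_span (Set.mem_range.2 ⟨⟨0, hd⟩, rfl⟩)) isUnit_one).ge)

variable {b : X ⟶ P} {𝓘 : P.IdealSheafData}

/-- The data over an affine open. -/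
theorem exists_local {U : P.affineOpens} {r : ℕ} {f : Fin r → Γ(P, U.1)} (hf : FVLib.NR f)
    (hI : Ideal.span (Set.range f) = 𝓘.ideal U) {P' : Scheme.{u}} (j : P' ⟶ P) [IsOpenImmersion j]
    (V : P'.affineOpens) (hV : V.1 ≤ j ⁻¹ᵁ U.1) :
    ∃ g : Fin r → Γ(P', V.1), FVLib.NR g ∧ Ideal.span (Set.range g) = (𝓘.comap j).ideal V := by
  refine ⟨fun i => (j.appLE U.1 V.1 hV).hom (f i), nr_map _ (j.flat_appLE U.2 V.2 hV) hf, ?_⟩
  rw [Groth.Agent.S4666.ideal_comap_eq 𝓘 j U V hV, ← hI, Ideal.map_span, ← Set.range_comp]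
  rfl

/-- The acyclicity package over an affine open of the base. -/
theorem exists_affine_data (hb : BlowUp.IsBlowUp b 𝓘) {U : P.affineOpens} {r : ℕ} {f : Fin (r + 1) → Γ(P, U.1)}
    (hf : FVLib.NR f) (hI : Ideal.span (Set.range f) = 𝓘.ideal U) (W : P.Opens) (hW : IsAffineOpen W) (hWU : W ≤ U.1) :
    BlowUp.IsBlowUp (b ∣_ W) (𝓘.comap W.ι) ∧
      (𝓘.comap W.ι).comap (b ∣_ W) = (𝓘.comap b).comap (b ⁻¹ᵁ W).ι ∧
      ∃ a : Fin (r + 1) → Γ((W : Scheme.{u}), ⊤), QR a ∧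
        Ideal.span (Set.range a) = (𝓘.comap W.ι).ideal ⟨⊤, @isAffineOpen_top _ hW⟩ := by
  haveI : IsAffine (W : Scheme.{u}) := hW
  refine ⟨BlowUpLib.isBlowUp_of_isPullback (isPullback_morphismRestrict b W).flip hb, ?_, ?_⟩
  · rw [← Scheme.IdealSheafData.comap_comp, morphismRestrict_ι, Scheme.IdealSheafData.comap_comp]
  · obtain ⟨g, hg, hgI⟩ := exists_local hf hI W.ι ⟨⊤, isAffineOpen_top _⟩ (fun x _ => hWU x.2)
    obtain ⟨h1, h2⟩ := qr_rev hg
    exact ⟨_, h1, h2.trans hgI⟩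

/-- The ideal of the exceptional divisor over an open. -/
theorem nonempty_restrict_ideal (hb : BlowUp.IsBlowUp b 𝓘) (O : X.Opens) :
    Nonempty (pb O.ι (ClSub.idealMod (𝓘.comap b)) ≅ ClSub.idealMod ((𝓘.comap b).comap O.ι)) :=
  SymSqLib.nonempty_pb_ideal O.ι (𝓘.comap b) (IntMultLib.isInvertible_idealMod _ hb.1)
    (IntMultLib.isInvertible_idealMod _ (BlowUpLib.isEffCartier_comap_of_flat _ hb.1))

section Loc

variable [IsLocallyNoetherian P] (hb : BlowUp.IsBlowUp b 𝓘)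

include hb in
theorem isProper_b : IsProper b :=
  BlowUpLib.isProper_of_isBlowUp hb fun U => by
    haveI := IsLocallyNoetherian.component_noetherian U
    exact IsNoetherian.noetherian _

theorem isNoetherian_affine (W : P.Opens) (hW : IsAffineOpen W) : IsNoetherian (W : Scheme.{u}) := by
  haveI : IsAffine (W : Scheme.{u}) := hW
  haveI : IsLocallyNoetherian (W : Scheme.{u}) := LocallyOfFiniteType.isLocallyNoetherian W.ι
  exact {}

include hb in
/-- Powers of the exceptional ideal over small affine opens. -/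
theorem sub_pow_local {U : P.affineOpens} {r : ℕ} {f : Fin (r + 1) → Γ(P, U.1)}
    (hf : FVLib.NR f) (hI : Ideal.span (Set.range f) = 𝓘.ideal U) (W : P.Opens) (hW : IsAffineOpen W) (hWU : W ≤ U.1)
    (n q : ℕ) (hq : 1 ≤ q) :
    Subsingleton (Coh.HHon X (CohB1.tensorPow (ClSub.idealMod (𝓘.comap b)) n) (b ⁻¹ᵁ W) q) := by
  obtain ⟨hb', he, a, hQR, ha⟩ := exists_affine_data hb hf hI W hW hWU
  haveI : IsAffine (W : Scheme.{u}) := hW
  haveI := isNoetherian_affine W hW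
  have h := sub_pow hb' a ha hQR n q hq
  rw [he] at h
  obtain ⟨e⟩ := nonempty_restrict_ideal hb (b ⁻¹ᵁ W)
  obtain ⟨p⟩ := CurveDualLib.nonempty_pb_tensorPow (b ⁻¹ᵁ W).ι (ClSub.idealMod (𝓘.comap b)) n
  obtain ⟨c⟩ := CurveDualLib.nonempty_tensorPow_congr e n
  exact HdgLefLib.sub_iso ((Scheme.Modules.restrictFunctorIsoPullback (b ⁻¹ᵁ W).ι).app _ ≪≫ p ≪≫ c).symm q h

/-- The restriction of a pushed forward restriction, over an open. -/
theorem sub_pushpull (I : X.IdealSheafData) (O : X.Opens) {N : X.Modules} (hN : PicF.IsInvertible N) (q : ℕ)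
    (h : Subsingleton (Coh.HH (I.comap O.ι).subscheme (pb (I.comap O.ι).subschemeι (pb O.ι N)) q)) :
    Subsingleton (Coh.HHon X ((Coh.push I.subschemeι).obj (pb I.subschemeι N)) O q) := by
  let i := I.subschemeι
  let G := (pb i N).restrict (i ⁻¹ᵁ O).ι
  let ρ : G ≅ pb (i ⁻¹ᵁ O).ι (pb i N) := (Scheme.Modules.restrictFunctorIsoPullback (i ⁻¹ᵁ O).ι).app _
  haveI : Coh.IsQCoh G := FinLFAnn.isQCoh_of_isFinLocFree (AmpleDevLib.isFinLocFree_of_isInvertible
    (HilbPolyLib.isInvertible_of_iso ρ.symm (AmpleDevLib.isInvertible_pb _ (AmpleDevLib.isInvertible_pb _ hN))))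
  haveI : IsClosedImmersion (i ∣_ O) := IsZariskiLocalAtTarget.restrict (inferInstanceAs (IsClosedImmersion i)) O
  let ψ : (I.comap O.ι).subscheme ≅ ((i ⁻¹ᵁ O : I.subscheme.Opens) : Scheme.{u}) :=
    I.comapIso O.ι ≪≫ (isPullback_morphismRestrict i O).isoPullback.symm
  have hψ : ψ.hom ≫ (i ⁻¹ᵁ O).ι ≫ i = (I.comap O.ι).subschemeι ≫ O.ι := by
    rw [← morphismRestrict_ι]
    simp only [ψ, Iso.trans_hom, Iso.symm_hom, Category.assoc, IsPullback.isoPullback_inv_fst_assoc]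
    rw [← Category.assoc, Scheme.IdealSheafData.comapIso_hom_fst]
  let χ : (Scheme.Modules.pullback ψ.hom).obj G ≅ pb (I.comap O.ι).subschemeι (pb O.ι N) :=
    (Scheme.Modules.pullback ψ.hom).mapIso (ρ ≪≫ (Scheme.Modules.pullbackComp _ _).app N) ≪≫
      (Scheme.Modules.pullbackComp _ _).app N ≪≫ (Scheme.Modules.pullbackCongr hψ).app N ≪≫
      ((Scheme.Modules.pullbackComp _ _).app N).symm
  have h1 := (QuotSchLib.subsingleton_HH_pullback_iso ψ G q).1 (HdgLefLib.sub_iso χ.symm q h)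
  obtain ⟨E⟩ := QCohLib.nonempty_HH_push (i ∣_ O) G q
  exact HdgLefLib.sub_iso ((Groth.Agent.DCohRestrLib.restrictPushIso i O).app (pb i N)).symm q
    E.symm.toEquiv.subsingleton

include hb in
/-- The twists of the exceptional divisor over small affine opens. -/
theorem sub_div_pow_local {U : P.affineOpens} {r : ℕ} {f : Fin (r + 1) → Γ(P, U.1)}
    (hf : FVLib.NR f) (hI : Ideal.span (Set.range f) = 𝓘.ideal U) (W : P.Opens) (hW : IsAffineOpen W) (hWU : W ≤ U.1)
    {N : X.Modules} (n : ℕ) (eN : CohB1.tensorPow (ClSub.idealMod (𝓘.comap b)) n ≅ N) (q : ℕ) (hq : 1 ≤ q) :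
    Subsingleton (Coh.HHon X ((Coh.push (𝓘.comap b).subschemeι).obj (pb (𝓘.comap b).subschemeι N)) (b ⁻¹ᵁ W) q) := by
  obtain ⟨hb', he, a, hQR, ha⟩ := exists_affine_data hb hf hI W hW hWU
  haveI : IsAffine (W : Scheme.{u}) := hW
  have h := sub_restrict_pow hb' a ha hQR n q hq
  rw [he] at h
  have hN : PicF.IsInvertible N := HilbPolyLib.isInvertible_of_iso eN
    (AmpleThLib.tensorPow_isInvertible (IntMultLib.isInvertible_idealMod _ hb.1) n)
  obtain ⟨e⟩ := nonempty_restrict_ideal hb (b ⁻¹ᵁ W)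
  obtain ⟨p⟩ := CurveDualLib.nonempty_pb_tensorPow (b ⁻¹ᵁ W).ι (ClSub.idealMod (𝓘.comap b)) n
  obtain ⟨c⟩ := CurveDualLib.nonempty_tensorPow_congr e n
  exact sub_pushpull _ _ hN q (HdgLefLib.sub_iso ((Scheme.Modules.pullback _).mapIso
    ((Scheme.Modules.pullback (b ⁻¹ᵁ W).ι).mapIso eN.symm ≪≫ p ≪≫ c)).symm q h)

include hb in
/-- An inverse on the exceptional divisor over small affine opens. -/
theorem sub_div_inverse_local {U : P.affineOpens} {r : ℕ} {f : Fin (r + 1) → Γ(P, U.1)}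
    (hf : FVLib.NR f) (hI : Ideal.span (Set.range f) = 𝓘.ideal U) (W : P.Opens) (hW : IsAffineOpen W) (hWU : W ≤ U.1)
    {L : X.Modules} (hLi : PicF.IsInvertible L) (hL : CohB1.tensorMod L (ClSub.idealMod (𝓘.comap b)) ≅ Coh.structureModule X)
    (q : ℕ) (hq : 1 ≤ q ∨ 1 ≤ r) :
    Subsingleton (Coh.HHon X ((Coh.push (𝓘.comap b).subschemeι).obj (pb (𝓘.comap b).subschemeι L)) (b ⁻¹ᵁ W) q) := by
  obtain ⟨hb', he, a, hQR, ha⟩ := exists_affine_data hb hf hI W hW hWU
  haveI : IsAffine (W : Scheme.{u}) := hW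
  obtain ⟨e⟩ := nonempty_restrict_ideal hb (b ⁻¹ᵁ W)
  obtain ⟨t⟩ := BlowPtLib.nonempty_pb_tensor (b ⁻¹ᵁ W).ι L (ClSub.idealMod (𝓘.comap b))
  have hL' : CohB1.tensorMod (pb (b ⁻¹ᵁ W).ι L) (ClSub.idealMod ((𝓘.comap W.ι).comap (b ∣_ W))) ≅
      Coh.structureModule _ :=
    congrRight _ (eqToIso (congrArg ClSub.idealMod he) ≪≫ e.symm) ≪≫ t.symm ≪≫
      (Scheme.Modules.pullback (b ⁻¹ᵁ W).ι).mapIso hL ≪≫ KFlatLib.pullUnitIso _
  have h := sub_restrict_inverse hb' a ha hQR hL' q hq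
  rw [he] at h
  exact sub_pushpull _ _ hLi q h

end Loc

section Main

variable [IsLocallyNoetherian P] (hb : BlowUp.IsBlowUp b 𝓘) (hreg : LocReg 𝓘 1)

include hb hreg in
/-- Vanishing of higher direct images from vanishing over small affine opens. -/
theorem isZero_of_local (M : X.Modules) [Coh.IsQCoh M] (p : ℕ)
    (h : ∀ (U : P.affineOpens) (r : ℕ) (f : Fin (r + 1) → Γ(P, U.1)), FVLib.NR f →
      Ideal.span (Set.range f) = 𝓘.ideal U → ∀ W : P.Opens, IsAffineOpen W → W ≤ U.1 →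
        Subsingleton (Coh.HHon X M (b ⁻¹ᵁ W) p)) :
    IsZero ((Coh.RpushAb b p).obj (Coh.toAb M)) := by
  haveI := isProper_b hb
  refine RpushLib.isZero_rpushAb b M p fun y => ?_
  obtain ⟨U, hy, r, f, hr, hf, hI⟩ := hreg y
  obtain ⟨r, rfl⟩ : ∃ r', r = r' + 1 := ⟨r - 1, by omega⟩
  exact ⟨U.1, hy, fun W hW hWU => h U r f hf hI W hW hWU⟩

include hb hreg in
/-- **Higher direct images of the powers of the exceptional ideal vanish.** -/
theorem isZero_pow (n p : ℕ) (hp : 1 ≤ p) :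
    IsZero ((Coh.RpushAb b p).obj (Coh.toAb (CohB1.tensorPow (ClSub.idealMod (𝓘.comap b)) n))) := by
  haveI : Coh.IsQCoh (CohB1.tensorPow (ClSub.idealMod (𝓘.comap b)) n) :=
    FinLFAnn.isQCoh_of_isFinLocFree (AmpleDevLib.isFinLocFree_of_isInvertible
      (AmpleThLib.tensorPow_isInvertible (IntMultLib.isInvertible_idealMod _ hb.1) n))
  exact isZero_of_local hb hreg _ p fun U r f hf hI W hW hWU => sub_pow_local hb hf hI W hW hWU n p hp

include hb hreg in
/-- **Higher direct images of the twists of the exceptional divisor vanish.** -/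
theorem isZero_div_pow {N : X.Modules} (n : ℕ) (eN : CohB1.tensorPow (ClSub.idealMod (𝓘.comap b)) n ≅ N) (p : ℕ)
    (hp : 1 ≤ p) :
    IsZero ((Coh.RpushAb b p).obj (Coh.toAb
      ((Coh.push (𝓘.comap b).subschemeι).obj (pb (𝓘.comap b).subschemeι N)))) := by
  have hN : PicF.IsInvertible N := HilbPolyLib.isInvertible_of_iso eN
    (AmpleThLib.tensorPow_isInvertible (IntMultLib.isInvertible_idealMod _ hb.1) n)
  haveI : Coh.IsQCoh (pb (𝓘.comap b).subschemeι N) := FinLFAnn.isQCoh_of_isFinLocFree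
    (AmpleDevLib.isFinLocFree_of_isInvertible (AmpleDevLib.isInvertible_pb _ hN))
  haveI : Coh.IsQCoh ((Coh.push (𝓘.comap b).subschemeι).obj (pb (𝓘.comap b).subschemeι N)) :=
    QCohLib.isQCoh_pushforward _ _
  exact isZero_of_local hb hreg _ p fun U r f hf hI W hW hWU => sub_div_pow_local hb hf hI W hW hWU n eN p hp

include hb hreg in
/-- **Higher direct images of the negative twist of the exceptional divisor vanish.** -/
theorem isZero_div_inverse {L : X.Modules} (hLi : PicF.IsInvertible L)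
    (hL : CohB1.tensorMod L (ClSub.idealMod (𝓘.comap b)) ≅ Coh.structureModule X) (p : ℕ) (hp : 1 ≤ p) :
    IsZero ((Coh.RpushAb b p).obj (Coh.toAb
      ((Coh.push (𝓘.comap b).subschemeι).obj (pb (𝓘.comap b).subschemeι L)))) := by
  haveI : Coh.IsQCoh (pb (𝓘.comap b).subschemeι L) := FinLFAnn.isQCoh_of_isFinLocFree
    (AmpleDevLib.isFinLocFree_of_isInvertible (AmpleDevLib.isInvertible_pb _ hLi))
  haveI : Coh.IsQCoh ((Coh.push (𝓘.comap b).subschemeι).obj (pb (𝓘.comap b).subschemeι L)) :=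
    QCohLib.isQCoh_pushforward _ _
  exact isZero_of_local hb hreg _ p fun U r f hf hI W hW hWU =>
    sub_div_inverse_local hb hf hI W hW hWU hLi hL p (Or.inl hp)

/-- Small affine opens form a basis. -/
theorem isBasis_small (hreg : LocReg 𝓘 1) : Opens.IsBasis {W : P.Opens | IsAffineOpen W ∧
    ∃ (U : P.affineOpens) (r : ℕ) (f : Fin (r + 1) → Γ(P, U.1)), FVLib.NR f ∧
      Ideal.span (Set.range f) = 𝓘.ideal U ∧ W ≤ U.1} := by
  refine Opens.isBasis_iff_nbhd.2 fun {O x} hx => ?_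
  obtain ⟨U, hy, r, f, hr, hf, hI⟩ := hreg x
  obtain ⟨r, rfl⟩ : ∃ r', r = r' + 1 := ⟨r - 1, by omega⟩
  obtain ⟨W, hW, hxW, hWO⟩ := exists_isAffineOpen_mem_and_subset (x := x) (U := O ⊓ U.1) ⟨hx, hy⟩
  exact ⟨W, ⟨hW, U, r, f, hf, hI, fun z hz => (hWO hz).2⟩, hxW, fun z hz => (hWO hz).1⟩

include hb hreg in
/-- **The functions are pushed forward to the functions.** -/
theorem isIso_unitToPush : IsIso (ClSub.unitToPush b) := by
  refine RpushLib.isIso_of_bijective_basis _ (isBasis_small hreg) fun W ⟨hW, U, r, f, hf, hI, hWU⟩ => ?_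
  obtain ⟨g, hg, hgI⟩ := exists_local hf hI (𝟙 P) ⟨W, hW⟩ (show W ≤ (𝟙 P : P ⟶ P) ⁻¹ᵁ U.1 from hWU)
  obtain ⟨u, v, hu, huI, hcase⟩ := exists_pair (Nat.succ_pos r) hg hgI
  rw [Scheme.IdealSheafData.comap_id] at huI hcase
  exact bijective_app hb ⟨W, hW⟩ hu huI hcase

include hb hreg in
/-- **Units of locally free modules are isomorphisms.** -/
theorem isIso_unit {E : P.Modules} (hE : FlatMod.IsFinLocFree E) :
    IsIso ((Scheme.Modules.pullbackPushforwardAdjunction b).unit.app E) := by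
  haveI := isIso_unitToPush hb hreg
  exact CohCmpLib.isIso_unit_of_unitToPush b hE

include hb hreg in
/-- **Higher direct images of pullbacks of locally free modules vanish.** -/
theorem isZero_pullback {E : P.Modules} (hE : FlatMod.IsFinLocFree E) (p : ℕ) (hp : 1 ≤ p) :
    IsZero ((Coh.RpushAb b p).obj (Coh.toAb ((Scheme.Modules.pullback b).obj E))) := by
  haveI := isProper_b hb
  haveI : Coh.IsQCoh ((Scheme.Modules.pullback b).obj E) :=
    FinLFAnn.isQCoh_of_isFinLocFree (KFlatLib.isFinLocFree_pull b hE)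
  refine RpushLib.isZero_rpushAb b _ p fun y => ?_
  obtain ⟨V, n, hyV, ⟨t⟩⟩ := hE y
  obtain ⟨U, hy, r, f, hr, hf, hI⟩ := hreg y
  obtain ⟨r, rfl⟩ : ∃ r', r = r' + 1 := ⟨r - 1, by omega⟩
  refine ⟨U.1 ⊓ V, ⟨hy, hyV⟩, fun W hW hWUV => ?_⟩
  have h0 := sub_pow_local hb hf hI W hW (hWUV.trans inf_le_left) 0 p hp
  let O := b ⁻¹ᵁ W
  have h1 : Subsingleton (Coh.HH (O : Scheme.{u}) (Coh.structureModule (O : Scheme.{u})) p) :=
    HdgLefLib.sub_iso ((Scheme.Modules.restrictFunctorIsoPullback O.ι).app _ ≪≫ KFlatLib.pullUnitIso O.ι) p h0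
  have hWV : W ≤ V := hWUV.trans inf_le_right
  let t' : pb W.ι E ≅ FlatMod.freeMod (W : Scheme.{u}) n :=
    (Scheme.Modules.pullbackCongr (P.homOfLE_ι hWV).symm).app E ≪≫ ((Scheme.Modules.pullbackComp _ _).app E).symm ≪≫
      (Scheme.Modules.pullback (P.homOfLE hWV)).mapIso (((Scheme.Modules.restrictFunctorIsoPullback V.ι).app E).symm ≪≫ t) ≪≫
      KFlatLib.pullFreeIso _ n
  let s : ((Scheme.Modules.pullback b).obj E).restrict O.ι ≅ FlatMod.freeMod (O : Scheme.{u}) n :=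
    (Scheme.Modules.restrictFunctorIsoPullback O.ι).app _ ≪≫ (Scheme.Modules.pullbackComp O.ι b).app E ≪≫
      (Scheme.Modules.pullbackCongr (morphismRestrict_ι b W).symm).app E ≪≫
      ((Scheme.Modules.pullbackComp _ _).app E).symm ≪≫ (Scheme.Modules.pullback (b ∣_ W)).mapIso t' ≪≫
      KFlatLib.pullFreeIso _ n
  exact HdgLefLib.sub_iso s.symm p (PicH1Lib.subsingleton_HH_free p h1 n)

include hb in
/-- **An inverse of the exceptional ideal is pushed forward to the functions.** -/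
theorem nonempty_push_inverse (hreg : LocReg 𝓘 2) {L : X.Modules} (hLi : PicF.IsInvertible L)
    (hL : CohB1.tensorMod L (ClSub.idealMod (𝓘.comap b)) ≅ Coh.structureModule X) :
    Nonempty ((Scheme.Modules.pushforward b).obj L ≅ Coh.structureModule P) := by
  have hreg1 : LocReg 𝓘 1 := fun y => by
    obtain ⟨U, hy, r, f, hr, hf, hI⟩ := hreg y
    exact ⟨U, hy, r, f, by omega, hf, hI⟩
  haveI := isIso_unitToPush hb hreg1
  obtain ⟨T, hT, ⟨e₁⟩, ⟨e₂⟩, ⟨e₃⟩⟩ := HdgLefLib.exists_restrict_seq (𝓘.comap b)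
    (AmpleDevLib.isFinLocFree_of_isInvertible hLi)
  haveI := hT.mono_f
  have hB : Opens.IsBasis {W : P.Opens | IsAffineOpen W ∧
      ∃ (U : P.affineOpens) (r : ℕ) (f : Fin (r + 1 + 1) → Γ(P, U.1)), FVLib.NR f ∧
        Ideal.span (Set.range f) = 𝓘.ideal U ∧ W ≤ U.1} := by
    refine Opens.isBasis_iff_nbhd.2 fun {O x} hx => ?_
    obtain ⟨U, hy, r, f, hr, hf, hI⟩ := hreg x
    obtain ⟨r, rfl⟩ : ∃ r', r = r' + 1 + 1 := ⟨r - 2, by omega⟩
    obtain ⟨W, hW, hxW, hWO⟩ := exists_isAffineOpen_mem_and_subset (x := x) (U := O ⊓ U.1) ⟨hx, hy⟩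
    exact ⟨W, ⟨hW, U, r, f, hf, hI, fun z hz => (hWO hz).2⟩, hxW, fun z hz => (hWO hz).1⟩
  haveI : IsIso ((Scheme.Modules.pushforward b).map T.f) :=
    RpushLib.isIso_of_bijective_basis _ hB fun W ⟨hW, U, r, f, hf, hI, hWU⟩ => by
      let O := b ⁻¹ᵁ W
      have h3 : Subsingleton Γ(T.X₃, O) := by
        have h0 := HdgLefLib.sub_iso ((Scheme.Modules.restrictFunctor O.ι).mapIso e₃).symm 0
          (sub_div_inverse_local hb hf hI W hW hWU hLi hL 0 (Or.inr (by omega)))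
        have h1 : Subsingleton Γ(T.X₃.restrict O.ι, ⊤) :=
          @Equiv.subsingleton _ _
            ((QCohLib.hEquiv ((QCohLib.toAbF _).obj (T.X₃.restrict O.ι)) 0).trans QCohLib.h0).toEquiv.symm h0
        have h2 : Subsingleton Γ(T.X₃, O.ι ''ᵁ ⊤) := h1
        exact ⟨fun x y => by
          have hbij := ConcreteCategory.bijective_of_isIso
            (T.X₃.presheaf.map (eqToHom O.ι_image_top).op)
          exact hbij.1 (h2.elim _ _)⟩
      refine ⟨fun x y h => ?_, fun y => ?_⟩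
      · exact QCohLib.app_injective_of_mono T.f O h
      · exact QCohLib.exists_of_app_eq_zero hT.exact hT.mono_f (U := O) y (h3.elim _ _)
  exact ⟨((asIso (ClSub.unitToPush b)) ≪≫ (Scheme.Modules.pushforward b).mapIso (e₁ ≪≫ hL).symm ≪≫
    asIso ((Scheme.Modules.pushforward b).map T.f) ≪≫ (Scheme.Modules.pushforward b).mapIso e₂).symm⟩

end Main

end BlowRegLib
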