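import Groth.Agent.BlowRegLib.ExcField

/-!
# The exceptional divisor over a closed regular point
-/

set_option autoImplicit false
set_option linter.style.haveILetI false
set_option linter.unusedSectionVars false
set_option maxHeartbeats 1000000
set_option backward.isDefEq.respectTransparency false
set_option backward.isDefEq.respectTransparency.types false

universe u

open CategoryTheory CategoryTheory.Limits AlgebraicGeometry TopologicalSpace Opposite
open Groth.Agent.QReg16Lib (QR)
open KFlatLib (pb)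

noncomputable section

namespace BlowRegLib

variable {X X' : Scheme.{u}} {π : X' ⟶ X} [IsLocallyNoetherian X]

/-- **The exceptional divisor over a closed regular point is a projective space over its residue field.** -/
theorem exc_point (P : X) (hP : IsClosed ({P} : Set X)) [IsRegularLocalRing (X.presheaf.stalk P)] (m : ℕ)
    (hd : ringKrullDim (X.presheaf.stalk P) = ((m + 1 : ℕ) : WithBot ℕ∞))
    (hπ : BlowUp.IsBlowUp π (Scheme.IdealSheafData.vanishingIdeal ⟨{P}, hP⟩)) :
    ∃ φ : ((Scheme.IdealSheafData.vanishingIdeal ⟨{P}, hP⟩).comap π).subscheme ⟶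
        CohB1.ProjSpace m (X.residueField P), IsIso φ ∧
      φ ≫ CohB1.ProjSpace.toSpec m (X.residueField P) ≫ X.fromSpecResidueField P =
        ((Scheme.IdealSheafData.vanishingIdeal ⟨{P}, hP⟩).comap π).subschemeι ≫ π ∧
      Nonempty (pb φ (Twist.twistProjSpace m (X.residueField P) 1) ≅
        pb ((Scheme.IdealSheafData.vanishingIdeal ⟨{P}, hP⟩).comap π).subschemeι
          (ClSub.idealMod ((Scheme.IdealSheafData.vanishingIdeal ⟨{P}, hP⟩).comap π))) := by
  let 𝓙 := Scheme.IdealSheafData.vanishingIdeal (⟨{P}, hP⟩ : Closeds X)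
  let J := 𝓙.comap π
  obtain ⟨U, hPU, a, hnr, ha⟩ := exists_point_chart P hP (m + 1) hd
  obtain ⟨hb', he, a', hQR, ha'⟩ := exists_affine_data hπ hnr ha U.1 U.2 le_rfl
  let U' : Scheme.{u} := U.1
  haveI : IsAffine U' := U.2
  let O := π ⁻¹ᵁ U.1
  let b' := π ∣_ U.1
  obtain ⟨K, hK, φ, hφ, hφs, ⟨eφ⟩⟩ := exists_exceptional_str hb' a' ha' hQR
  haveI := hφ
  -- the residue ring
  let ev : Γ(U', ⊤) →+* X.residueField P := (X.evaluation U.1 P hPU).hom.comp U.1.topIso.hom.hom
  obtain ⟨hsur, hker⟩ := evaluation_surjective P hP hPU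
  have hevs : Function.Surjective ev := hsur.comp (ConcreteCategory.bijective_of_isIso U.1.topIso.hom).2
  have hKev : K = RingHom.ker ev := by
    rw [hK]
    ext x
    rw [Groth.Agent.S4666.ideal_comap_eq 𝓙 U.1.ι U ⟨⊤, isAffineOpen_top _⟩ (fun z _ => z.2),
      RingHom.mem_ker, show ev x = X.evaluation U.1 P hPU (U.1.topIso.hom x) from rfl]
    have hiso : (U.1.ι.appLE U.1 ⊤ fun z _ => z.2) = U.1.topIso.inv := by
      simp [Scheme.Hom.appLE, Scheme.Opens.topIso, ← Functor.map_comp]
      rfl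
    rw [hiso, ← hker, show RingHom.ker (X.evaluation U.1 P hPU).hom = Ideal.comap (X.evaluation U.1 P hPU).hom ⊥ from rfl]
    refine ⟨fun h => ?_, fun h => ?_⟩
    · obtain ⟨y, hy, rfl⟩ := (Ideal.mem_map_iff_of_surjective _ (ConcreteCategory.bijective_of_isIso U.1.topIso.inv).2).1 h
      show X.evaluation U.1 P hPU (U.1.topIso.hom (U.1.topIso.inv y)) = 0
      rw [Iso.inv_hom_id_apply]
      exact Ideal.mem_bot.1 hy
    · refine (Ideal.mem_map_iff_of_surjective _ (ConcreteCategory.bijective_of_isIso U.1.topIso.inv).2).2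
        ⟨U.1.topIso.hom x, Ideal.mem_bot.2 h, ?_⟩
      exact Iso.hom_inv_id_apply _ _
  let R := Γ(U', ⊤) ⧸ K
  let e₀ : R ≃+* X.residueField P :=
    (Ideal.quotEquivOfEq hKev).trans (RingHom.quotientKerEquivOfSurjective hevs)
  let J' := J.comap O.ι
  have hJ' : (𝓙.comap U.1.ι).comap b' = J' := he
  let φ' : J'.subscheme ⟶ CohB1.ProjSpace m R := eqToHom (by rw [hJ']) ≫ φ
  have hι : ∀ {A B : (O : Scheme.{u}).IdealSheafData} (h : A = B),
      eqToHom (congrArg Scheme.IdealSheafData.subscheme h) ≫ B.subschemeι = A.subschemeι := fun h => by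
    cases h; simp
  have hrange : Set.range J.subschemeι ⊆ Set.range O.ι := by
    rw [Scheme.Opens.range_ι, Scheme.IdealSheafData.range_subschemeι]
    intro z hz
    have h' : π z ∈ 𝓙.support := (Scheme.IdealSheafData.support_comap 𝓙 π).le hz
    rw [← SetLike.mem_coe, Scheme.IdealSheafData.coe_support_vanishingIdeal] at h'
    show π z ∈ U.1
    rw [show π z = P from h']
    exact hPU
  haveI : Surjective (pullback.snd O.ι J.subschemeι) := ⟨fun z => by
    have h1 : z ∈ Set.range (pullback.snd O.ι J.subschemeι) := by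
      rw [Scheme.Pullback.range_snd]
      exact hrange ⟨z, rfl⟩
    exact h1⟩
  haveI : IsIso (pullback.snd O.ι J.subschemeι) :=
    (isIso_iff_isOpenImmersion_and_surjective _).2 ⟨inferInstance, inferInstance⟩
  let ψ : J.subscheme ⟶ J'.subscheme := inv (pullback.snd O.ι J.subschemeι) ≫ (J.comapIso O.ι).inv
  have hψ : ψ ≫ J'.subschemeι ≫ O.ι = J.subschemeι := by
    have h1 : J'.subschemeι = (J.comapIso O.ι).hom ≫ pullback.fst O.ι J.subschemeι :=
      (Scheme.IdealSheafData.comapIso_hom_fst J O.ι).symm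
    rw [h1]
    simp [ψ, pullback.condition]
  obtain ⟨j, hj, hjt⟩ := exists_map_rings e₀.symm.toRingHom m
  haveI : IsIso (Spec.map (CommRingCat.ofHom e₀.symm.toRingHom)) := by
    haveI : IsIso (CommRingCat.ofHom e₀.symm.toRingHom) :=
      (ConcreteCategory.isIso_iff_bijective _).2 e₀.symm.bijective
    infer_instance
  haveI : IsIso j := hj.isIso_fst_of_isIso
  haveI : IsIso φ' := inferInstance
  haveI : IsIso ψ := inferInstance
  obtain ⟨t1⟩ := hjt 1
  refine ⟨ψ ≫ φ' ≫ j, inferInstance, ?_, ?_⟩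
  · have hev : X.evaluation U.1 P hPU ≫ CommRingCat.ofHom e₀.symm.toRingHom =
        U.1.topIso.inv ≫ CommRingCat.ofHom (Ideal.Quotient.mk K) := by
      ext x
      refine e₀.injective ?_
      show e₀ (e₀.symm _) = e₀ (Ideal.Quotient.mk K (U.1.topIso.inv x))
      rw [e₀.apply_symm_apply]
      show _ = ev (U.1.topIso.inv x)
      exact congrArg (X.evaluation U.1 P hPU).hom (Iso.inv_hom_id_apply U.1.topIso x).symm
    have hsp : Spec.map (CommRingCat.ofHom e₀.symm.toRingHom) ≫ X.fromSpecResidueField P =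
        Spec.map (CommRingCat.ofHom (Ideal.Quotient.mk K)) ≫ Spec.map U.1.topIso.inv ≫ U.2.fromSpec := by
      rw [Scheme.fromSpecResidueField, ← U.2.fromSpecStalk_eq_fromSpecStalk hPU, IsAffineOpen.fromSpecStalk]
      simp only [← Spec.map_comp_assoc]
      rw [← hev]
      rfl
    simp only [Category.assoc]
    rw [← Category.assoc j, hj.w]
    simp only [Category.assoc]
    rw [hsp]
    have h1 := congrArg (· ≫ Spec.map U.1.topIso.inv ≫ U.2.fromSpec) hφs
    simp only [Category.assoc] at h1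
    simp only [φ', Category.assoc]
    rw [h1, ← Category.assoc (eqToHom _) _ _, hι hJ'.symm]
    have hU : U'.toSpecΓ ≫ Spec.map U.1.topIso.inv ≫ U.2.fromSpec = U.1.ι := by
      rw [← Category.assoc]
      exact U.2.isoSpec_hom_fromSpec
    rw [hU, ← reassoc_of% hψ]
    simp [b', morphismRestrict_ι]
    rfl
  · obtain ⟨r⟩ := nonempty_restrict_ideal hπ O
    refine ⟨?_⟩
    refine ((Scheme.Modules.pullbackComp ψ (φ' ≫ j)).app _).symm ≪≫ ?_ ≪≫
      (Scheme.Modules.pullbackComp ψ (J'.subschemeι ≫ O.ι)).app _ ≪≫ (Scheme.Modules.pullbackCongr hψ).app _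
    refine (Scheme.Modules.pullback ψ).mapIso ?_
    refine ((Scheme.Modules.pullbackComp φ' j).app _).symm ≪≫ (Scheme.Modules.pullback φ').mapIso t1 ≪≫ ?_ ≪≫
      (Scheme.Modules.pullback J'.subschemeι).mapIso r.symm ≪≫ (Scheme.Modules.pullbackComp J'.subschemeι O.ι).app _
    refine ((Scheme.Modules.pullbackComp _ φ).app _).symm ≪≫ (Scheme.Modules.pullback _).mapIso eφ ≪≫ ?_
    have aux : ∀ {A B : (O : Scheme.{u}).IdealSheafData} (h : A = B), pb A.subschemeι (ClSub.idealMod A) ≅
        pb (eqToHom (congrArg Scheme.IdealSheafData.subscheme h)) (pb B.subschemeι (ClSub.idealMod B)) := fun h => by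
      cases h; exact ((Scheme.Modules.pullbackId _).app _).symm
    exact (aux hJ'.symm).symm

end BlowRegLib
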