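import Groth.Agent.BlowRegLib.Global
import Groth.Agent.CommAlgDim.CM
import Groth.Agent.AmpleAffLib.Coprod
import Groth.Agent.HodgePnLib.Vanish
import Groth.Agent.S1623
import Groth.Prelude.Def_Curv2

/-!
# Blow-ups of regular local rings of dimension two in the maximal ideal
-/

set_option autoImplicit false
set_option linter.style.haveILetI false
set_option maxHeartbeats 1000000
set_option backward.isDefEq.respectTransparency false
set_option backward.isDefEq.respectTransparency.types false

universe u

open CategoryTheory CategoryTheory.Limits AlgebraicGeometry TopologicalSpace Opposite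

noncomputable section

namespace BlowRegLib

/-- A globally generated quasi-coherent module on the blow-up of a regular local surface germ has no `H¹`. -/
theorem sub_H1_of_generated {A : Type u} [CommRing A] [IsRegularLocalRing A] (hA : ringKrullDim A = 2)
    {X : Scheme.{u}} {b : X ⟶ Spec (CommRingCat.of A)}
    (hb : BlowUp.IsBlowUp b (BlowUpLib.specIdeal (IsLocalRing.maximalIdeal A)))
    (F : X.Modules) [Coh.IsQCoh F] {σ : Type u} (p : (SheafOfModules.free σ : X.Modules) ⟶ F) [Epi p] :
    Subsingleton (Coh.HH X F 1) := by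
  classical
  obtain ⟨s, hs, hspan⟩ := Submodule.FG.exists_span_finset_card_eq_spanFinrank
    (IsNoetherian.noetherian (IsLocalRing.maximalIdeal A))
  have hc : s.card = 2 := by
    have h := IsRegularLocalRing.spanFinrank_maximalIdeal (R := A)
    rw [hA] at h
    rw [hs]
    exact_mod_cast h
  obtain ⟨a₁, a₂, -, rfl⟩ := Finset.card_eq_two.1 hc
  have hI : Ideal.span {a₁, a₂} = IsLocalRing.maximalIdeal A := by simpa using hspan
  have hof : Ideal.ofList [a₁, a₂] = IsLocalRing.maximalIdeal A := by
    rw [← hI, Ideal.ofList]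
    exact congrArg Ideal.span (Set.ext fun x => by simp)
  have hrs : RingTheory.Sequence.IsRegular A [a₁, a₂] := by
    refine CommAlgDim.isRegular_of_dim (CommAlgDim.isCM_of_isRegularLocalRing A) (fun r hr => hof ▸ Ideal.subset_span hr) ?_
    letI := Ideal.Quotient.field (IsLocalRing.maximalIdeal A)
    rw [ringKrullDim_eq_of_ringEquiv (Ideal.quotEquivOfEq hof), ringKrullDim_eq_zero_of_field, hA]
    simp
  let ψ := (Scheme.ΓSpecIso (CommRingCat.of A)).inv.hom
  have hψ : ψ.Flat := RingHom.Flat.of_bijective
    ((ConcreteCategory.isIso_iff_bijective (Scheme.ΓSpecIso (CommRingCat.of A)).inv).1 inferInstance)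
  have hnr : FVLib.NR (fun i => ψ ([a₁, a₂].get i)) :=
    nr_map ψ hψ ((FVLib.nr_iff _).2 (by rw [List.ofFn_get]; exact hrs.toIsWeaklyRegular))
  obtain ⟨hQR, hspan'⟩ := qr_rev hnr
  have ha : Ideal.span (Set.range fun i : Fin (1 + 1) => ψ ([a₁, a₂].get (Fin.rev i))) =
      (BlowUpLib.specIdeal (IsLocalRing.maximalIdeal A)).ideal ⟨⊤, isAffineOpen_top _⟩ := by
    rw [BlowUpLib.specIdeal_top, ← hof, Ideal.ofList, Ideal.map_span]
    refine hspan'.trans (congrArg Ideal.span ?_)
    rw [show {x | x ∈ [a₁, a₂]} = Set.range [a₁, a₂].get from Set.ext fun x => by simp [List.mem_iff_get], ← Set.range_comp]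
    rfl
  haveI : IsNoetherian (Spec (CommRingCat.of A)) := inferInstance
  haveI : IsProper b := BlowUpLib.isProper_of_isBlowUp hb fun U => by
    haveI := IsLocallyNoetherian.component_noetherian U
    exact IsNoetherian.noetherian _
  haveI : CompactSpace X := QuasiCompact.compactSpace_of_compactSpace b
  haveI : X.IsSeparated := ⟨by
    rw [terminal.hom_ext (terminal.from X) (b ≫ terminal.from _)]
    infer_instance⟩
  have h₂ : Subsingleton (Coh.HH X (Coh.structureModule X) 1) := sub_pow hb _ ha hQR 0 1 le_rfl
  haveI hO : Coh.IsQCoh (Coh.structureModule X) :=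
    FinLFAnn.isQCoh_of_isFinLocFree (AmpleDevLib.isFinLocFree_of_isInvertible CurvLib.isInvertible_structureModule)
  haveI hfree : Coh.IsQCoh (SheafOfModules.free σ : X.Modules) :=
    QCohLib.isQCoh_sigma (fun _ : σ => Coh.structureModule X) (fun _ => hO)
  have hfree1 : Subsingleton (Coh.HH X (SheafOfModules.free σ : X.Modules) 1) :=
    AmpleAffLib.subsingleton_HH_sigma (F := fun _ : σ => Coh.structureModule X) (fun _ => hO) (fun _ => h₂)
  haveI := QCohLib.isQCoh_kernel p
  let T := ShortComplex.mk (kernel.ι p) p (kernel.condition p)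
  have hT : T.ShortExact :=
    { exact := ShortComplex.exact_of_f_is_kernel _ (kernelIsKernel p) }
  exact HodgePnLib.sub₃ (S := T) hT hfree1
    (Groth.Agent.S1623.subsingleton_of_two _ a₁ a₂ hI b hb (kernel p) 0)

end BlowRegLib
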