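import Groth.Prelude.Def_ModelsG
import Mathlib.RingTheory.IntegralClosure.GoingDown
import Mathlib.RingTheory.LocalProperties.IntegrallyClosed
import Mathlib.AlgebraicGeometry.Morphisms.Finite

/-!
Going down for finite surjective morphisms onto normal schemes; fibre components.
-/

set_option autoImplicit false
set_option linter.style.haveILetI false

noncomputable section

universe u

open CategoryTheory AlgebraicGeometry TopologicalSpace

namespace BlowRegLib

theorem isIntegrallyClosed_affine {S : Scheme.{u}} [IsIntegral S]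
    (hnorm : ∀ x : S, IsIntegrallyClosed (S.presheaf.stalk x)) {U : S.Opens}
    (hU : IsAffineOpen U) [Nonempty U] : IsIntegrallyClosed Γ(S, U) := by
  refine IsIntegrallyClosed.of_localization_maximal fun p _ hpm => ?_
  let x : U := ⟨hU.fromSpec ⟨p, inferInstance⟩, SetLike.mem_coe.1 (hU.range_fromSpec.subset (Set.mem_range_self _))⟩
  have hx : hU.primeIdealOf x = ⟨p, inferInstance⟩ := hU.fromSpec.isOpenEmbedding.injective (hU.fromSpec_primeIdealOf x)
  letI := TopCat.Presheaf.algebra_section_stalk S.presheaf x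
  have h0 := hU.isLocalization_stalk x
  rw [hx] at h0
  haveI : IsLocalization.AtPrime (S.presheaf.stalk x.1) p := h0
  haveI := hnorm x.1
  exact IsIntegrallyClosed.of_equiv
    ((IsLocalization.algEquiv p.primeCompl (S.presheaf.stalk x.1) (Localization.AtPrime p)).toRingEquiv)

/-- Generalizations lift along finite surjective morphisms from integral to normal integral schemes. -/
theorem generalizingMap_of_finite {X Y : Scheme.{u}} [IsIntegral X] [IsIntegral Y] (f : X ⟶ Y) [IsFinite f]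
    [Surjective f] (hnorm : ∀ y : Y, IsIntegrallyClosed (Y.presheaf.stalk y)) : GeneralizingMap f := by
  intro x ζ hζ
  obtain ⟨V, hV', hyV, -⟩ := Opens.isBasis_iff_nbhd.mp Y.isBasis_affineOpens (show f x ∈ (⊤ : Y.Opens) from trivial)
  have hV : IsAffineOpen V := hV'
  have hζV : ζ ∈ V := hζ.mem_open V.2 hyV
  have hW : IsAffineOpen (f ⁻¹ᵁ V) := hV.preimage f
  haveI : Nonempty V := ⟨⟨f x, hyV⟩⟩
  haveI : Nonempty (f ⁻¹ᵁ V) := ⟨⟨x, hyV⟩⟩
  haveI := isIntegrallyClosed_affine hnorm hV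
  let φ := (f.app V).hom
  letI := φ.toAlgebra
  haveI : Algebra.IsIntegral Γ(Y, V) Γ(X, f ⁻¹ᵁ V) := ⟨fun b => (IsFinite.finite_app (f := f) V hV).to_isIntegral b⟩
  haveI : FaithfulSMul Γ(Y, V) Γ(X, f ⁻¹ᵁ V) := (faithfulSMul_iff_algebraMap_injective _ _).2
    ((injective_iff_map_eq_zero φ).2 fun a ha => eq_zero_of_basicOpen_eq_bot a (eq_bot_iff.2 fun t ht => by
      obtain ⟨s, rfl⟩ := f.surjective t
      have h1 : s ∈ f ⁻¹ᵁ (Y.basicOpen a) := ht
      rw [Scheme.preimage_basicOpen, show f.app V a = 0 from ha, Scheme.basicOpen_zero] at h1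
      exact h1.elim))
  let Q := hW.primeIdealOf ⟨x, hyV⟩
  let q := hV.primeIdealOf ⟨f x, hyV⟩
  let p := hV.primeIdealOf ⟨ζ, hζV⟩
  have hcomm : ∀ P : Spec Γ(X, f ⁻¹ᵁ V), f (hW.fromSpec P) = hV.fromSpec (Spec.map (f.app V) P) := fun P => by
    have h := hV.SpecMap_appLE_fromSpec f hW le_rfl
    rw [← f.app_eq_appLE] at h
    exact (congrArg (fun g : Spec Γ(X, f ⁻¹ᵁ V) ⟶ Y => g P) h).symm
  have hQ : Spec.map (f.app V) Q = q := hV.fromSpec.isOpenEmbedding.injective (by
    refine (hcomm _).symm.trans ?_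
    exact (congrArg f (hW.fromSpec_primeIdealOf _)).trans (hV.fromSpec_primeIdealOf ⟨f x, hyV⟩).symm)
  have hpq : p ⤳ q := hV.fromSpec.isOpenEmbedding.isInducing.specializes_iff.1 (by
    rw [hV.fromSpec_primeIdealOf, hV.fromSpec_primeIdealOf]; exact hζ)
  haveI : Q.asIdeal.LiesOver q.asIdeal := ⟨(congrArg PrimeSpectrum.asIdeal hQ).symm⟩
  obtain ⟨P, hPQ, hP, hPp⟩ := Ideal.exists_ideal_le_liesOver_of_le (p := p.asIdeal) (q := q.asIdeal) Q.asIdeal
    ((PrimeSpectrum.le_iff_specializes p q).2 hpq)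
  refine ⟨hW.fromSpec ⟨P, hP⟩, ?_, ?_⟩
  · have h2 := ((PrimeSpectrum.le_iff_specializes (⟨P, hP⟩ : PrimeSpectrum Γ(X, f ⁻¹ᵁ V)) Q).1 hPQ).map hW.fromSpec.continuous
    rwa [hW.fromSpec_primeIdealOf] at h2
  · exact ((hcomm _).trans (congrArg hV.fromSpec (show Spec.map (f.app V) ⟨P, hP⟩ = p from PrimeSpectrum.ext hPp.over.symm))).trans (hV.fromSpec_primeIdealOf ⟨ζ, hζV⟩)

theorem isPreirreducible_of_image {α β : Type*} [TopologicalSpace α] [TopologicalSpace β] {f : α → β}
    (hf : Topology.IsInducing f) {S : Set α} (h : IsPreirreducible (f '' S)) : IsPreirreducible S := by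
  intro u v hu hv ⟨x, hxS, hxu⟩ ⟨y, hyS, hyv⟩
  obtain ⟨U, hU, rfl⟩ := hf.isOpen_iff.1 hu
  obtain ⟨V, hV, rfl⟩ := hf.isOpen_iff.1 hv
  obtain ⟨_, ⟨w, hw, rfl⟩, hwU, hwV⟩ := h U V hU hV ⟨f x, ⟨x, hxS, rfl⟩, hxu⟩ ⟨f y, ⟨y, hyS, rfl⟩, hyv⟩
  exact ⟨w, hw, hwU, hwV⟩

theorem card_components_le {R : Type u} [CommRing R] [IsDomain R] [IsDiscreteValuationRing R]
    (X Y : Over (Spec (CommRingCat.of R))) [IsIntegral X.left] [IsIntegral Y.left] [NoetherianSpace X.left]
    (f : X ⟶ Y) [IsFinite f.left] [Surjective f.left]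
    (hnor : ∀ q : Y.left, IsIntegrallyClosed (Y.left.presheaf.stalk q))
    (y : Y.left) (x : X.left) (hx : f.left.base x = y) :
    {Z : Set Y.left | Z ∈ Models.fibreComponents R Y ∧ y ∈ Z}.ncard ≤
      {Z : Set X.left | Z ∈ Models.fibreComponents R X ∧ x ∈ Z}.ncard := by
  have hfib : f.left.base ⁻¹' Models.specialFibreSet R Y = Models.specialFibreSet R X := by
    show f.left.base ⁻¹' (Y.hom.base ⁻¹' _) = X.hom.base ⁻¹' _
    rw [← Over.w f]
    rfl
  have hsF := Models.isClosed_specialFibreSet R X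
  haveI : NoetherianSpace (Models.specialFibreSet R X) := inferInstance
  have hfin : {Z : Set X.left | Z ∈ Models.fibreComponents R X ∧ x ∈ Z}.Finite := by
    refine Set.Finite.subset ?_ (fun Z hZ => hZ.1)
    refine Set.Finite.of_injOn (f := fun Z : Set X.left => (Subtype.val ⁻¹' Z : Set (Models.specialFibreSet R X)))
      (fun Z hZ => ?_) (fun Z hZ Z' hZ' h => ?_) (NoetherianSpace.finite_irreducibleComponents
        (α := Models.specialFibreSet R X))
    · refine ⟨⟨?_, isPreirreducible_of_image Topology.IsInducing.subtypeVal (by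
        rw [Subtype.image_preimage_coe, Set.inter_eq_right.2 hZ.1.2]; exact hZ.1.1.isPreirreducible)⟩, fun S hS hle x hx => ?_⟩
      · obtain ⟨x, hx⟩ := hZ.1.1.nonempty
        exact ⟨⟨x, hZ.1.2 hx⟩, hx⟩
      · exact hZ.2 ⟨hS.image _ continuous_subtype_val.continuousOn, Subtype.coe_image_subset _ _⟩
          (fun y hy => ⟨⟨y, hZ.1.2 hy⟩, hle hy, rfl⟩) ⟨x, hx, rfl⟩
    · have h2 := congrArg (fun S => Subtype.val '' S) h
      simp only [Subtype.image_preimage_coe, Set.inter_eq_right.2 hZ.1.2, Set.inter_eq_right.2 hZ'.1.2] at h2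
      exact h2
  refine le_trans (Set.ncard_le_ncard ?_ (hfin.image (f.left.base '' ·))) (Set.ncard_image_le hfin)
  rintro Z ⟨hZ, hyZ⟩
  have hZc : IsClosed Z := by
    have h := hZ.2 (y := closure Z) ⟨hZ.1.1.closure, closure_minimal hZ.1.2 (Models.isClosed_specialFibreSet R Y)⟩ subset_closure
    exact closure_subset_iff_isClosed.1 h
  let ζ := hZ.1.1.genericPoint
  have hζ : IsGenericPoint ζ Z := hZc.closure_eq ▸ hZ.1.1.isGenericPoint_genericPoint_closure
  obtain ⟨ξ, hξx, hξ⟩ := generalizingMap_of_finite f.left hnor (hx ▸ hζ.specializes hyZ : ζ ⤳ f.left.base x)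
  have hξF : ξ ∈ Models.specialFibreSet R X := hfib.le (show f.left.base ξ ∈ _ from hξ ▸ hZ.1.2 hζ.mem)
  let W : Set X.left := Subtype.val '' irreducibleComponent (⟨ξ, hξF⟩ : Models.specialFibreSet R X)
  have hWi : IsIrreducible W := isIrreducible_irreducibleComponent.image _ continuous_subtype_val.continuousOn
  have hWc : IsClosed W := hsF.isClosedEmbedding_subtypeVal.isClosedMap _ isClosed_irreducibleComponent
  have hWF : W ⊆ Models.specialFibreSet R X := Subtype.coe_image_subset _ _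
  have hξW : ξ ∈ W := ⟨_, mem_irreducibleComponent, rfl⟩
  refine ⟨W, ⟨⟨⟨hWi, hWF⟩, fun S hS hle t ht => ?_⟩, hξx.mem_closed hWc hξW⟩, ?_⟩
  · have hpre : IsPreirreducible ((Subtype.val : Models.specialFibreSet R X → X.left) ⁻¹' S) :=
      isPreirreducible_of_image Topology.IsInducing.subtypeVal (by
        rw [Subtype.image_preimage_coe, Set.inter_eq_right.2 hS.2]; exact hS.1.isPreirreducible)
    have hsub : irreducibleComponent (⟨ξ, hξF⟩ : Models.specialFibreSet R X) ⊆ Subtype.val ⁻¹' S :=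
      fun z hz => hle ⟨z, hz, rfl⟩
    exact ⟨⟨t, hS.2 ht⟩, (eq_irreducibleComponent hpre hsub).le ht, rfl⟩
  · have hc : IsClosed (f.left.base '' W) := f.left.isClosedMap _ hWc
    have h1 : Z ⊆ f.left.base '' W := by
      rw [← hζ.def]
      exact closure_minimal (Set.singleton_subset_iff.2 ⟨ξ, hξW, hξ⟩) hc
    exact Set.Subset.antisymm (hZ.2 ⟨hWi.image _ f.left.continuous.continuousOn,
      Set.image_subset_iff.2 fun t ht => hfib.ge (hWF ht)⟩ h1) h1

end BlowRegLib
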