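import Mathlib.AlgebraicGeometry.ResidueField
import Mathlib.AlgebraicGeometry.Limits
import Mathlib.AlgebraicGeometry.Morphisms.Etale
import Mathlib.AlgebraicGeometry.Morphisms.QuasiSeparated
import Mathlib.AlgebraicGeometry.Morphisms.FormallyUnramified
import Mathlib.RingTheory.Ideal.GoingUp
import Mathlib.RingTheory.Polynomial.ScaleRoots
import Mathlib.RingTheory.LocalRing.ResidueField.Ideal
import Mathlib.FieldTheory.IsAlgClosed.AlgebraicClosure
import Mathlib.RingTheory.IntegralClosure.IntegralRestrict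

/-!
# An affine surjective cover with algebraically closed residue fields, integral over the base
-/

set_option autoImplicit false
universe u

open CategoryTheory CategoryTheory.Limits AlgebraicGeometry Polynomial

noncomputable section

namespace BlowRegLib

/-- An integral ring extension with surjective spectrum in which every monic polynomial has a root. -/
theorem exists_absInt (A : Type u) [CommRing A] :
    ∃ (A' : Type u) (_ : CommRing A') (φ : A →+* A'), φ.IsIntegral ∧
      (∀ 𝔭 : PrimeSpectrum A, ∃ 𝔮 : PrimeSpectrum A', PrimeSpectrum.comap φ 𝔮 = 𝔭) ∧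
      ∀ p : A'[X], p.Monic → p.degree ≠ 0 → ∃ r, p.eval r = 0 := by
  let P := MvPolynomial A ℤ
  let π : P →+* A := MvPolynomial.eval₂Hom (Int.castRingHom A) id
  let s : A → P := MvPolynomial.X
  have hs : Function.RightInverse s π := fun a => MvPolynomial.eval₂Hom_X' _ _ a
  let L := AlgebraicClosure (FractionRing P)
  let P' := integralClosure P L
  let I : Ideal P' := (RingHom.ker π).map (algebraMap P P')
  let φ : A →+* P' ⧸ I := π.liftOfRightInverse s hs
    ⟨(Ideal.Quotient.mk I).comp (algebraMap P P'), fun z hz =>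
      Ideal.Quotient.eq_zero_iff_mem.2 (Ideal.mem_map_of_mem _ hz)⟩
  have hφ : φ.comp π = (Ideal.Quotient.mk I).comp (algebraMap P P') :=
    RingHom.liftOfRightInverse_comp π s hs _
  refine ⟨P' ⧸ I, inferInstance, φ, fun x => ?_, fun 𝔭 => ?_, fun p hp hdeg => ?_⟩
  · obtain ⟨y, rfl⟩ := Ideal.Quotient.mk_surjective x
    obtain ⟨q, hq, hq0⟩ := Algebra.IsIntegral.isIntegral (R := P) y
    refine ⟨q.map π, hq.map π, ?_⟩
    rw [Polynomial.eval₂_map, hφ, ← Polynomial.hom_eval₂, hq0, map_zero]
  · let P₀ : Ideal P := 𝔭.asIdeal.comap π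
    obtain ⟨Q, -, hQ, hQc⟩ := Ideal.exists_ideal_over_prime_of_isIntegral (S := P') P₀ ⊥ (by
      intro z hz
      have hinj : Function.Injective (algebraMap P L) := by
        rw [IsScalarTower.algebraMap_eq P (FractionRing P) L, RingHom.coe_comp]
        exact (algebraMap (FractionRing P) L).injective.comp (IsFractionRing.injective P (FractionRing P))
      have hz' : z = 0 := hinj (by
        rw [map_zero]; exact congrArg Subtype.val ((Submodule.mem_bot P').1 hz))
      rw [hz']; exact Ideal.zero_mem _)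
    have hIQ : I ≤ Q := Ideal.map_le_iff_le_comap.2 (by
      rw [hQc]; exact Ideal.comap_mono bot_le)
    haveI : (Q.map (Ideal.Quotient.mk I)).IsPrime :=
      Ideal.map_isPrime_of_surjective Ideal.Quotient.mk_surjective (by rwa [Ideal.mk_ker])
    refine ⟨⟨Q.map (Ideal.Quotient.mk I), inferInstance⟩, PrimeSpectrum.ext ?_⟩
    apply Ideal.comap_injective_of_surjective π hs.surjective
    change (Ideal.comap φ (Q.map (Ideal.Quotient.mk I))).comap π = P₀
    rw [Ideal.comap_comap, hφ, ← Ideal.comap_comap,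
      Ideal.comap_map_of_surjective' _ Ideal.Quotient.mk_surjective, Ideal.mk_ker,
      sup_eq_left.2 hIQ, hQc]
  · rcases subsingleton_or_nontrivial (P' ⧸ I) with _ | _
    · exact ⟨0, Subsingleton.elim _ _⟩
    obtain ⟨q, hqp, hqd, hqm⟩ := Polynomial.lifts_and_degree_eq_and_monic
      (Polynomial.map_surjective _ Ideal.Quotient.mk_surjective p) hp
    obtain ⟨x, hx⟩ := IsAlgClosed.exists_root (q.map (algebraMap P' L)) (by
      rw [hqm.degree_map, hqd]; exact hdeg)
    have hxi : IsIntegral P x := by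
      haveI : Algebra.IsIntegral P P' := inferInstance
      exact isIntegral_trans x ⟨q, hqm, by rwa [IsRoot, eval_map] at hx⟩
    refine ⟨Ideal.Quotient.mk I ⟨x, hxi⟩, ?_⟩
    rw [← hqp, eval_map, eval₂_at_apply]
    have h0 : q.eval (⟨x, hxi⟩ : P') = 0 := Subtype.ext (by
      rw [IsRoot, eval_map] at hx
      exact (Polynomial.eval₂_at_apply (algebraMap P' L) _).symm.trans hx)
    rw [h0, map_zero]

theorem isAlgClosed_residueField {A : Type u} [CommRing A]
    (h : ∀ p : A[X], p.Monic → p.degree ≠ 0 → ∃ r, p.eval r = 0) (𝔭 : Ideal A) [𝔭.IsPrime] :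
    IsAlgClosed 𝔭.ResidueField := by
  refine IsAlgClosed.of_exists_root _ fun p hp hirr => ?_
  classical
  obtain ⟨⟨d, hd⟩, hd'⟩ := IsLocalization.exist_integer_multiples (nonZeroDivisors (A ⧸ 𝔭))
    (p.support) (fun i => p.coeff i)
  let e : 𝔭.ResidueField := algebraMap (A ⧸ 𝔭) 𝔭.ResidueField d
  have he : e ≠ 0 := IsFractionRing.to_map_ne_zero_of_mem_nonZeroDivisors hd
  have hlift : p.scaleRoots e ∈ Polynomial.lifts (algebraMap A 𝔭.ResidueField) := by
    rw [Polynomial.lifts_iff_coeff_lifts]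
    intro i
    rw [IsScalarTower.algebraMap_eq A (A ⧸ 𝔭) 𝔭.ResidueField, RingHom.coe_comp,
      Set.range_comp, Ideal.Quotient.algebraMap_eq, Ideal.Quotient.mk_surjective.range_eq, Set.image_univ]
    rw [coeff_scaleRoots]
    rcases eq_or_ne (p.coeff i) 0 with h0 | h0
    · exact ⟨0, by rw [map_zero, h0, zero_mul]⟩
    · rcases eq_or_ne (p.natDegree - i) 0 with hi | hi
      · have hin : i = p.natDegree := le_antisymm (le_natDegree_of_ne_zero h0) (by omega)
        exact ⟨1, by rw [map_one, hi, pow_zero, mul_one, hin]; exact hp.symm⟩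
      · obtain ⟨m, hm⟩ := hd' i (mem_support_iff.2 h0)
        refine ⟨m * d ^ (p.natDegree - i - 1), ?_⟩
        rw [map_mul, map_pow, hm, Algebra.smul_def]
        conv_rhs => rw [show p.natDegree - i = (p.natDegree - i - 1) + 1 by omega, pow_succ']
        simp only [e]
        ring
  obtain ⟨q, hqp, hqd, hqm⟩ := Polynomial.lifts_and_degree_eq_and_monic hlift ((monic_scaleRoots_iff e).2 hp)
  obtain ⟨r, hr⟩ := h q hqm (by rw [hqd, degree_scaleRoots]; exact ne_of_gt (Polynomial.degree_pos_of_irreducible hirr))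
  refine ⟨algebraMap A 𝔭.ResidueField r / e, ?_⟩
  have h1 := congrArg (algebraMap A 𝔭.ResidueField) hr
  rw [map_zero, ← eval₂_at_apply, ← eval_map, hqp,
    show algebraMap A 𝔭.ResidueField r = e * (algebraMap A 𝔭.ResidueField r / e) by field_simp] at h1
  have h2 := scaleRoots_eval₂_mul (p := p) (RingHom.id _) (algebraMap A 𝔭.ResidueField r / e) e
  simp only [RingHom.id_apply, eval₂_id] at h2
  rw [h2] at h1
  exact (mul_eq_zero.1 h1).resolve_left (pow_ne_zero _ he)

theorem isIntegral_residueFieldMap_specMap {A A' : CommRingCat.{u}} (φ : A ⟶ A') (hφ : φ.hom.IsIntegral)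
    (x : Spec A') : ((Spec.map φ).residueFieldMap x).hom.IsIntegral := by
  letI := ((Spec.map φ).residueFieldMap x).hom.toAlgebra
  let v : A' ⟶ (Spec A').residueField x := (Scheme.ΓSpecIso A').inv ≫ (Spec A').Γevaluation x
  let w : A ⟶ (Spec A).residueField (Spec.map φ x) :=
    (Scheme.ΓSpecIso A).inv ≫ (Spec A).Γevaluation (Spec.map φ x)
  have hvw : w ≫ (Spec.map φ).residueFieldMap x = φ ≫ v := by
    simp only [v, w, Category.assoc, Scheme.Γevaluation_naturality]
    rw [← Category.assoc, ← Category.assoc, Scheme.ΓSpecIso_inv_naturality]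
  have hv : ∀ a, IsIntegral ((Spec A).residueField (Spec.map φ x)) (v.hom a) := fun a => by
    obtain ⟨p, hp, hp0⟩ := hφ a
    refine ⟨p.map w.hom, hp.map _, ?_⟩
    have hc : (algebraMap ((Spec A).residueField (Spec.map φ x)) ((Spec A').residueField x)).comp w.hom =
        v.hom.comp φ.hom := congrArg CommRingCat.Hom.hom hvw
    rw [Polynomial.eval₂_map, hc, ← Polynomial.hom_eval₂, hp0, map_zero]
  haveI : x.asIdeal.IsPrime := x.isPrime
  intro y
  obtain ⟨a, b, -, hab⟩ := IsFractionRing.div_surjective (A' ⧸ x.asIdeal) ((Scheme.Spec.residueFieldIso A' x).hom.hom y)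
  obtain ⟨a, rfl⟩ := Ideal.Quotient.mk_surjective a
  obtain ⟨b, rfl⟩ := Ideal.Quotient.mk_surjective b
  have key : ∀ c : A', (Scheme.Spec.residueFieldIso A' x).inv.hom
      (algebraMap (A' ⧸ x.asIdeal) x.asIdeal.ResidueField (Ideal.Quotient.mk _ c)) = v.hom c := fun c =>
    RingHom.congr_fun (congrArg CommRingCat.Hom.hom (Scheme.Spec.algebraMap_residueFieldIso_inv A' x)) c
  have hy := congrArg (Scheme.Spec.residueFieldIso A' x).inv.hom hab
  rw [map_div₀, key, key, Iso.hom_inv_id_apply] at hy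
  rw [← hy, div_eq_mul_inv]
  exact (hv a).mul (hv b).inv

theorem exists_algClosed_integral_cover (X : Scheme.{u}) [CompactSpace X] [QuasiSeparatedSpace X] :
    ∃ (X' : Scheme.{u}) (f : X' ⟶ X), IsAffine X' ∧ QuasiCompact f ∧ Surjective f ∧
      ∀ x' : X', IsAlgClosed (X'.residueField x') ∧ (f.residueFieldMap x').hom.IsIntegral := by
  let 𝒰 := X.affineCover.finiteSubcover
  haveI : ∀ i, IsAffine (𝒰.X i) := fun i => by dsimp [𝒰, Scheme.OpenCover.finiteSubcover]; infer_instance
  let U := ∐ 𝒰.X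
  haveI : IsAffine U := inferInstanceAs (IsAffine (∐ 𝒰.X))
  let u : U ⟶ X := Sigma.desc 𝒰.f
  haveI : IsZariskiLocalAtSource @Etale.{u} := HasRingHomProperty.instIsZariskiLocalAtSource (Q := RingHom.Etale)
  haveI : Etale u := IsZariskiLocalAtSource.sigmaDesc (P := @Etale.{u}) fun i => inferInstanceAs (Etale (𝒰.f i))
  let w : Spec Γ(U, ⊤) ⟶ X := U.isoSpec.inv ≫ u
  obtain ⟨A', _, φ, hint, hsurj, hroot⟩ := exists_absInt Γ(U, ⊤)
  let g : Spec (CommRingCat.of A') ⟶ Spec Γ(U, ⊤) := Spec.map (CommRingCat.ofHom φ)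
  refine ⟨Spec (CommRingCat.of A'), g ≫ w, inferInstance, inferInstance, ⟨fun x => ?_⟩, fun x' => ⟨?_, ?_⟩⟩
  · let i := 𝒰.idx x
    obtain ⟨y, hy⟩ := 𝒰.covers x
    obtain ⟨z, hz⟩ := U.isoSpec.inv.homeomorph.surjective (Sigma.ι 𝒰.X i y)
    obtain ⟨q, hq⟩ := hsurj z
    refine ⟨q, ?_⟩
    show u (U.isoSpec.inv (g q)) = x
    rw [show g q = z from hq]
    refine (congrArg u hz).trans ?_
    rw [← Scheme.Hom.comp_apply, Sigma.ι_desc]
    exact hy
  · haveI := isAlgClosed_residueField hroot (show PrimeSpectrum A' from x').asIdeal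
    exact IsAlgClosed.of_ringEquiv _ _ (Scheme.Spec.residueFieldIso (CommRingCat.of A') x').commRingCatIsoToRingEquiv.symm
  · rw [Scheme.residueFieldMap_comp]
    refine RingHom.IsIntegral.trans (w.residueFieldMap (g x')).hom (g.residueFieldMap x').hom ?_
      (isIntegral_residueFieldMap_specMap _ hint x')
    letI := (w.residueFieldMap (g x')).hom.toAlgebra
    haveI : Algebra.IsSeparable (X.residueField (w (g x'))) ((Spec Γ(U, ⊤)).residueField (g x')) := inferInstance
    exact fun y => Algebra.IsIntegral.isIntegral y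

end BlowRegLib
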