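import Mathlib.AlgebraicGeometry.Morphisms.Separated
import Mathlib.AlgebraicGeometry.Morphisms.ClosedImmersion
import Mathlib.CategoryTheory.Endomorphism
import Mathlib.AlgebraicGeometry.Properties

/-!
# Faithful actions of finite groups are almost free
-/

set_option autoImplicit false
set_option linter.style.haveILetI false
universe u

open CategoryTheory CategoryTheory.Limits AlgebraicGeometry TopologicalSpace

noncomputable section

namespace BlowRegLib

theorem exists_free_open {X : Scheme.{u}} [IsIntegral X] [X.IsSeparated] {G : Type u} [Group G] [Finite G]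
    (ρ : G →* Aut X) (hfaith : Function.Injective ρ) :
    ∃ U : X.Opens, (U : Set X).Nonempty ∧ (∀ g : G, (ρ g).hom ⁻¹ᵁ U = U) ∧
      ∀ (K : Type u) [Field K] (x : Spec (CommRingCat.of K) ⟶ X),
        Set.range x.base ⊆ (U : Set X) → ∀ g : G, x ≫ (ρ g).hom = x → g = 1 := by
  let F : G → Set X := fun g => Set.range (equalizer.ι (ρ g).hom (𝟙 X))
  have hF : ∀ g, IsClosed (F g) := fun g => (equalizer.ι (ρ g).hom (𝟙 X)).isClosedEmbedding.isClosed_range
  have hη : ∀ g, g ≠ 1 → genericPoint X ∉ F g := fun g hg hmem => by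
    haveI : Surjective (equalizer.ι (ρ g).hom (𝟙 X)) := ⟨Set.range_eq_univ.1 <| Set.eq_univ_of_univ_subset <| by
      rw [← (genericPoint_spec X)]
      exact closure_minimal (Set.singleton_subset_iff.2 hmem) (hF g)⟩
    haveI := isIso_of_isClosedImmersion_of_surjective (equalizer.ι (ρ g).hom (𝟙 X))
    have h1 : (ρ g).hom = 𝟙 X := (cancel_epi (equalizer.ι (ρ g).hom (𝟙 X))).1 (equalizer.condition _ _)
    exact hg (hfaith (by rw [map_one]; exact Iso.ext h1))
  let C : Set X := ⋃ a : G, ⋃ g : {g : G // g ≠ 1}, (ρ a).hom ⁻¹' F g.1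
  have hC : IsClosed C := isClosed_iUnion_of_finite fun a => isClosed_iUnion_of_finite fun g =>
    (hF g.1).preimage (ρ a).hom.continuous
  have hgen : ∀ a : G, (ρ a).hom (genericPoint X) = genericPoint X := fun a => by
    refine ((genericPoint_spec X).eq ?_).symm
    have h := (genericPoint_spec X).image (ρ a).hom.continuous
    have hs : Function.Surjective (ρ a).hom := fun y => ⟨(ρ a).inv y, by
      have h := congrArg (fun φ : X ⟶ X => φ y) (ρ a).inv_hom_id
      exact h⟩
    rwa [Set.image_univ, hs.range_eq, closure_univ] at h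
  refine ⟨⟨Cᶜ, hC.isOpen_compl⟩, ⟨genericPoint X, ?_⟩, fun b => ?_, fun K _ x hx g hg => ?_⟩
  · simp only [Opens.coe_mk, Set.mem_compl_iff, C, Set.mem_iUnion, Set.mem_preimage]
    rintro ⟨a, g, hmem⟩
    rw [hgen] at hmem
    exact hη g.1 g.2 hmem
  · refine Opens.ext ?_
    ext y
    change (ρ b).hom y ∉ C ↔ y ∉ C
    refine not_congr ?_
    simp only [C, Set.mem_iUnion, Set.mem_preimage]
    have hcomp : ∀ a c : G, ∀ z : X, (ρ a).hom ((ρ c).hom z) = (ρ (a * c)).hom z := fun a c z => by
      rw [map_mul]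
      rfl
    constructor
    · rintro ⟨a, g, h⟩
      exact ⟨a * b, g, by rwa [← hcomp]⟩
    · rintro ⟨a, g, h⟩
      exact ⟨a * b⁻¹, g, by rwa [hcomp, inv_mul_cancel_right]⟩
  · by_contra hne
    let p : Spec (CommRingCat.of K) := IsLocalRing.closedPoint K
    refine hx ⟨p, rfl⟩ ?_
    simp only [C, Set.mem_iUnion, Set.mem_preimage]
    refine ⟨1, ⟨g, hne⟩, ?_⟩
    have h1 : (ρ 1).hom (x p) = x p := by
      rw [map_one]
      rfl
    rw [h1]
    exact ⟨equalizer.lift x (by rw [hg, Category.comp_id]) p, by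
      rw [← Scheme.Hom.comp_apply, equalizer.lift_ι]⟩

end BlowRegLib
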