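import Groth.Agent.BlowRegLib.Trivial
import Groth.Agent.BlowRegLib.Counit
import Groth.Agent.NefH1Lib.Core
import Groth.Agent.MiscFlat6.CounitTwist
import Groth.Agent.QCohLib.Bound
import Groth.Agent.ExtShLib.Shriek
import Groth.Agent.AmpleThLib.Restr
import Groth.Agent.S10945

/-!
# Bundles on the blow-up of a point of an affine surface, through the exceptional line
-/

set_option autoImplicit false
set_option linter.style.haveILetI false
set_option linter.unusedSectionVars false
set_option maxHeartbeats 1000000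
set_option backward.isDefEq.respectTransparency false
set_option backward.isDefEq.respectTransparency.types false

universe u

open CategoryTheory CategoryTheory.Limits AlgebraicGeometry TopologicalSpace Opposite
open HilbPolyLib (congrLeft congrRight assocIso swapIso unitLeft)
open KFlatLib (pb)
open CohB1 (tensorMod tensorPow)
open Groth.Agent.QReg16Lib (QR)

noncomputable section

namespace BlowRegLib

/-- Two affine opens of a separated scheme bound the cohomology. -/
theorem van_of_two {X : Scheme.{u}} [X.IsSeparated] (W : Fin 2 → X.Opens) (hW : ∀ l, IsAffineOpen (W l))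
    (hcov : ⨆ l, W l = ⊤) (N : X.Modules) [Coh.IsQCoh N] (p : ℕ) (hp : 2 ≤ p) : Subsingleton (Coh.HH X N p) := by
  classical
  have key : ∀ s : Finset (Fin 2), s.Nonempty → IsAffineOpen (s.inf W) := by
    intro s hs
    induction hs using Finset.Nonempty.cons_induction with
    | singleton a => simpa using hW a
    | cons a s ha _ ih => rw [Finset.inf_cons]; exact (hW a).inf ih
  have e : (Finset.univ : Finset (Fin 2)).sup W = ⊤ := by rw [Finset.sup_univ_eq_iSup, hcov]
  have h := QCohLib.subsingleton_HU_finsetSup N Finset.univ W (fun s hs _ => key s hs) p (by simpa using hp)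
  rw [e] at h
  exact (QCohLib.subsingleton_H_iff ((QCohLib.toAbF X).obj N) p).mpr h

/-- Twisting a module without `H¹` by a globally generated one. -/
theorem h1_tensor_of_gg {X : Scheme.{u}} [CompactSpace X] [X.IsSeparated]
    (hvan : ∀ N : X.Modules, Coh.IsQCoh N → Subsingleton (Coh.HH X N 2)) {M L : X.Modules}
    (hM : Coh.IsQCoh M) (hM1 : Subsingleton (Coh.HH X M 1)) (hgg : Curv2.IsGloballyGenerated L)
    (hML : Coh.IsQCoh (CohB1.tensorMod M L)) :
    Subsingleton (Coh.HH X (CohB1.tensorMod M L) 1) := by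
  obtain ⟨ι, p₀, hp⟩ := hgg
  let p : NefH1Lib.freeM X ι ⟶ L := p₀
  haveI : Epi p := hp
  let T : X.Modules ⥤ X.Modules := (DCoh.tensorBi (X := X)).obj M
  haveI : PreservesColimitsOfSize.{u, u} T := ModSiteLib.preservesColimits_tensor X.sheaf M
  let e : T.obj (NefH1Lib.freeM X ι) ≅ ∐ fun _ : ι => T.obj (Coh.structureModule X) :=
    PreservesCoproduct.iso T fun _ : ι => Coh.structureModule X
  have hO : T.obj (Coh.structureModule X) ≅ M := KFlatLib.tensSwap (Coh.structureModule X) M ≪≫ KFlatLib.tensUnitIso M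
  haveI := hM
  haveI : Coh.IsQCoh (T.obj (Coh.structureModule X)) := QCohLib.isQCoh_of_iso hO.symm
  have hq : Coh.IsQCoh (∐ fun _ : ι => T.obj (Coh.structureModule X)) :=
    QCohLib.isQCoh_sigma _ fun _ => inferInstance
  exact NefH1Lib.h1_of_epi hvan hq hML (e.inv ≫ T.map p) (AmpleAffLib.subsingleton_HH_sigma (F := fun _ : ι => T.obj (Coh.structureModule X))
      (fun _ => inferInstance) fun _ => HdgLefLib.sub_iso hO.symm 1 hM1)

/-- Pullbacks keep global generation. -/
theorem gg_pullback {X Y : Scheme.{u}} (g : Y ⟶ X) {F : X.Modules} (h : Curv2.IsGloballyGenerated F) :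
    Curv2.IsGloballyGenerated (pb g F) := by
  refine MiscFlat6.isGloballyGenerated_of_cancel _ fun N q hq => ?_
  refine ((Scheme.Modules.pullbackPushforwardAdjunction g).homEquiv _ _).injective ?_
  refine (MiscFlat6.cancel_of_isGloballyGenerated h _ fun u => ?_).trans ?_
  · rw [Adjunction.homEquiv_unit]
    exact hq _
  · rw [Adjunction.homEquiv_unit, Functor.map_zero, comp_zero]

/-- Tensor products keep global generation. -/
theorem gg_tensor' {X : Scheme.{u}} {M L : X.Modules} (hM : Curv2.IsGloballyGenerated M)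
    (hL : Curv2.IsGloballyGenerated L) : Curv2.IsGloballyGenerated (CohB1.tensorMod M L) := by
  obtain ⟨ι, p₀, hp⟩ := hL
  let p : NefH1Lib.freeM X ι ⟶ L := p₀
  haveI : Epi p := hp
  let T : X.Modules ⥤ X.Modules := (DCoh.tensorBi (X := X)).obj M
  haveI : PreservesColimitsOfSize.{u, u} T := ModSiteLib.preservesColimits_tensor X.sheaf M
  let e : T.obj (NefH1Lib.freeM X ι) ≅ ∐ fun _ : ι => T.obj (Coh.structureModule X) :=
    PreservesCoproduct.iso T fun _ : ι => Coh.structureModule X
  have hO : T.obj (Coh.structureModule X) ≅ M := KFlatLib.tensSwap (Coh.structureModule X) M ≪≫ KFlatLib.tensUnitIso M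
  haveI : Epi (e.inv ≫ T.map p) := epi_comp _ _
  refine MiscFlat6.isGloballyGenerated_of_cancel _ fun N q hq => ?_
  refine (cancel_epi (e.inv ≫ T.map p)).mp (Limits.Sigma.hom_ext _ _ fun i => ?_)
  rw [comp_zero, comp_zero]
  let c := Sigma.ι (fun _ : ι => T.obj (Coh.structureModule X)) i ≫ e.inv ≫ T.map p
  have h : c ≫ q = 0 := MiscFlat6.cancel_of_isGloballyGenerated
    (MiscFlat6.isGloballyGenerated_of_iso hO.symm hM) _ fun u => hq (c.app ⊤ u)
  simpa [c, Category.assoc] using h

/-- Direct images along closed immersions keep global generation. -/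
theorem gg_push_closed {Z X : Scheme.{u}} (i : Z ⟶ X) [IsClosedImmersion i] {G : Z.Modules}
    (h : Curv2.IsGloballyGenerated G) : Curv2.IsGloballyGenerated ((Coh.push i).obj G) := by
  obtain ⟨ι, p₀, hp⟩ := h
  let p : NefH1Lib.freeM Z ι ⟶ G := p₀
  haveI : Epi p := hp
  let e : pb i (NefH1Lib.freeM X ι) ≅ NefH1Lib.freeM Z ι :=
    PreservesCoproduct.iso (Scheme.Modules.pullback i) (fun _ : ι => Coh.structureModule X) ≪≫
      Sigma.mapIso fun _ => KFlatLib.pullUnitIso i
  haveI := DefClassLib.epi_unit i (NefH1Lib.freeM X ι)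
  haveI := ExtShLib.preservesFiniteColimits_push' i
  haveI : Epi ((Scheme.Modules.pushforward i).map (e.hom ≫ p)) := inferInstance
  exact ⟨ι, (Scheme.Modules.pullbackPushforwardAdjunction i).unit.app (NefH1Lib.freeM X ι) ≫
    (Scheme.Modules.pushforward i).map (e.hom ≫ p), epi_comp _ _⟩

/-- On an affine base a globally generated module is a quotient of its relative sections. -/
theorem epi_counit_of_gg {X P : Scheme.{u}} (b : X ⟶ P) {F : X.Modules} (h : Curv2.IsGloballyGenerated F) :
    Epi ((Scheme.Modules.pullbackPushforwardAdjunction b).counit.app F) := by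
  refine Preadditive.epi_of_cancel_zero _ fun {N : X.Modules} (q : F ⟶ N) hq => ?_
  refine MiscFlat6.cancel_of_isGloballyGenerated h q fun u => ?_
  let adj := Scheme.Modules.pullbackPushforwardAdjunction b
  have h1 : (Scheme.Modules.pushforward b).map q = 0 := by
    calc (Scheme.Modules.pushforward b).map q
        = (adj.unit.app ((Scheme.Modules.pushforward b).obj F) ≫
            (Scheme.Modules.pushforward b).map (adj.counit.app F)) ≫ (Scheme.Modules.pushforward b).map q := by
          rw [adj.right_triangle_components]; exact (Category.id_comp _).symm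
      _ = 0 := by rw [Category.assoc, ← Functor.map_comp, hq, Functor.map_zero, comp_zero]
  exact congr(Scheme.Modules.Hom.app $h1 ⊤ u)

section Affine

variable {P X : Scheme.{u}} [IsAffine P] [IsNoetherian P] {b : X ⟶ P} {𝓘 : P.IdealSheafData}
  (hb : BlowUp.IsBlowUp b 𝓘) (a : Fin 2 → Γ(P, ⊤))
  (ha : Ideal.span (Set.range a) = 𝓘.ideal ⟨⊤, isAffineOpen_top P⟩) (hQR : QR a)

include hb in
theorem separated_total : X.IsSeparated ∧ IsNoetherian X := by
  haveI := isProper_b hb
  haveI : IsLocallyNoetherian X := LocallyOfFiniteType.isLocallyNoetherian b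
  haveI : CompactSpace X := QuasiCompact.compactSpace_of_compactSpace b
  exact ⟨⟨by rw [← terminal.comp_from b]; infer_instance⟩, {}⟩

include hb ha in
/-- Nothing above degree one on the total space. -/
theorem van_total (N : X.Modules) [Coh.IsQCoh N] (p : ℕ) (hp : 2 ≤ p) : Subsingleton (Coh.HH X N p) := by
  haveI := (separated_total hb).1
  obtain ⟨W, hW, hcov, -⟩ := BlowPtLib.exists_charts_family (𝓙 := 𝓘) hb ⟨⊤, isAffineOpen_top P⟩ rfl a ha
  exact van_of_two (fun l => (W l).1) (fun l => (W l).2) (top_le_iff.1 hcov) N p hp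

include hb ha in
/-- Nothing above degree one on the exceptional divisor. -/
theorem van_div (N : (𝓘.comap b).subscheme.Modules) [Coh.IsQCoh N] :
    Subsingleton (Coh.HH (𝓘.comap b).subscheme N 2) := by
  haveI : Coh.IsQCoh ((Coh.push (𝓘.comap b).subschemeι).obj N) := QCohLib.isQCoh_pushforward _ N
  obtain ⟨E⟩ := QCohLib.nonempty_HH_push (𝓘.comap b).subschemeι N 2
  haveI := van_total hb a ha ((Coh.push (𝓘.comap b).subschemeι).obj N) 2 le_rfl
  exact E.toEquiv.subsingleton

include hb ha in
/-- The exceptional ideal is generated by its sections. -/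
theorem gg_exceptional : Curv2.IsGloballyGenerated (ClSub.idealMod (𝓘.comap b)) := by
  let U₀ : P.affineOpens := ⟨⊤, isAffineOpen_top P⟩
  obtain ⟨W, hW, hcov, hnz, hgen, -⟩ := BlowPtLib.exists_charts_family (𝓙 := 𝓘) hb U₀ rfl a ha
  let J := 𝓘.comap b
  haveI : Coh.IsQCoh (ClSub.idealMod J) := FinLFAnn.isQCoh_of_isFinLocFree
    (AmpleDevLib.isFinLocFree_of_isInvertible (IntMultLib.isInvertible_idealMod J hb.1))
  choose t ht using fun l => LichtLib.exists_ideFn J (b ⁻¹ᵁ U₀.1) ((b.app U₀.1).hom (a l)) fun T hT => by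
    rw [Groth.Agent.S4666.ideal_comap_eq 𝓘 b U₀ T hT]
    exact Ideal.mem_map_of_mem _ (ha ▸ Ideal.subset_span ⟨l, rfl⟩)
  refine MiscFlat6.isGloballyGenerated_of_cancel _ fun N q hq =>
    MiscFlat6.eq_zero_of_affine_cover (fun l => (W l).1) (fun l => (W l).2)
      (fun y => Opens.mem_iSup.1 (hcov (show y ∈ b ⁻¹ᵁ U₀.1 from trivial))) _ q fun l w => ?_
  have hWl : AmpleLib.GenOn (ClSub.idealMod J) (AmpleLib.res _ (hW l) (t l)) := by
    refine LichtLib.genOn_of_prinPiece J ⟨W l, _, hnz l, hgen l⟩ (hW l) (t l) ?_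
    rw [ht]
    rfl
  obtain ⟨r, hr⟩ := (hWl (W l).1 le_rfl).2 w
  rw [← hr]
  refine (QCohLib.app_smul q _ r _).trans ?_
  rw [AmpleLib.res_res]
  refine (congrArg (r • ·) (QCohLib.app_map q (homOfLE _) (t l))).trans ?_
  rw [show q.app (b ⁻¹ᵁ U₀.1) (t l) = 0 from hq (t l), map_zero, smul_zero]

include hb a ha hQR

/-- The line has no `H¹` of functions. -/
theorem sub_div_structure : Subsingleton (Coh.HH (𝓘.comap b).subscheme (Coh.structureModule _) 1) :=
  HdgLefLib.sub_iso (KFlatLib.pullUnitIso _) 1 (sub_restrict_pow hb a ha hQR 0 1 le_rfl)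

omit hQR in
/-- Twisting by the exceptional ideal keeps `H¹` of the restriction zero. -/
theorem sub_restrict_step {F : X.Modules} (hF : FlatMod.IsFinLocFree F)
    (h : Subsingleton (Coh.HH (𝓘.comap b).subscheme (pb (𝓘.comap b).subschemeι F) 1)) :
    ∀ N, Subsingleton (Coh.HH (𝓘.comap b).subscheme
      (pb (𝓘.comap b).subschemeι (tensorMod F (tensorPow (ClSub.idealMod (𝓘.comap b)) N))) 1) := by
  obtain ⟨hsep, hnoe⟩ := separated_total hb
  let ι := (𝓘.comap b).subschemeι
  let J := ClSub.idealMod (𝓘.comap b)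
  have hJ : PicF.IsInvertible J := IntMultLib.isInvertible_idealMod _ hb.1
  haveI : CompactSpace (𝓘.comap b).subscheme := QuasiCompact.compactSpace_of_compactSpace ι
  haveI : (𝓘.comap b).subscheme.IsSeparated := ⟨by rw [← terminal.comp_from ι]; infer_instance⟩
  have hvb : ∀ N, FlatMod.IsFinLocFree (tensorMod F (tensorPow J N)) := fun N =>
    HdgLefLib.finLocFree_tensor hF (AmpleThLib.tensorPow_isInvertible hJ N)
  intro N
  induction N with
  | zero => exact HdgLefLib.sub_iso ((Scheme.Modules.pullback ι).mapIso (swapIso _ _ ≪≫ unitLeft F)).symm 1 h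
  | succ N ih =>
    have hG := FinLFAnn.isQCoh_of_isFinLocFree (KFlatLib.isFinLocFree_pull ι (hvb N))
    obtain ⟨p⟩ := BlowPtLib.nonempty_pb_tensor ι (tensorMod F (tensorPow J N)) J
    have hq : Coh.IsQCoh (tensorMod (pb ι (tensorMod F (tensorPow J N))) (pb ι J)) := by
      haveI := hG
      exact MiscFlat6.isQCoh_tensor (AmpleDevLib.isInvertible_pb ι hJ)
    exact HdgLefLib.sub_iso (p.symm ≪≫ (Scheme.Modules.pullback ι).mapIso (assocIso _ _ _)) 1
      (h1_tensor_of_gg (fun M hM => @van_div _ _ _ _ _ _ hb a ha M hM) hG ih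
        (gg_pullback ι (gg_exceptional hb a ha)) hq)

omit hQR in
/-- **Vanishing of `H¹` is read on the exceptional line.** -/
theorem sub_H1_of_restrict {F : X.Modules} (hF : FlatMod.IsFinLocFree F)
    (h : Subsingleton (Coh.HH (𝓘.comap b).subscheme (pb (𝓘.comap b).subschemeι F) 1)) :
    ∀ N, Subsingleton (Coh.HH X (tensorMod F (tensorPow (ClSub.idealMod (𝓘.comap b)) N)) 1) := by
  have h𝓘 : BlowUp.IsFiniteTypeIdeal 𝓘 := fun U => by
    haveI := IsLocallyNoetherian.component_noetherian U
    exact IsNoetherian.noetherian _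
  haveI := BlowUpLib.isProper_of_isBlowUp hb h𝓘
  haveI : IsLocallyNoetherian X := LocallyOfFiniteType.isLocallyNoetherian b
  let J := ClSub.idealMod (𝓘.comap b)
  have hJ : PicF.IsInvertible J := IntMultLib.isInvertible_idealMod _ hb.1
  have hvb : ∀ N, FlatMod.IsFinLocFree (tensorMod F (tensorPow J N)) := fun N =>
    HdgLefLib.finLocFree_tensor hF (AmpleThLib.tensorPow_isInvertible hJ N)
  obtain ⟨n₀, hn₀⟩ := LichtLib.exists_vanishing hb h𝓘 F (Groth.Agent.PerfLib.isCoh_of_isFinLocFree hF)
  have hdiv := sub_restrict_step hb a ha hF h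
  have hdown : ∀ d N, n₀ ≤ N + d → Subsingleton (Coh.HH X (tensorMod F (tensorPow J N)) 1) := by
    intro d
    induction d with
    | zero =>
      intro N hN
      obtain ⟨E⟩ := hn₀ N (by omega) 1
      haveI : Coh.IsQCoh (tensorMod F (tensorPow J N)) := FinLFAnn.isQCoh_of_isFinLocFree (hvb N)
      haveI : Coh.IsQCoh ((Coh.push b).obj (tensorMod F (tensorPow J N))) := QCohLib.isQCoh_pushforward b _
      haveI := QCohLib.subsingleton_HH_affine ((Coh.push b).obj (tensorMod F (tensorPow J N))) 1 one_pos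
      exact E.toEquiv.subsingleton
    | succ d ih =>
      intro N h
      obtain ⟨T, hT, ⟨e₁⟩, ⟨e₂⟩, ⟨e₃⟩⟩ := HdgLefLib.exists_restrict_seq (𝓘.comap b) (hvb N)
      haveI : Coh.IsQCoh (pb (𝓘.comap b).subschemeι (tensorMod F (tensorPow J N))) :=
        FinLFAnn.isQCoh_of_isFinLocFree (KFlatLib.isFinLocFree_pull _ (hvb N))
      obtain ⟨E⟩ := QCohLib.nonempty_HH_push (𝓘.comap b).subschemeι
        (pb (𝓘.comap b).subschemeι (tensorMod F (tensorPow J N))) 1
      haveI := hdiv N
      exact HdgLefLib.sub_iso e₂ 1 (HdgLefLib.sub₂ hT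
        (HdgLefLib.sub_iso (e₁ ≪≫ assocIso _ _ _).symm 1 (ih (N + 1) (by omega)))
        (HdgLefLib.sub_iso e₃.symm 1 E.symm.toEquiv.subsingleton))
  exact fun N => hdown n₀ N (by omega)

/-- Globally generated on the line: no `H¹` there. -/
theorem sub_restrict_of_gg {F : X.Modules} (hF : FlatMod.IsFinLocFree F)
    (h : Curv2.IsGloballyGenerated (pb (𝓘.comap b).subschemeι F)) :
    Subsingleton (Coh.HH (𝓘.comap b).subscheme (pb (𝓘.comap b).subschemeι F) 1) := by
  obtain ⟨hsep, hnoe⟩ := separated_total hb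
  let ι := (𝓘.comap b).subschemeι
  haveI : CompactSpace (𝓘.comap b).subscheme := QuasiCompact.compactSpace_of_compactSpace ι
  haveI : (𝓘.comap b).subscheme.IsSeparated := ⟨by rw [← terminal.comp_from ι]; infer_instance⟩
  exact NefH1Lib.h1_of_gg (fun M hM => @van_div _ _ _ _ _ _ hb a ha M hM) (sub_div_structure hb a ha hQR)
    (FinLFAnn.isQCoh_of_isFinLocFree (KFlatLib.isFinLocFree_pull ι hF)) h

/-- **A bundle generated on the line is generated.** -/
theorem gg_of_restrict {F : X.Modules} (hF : FlatMod.IsFinLocFree F)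
    (h : Curv2.IsGloballyGenerated (pb (𝓘.comap b).subschemeι F)) : Curv2.IsGloballyGenerated F := by
  obtain ⟨hsep, hnoe⟩ := separated_total hb
  haveI := hnoe
  have h𝓘 : BlowUp.IsFiniteTypeIdeal 𝓘 := fun U => by
    haveI := IsLocallyNoetherian.component_noetherian U
    exact IsNoetherian.noetherian _
  let ι := (𝓘.comap b).subschemeι
  let J := ClSub.idealMod (𝓘.comap b)
  have hJ : PicF.IsInvertible J := IntMultLib.isInvertible_idealMod _ hb.1
  have hgJ := gg_pullback ι (gg_exceptional hb a ha)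
  have hamp : CohB1.IsAmple J := by
    let V : P.affineOpens := ⟨⊤, isAffineOpen_top P⟩
    have h1 := LichtLib.isAmple_exceptional hb h𝓘 V
    have h2 : IsIso (b ⁻¹ᵁ V.1).ι := inferInstanceAs (IsIso (⊤ : X.Opens).ι)
    exact AmpleThLib.isAmple_of_restrict_iso hJ _ h1
  have hvb : ∀ N, FlatMod.IsFinLocFree (tensorMod F (tensorPow J N)) := fun N =>
    HdgLefLib.finLocFree_tensor hF (AmpleThLib.tensorPow_isInvertible hJ N)
  have hdiv : ∀ N, Curv2.IsGloballyGenerated (pb ι (tensorMod F (tensorPow J N))) := by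
    intro N
    induction N with
    | zero => exact MiscFlat6.isGloballyGenerated_of_iso ((Scheme.Modules.pullback ι).mapIso (swapIso _ _ ≪≫ unitLeft F)).symm h
    | succ N ih =>
      obtain ⟨p⟩ := BlowPtLib.nonempty_pb_tensor ι (tensorMod F (tensorPow J N)) J
      exact MiscFlat6.isGloballyGenerated_of_iso (p.symm ≪≫ (Scheme.Modules.pullback ι).mapIso (assocIso _ _ _))
        (gg_tensor' ih hgJ)
  obtain ⟨n₀, hn₀⟩ := MiscFlat6.eventually_gg_of_isAmple hamp F (Groth.Agent.PerfLib.isCoh_of_isFinLocFree hF)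
  have hvan := sub_H1_of_restrict hb a ha hF (sub_restrict_of_gg hb a ha hQR hF h)
  have hdown : ∀ d N, n₀ ≤ N + d → Curv2.IsGloballyGenerated (tensorMod F (tensorPow J N)) := by
    intro d
    induction d with
    | zero => exact fun N hN => hn₀ N (by omega)
    | succ d ih =>
      intro N hN
      obtain ⟨T, hT, ⟨e₁⟩, ⟨e₂⟩, ⟨e₃⟩⟩ := HdgLefLib.exists_restrict_seq (𝓘.comap b) (hvb N)
      have hv : Subsingleton (Coh.HH X T.X₁ 1) := HdgLefLib.sub_iso (e₁ ≪≫ assocIso _ _ _).symm 1 (hvan (N + 1))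
      refine MiscFlat6.isGloballyGenerated_of_iso e₂ (Groth.Agent.S10945.result X T hT (fun t => ?_)
        (MiscFlat6.isGloballyGenerated_of_iso (e₁ ≪≫ assocIso _ _ _).symm (ih (N + 1) (by omega)))
        (MiscFlat6.isGloballyGenerated_of_iso e₃.symm (gg_push_closed ι (hdiv N))))
      obtain ⟨x, hx⟩ := LichtLib.surjective_g hT hv ((DegPullLib.e0 T.X₃).symm t)
      exact ⟨DegPullLib.e0 T.X₂ x,
        (NefH1Lib.e0_map T.g x).symm.trans ((congrArg (DegPullLib.e0 T.X₃) hx).trans (AddEquiv.apply_symm_apply _ _))⟩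
  exact MiscFlat6.isGloballyGenerated_of_iso (swapIso _ _ ≪≫ unitLeft F) (hdown n₀ 0 (by omega))

end Affine

end BlowRegLib
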