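import Groth.Agent.GrowthLib.CurveTest
import Groth.Agent.SerreVanLib.CurveAmple
import Groth.Agent.GenusZeroLib.Degrees
import Groth.Agent.BlowRegLib.PosA
import Groth.Agent.S1518
import Groth.Agent.S1611

/-!
# Ampleness of a pullback twisted by a globally generated module
-/

set_option autoImplicit false
set_option linter.style.haveILetI false
set_option linter.unusedSectionVars false
set_option maxHeartbeats 1000000
set_option backward.isDefEq.respectTransparency false
set_option backward.isDefEq.respectTransparency.types false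

universe u

open CategoryTheory CategoryTheory.Limits AlgebraicGeometry TopologicalSpace Opposite
open HilbPolyLib (congrLeft congrRight assocIso swapIso unitLeft)
open KFlatLib (pb)
open CohB1 (tensorMod tensorPow)

noncomputable section

namespace BlowRegLib

variable (k : Type u) [Field k]

/-- A globally generated line bundle on a curve has non-negative degree. -/
theorem deg_nonneg_of_gg' {C : Scheme.{u}} [C.Over (Spec (CommRingCat.of k))] [IsIntegral C]
    [IsProper (C ↘ Spec (CommRingCat.of k))] (hdim : topologicalKrullDim C = 1) {G : C.Modules}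
    (hG : PicF.IsInvertible G) (hgg : Curv2.IsGloballyGenerated G) : 0 ≤ Curv2.deg k C G 1 := by
  obtain ⟨σ, hσ⟩ := Groth.Agent.S1611.exists_genAt_of_gg hG hgg (genericPoint C)
  refine Groth.Agent.S1518.result k C hdim G hG (QCohLib.unitHom G σ) (RRVanLib.unitHom_ne_zero fun h => ?_)
  subst h
  refine one_ne_zero (α := C.presheaf.stalk (genericPoint C)) (hσ.1 ?_)
  show _ • _ = _ • _
  rw [map_zero, smul_zero, smul_zero]

/-- A map out of a curve that contracts it to no point is finite. -/
theorem isFinite_of_nonconstant {C Y : Scheme.{u}} [C.Over (Spec (CommRingCat.of k))] [IsIntegral C]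
    [IsProper (C ↘ Spec (CommRingCat.of k))] (hdim : topologicalKrullDim C = 1) (f : C ⟶ Y) [IsProper f]
    (hne : ∀ y : Y, ∃ c, f c ≠ y) : IsFinite f := by
  haveI := CurvLib.isNoetherian k (X := C)
  have hfib : ∀ y : Y, (f ⁻¹' {y}).Finite := fun y => by
    by_cases hy : IsClosed ({y} : Set Y)
    · refine (SerreVanLib.proper_closed_finite k hdim (hy.preimage f.continuous) fun h => ?_).1
      obtain ⟨c, hc⟩ := hne y
      exact hc (h.ge (Set.mem_univ c))
    · refine Set.Finite.subset (Set.finite_singleton (genericPoint C)) fun c hc => ?_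
      by_contra hcg
      have hcl : closure ({c} : Set C) ≠ Set.univ := fun h =>
        hcg ((genericPoint_spec C).eq (show IsGenericPoint c Set.univ from h)).symm
      have h1 := (SerreVanLib.proper_closed_finite k hdim isClosed_closure hcl).2 c (subset_closure rfl)
      refine hy ?_
      rw [← (show f c = y from hc), ← Set.image_singleton]
      exact f.isClosedMap _ h1
  haveI : LocallyQuasiFinite f := LocallyQuasiFinite.of_finite_preimage_singleton f hfib
  exact (IsFinite.iff_isProper_and_locallyQuasiFinite ..).mpr ⟨inferInstance, inferInstance⟩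

/-- **Ample pulled back, tensor globally generated, and ample on the contracted curves: ample.** -/
theorem isAmple_pullback_tensor_gg {X Y : Scheme.{u}} [X.Over (Spec (CommRingCat.of k))]
    [IsProper (X ↘ Spec (CommRingCat.of k))] (σ : X ⟶ Y) [IsProper σ] {H : Y.Modules} (hH : CohB1.IsAmple H)
    (hHgg : Curv2.IsGloballyGenerated H) {G : X.Modules} (hG : PicF.IsInvertible G)
    (hgg : Curv2.IsGloballyGenerated G)
    (hcon : ∀ η : X, topologicalKrullDim (closure ({η} : Set X)) = 1 →
      (∀ x ∈ closure ({η} : Set X), σ x = σ η) →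
      CohB1.IsAmple (pb (IntMultLib.ptIdeal η).subschemeι (tensorMod (pb σ H) G))) :
    CohB1.IsAmple (tensorMod (pb σ H) G) := by
  haveI := CurvLib.isNoetherian k (X := X)
  have hHi : PicF.IsInvertible H := hH.1
  have hσH : PicF.IsInvertible (pb σ H) := AmpleDevLib.isInvertible_pb σ hHi
  refine GrowthLib.isAmple_of_restrict_curves (k := k) (HilbPolyLib.isInvertible_tensor hσH hG)
    (gg_tensor' (gg_pullback σ hHgg) hgg) fun η hη => ?_
  by_cases hc : ∀ x ∈ closure ({η} : Set X), σ x = σ η
  · exact hcon η hη hc
  push Not at hc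
  obtain ⟨x, hx, hne⟩ := hc
  let J := IntMultLib.ptIdeal η
  haveI := IntMultLib.isIntegral_ptIdeal η
  letI : J.subscheme.Over (Spec (CommRingCat.of k)) := ⟨J.subschemeι ≫ (X ↘ Spec (CommRingCat.of k))⟩
  haveI : IsProper (J.subscheme ↘ Spec (CommRingCat.of k)) :=
    inferInstanceAs (IsProper (J.subschemeι ≫ (X ↘ Spec (CommRingCat.of k))))
  have hr := IntMultLib.range_ptIdeal η
  have hdim : topologicalKrullDim J.subscheme = 1 :=
    ((J.subschemeι.isEmbedding.toHomeomorph.trans
      (Homeomorph.setCongr hr)).isHomeomorph.topologicalKrullDim_eq).trans hη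
  haveI : IsFinite (J.subschemeι ≫ σ) := isFinite_of_nonconstant k hdim _ fun y => by
    obtain ⟨a, ha⟩ := hr.ge hx
    obtain ⟨b, hb⟩ := hr.ge (subset_closure rfl : η ∈ closure ({η} : Set X))
    by_contra h
    push Not at h
    have ha' := h a
    have hb' := h b
    rw [Scheme.Hom.comp_apply, ha] at ha'
    rw [Scheme.Hom.comp_apply, hb] at hb'
    exact hne (ha'.trans hb'.symm)
  have hA : CohB1.IsAmple (pb J.subschemeι (pb σ H)) := by
    refine AmpleDevLib.isAmple_of_iso (AmpleDevLib.isInvertible_pb (J.subschemeι ≫ σ) hHi)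
      (AmpleDevLib.isInvertible_pb _ hσH) ((Scheme.Modules.pullbackComp J.subschemeι σ).app H).symm ?_
    exact AmpleDevLib.isAmple_pb (J.subschemeι ≫ σ) hHi hH
  have hG' := AmpleDevLib.isInvertible_pb J.subschemeι hG
  have hd₁ := SerreVanLib.deg_pos_of_isAmple (k := k) hdim hA
  have hd₂ := deg_nonneg_of_gg' k hdim hG' (gg_pullback J.subschemeι hgg)
  obtain ⟨t⟩ := BlowPtLib.nonempty_pb_tensor J.subschemeι (pb σ H) G
  have hT := HilbPolyLib.isInvertible_tensor (AmpleDevLib.isInvertible_pb J.subschemeι hσH) hG'
  refine AmpleDevLib.isAmple_of_iso hT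
    (AmpleDevLib.isInvertible_pb _ (HilbPolyLib.isInvertible_tensor hσH hG)) t.symm
    (SerreVanLib.isAmple_of_deg_pos (k := k) hdim hT ?_)
  rw [GenusZeroLib.deg_tensor (k := k) hdim (AmpleDevLib.isInvertible_pb J.subschemeι hσH) hG']
  omega

end BlowRegLib
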