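import Groth.Agent.SurfAmpleLib.QuotSeq
import Groth.Agent.SurfAmpleLib.Prod
import Groth.Agent.SurfAmpleLib.CurveH0
import Groth.Agent.BlowPtLib.Exceptional
import Groth.Agent.BlowPtLib.Plane

/-!
# Infinitesimal neighbourhoods of a disjoint family of exceptional lines
-/

set_option autoImplicit false
set_option linter.style.haveILetI false
set_option linter.unusedSectionVars false
set_option maxHeartbeats 1000000
set_option backward.isDefEq.respectTransparency false
set_option backward.isDefEq.respectTransparency.types false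

universe u

open CategoryTheory CategoryTheory.Limits AlgebraicGeometry TopologicalSpace Opposite
open HilbPolyLib (congrLeft congrRight assocIso swapIso unitLeft)
open KFlatLib (pb)
open CohB1 (tensorMod tensorPow)
open ClSub (idealMod quotMod)

noncomputable section

namespace BlowRegLib

variable {k : Type u} [Field k] {X : Scheme.{u}} [X.Over (Spec (CommRingCat.of k))]
  [IsProper (X ↘ Spec (CommRingCat.of k))]

include k in
/-- Coherence of a twisted thickening. -/
theorem isCoh_thick {M : X.Modules} (hM : PicF.IsInvertible M) (B : X.IdealSheafData) :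
    Coh.IsCoh (tensorMod M (quotMod B)) := by
  haveI := CurvLib.isNoetherian k (X := X)
  exact HilbPolyLib.isCoh_tensor hM (CurvLib.isCoh_quotMod B)

include k in
/-- The thickening sequence, twisted. -/
theorem exists_thick_seq {M : X.Modules} (hM : PicF.IsInvertible M) {A B : X.IdealSheafData}
    (hA : BlowUp.IsEffCartierIdeal A) (hB : BlowUp.IsEffCartierIdeal B) :
    ∃ S : ShortComplex X.Modules, S.ShortExact ∧
      Nonempty (S.X₁ ≅ tensorMod (tensorMod M (idealMod A)) (quotMod B)) ∧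
      Nonempty (S.X₂ ≅ tensorMod M (quotMod (A * B))) ∧ Nonempty (S.X₃ ≅ tensorMod M (quotMod A)) := by
  obtain ⟨S, hS, ⟨e₁⟩, ⟨e₂⟩, ⟨e₃⟩⟩ := SurfAmpleLib.exists_quotSeq hA hB
  exact ⟨_, HilbPolyLib.shortExact_tensor hM hS, ⟨congrRight M e₁ ≪≫ (assocIso _ _ _).symm⟩,
    ⟨congrRight M e₂⟩, ⟨congrRight M e₃⟩⟩

include k in
/-- A bundle on a thickening only depends on its restriction. -/
theorem nonempty_thick_congr {M M' : X.Modules} (hM : PicF.IsInvertible M) (hM' : PicF.IsInvertible M')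
    (B : X.IdealSheafData) (e : Nonempty (pb B.subschemeι M ≅ pb B.subschemeι M')) :
    Nonempty (tensorMod M (quotMod B) ≅ tensorMod M' (quotMod B)) := by
  obtain ⟨e⟩ := e
  obtain ⟨a⟩ := SurfAmpleLib.nonempty_quot_push k M hM B
  obtain ⟨b⟩ := SurfAmpleLib.nonempty_quot_push k M' hM' B
  exact ⟨a.symm ≪≫ (Coh.push B.subschemeι).mapIso e ≪≫ b⟩

include k in
/-- The empty thickening is zero. -/
theorem isZero_thick_one {M : X.Modules} (hM : PicF.IsInvertible M) :
    IsZero (tensorMod M (quotMod (1 : X.IdealSheafData))) := by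
  rw [Scheme.IdealSheafData.one_eq_top]
  obtain ⟨e⟩ := SurfAmpleLib.nonempty_quot_push k M hM (⊤ : X.IdealSheafData)
  refine IsZero.of_iso ?_ e.symm
  haveI : IsEmpty (⊤ : X.IdealSheafData).subscheme := inferInstance
  have h0 : IsZero (pb (⊤ : X.IdealSheafData).subschemeι M) := by
    rw [IsZero.iff_id_eq_zero]
    refine Scheme.Modules.hom_ext _ _ fun V => ?_
    haveI hs : Subsingleton Γ((⊤ : X.IdealSheafData).subscheme, V) := inferInstance
    haveI : Subsingleton Γ(pb (⊤ : X.IdealSheafData).subschemeι M, V) :=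
      Module.subsingleton Γ((⊤ : X.IdealSheafData).subscheme, V) _
    exact ConcreteCategory.hom_ext _ _ fun a => Subsingleton.elim (α := Γ(pb (⊤ : X.IdealSheafData).subschemeι M, V)) _ _
  rw [IsZero.iff_id_eq_zero, ← (Coh.push _).map_id, h0.eq_of_src (𝟙 _) 0]
  exact (Coh.push _).map_zero _ _

/-- No cohomology in a zero module. -/
theorem sub_zero_mod {M : X.Modules} (h : IsZero M) (q : ℕ) : Subsingleton (Coh.HH X M q) := by
  refine (QCohLib.subsingleton_H_iff _ q).2 ⟨fun a b => ?_⟩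
  have hz : IsZero ((QCohLib.toAbF X).obj M) := Functor.map_isZero _ h
  have key : ∀ x : QCohLib.HU ((QCohLib.toAbF X).obj M) q ⊤, x = 0 := fun x => by
    rw [← Abelian.Ext.comp_mk₀_id x, hz.eq_of_src (𝟙 _) 0, Abelian.Ext.mk₀_zero, Abelian.Ext.comp_zero]
  rw [key a, key b]

variable {s : ℕ} (J : Fin s → X.IdealSheafData) (hJ : ∀ i, BlowUp.IsEffCartierIdeal (J i))
  (hdis : ∀ i j, i ≠ j → ∀ x, x ∈ (J i).support → x ∉ (J j).support)

include hJ in
theorem isEffCartier_prodPow (T : Finset (Fin s)) (m : ℕ) : BlowUp.IsEffCartierIdeal ((∏ i ∈ T, J i) ^ m) :=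
  SurfAmpleLib.isEffCartier_pow' (SurfAmpleLib.isEffCartier_finprod T fun i _ => hJ i) m

include hJ in
theorem isInvertible_prodPow (T : Finset (Fin s)) (m : ℕ) : PicF.IsInvertible (idealMod ((∏ i ∈ T, J i) ^ m)) :=
  IntMultLib.isInvertible_idealMod _ (isEffCartier_prodPow J hJ T m)

include hJ hdis in
/-- Ideals of other components are trivial near a component. -/
theorem nonempty_pb_prodPow_trivial (T T' : Finset (Fin s)) (hTT : Disjoint T T') (m n : ℕ) :
    Nonempty (pb ((∏ i ∈ T', J i) ^ m).subschemeι (idealMod ((∏ i ∈ T, J i) ^ n)) ≅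
      Coh.structureModule ((∏ i ∈ T', J i) ^ m).subscheme) := by
  refine BlowPtLib.nonempty_pb_ideal_trivial _ _ (isInvertible_prodPow J hJ T n) fun z hz => ?_
  have hz' := (Scheme.IdealSheafData.range_subschemeι ((∏ i ∈ T', J i) ^ m)).subset ⟨z, rfl⟩
  generalize ((∏ i ∈ T', J i) ^ m).subschemeι z = x at hz hz'
  rw [← Finset.prod_pow] at hz hz'
  obtain ⟨i, hi, hxi⟩ := (SurfAmpleLib.mem_support_finprod _ _ x).1 hz
  obtain ⟨j, hj, hxj⟩ := (SurfAmpleLib.mem_support_finprod _ _ x).1 hz'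
  rcases Nat.eq_zero_or_pos n with rfl | hn
  · rw [pow_zero, Scheme.IdealSheafData.one_eq_top, Scheme.IdealSheafData.support_top] at hxi
    exact hxi
  rcases Nat.eq_zero_or_pos m with rfl | hm
  · rw [pow_zero, Scheme.IdealSheafData.one_eq_top, Scheme.IdealSheafData.support_top] at hxj
    exact hxj
  rw [Scheme.IdealSheafData.support_pow _ _ hn.ne'] at hxi
  rw [Scheme.IdealSheafData.support_pow _ _ hm.ne'] at hxj
  exact hdis i j (fun e => Finset.disjoint_left.1 hTT hi (e ▸ hj)) x hxi hxj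

include k hJ hdis in
/-- Twisting by the ideals of other components does not change a thickening. -/
theorem nonempty_thick_prodPow {M : X.Modules} (hM : PicF.IsInvertible M) (T T' : Finset (Fin s))
    (hTT : Disjoint T T') (m n : ℕ) :
    Nonempty (tensorMod (tensorMod M (idealMod ((∏ i ∈ T, J i) ^ n))) (quotMod ((∏ i ∈ T', J i) ^ m)) ≅
      tensorMod M (quotMod ((∏ i ∈ T', J i) ^ m))) := by
  obtain ⟨t⟩ := nonempty_pb_prodPow_trivial J hJ hdis T T' hTT m n
  obtain ⟨p⟩ := BlowPtLib.nonempty_pb_tensor ((∏ i ∈ T', J i) ^ m).subschemeι M (idealMod ((∏ i ∈ T, J i) ^ n))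
  exact nonempty_thick_congr (k := k) (HilbPolyLib.isInvertible_tensor hM (isInvertible_prodPow J hJ T n)) hM _
    ⟨p ≪≫ congrRight _ t ≪≫ swapIso _ _ ≪≫ unitLeft _⟩

variable (φ : ∀ i, (J i).subscheme ⟶ CohB1.ProjSpace 1 k) [∀ i, IsIso (φ i)]
  (eφ : ∀ i, Nonempty (pb (φ i) (Twist.twistProjSpace 1 k 1) ≅ pb (J i).subschemeι (idealMod (J i))))

/-- The restriction of a line bundle to the `i`-th line has degree `d`. -/
abbrev HasDeg (i : Fin s) (M : X.Modules) (d : ℤ) : Prop :=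
  Nonempty (pb (J i).subschemeι M ≅ pb (φ i) (Twist.twistProjSpace 1 k d))

theorem hasDeg_tensor {i : Fin s} {M M' : X.Modules} {d d' : ℤ} (h : HasDeg J φ i M d) (h' : HasDeg J φ i M' d') :
    HasDeg J φ i (tensorMod M M') (d + d') := by
  obtain ⟨e⟩ := h
  obtain ⟨e'⟩ := h'
  obtain ⟨t⟩ := PicPnLib.twist_add 1 k d d'
  obtain ⟨p⟩ := BlowPtLib.nonempty_pb_tensor (J i).subschemeι M M'
  obtain ⟨q⟩ := BlowPtLib.nonempty_pb_tensor (φ i) (Twist.twistProjSpace 1 k d) (Twist.twistProjSpace 1 k d')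
  exact ⟨p ≪≫ congrLeft e _ ≪≫ congrRight _ e' ≪≫ q.symm ≪≫ (Scheme.Modules.pullback (φ i)).mapIso t⟩

theorem hasDeg_structure (i : Fin s) : HasDeg J φ i (Coh.structureModule X) 0 := by
  obtain ⟨z⟩ := PicPnLib.twist_zero 1 k
  exact ⟨KFlatLib.pullUnitIso _ ≪≫ (KFlatLib.pullUnitIso (φ i)).symm ≪≫ (Scheme.Modules.pullback (φ i)).mapIso z.symm⟩

include hJ eφ hdis in
theorem hasDeg_idealMod_prodPow (i : Fin s) (T : Finset (Fin s)) (hi : i ∈ T) :
    ∀ n : ℕ, HasDeg J φ i (idealMod ((∏ j ∈ T, J j) ^ n)) n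
  | 0 => by
    rw [pow_zero]
    obtain ⟨e⟩ := BlowPtLib.nonempty_idealMod_top X
    obtain ⟨e'⟩ := hasDeg_structure J φ i
    exact ⟨(Scheme.Modules.pullback _).mapIso e ≪≫ e'⟩
  | n + 1 => by
    obtain ⟨e⟩ := hasDeg_idealMod_prodPow i T hi n
    obtain ⟨f, -⟩ := SurfNumLib.exists_idealMod_mul (hJ i)
      (SurfAmpleLib.isEffCartier_finprod (T.erase i) fun j _ => hJ j)
    rw [Finset.mul_prod_erase T _ hi] at f
    obtain ⟨g, -⟩ := SurfNumLib.exists_idealMod_mul (isEffCartier_prodPow J hJ T n)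
      (SurfAmpleLib.isEffCartier_finprod T fun j _ => hJ j)
    rw [← pow_succ] at g
    have hrest : HasDeg J φ i (idealMod (∏ j ∈ T.erase i, J j)) 0 := by
      obtain ⟨t⟩ := BlowPtLib.nonempty_pb_ideal_trivial (J i).subschemeι (∏ j ∈ T.erase i, J j)
        (IntMultLib.isInvertible_idealMod _ (SurfAmpleLib.isEffCartier_finprod (T.erase i) fun j _ => hJ j))
        fun z hz => by
          obtain ⟨j, hj, hzj⟩ := (SurfAmpleLib.mem_support_finprod _ _ _).1 hz
          exact hdis i j (Finset.ne_of_mem_erase hj).symm _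
            ((Scheme.IdealSheafData.range_subschemeι _).subset ⟨z, rfl⟩) hzj
      obtain ⟨z⟩ := hasDeg_structure J φ i
      exact ⟨t ≪≫ (KFlatLib.pullUnitIso _).symm ≪≫ z⟩
    have hone : HasDeg J φ i (idealMod (∏ j ∈ T, J j)) 1 := by
      have h := hasDeg_tensor J φ (i := i) ⟨(eφ i).some.symm⟩ hrest
      obtain ⟨h⟩ := h
      exact ⟨(Scheme.Modules.pullback _).mapIso f.symm ≪≫ h⟩
    obtain ⟨h⟩ := hasDeg_tensor J φ (i := i) ⟨e⟩ hone
    exact ⟨(Scheme.Modules.pullback _).mapIso g.symm ≪≫ h ≪≫ eqToIso (by rw [Nat.cast_add, Nat.cast_one])⟩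

/-- Cohomology on one line. -/
theorem sub_line {M : X.Modules} (hM : PicF.IsInvertible M) {i : Fin s} {d : ℤ} (h : HasDeg J φ i M d) (q : ℕ)
    (hq : (q = 0 ∧ d < 0) ∨ (q = 1 ∧ -1 ≤ d) ∨ 2 ≤ q) : Subsingleton (Coh.HH X (tensorMod M (quotMod (J i))) q) := by
  obtain ⟨e⟩ := h
  obtain ⟨p⟩ := SurfAmpleLib.nonempty_quot_push k M hM (J i)
  exact HdgLefLib.sub_iso p q (BlowPtLib.sub_push_twist (φ i) e q
    (PnCohLib.subsingleton_HH_twist d q (by omega) (by omega)))

include hJ eφ hdis in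
/-- Vanishing on thickenings of some of the lines. -/
theorem sub_thick (q : ℕ) (T : Finset (Fin s)) :
    ∀ (m : ℕ) {M : X.Modules}, PicF.IsInvertible M →
      (∀ i ∈ T, ∃ d : ℤ, HasDeg J φ i M d ∧ ∀ j : ℕ, j < m → (q = 0 ∧ d + j < 0) ∨ (q = 1 ∧ -1 ≤ d + j) ∨ 2 ≤ q) →
      Subsingleton (Coh.HH X (tensorMod M (quotMod ((∏ i ∈ T, J i) ^ m))) q) := by
  intro m
  induction m with
  | zero =>
    intro M hM _
    rw [pow_zero]
    exact sub_zero_mod (isZero_thick_one (k := k) hM) q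
  | succ m ih =>
    intro M hM hdeg
    rw [pow_succ]
    obtain ⟨S, hS, ⟨e₁⟩, ⟨e₂⟩, ⟨e₃⟩⟩ := exists_thick_seq (k := k) hM (isEffCartier_prodPow J hJ T m)
      (SurfAmpleLib.isEffCartier_finprod T fun i _ => hJ i)
    refine HdgLefLib.sub_iso e₂ q (HdgLefLib.sub₂ hS (HdgLefLib.sub_iso e₁.symm q ?_)
      (HdgLefLib.sub_iso e₃.symm q (ih hM fun i hi => ?_)))
    swap
    · obtain ⟨d, hd, h⟩ := hdeg i hi
      exact ⟨d, hd, fun j hj => h j (by omega)⟩
    have hN := HilbPolyLib.isInvertible_tensor hM (isInvertible_prodPow J hJ T m)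
    have hdegN : ∀ i ∈ T, ∃ d : ℤ, HasDeg J φ i (tensorMod M (idealMod ((∏ j ∈ T, J j) ^ m))) d ∧
        ((q = 0 ∧ d < 0) ∨ (q = 1 ∧ -1 ≤ d) ∨ 2 ≤ q) := fun i hi => by
      obtain ⟨d, hd, h⟩ := hdeg i hi
      exact ⟨d + m, hasDeg_tensor J φ hd (hasDeg_idealMod_prodPow J hJ hdis φ eφ i T hi m), h m (by omega)⟩
    revert hN hdegN
    generalize tensorMod M (idealMod ((∏ j ∈ T, J j) ^ m)) = N
    clear hdeg hS e₁ e₂ e₃ ih
    induction T using Finset.induction_on generalizing N with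
    | empty =>
      intro hN _
      rw [Finset.prod_empty]
      exact sub_zero_mod (isZero_thick_one (k := k) hN) q
    | insert a T ha ihT =>
      intro hN hdegN
      rw [Finset.prod_insert ha]
      obtain ⟨S, hS, ⟨e₁⟩, ⟨e₂⟩, ⟨e₃⟩⟩ := exists_thick_seq (k := k) hN (hJ a)
        (SurfAmpleLib.isEffCartier_finprod T fun i _ => hJ i)
      refine HdgLefLib.sub_iso e₂ q (HdgLefLib.sub₂ hS (HdgLefLib.sub_iso e₁.symm q ?_)
        (HdgLefLib.sub_iso e₃.symm q ?_))
      · have h := nonempty_thick_prodPow (k := k) J hJ hdis hN {a} T (Finset.disjoint_singleton_left.2 ha) 1 1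
        rw [Finset.prod_singleton, pow_one, pow_one] at h
        obtain ⟨t⟩ := h
        exact HdgLefLib.sub_iso t.symm q (ihT N hN fun i hi => hdegN i (Finset.mem_insert_of_mem hi))
      · obtain ⟨d, hd, h⟩ := hdegN a (Finset.mem_insert_self a T)
        exact sub_line J φ hN hd q h

include hJ hdis in
/-- Other components have degree zero on a line. -/
theorem hasDeg_prodPow_zero (i : Fin s) (T : Finset (Fin s)) (hi : i ∉ T) (n : ℕ) :
    HasDeg J φ i (idealMod ((∏ j ∈ T, J j) ^ n)) 0 := by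
  have t := nonempty_pb_prodPow_trivial J hJ hdis T {i} (Finset.disjoint_singleton_right.2 hi) 1 n
  rw [Finset.prod_singleton, pow_one] at t
  obtain ⟨t⟩ := t
  obtain ⟨z⟩ := hasDeg_structure J φ i
  exact ⟨t ≪≫ (KFlatLib.pullUnitIso _).symm ≪≫ z⟩

/-- The dimension of the space of sections. -/
abbrev h0d (G : X.Modules) : ℕ := Module.finrank k (Coh.HH X G 0)

include hJ in
/-- Dimensions in the thickening sequence. -/
theorem h0d_thick {M : X.Modules} (hM : PicF.IsInvertible M) {A B : X.IdealSheafData}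
    (hA : BlowUp.IsEffCartierIdeal A) (hB : BlowUp.IsEffCartierIdeal B) :
    h0d (k := k) (tensorMod M (quotMod (A * B))) ≤
        h0d (k := k) (tensorMod (tensorMod M (idealMod A)) (quotMod B)) + h0d (k := k) (tensorMod M (quotMod A)) ∧
      h0d (k := k) (tensorMod (tensorMod M (idealMod A)) (quotMod B)) ≤ h0d (k := k) (tensorMod M (quotMod (A * B))) ∧
      (Subsingleton (Coh.HH X (tensorMod (tensorMod M (idealMod A)) (quotMod B)) 1) →
        h0d (k := k) (tensorMod (tensorMod M (idealMod A)) (quotMod B)) + h0d (k := k) (tensorMod M (quotMod A)) ≤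
          h0d (k := k) (tensorMod M (quotMod (A * B)))) := by
  obtain ⟨S, hS, ⟨e₁⟩, ⟨e₂⟩, ⟨e₃⟩⟩ := exists_thick_seq (k := k) hM hA hB
  have hiso : ∀ {G G' : X.Modules}, (G ≅ G') → h0d (k := k) G = h0d (k := k) G' :=
    fun e => (CurvLib.hIso (k := k) e 0).finrank_eq
  rw [← hiso e₁, ← hiso e₂, ← hiso e₃]
  have c₁ : Coh.IsCoh S.X₁ := QCohLib.isCoh_of_iso e₁.symm
    (isCoh_thick (k := k) (HilbPolyLib.isInvertible_tensor hM (IntMultLib.isInvertible_idealMod A hA)) B)
  have c₂ : Coh.IsCoh S.X₂ := QCohLib.isCoh_of_iso e₂.symm (isCoh_thick (k := k) hM _)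
  have c₃ : Coh.IsCoh S.X₃ := QCohLib.isCoh_of_iso e₃.symm (isCoh_thick (k := k) hM _)
  haveI := CurvLib.finite_HH (k := k) c₁ 0
  haveI := CurvLib.finite_HH (k := k) c₂ 0
  haveI := CurvLib.finite_HH (k := k) c₃ 0
  refine ⟨SurfAmpleLib.hh_le_mid hS c₁ c₂ c₃ 0,
    LinearMap.finrank_le_finrank_of_injective (CurvLib.injective₀ (k := k) hS), fun h1 => ?_⟩
  haveI : Subsingleton (Coh.HH X S.X₁ 1) := HdgLefLib.sub_iso e₁.symm 1 h1
  have hsurj : LinearMap.range (CurvLib.hMap (k := k) S.g 0) = ⊤ := by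
    rw [CurvLib.exact₃ (k := k) hS 0, LinearMap.ker_eq_top]
    exact LinearMap.ext fun _ => Subsingleton.elim _ _
  have a1 := LinearMap.finrank_range_add_finrank_ker (CurvLib.hMap (k := k) S.g 0)
  rw [hsurj, finrank_top, ← CurvLib.exact₂ (k := k) hS 0,
    LinearMap.finrank_range_of_inj (CurvLib.injective₀ (k := k) hS)] at a1
  exact ((add_comm _ _).trans a1).le

variable {L : X.Modules} (hL : PicF.IsInvertible L) (d : Fin s → ℤ) (hd : ∀ i, HasDeg J φ i L (d i)) (n : ℕ)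
  (T U : Finset (Fin s)) (hTU : Disjoint T U) (hAB : (∏ i ∈ T, J i) * (∏ i ∈ U, J i) = ∏ i, J i)

include hJ eφ hdis hL hd hTU hAB in
/-- Lower bound through the lines of high degree. -/
theorem thick_lower (hT : ∀ i ∈ T, -1 ≤ d i + n) :
    h0d (k := k) (tensorMod (tensorMod (tensorMod L (idealMod ((∏ i ∈ U, J i) ^ (n + 1))))
        (idealMod ((∏ i ∈ T, J i) ^ n))) (quotMod (∏ i ∈ T, J i))) +
      h0d (k := k) (tensorMod L (quotMod ((∏ i ∈ T, J i) ^ n))) ≤
      h0d (k := k) (tensorMod L (quotMod ((∏ i, J i) ^ (n + 1)))) := by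
  let A := ∏ i ∈ T, J i
  have hA : BlowUp.IsEffCartierIdeal A := SurfAmpleLib.isEffCartier_finprod T fun i _ => hJ i
  have hL' : PicF.IsInvertible (tensorMod L (idealMod ((∏ i ∈ U, J i) ^ (n + 1)))) :=
    HilbPolyLib.isInvertible_tensor hL (isInvertible_prodPow J hJ U (n + 1))
  have l1 := (h0d_thick (k := k) J hJ hL (isEffCartier_prodPow J hJ U (n + 1))
    (isEffCartier_prodPow J hJ T (n + 1))).2.1
  rw [show (∏ i ∈ U, J i) ^ (n + 1) * (∏ i ∈ T, J i) ^ (n + 1) = (∏ i, J i) ^ (n + 1) by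
    rw [mul_comm, ← mul_pow, hAB]] at l1
  have key := sub_thick J hJ hdis φ eφ 1 T 1
    (HilbPolyLib.isInvertible_tensor hL' (isInvertible_prodPow J hJ T n)) fun i hi =>
    ⟨d i + 0 + n, hasDeg_tensor J φ
      (hasDeg_tensor J φ (hd i) (hasDeg_prodPow_zero J hJ hdis φ i U (Finset.disjoint_left.1 hTU hi) (n + 1)))
      (hasDeg_idealMod_prodPow J hJ hdis φ eφ i T hi n),
      fun j hj => Or.inr (Or.inl ⟨rfl, by have := hT i hi; omega⟩)⟩
  rw [pow_one] at key
  have l2 := (h0d_thick (k := k) J hJ hL' (isEffCartier_prodPow J hJ T n) hA).2.2 key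
  rw [← pow_succ] at l2
  obtain ⟨e⟩ := nonempty_thick_prodPow (k := k) J hJ hdis hL U T hTU.symm n (n + 1)
  have l3 : h0d (k := k) _ = h0d (k := k) _ := (CurvLib.hIso (k := k) e 0).finrank_eq
  rw [l3] at l2
  exact l2.trans l1

include hJ eφ hdis hL hd hTU hAB in
/-- Sections on a thickening are detected by the lines of high degree. -/
theorem thick_upper (hU : ∀ i ∈ U, d i + n < -1) :
    h0d (k := k) (tensorMod L (quotMod ((∏ i, J i) ^ n))) ≤ h0d (k := k) (tensorMod L (quotMod ((∏ i ∈ T, J i) ^ n))) := by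
  have h0 : h0d (k := k) (tensorMod (tensorMod L (idealMod ((∏ i ∈ T, J i) ^ n))) (quotMod ((∏ i ∈ U, J i) ^ n))) = 0 := by
    haveI := sub_thick J hJ hdis φ eφ 0 U n (HilbPolyLib.isInvertible_tensor hL (isInvertible_prodPow J hJ T n))
      fun i hi => ⟨d i + 0, hasDeg_tensor J φ (hd i)
        (hasDeg_prodPow_zero J hJ hdis φ i T (Finset.disjoint_right.1 hTU hi) n),
        fun j hj => Or.inl ⟨rfl, by have := hU i hi; omega⟩⟩
    exact Module.finrank_zero_of_subsingleton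
  have h := (h0d_thick (k := k) J hJ hL (isEffCartier_prodPow J hJ T n) (isEffCartier_prodPow J hJ U n)).1
  rw [h0, zero_add, ← mul_pow, hAB] at h
  exact h

include hJ eφ hdis hL hd hTU hAB in
/-- Sections on the new layer are detected by the lines of high degree. -/
theorem layer_upper (hU : ∀ i ∈ U, d i + n < -1) :
    h0d (k := k) (tensorMod (tensorMod L (idealMod ((∏ i, J i) ^ n))) (quotMod (∏ i, J i))) ≤
      h0d (k := k) (tensorMod (tensorMod (tensorMod L (idealMod ((∏ i ∈ U, J i) ^ (n + 1))))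
        (idealMod ((∏ i ∈ T, J i) ^ n))) (quotMod (∏ i ∈ T, J i))) := by
  have hN : PicF.IsInvertible (tensorMod L (idealMod ((∏ i, J i) ^ n))) :=
    HilbPolyLib.isInvertible_tensor hL (isInvertible_prodPow J hJ Finset.univ n)
  have h := (h0d_thick (k := k) J hJ hN (isEffCartier_prodPow J hJ T 1) (isEffCartier_prodPow J hJ U 1)).1
  haveI := sub_thick J hJ hdis φ eφ 0 U 1 (HilbPolyLib.isInvertible_tensor hN (isInvertible_prodPow J hJ T 1))
    fun i hi => ⟨d i + n + 0, hasDeg_tensor J φ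
      (hasDeg_tensor J φ (hd i) (hasDeg_idealMod_prodPow J hJ hdis φ eφ i _ (Finset.mem_univ i) n))
      (hasDeg_prodPow_zero J hJ hdis φ i T (Finset.disjoint_right.1 hTU hi) 1),
      fun j hj => Or.inl ⟨rfl, by have := hU i hi; omega⟩⟩
  have h0 : h0d (k := k) (tensorMod (tensorMod (tensorMod L (idealMod ((∏ i, J i) ^ n)))
      (idealMod ((∏ i ∈ T, J i) ^ 1))) (quotMod ((∏ i ∈ U, J i) ^ 1))) = 0 := Module.finrank_zero_of_subsingleton
  rw [h0, zero_add] at h
  simp only [pow_one, hAB] at h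
  refine h.trans (le_of_eq (CurvLib.hIso (k := k) (nonempty_thick_congr (k := k) hN
    (HilbPolyLib.isInvertible_tensor (HilbPolyLib.isInvertible_tensor hL (isInvertible_prodPow J hJ U (n + 1)))
      (isInvertible_prodPow J hJ T n)) _ ?_).some 0).finrank_eq)
  obtain ⟨f, -⟩ := SurfNumLib.exists_idealMod_mul (isEffCartier_prodPow J hJ T n) (isEffCartier_prodPow J hJ U n)
  rw [← mul_pow, hAB] at f
  let ι := (∏ i ∈ T, J i).subschemeι
  have tB : ∀ m, Nonempty (pb ι (idealMod ((∏ i ∈ U, J i) ^ m)) ≅ Coh.structureModule (∏ i ∈ T, J i).subscheme) :=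
    fun m => by
      have t := nonempty_pb_prodPow_trivial J hJ hdis U T hTU.symm 1 m
      rw [pow_one] at t
      exact t
  obtain ⟨t₁⟩ := tB n
  obtain ⟨t₂⟩ := tB (n + 1)
  obtain ⟨p₁⟩ := BlowPtLib.nonempty_pb_tensor ι L (idealMod ((∏ i, J i) ^ n))
  obtain ⟨p₂⟩ := BlowPtLib.nonempty_pb_tensor ι (idealMod ((∏ i ∈ T, J i) ^ n)) (idealMod ((∏ i ∈ U, J i) ^ n))
  obtain ⟨p₃⟩ := BlowPtLib.nonempty_pb_tensor ι (tensorMod L (idealMod ((∏ i ∈ U, J i) ^ (n + 1))))
    (idealMod ((∏ i ∈ T, J i) ^ n))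
  obtain ⟨p₄⟩ := BlowPtLib.nonempty_pb_tensor ι L (idealMod ((∏ i ∈ U, J i) ^ (n + 1)))
  exact ⟨p₁ ≪≫ congrRight _ ((Scheme.Modules.pullback _).mapIso f.symm ≪≫ p₂ ≪≫
      congrRight _ t₁ ≪≫ swapIso _ _ ≪≫ unitLeft _) ≪≫
    congrLeft (p₄ ≪≫ congrRight _ t₂ ≪≫ swapIso _ _ ≪≫ unitLeft _).symm _ ≪≫ p₃.symm⟩

include hJ eφ hdis hL hd in
/-- **Sections extend to the next thickening.** -/
theorem finrank_thick_succ :
    Module.finrank k (Coh.HH X (tensorMod L (quotMod ((∏ i, J i) ^ (n + 1)))) 0) =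
      Module.finrank k (Coh.HH X (tensorMod (tensorMod L (idealMod ((∏ i, J i) ^ n))) (quotMod (∏ i, J i))) 0) +
      Module.finrank k (Coh.HH X (tensorMod L (quotMod ((∏ i, J i) ^ n))) 0) := by
  classical
  let T : Finset (Fin s) := Finset.univ.filter fun i => -1 ≤ d i + n
  let U : Finset (Fin s) := Finset.univ.filter fun i => ¬ -1 ≤ d i + n
  have hTU : Disjoint T U := Finset.disjoint_filter_filter_not _ _ _
  have hAB : (∏ i ∈ T, J i) * (∏ i ∈ U, J i) = ∏ i, J i := Finset.prod_filter_mul_prod_filter_not _ _ _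
  have hU : ∀ i ∈ U, d i + n < -1 := fun i hi => not_le.1 (Finset.mem_filter.1 hi).2
  have h1 := thick_lower J hJ hdis φ eφ hL d hd n T U hTU hAB fun i hi => (Finset.mem_filter.1 hi).2
  have h2 := thick_upper J hJ hdis φ eφ hL d hd n T U hTU hAB hU
  have h3 := layer_upper J hJ hdis φ eφ hL d hd n T U hTU hAB hU
  have h4 := (h0d_thick (k := k) J hJ hL (isEffCartier_prodPow J hJ Finset.univ n)
    (SurfAmpleLib.isEffCartier_finprod Finset.univ fun i _ => hJ i)).1
  rw [← pow_succ] at h4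
  exact le_antisymm h4 ((Nat.add_le_add h3 h2).trans h1)

end BlowRegLib
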