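import Groth.Agent.BlowPtLib.Proj
import Groth.Agent.BlowUpLib.Exists
import Groth.Agent.BlowRegLib.PosA
import Groth.Agent.MiscFlat6.AmpleGen
import Groth.Agent.MiscFlat6.TensorGG
import Groth.Agent.KoszOrthLib.PnGen
import Groth.Agent.AlgzLib.Gens

/-!
# Hyperplanes through a point generate the twisted exceptional ideal
-/

set_option autoImplicit false
set_option linter.style.haveILetI false
set_option linter.unusedSectionVars false
set_option maxHeartbeats 1000000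
set_option backward.isDefEq.respectTransparency false
set_option backward.isDefEq.respectTransparency.types false

universe u

open CategoryTheory CategoryTheory.Limits AlgebraicGeometry TopologicalSpace Opposite
open HilbPolyLib (congrLeft congrRight assocIso swapIso unitLeft)
open KFlatLib (pb)
open CohB1 (tensorMod)

noncomputable section

namespace BlowRegLib

/-- A reduced closed point pulls back to itself along a closed immersion. -/
theorem comap_point_closedImmersion {S Q : Scheme.{u}} (ι : S ⟶ Q) [IsClosedImmersion ι] (p : S)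
    (hp : IsClosed ({p} : Set S)) (hq : IsClosed ({ι p} : Set Q)) :
    (Scheme.IdealSheafData.vanishingIdeal ⟨{ι p}, hq⟩).comap ι = Scheme.IdealSheafData.vanishingIdeal ⟨{p}, hp⟩ := by
  refine Scheme.IdealSheafData.ext_of_iSup_eq_top
    (fun U : Q.affineOpens => (⟨ι ⁻¹ᵁ U.1, U.2.preimage ι⟩ : S.affineOpens)) ?_ fun U => ?_
  · refine top_le_iff.1 fun x _ => ?_
    obtain ⟨U, hU, hxU, -⟩ := exists_isAffineOpen_mem_and_subset (x := ι x) (U := ⊤) trivial
    exact Opens.mem_iSup.2 ⟨⟨U, hU⟩, hxU⟩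
  · rw [Groth.Agent.S4666.ideal_comap_eq _ ι U ⟨ι ⁻¹ᵁ U.1, U.2.preimage ι⟩ le_rfl]
    by_cases hpU : ι p ∈ U.1
    · rw [BlowPtLib.vanishingIdeal_eq_prime (⟨{ι p}, hq⟩ : Closeds Q) U (ι p) hpU fun x _ => Iff.rfl,
        BlowPtLib.vanishingIdeal_eq_prime (⟨{p}, hp⟩ : Closeds S) ⟨ι ⁻¹ᵁ U.1, U.2.preimage ι⟩ p hpU fun x _ => Iff.rfl]
      have hc : (IsAffineOpen.primeIdealOf (U.2.preimage ι) ⟨p, hpU⟩).asIdeal.comap (ι.appLE U.1 (ι ⁻¹ᵁ U.1) le_rfl).hom =
          (U.2.primeIdealOf ⟨ι p, hpU⟩).asIdeal :=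
        congrArg PrimeSpectrum.asIdeal
          (IsAffineOpen.comap_primeIdealOf_appLE (f := ι) U.1 U.2 (ι ⁻¹ᵁ U.1) (U.2.preimage ι) le_rfl hpU)
      rw [← hc]
      refine Ideal.map_comap_of_surjective _ ?_ _
      rw [← Scheme.Hom.app_eq_appLE]
      exact ι.app_surjective U.1 U.2
    · rw [BlowPtLib.vanishingIdeal_eq_top (⟨{ι p}, hq⟩ : Closeds Q) U (fun x hx h => hpU ((show x = ι p from h) ▸ hx)),
        BlowPtLib.vanishingIdeal_eq_top (⟨{p}, hp⟩ : Closeds S) ⟨ι ⁻¹ᵁ U.1, U.2.preimage ι⟩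
          (fun x hx h => hpU ((show x = p from h) ▸ hx)), Ideal.map_top]

variable {k : Type u} [Field k] [IsAlgClosed k]

/-- The twisting sheaf is globally generated. -/
theorem gg_twist_one (n : ℕ) : Curv2.IsGloballyGenerated (Twist.twistProjSpace n k 1) := by
  refine MiscFlat6.isGloballyGenerated_of_genSections (PicPnLib.twist_inv n k 1) fun x => ?_
  obtain ⟨σ, -, hσ⟩ := Groth.Agent.KoszOrthLib.exists_genAt_coordSec (n := n) (R := k) x
  exact ⟨σ, hσ⟩

/-- **Hyperplanes through a point.** -/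
theorem gg_point_twist {m : ℕ} {S S' : Scheme.{u}} (ι : S ⟶ CohB1.ProjSpace (m + 1) k) [IsClosedImmersion ι]
    (σ : S' ⟶ S) (P : S) (hP : IsClosed ({P} : Set S))
    (hJ : BlowUp.IsEffCartierIdeal ((Scheme.IdealSheafData.vanishingIdeal ⟨{P}, hP⟩).comap σ)) :
    Curv2.IsGloballyGenerated (tensorMod (pb σ (pb ι (Twist.twistProjSpace (m + 1) k 1)))
      (ClSub.idealMod ((Scheme.IdealSheafData.vanishingIdeal ⟨{P}, hP⟩).comap σ))) := by
  have hq : IsClosed ({ι P} : Set (CohB1.ProjSpace (m + 1) k)) := by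
    rw [← Set.image_singleton]
    exact ι.isClosedEmbedding.isClosedMap _ hP
  obtain ⟨Y, π, hπ⟩ := BlowUpLib.exists_isBlowUp (CohB1.ProjSpace (m + 1) k)
    (Scheme.IdealSheafData.vanishingIdeal ⟨{ι P}, hq⟩)
  have hcomp : (Scheme.IdealSheafData.vanishingIdeal (⟨{ι P}, hq⟩ : Closeds _)).comap (σ ≫ ι) =
      (Scheme.IdealSheafData.vanishingIdeal ⟨{P}, hP⟩).comap σ := by
    rw [Scheme.IdealSheafData.comap_comp, comap_point_closedImmersion ι P hP hq]
  obtain ⟨g, hg, -⟩ := hπ.2 _ (σ ≫ ι) (hcomp ▸ hJ)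
  obtain ⟨φ, -, ⟨e⟩⟩ := BlowPtLib.exists_projection hq hπ
  have hgg := gg_pullback g (gg_pullback φ (gg_twist_one (k := k) m))
  let J₀ := BlowPtLib.exJ hq π
  have hJ0 : PicF.IsInvertible (ClSub.idealMod J₀) := IntMultLib.isInvertible_idealMod _ hπ.1
  have hJ' := IntMultLib.isInvertible_idealMod _ hJ
  obtain ⟨t⟩ := BlowPtLib.nonempty_pb_tensor g (BlowPtLib.pO π 1) (ClSub.idealMod J₀)
  have hc : J₀.comap g = (Scheme.IdealSheafData.vanishingIdeal ⟨{P}, hP⟩).comap σ := by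
    rw [← Scheme.IdealSheafData.comap_comp, hg, hcomp]
  obtain ⟨f⟩ := SymSqLib.nonempty_pb_ideal g J₀ hJ0 (hc.symm ▸ hJ')
  refine MiscFlat6.isGloballyGenerated_of_iso ((Scheme.Modules.pullback g).mapIso e ≪≫ t ≪≫ congrLeft
    ((Scheme.Modules.pullbackComp g π).app _ ≪≫ (Scheme.Modules.pullbackCongr hg).app _ ≪≫
      ((Scheme.Modules.pullbackComp σ ι).app _).symm) _ ≪≫ congrRight _ (f ≪≫ eqToIso (by rw [hc]))) hgg

end BlowRegLib
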