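import Groth.Agent.BlowRegLib.AmpleCurves
import Groth.Agent.BlowRegLib.LinearGG
import Groth.Agent.BlowRegLib.ExcData
import Groth.Agent.BlowRegLib.ExcThick
import Groth.Agent.BlowRegLib.Counit
import Groth.Agent.IntMultLib.Asymp
import Groth.Agent.FormalCohLib.ProjAmple

/-!
# Ample twists on the blow-up of points of an embedded surface
-/

set_option autoImplicit false
set_option linter.style.haveILetI false
set_option linter.unusedSectionVars false
set_option maxHeartbeats 1000000
set_option backward.isDefEq.respectTransparency false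
set_option backward.isDefEq.respectTransparency.types false

universe u

open CategoryTheory CategoryTheory.Limits AlgebraicGeometry TopologicalSpace Opposite
open HilbPolyLib (congrLeft congrRight assocIso swapIso unitLeft)
open KFlatLib (pb)
open CohB1 (tensorMod tensorPow)
open ClSub (idealMod)

noncomputable section

namespace BlowRegLib

/-- Middle terms change places. -/
def midSwap {X : Scheme.{u}} (A B C D : X.Modules) :
    tensorMod (tensorMod A B) (tensorMod C D) ≅ tensorMod (tensorMod A C) (tensorMod B D) :=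
  assocIso _ _ _ ≪≫ congrRight A ((assocIso _ _ _).symm ≪≫ congrLeft (swapIso B C) D ≪≫ assocIso _ _ _) ≪≫
    (assocIso _ _ _).symm

/-- Pulled back powers add up. -/
theorem nonempty_pb_pow_add {X Y : Scheme.{u}} (σ : X ⟶ Y) (H : Y.Modules) (a b : ℕ) :
    Nonempty (tensorMod (pb σ (tensorPow H a)) (pb σ (tensorPow H b)) ≅ pb σ (tensorPow H (a + b))) := by
  obtain ⟨e⟩ := IntMultLib.nonempty_tensorPow_add H a b
  obtain ⟨t⟩ := BlowPtLib.nonempty_pb_tensor σ (tensorPow H a) (tensorPow H b)
  exact ⟨t.symm ≪≫ (Scheme.Modules.pullback σ).mapIso e.symm⟩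

/-- The structure sheaf is globally generated. -/
theorem gg_unit' (X : Scheme.{u}) : Curv2.IsGloballyGenerated (Coh.structureModule X) :=
  MiscFlat6.isGloballyGenerated_of_genSections CurvLib.isInvertible_structureModule fun x =>
    ⟨(1 : Γ(X, ⊤)), (AmpleLib.one_genOn (X := X) ⊤).genAt (show x ∈ (⊤ : X.Opens) from trivial)⟩

variable {X Y : Scheme.{u}} (σ : X ⟶ Y) (H : Y.Modules) {s : ℕ} (J : Fin s → X.IdealSheafData)
  (hJ : ∀ i, BlowUp.IsEffCartierIdeal (J i))
  (hgg : ∀ i, Curv2.IsGloballyGenerated (tensorMod (pb σ H) (idealMod (J i)))) (a : Fin s → ℕ)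

include hJ in
theorem isEffCartier_listPow : ∀ l : List (Fin s), BlowUp.IsEffCartierIdeal ((l.map fun i => J i ^ a i).prod)
  | [] => by
    rw [List.map_nil, List.prod_nil]
    exact SurfAmpleLib.isEffCartier_one
  | i :: l => by
    rw [List.map_cons, List.prod_cons]
    exact AlgSpRegLib.isEffCartier_mul (SurfAmpleLib.isEffCartier_pow' (hJ i) (a i)) (isEffCartier_listPow l)

include hJ in
/-- The tensor product of the ideals is the ideal of the product. -/
theorem nonempty_tensorList_idealMod : ∀ l : List (Fin s),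
    Nonempty (FGA.tensorList (l.map fun i => idealMod (J i ^ a i)) ≅ idealMod ((l.map fun i => J i ^ a i).prod))
  | [] => by
    rw [List.map_nil, List.map_nil, List.prod_nil, Scheme.IdealSheafData.one_eq_top]
    obtain ⟨e⟩ := BlowPtLib.nonempty_idealMod_top X
    exact ⟨e.symm⟩
  | i :: l => by
    rw [List.map_cons, List.map_cons, List.prod_cons]
    obtain ⟨e⟩ := nonempty_tensorList_idealMod l
    obtain ⟨f, -⟩ := SurfNumLib.exists_idealMod_mul (SurfAmpleLib.isEffCartier_pow' (hJ i) (a i))
      (isEffCartier_listPow J hJ a l)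
    exact ⟨congrRight _ e ≪≫ f⟩

include hJ hgg in
theorem gg_pow_twist (i : Fin s) : ∀ m : ℕ,
    Curv2.IsGloballyGenerated (tensorMod (pb σ (tensorPow H m)) (idealMod (J i ^ m)))
  | 0 => by
    rw [pow_zero, Scheme.IdealSheafData.one_eq_top]
    obtain ⟨e⟩ := BlowPtLib.nonempty_idealMod_top X
    exact MiscFlat6.isGloballyGenerated_of_iso
      (congrRight _ e ≪≫ congrLeft (KFlatLib.pullUnitIso σ) _ ≪≫ unitLeft _).symm (gg_unit' X)
  | m + 1 => by
    obtain ⟨f, -⟩ := SurfNumLib.exists_idealMod_mul (SurfAmpleLib.isEffCartier_pow' (hJ i) m) (hJ i)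
    rw [← pow_succ] at f
    obtain ⟨t⟩ := BlowPtLib.nonempty_pb_tensor σ (tensorPow H m) H
    exact MiscFlat6.isGloballyGenerated_of_iso
      (midSwap _ _ _ _ ≪≫ congrLeft t.symm _ ≪≫ congrRight _ f)
      (gg_tensor' (gg_pow_twist i m) (hgg i))

include hJ hgg in
/-- The total twist is globally generated. -/
theorem gg_list_twist : ∀ l : List (Fin s),
    Curv2.IsGloballyGenerated (tensorMod (pb σ (tensorPow H (l.map a).sum))
      (FGA.tensorList (l.map fun i => idealMod (J i ^ a i))))
  | [] => by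
    rw [List.map_nil, List.map_nil, List.sum_nil]
    exact MiscFlat6.isGloballyGenerated_of_iso
      (congrLeft (KFlatLib.pullUnitIso σ) _ ≪≫ unitLeft _).symm (gg_unit' X)
  | i :: l => by
    rw [List.map_cons, List.map_cons, List.sum_cons]
    obtain ⟨t⟩ := nonempty_pb_pow_add σ H (a i) (l.map a).sum
    exact MiscFlat6.isGloballyGenerated_of_iso (midSwap _ _ _ _ ≪≫ congrLeft t _)
      (gg_tensor' (gg_pow_twist σ H J hJ hgg i (a i)) (gg_list_twist l))

variable {k : Type u} [Field k] [IsAlgClosed k]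

/-- **Ample twists on the blow-up of finitely many points.** -/
theorem isAmple_blowup_twist {S S' : Scheme.{u}} [S.Over (Spec (CommRingCat.of k))]
    [IsProper (S ↘ Spec (CommRingCat.of k))] {m : ℕ} (ι : S ⟶ CohB1.ProjSpace (m + 1) k) [IsClosedImmersion ι]
    {s : ℕ} (P : Fin s → S) (hP : Function.Injective P) (hPc : ∀ i, IsClosed ({P i} : Set S))
    (hZ : IsClosed (Set.range P))
    (hreg : ∀ i, IsRegularLocalRing (S.presheaf.stalk (P i)) ∧ ringKrullDim (S.presheaf.stalk (P i)) = (2 : ℕ))
    (σ : S' ⟶ S) (hσ : BlowUp.IsBlowUp σ (Scheme.IdealSheafData.vanishingIdeal ⟨Set.range P, hZ⟩))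
    (N : ℕ) (a : Fin s → ℕ) (ha : ∀ i, 0 < a i) (hN : ∑ i, a i < N) :
    CohB1.IsAmple (tensorMod (pb σ (tensorPow (pb ι (Twist.twistProjSpace (m + 1) k 1)) N))
      (FGA.tensorList (List.ofFn fun i : Fin s => idealMod (lineI P hPc σ i ^ a i)))) := by
  haveI : LocallyOfFiniteType (S ↘ Spec (CommRingCat.of k)) := inferInstance
  haveI := CurvLib.isNoetherian k (X := S)
  haveI := isProper_b hσ
  letI : S'.Over (Spec (CommRingCat.of k)) := ⟨σ ≫ (S ↘ Spec (CommRingCat.of k))⟩
  haveI : IsProper (S' ↘ Spec (CommRingCat.of k)) := inferInstanceAs (IsProper (σ ≫ (S ↘ Spec (CommRingCat.of k))))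
  let O1 := Twist.twistProjSpace (m + 1) k 1
  let H := pb ι O1
  have hO : PicF.IsInvertible O1 := PicPnLib.twist_inv (m + 1) k 1
  have hH : PicF.IsInvertible H := AmpleDevLib.isInvertible_pb ι hO
  have hHa : CohB1.IsAmple H := AmpleDevLib.isAmple_pb ι hO (FormalCohLib.isAmple_twistProjSpace (m + 1) k)
  have hHgg : Curv2.IsGloballyGenerated H := gg_pullback ι (gg_twist_one (k := k) (m + 1))
  choose hJ φ hφ _ eφ using fun i => exists_line P hP hPc hZ hreg hσ i (k := k)
  haveI := hφ
  let J := lineI P hPc σ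
  have hgg := fun i => gg_point_twist ι σ (P i) (hPc i) (hJ i)
  have hsum : ((List.finRange s).map a).sum = ∑ i, a i := (Fin.sum_univ_def _).symm
  obtain ⟨c, hc0, rfl⟩ : ∃ c, 0 < c ∧ N = c + ((List.finRange s).map a).sum :=
    ⟨N - ∑ i, a i, by omega, by rw [hsum]; omega⟩
  rw [List.ofFn_eq_map]
  let T := FGA.tensorList ((List.finRange s).map fun i => idealMod (J i ^ a i))
  obtain ⟨eT⟩ := nonempty_tensorList_idealMod J hJ a (List.finRange s)
  have hT : PicF.IsInvertible T := HilbPolyLib.isInvertible_of_iso eT.symm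
    (IntMultLib.isInvertible_idealMod _ (isEffCartier_listPow J hJ a _))
  obtain ⟨t⟩ := nonempty_pb_pow_add σ H c ((List.finRange s).map a).sum
  let G := tensorMod (pb σ (tensorPow H ((List.finRange s).map a).sum)) T
  have hpow : ∀ n, PicF.IsInvertible (pb σ (tensorPow H n)) := fun n =>
    AmpleDevLib.isInvertible_pb σ (AmpleThLib.tensorPow_isInvertible hH n)
  have hG : PicF.IsInvertible G := HilbPolyLib.isInvertible_tensor (hpow _) hT
  refine AmpleDevLib.isAmple_of_iso (HilbPolyLib.isInvertible_tensor (hpow c) hG)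
    (HilbPolyLib.isInvertible_tensor (hpow _) hT) ((assocIso _ _ _).symm ≪≫ congrLeft t T) ?_
  have hHc : CohB1.IsAmple (tensorPow H c) := (AmpleThLib.isAmple_tensorPow_iff hc0 (hL := hH)).1 hHa
  have hHcgg : Curv2.IsGloballyGenerated (tensorPow H c) := by
    clear hc0 hN t hHc
    induction c with
    | zero => exact gg_unit' S
    | succ c ih => exact gg_tensor' ih hHgg
  refine isAmple_pullback_tensor_gg k σ hHc hHcgg hG (gg_list_twist σ H J hJ hgg a (List.finRange s))
    fun η hη hcon => ?_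
  -- a contracted curve lies in one of the lines
  have hηmem : η ∈ closure ({η} : Set S') := subset_closure rfl
  obtain ⟨i, hi⟩ : σ η ∈ Set.range P := by
    by_contra hy
    let W : S.Opens := ⟨(Set.range P)ᶜ, hZ.isOpen_compl⟩
    haveI := isIso_off_centre hσ W (BlowPtLib.comap_eq_top_of_disjoint W.ι _ fun z hz => by
      rw [← SetLike.mem_coe, Scheme.IdealSheafData.coe_support_vanishingIdeal] at hz
      exact z.2 hz)
    have hsub : closure ({η} : Set S') ⊆ {η} := fun x hx => by
      have hxW : σ x ∈ W := (hcon x hx).symm ▸ hy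
      have e : (σ ∣_ W) ⟨x, hxW⟩ = (σ ∣_ W) ⟨η, hy⟩ := Subtype.ext (by
        rw [morphismRestrict_base_coe, morphismRestrict_base_coe]
        exact hcon x hx)
      exact congrArg Subtype.val ((σ ∣_ W).homeomorph.injective e)
    haveI : Subsingleton (closure ({η} : Set S')) :=
      ⟨fun x y => Subtype.ext ((hsub x.2).trans (hsub y.2).symm)⟩
    have h0 : topologicalKrullDim (closure ({η} : Set S')) ≤ 0 := topologicalKrullDim_zero_of_discreteTopology _
    rw [hη] at h0
    exact absurd h0 (by decide)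
  let C := IntMultLib.ptIdeal η
  have hle : J i ≤ C := Scheme.IdealSheafData.le_support_iff_le_vanishingIdeal.1 fun x hx => by
    rw [Scheme.IdealSheafData.support_comap]
    show σ x ∈ (Scheme.IdealSheafData.vanishingIdeal (⟨{P i}, hPc i⟩ : Closeds S)).support
    rw [← SetLike.mem_coe, Scheme.IdealSheafData.coe_support_vanishingIdeal]
    exact (hcon x hx).trans hi.symm
  let j := Scheme.IdealSheafData.inclusion hle
  have hj : j ≫ (J i).subschemeι = C.subschemeι := Scheme.IdealSheafData.inclusion_subschemeι hle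
  haveI : IsClosedImmersion j := by
    haveI : IsClosedImmersion (j ≫ (J i).subschemeι) := hj ▸ inferInstance
    exact IsClosedImmersion.of_comp j (J i).subschemeι
  let A := tensorMod (pb σ (tensorPow H c)) G
  have hA : PicF.IsInvertible A := HilbPolyLib.isInvertible_tensor (hpow c) hG
  have hline : CohB1.IsAmple (pb (J i).subschemeι A) := by
    have hdis := comap_disjoint P hP hPc σ
    have hH0 : ∀ n, HasDeg J φ i (pb σ (tensorPow H n)) 0 := fun n => by
      obtain ⟨V, hPV, ⟨tV⟩⟩ := (AmpleThLib.tensorPow_isInvertible hH n) (P i)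
      obtain ⟨f⟩ := BlowPtLib.nonempty_pb_trivial ((J i).subschemeι ≫ σ) V (fun z => by
        have h := (Scheme.IdealSheafData.support_comap _ σ).le
          ((Scheme.IdealSheafData.range_subschemeι (J i)).subset ⟨z, rfl⟩)
        rw [SetLike.mem_coe.symm] at h
        rw [Scheme.Hom.comp_apply, show σ ((J i).subschemeι z) = P i from h]
        exact hPV) tV
      obtain ⟨z⟩ := hasDeg_structure J φ i
      exact ⟨(Scheme.Modules.pullbackComp (J i).subschemeι σ).app _ ≪≫ f ≪≫
        (KFlatLib.pullUnitIso _).symm ≪≫ z⟩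
    have hD : HasDeg J φ i (idealMod (∏ l, J l ^ a l)) (a i : ℤ) := by
      have h1 := hasDeg_idealMod_prodPow J hJ hdis φ eφ i {i} (Finset.mem_singleton_self i) (a i)
      rw [Finset.prod_singleton] at h1
      have hrest : BlowUp.IsEffCartierIdeal (∏ l ∈ Finset.univ.erase i, J l ^ a l) :=
        SurfAmpleLib.isEffCartier_finprod _ fun l _ => SurfAmpleLib.isEffCartier_pow' (hJ l) (a l)
      obtain ⟨t'⟩ := BlowPtLib.nonempty_pb_ideal_trivial (J i).subschemeι (∏ l ∈ Finset.univ.erase i, J l ^ a l)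
        (IntMultLib.isInvertible_idealMod _ hrest) fun z hz => by
          obtain ⟨l, hl, hzl⟩ := (SurfAmpleLib.mem_support_finprod _ _ _).1 hz
          rw [Scheme.IdealSheafData.support_pow _ _ (ha l).ne'] at hzl
          exact hdis i l (Finset.ne_of_mem_erase hl).symm _
            ((Scheme.IdealSheafData.range_subschemeι _).subset ⟨z, rfl⟩) hzl
      obtain ⟨z⟩ := hasDeg_structure J φ i
      obtain ⟨f, -⟩ := SurfNumLib.exists_idealMod_mul (SurfAmpleLib.isEffCartier_pow' (hJ i) (a i)) hrest
      rw [Finset.mul_prod_erase Finset.univ (fun l => J l ^ a l) (Finset.mem_univ i)] at f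
      obtain ⟨h⟩ := hasDeg_tensor J φ (i := i) h1 ⟨t' ≪≫ (KFlatLib.pullUnitIso _).symm ≪≫ z⟩
      exact ⟨(Scheme.Modules.pullback _).mapIso f.symm ≪≫ h ≪≫ eqToIso (by rw [add_zero])⟩
    rw [show ((List.finRange s).map fun l => J l ^ a l).prod = ∏ l, J l ^ a l from (Fin.prod_univ_def _).symm] at eT
    obtain ⟨e⟩ := hasDeg_tensor J φ (hH0 c)
      (hasDeg_tensor J φ (hH0 ((List.finRange s).map a).sum)
        (show HasDeg J φ i T (a i : ℤ) from ⟨(Scheme.Modules.pullback _).mapIso eT ≪≫ hD.some⟩))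
    simp only [zero_add] at e
    refine AmpleDevLib.isAmple_of_iso (AmpleDevLib.isInvertible_pb (φ i) (PicPnLib.twist_inv 1 k _))
      (AmpleDevLib.isInvertible_pb _ hA) e.symm ?_
    refine AmpleDevLib.isAmple_pb (φ i) (PicPnLib.twist_inv 1 k _) ?_
    obtain ⟨ep⟩ := BlowPtLib.nonempty_twist_tensorPow 1 k (a i)
    have hO1 := PicPnLib.twist_inv 1 k 1
    exact AmpleDevLib.isAmple_of_iso (AmpleThLib.tensorPow_isInvertible hO1 _) (PicPnLib.twist_inv 1 k _) ep
      ((AmpleThLib.isAmple_tensorPow_iff (ha i) (hL := hO1)).1 (FormalCohLib.isAmple_twistProjSpace 1 k))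
  exact AmpleDevLib.isAmple_of_iso (AmpleDevLib.isInvertible_pb j (AmpleDevLib.isInvertible_pb _ hA))
    (AmpleDevLib.isInvertible_pb _ hA)
    ((Scheme.Modules.pullbackComp j (J i).subschemeι).app A ≪≫ (Scheme.Modules.pullbackCongr hj).app A)
    (AmpleDevLib.isAmple_pb j (AmpleDevLib.isInvertible_pb _ hA) hline)

end BlowRegLib
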