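import Groth.Agent.BlowRegLib.ExcPoint
import Groth.Agent.BlowRegLib.RegTwo
import Groth.Agent.BlowRegLib.Counit
import Groth.Agent.AlgSpRegLib.ImageReduced
import Groth.Agent.HilbPolyLib.IntNum

/-!
# Blow-ups of closed points of arithmetic surfaces
-/

set_option autoImplicit false
set_option linter.style.haveILetI false
set_option linter.unusedSectionVars false
set_option maxHeartbeats 1000000
set_option backward.isDefEq.respectTransparency false
set_option backward.isDefEq.respectTransparency.types false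

universe u

open CategoryTheory CategoryTheory.Limits AlgebraicGeometry TopologicalSpace Opposite
open HilbPolyLib (congrLeft congrRight assocIso swapIso unitLeft)
open KFlatLib (pb)

noncomputable section

namespace BlowRegLib

variable {R : Type u} [CommRing R] [IsDomain R] [IsDiscreteValuationRing R]

/-- An arithmetic surface is of finite type. -/
theorem arith_instances {Y : Over (Spec (CommRingCat.of R))} (hY : ArSurf.IsArithSurface R Y) :
    IsIntegral Y.left ∧ IsLocallyNoetherian Y.left ∧ LocallyOfFiniteType Y.hom := by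
  obtain ⟨-, hi, -, -, n, i, hic, hi'⟩ := hY
  haveI := hic
  haveI : LocallyOfFiniteType (CohB1.ProjSpaceOver.toBase n (Spec (CommRingCat.of R))) := by
    obtain ⟨j, hj, -⟩ := PicPnLib.exists_square n R (𝟙 (Spec (CommRingCat.of R)))
    haveI : IsIso j := hj.isIso_fst_of_isIso
    haveI := StratLib.isProper_toSpec n R
    have e : CohB1.ProjSpaceOver.toBase n (Spec (CommRingCat.of R)) = inv j ≫ CohB1.ProjSpace.toSpec n R := by
      rw [IsIso.eq_inv_comp, hj.w, Category.comp_id]
    rw [e]
    infer_instance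
  haveI hft : LocallyOfFiniteType Y.hom := hi' ▸ inferInstance
  haveI : IsNoetherianRing (CommRingCat.of R) := inferInstanceAs (IsNoetherianRing R)
  exact ⟨hi, LocallyOfFiniteType.isLocallyNoetherian Y.hom, hft⟩

/-- The residue map at a point. -/
theorem specMap_stalkHom (Y : Over (Spec (CommRingCat.of R))) (y : Y.left) :
    Spec.map (CommRingCat.ofHom ((Y.left.residue y).hom.comp (Models.stalkHom R Y y))) =
      Y.left.fromSpecResidueField y ≫ Y.hom := by
  have h : CommRingCat.ofHom ((Y.left.residue y).hom.comp (Models.stalkHom R Y y)) =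
      (Scheme.ΓSpecIso (CommRingCat.of R)).inv ≫ Y.hom.appTop ≫ Y.left.presheaf.germ ⊤ y trivial ≫ Y.left.residue y := rfl
  rw [h, Spec.map_comp, Spec.map_comp, Spec.map_comp, Scheme.fromSpecResidueField, ← Scheme.fromSpecStalk_toSpecΓ]
  simp only [Category.assoc]
  rw [← Scheme.toSpecΓ_naturality_assoc, toSpecΓ_SpecMap_ΓSpecIso_inv, Category.comp_id]

section Curve

variable {Y : Over (Spec (CommRingCat.of R))} (hY : ArSurf.IsArithSurface R Y)
  {y : Y.left} (hy : IsClosed ({y} : Set Y.left)) {X : Scheme.{u}} {f : X ⟶ Y.left}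
  (hf : BlowUp.IsBlowUp f (Scheme.IdealSheafData.vanishingIdeal ⟨{y}, hy⟩))
  (E : ArSurf.VertComp R (Over.mk (f ≫ Y.hom))) (hE : Set.range (E.ι.base : E.curve.left → X) = f.base ⁻¹' {y})

include hY hy hf hE in
/-- **The exceptional curve over a closed point of an arithmetic surface.** -/
theorem arith_exc : ringKrullDim (Y.left.presheaf.stalk y) = (2 : ℕ) ∧
    BlowUp.IsEffCartierIdeal E.ι.ker ∧
    E.ι.ker = (Scheme.IdealSheafData.vanishingIdeal ⟨{y}, hy⟩).comap f ∧
    ∃ e : CohB1.ProjSpace 1 (Y.left.residueField y) ≅ E.curve.left,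
      e.hom ≫ E.ι ≫ f = CohB1.ProjSpace.toSpec 1 (Y.left.residueField y) ≫ Y.left.fromSpecResidueField y ∧
      Nonempty ((Scheme.Modules.pullback (e.hom ≫ E.ι)).obj (ClSub.idealMod E.ι.ker) ≅
        Twist.twistProjSpace 1 (Y.left.residueField y) 1) := by
  obtain ⟨hint, hln, -⟩ := arith_instances hY
  haveI := hint; haveI := hln
  haveI := hY.1 y
  let J := (Scheme.IdealSheafData.vanishingIdeal (⟨{y}, hy⟩ : Closeds Y.left)).comap f
  obtain ⟨d, hd⟩ : ∃ d : ℕ, ringKrullDim (Y.left.presheaf.stalk y) = (d : ℕ) :=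
    ⟨_, IsRegularLocalRing.spanFinrank_maximalIdeal.symm⟩
  obtain ⟨m, rfl⟩ : ∃ m, d = m + 1 := by
    refine ⟨d - 1, ?_⟩
    by_contra hne
    have hd0 : ringKrullDim (Y.left.presheaf.stalk y) = 0 := by
      rw [hd, show d = 0 by omega]; rfl
    haveI : Ring.KrullDimLE 0 (Y.left.presheaf.stalk y) := Ring.krullDimLE_iff.mpr hd0.le
    have hyg : y = genericPoint Y.left := by
      have hfield : IsField (Y.left.presheaf.stalk y) := Ring.KrullDimLE.isField_of_isDomain
      letI := hfield.toField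
      obtain ⟨U, hU, hyU, -⟩ := exists_isAffineOpen_mem_and_subset (x := genericPoint Y.left) (U := ⊤) trivial
      have hsp : genericPoint Y.left ⤳ y := genericPoint_specializes y
      have h1 : genericPoint Y.left ∈ Set.range (Y.left.fromSpecStalk y) := by
        rw [Scheme.range_fromSpecStalk]; exact hsp
      obtain ⟨p, hp⟩ := h1
      have hp0 : p = IsLocalRing.closedPoint (Y.left.presheaf.stalk y) := PrimeSpectrum.ext (by
        rcases p.asIdeal.eq_bot_or_top with h | h
        · rw [h]; exact (IsLocalRing.maximalIdeal_eq_bot).symm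
        · exact absurd h p.2.ne_top)
      rw [← hp, hp0, Scheme.fromSpecStalk_closedPoint]
    have huniv : ({y} : Set Y.left) = Set.univ := by
      rw [← hy.closure_eq, hyg]
      exact genericPoint_spec Y.left
    have h2 := hY.2.2.1
    have h3 : topologicalKrullDim Y.left ≤ (0 : ℕ) := by
      haveI : Subsingleton Y.left := ⟨fun a b => by
        rw [Set.mem_singleton_iff.1 (huniv.ge (Set.mem_univ a)), Set.mem_singleton_iff.1 (huniv.ge (Set.mem_univ b))]⟩
      refine SquareLib.topologicalKrullDim_le_of_stalks fun z => ?_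
      rw [show z = y from Subsingleton.elim _ _, hd0]
      rfl
    rw [h2] at h3
    exact absurd h3 (by norm_num)
  obtain ⟨φ, hφ, hφs, ⟨eφ⟩⟩ := exc_point y hy m hd hf
  haveI := hφ
  haveI := E.isClosedImmersion
  haveI := E.isIntegral
  have hrange : Set.range J.subschemeι = Set.range E.ι := by
    rw [Scheme.IdealSheafData.range_subschemeι, Scheme.IdealSheafData.support_comap,
      show Set.range E.ι = f ⁻¹' {y} from hE]
    ext z
    show f z ∈ (Scheme.IdealSheafData.vanishingIdeal (⟨{y}, hy⟩ : Closeds Y.left)).support ↔ _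
    rw [← SetLike.mem_coe, Scheme.IdealSheafData.coe_support_vanishingIdeal]
    rfl
  have hm : m = 1 := by
    have h1 : topologicalKrullDim J.subscheme = 1 := by
      have e := J.subschemeι.isEmbedding.toHomeomorph.trans ((Homeomorph.setCongr hrange).trans E.ι.isEmbedding.toHomeomorph.symm)
      rw [IsHomeomorph.topologicalKrullDim_eq _ e.isHomeomorph, E.dim_eq]
    have h2 := IsHomeomorph.topologicalKrullDim_eq _ φ.homeomorph.isHomeomorph
    rw [h1, GenusZeroLib.dim_projSpace] at h2
    exact_mod_cast h2.symm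
  subst hm
  haveI : IsIntegral (CohB1.ProjSpace 1 (Y.left.residueField y)) := GenusZeroLib.isIntegral_projSpace _ _
  haveI : IsReduced J.subscheme := isReduced_of_isOpenImmersion φ
  have hker : E.ι.ker = J := by
    rw [AlgSpRegLib.ker_eq_vanishingIdeal E.ι, AlgSpRegLib.eq_vanishingIdeal_support J]
    congr 1
    refine Closeds.ext ?_
    rw [Closeds.coe_closure, ← hrange, J.range_subschemeι]
    exact J.support.isClosed.closure_eq
  let ψ : E.curve.left ⟶ J.subscheme := IsClosedImmersion.lift J.subschemeι E.ι (by rw [J.ker_subschemeι, hker])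
  have hψ : ψ ≫ J.subschemeι = E.ι := IsClosedImmersion.lift_fac _ _ _
  let ψ' : J.subscheme ⟶ E.curve.left := IsClosedImmersion.lift E.ι J.subschemeι (by rw [J.ker_subschemeι, hker])
  have hψ' : ψ' ≫ E.ι = J.subschemeι := IsClosedImmersion.lift_fac _ _ _
  haveI : IsIso ψ' := ⟨ψ, by rw [← cancel_mono J.subschemeι, Category.assoc, hψ, hψ', Category.id_comp],
    by rw [← cancel_mono E.ι, Category.assoc, hψ', hψ, Category.id_comp]⟩
  refine ⟨hd, hker ▸ hf.1, hker, (asIso φ).symm ≪≫ asIso ψ', ?_, ?_⟩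
  · simp only [Iso.trans_hom, Iso.symm_hom, asIso_hom, asIso_inv, Category.assoc]
    rw [reassoc_of% hψ', ← hφs, IsIso.inv_hom_id_assoc]
  · show Nonempty (pb ((inv φ ≫ ψ') ≫ E.ι) (ClSub.idealMod E.ι.ker) ≅ _)
    rw [hker, Category.assoc, hψ']
    exact ⟨((Scheme.Modules.pullbackComp (inv φ) J.subschemeι).app _).symm ≪≫
      (Scheme.Modules.pullback (inv φ)).mapIso eφ.symm ≪≫ (Scheme.Modules.pullbackComp _ _).app _ ≪≫
      (Scheme.Modules.pullbackCongr (IsIso.inv_hom_id φ)).app _ ≪≫ (Scheme.Modules.pullbackId _).app _⟩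

include hY hy hf hE in
/-- **The invariants of the exceptional curve.** -/
theorem arith_exc_numbers (hys : Y.hom.base y = IsLocalRing.closedPoint R)
    (L : X.Modules) (hL : ClSub.IsInverseOf L (ClSub.idealMod E.ι.ker)) :
    Models.IsExcCurve E.ι ∧
      (∃ e : CohB1.ProjSpace 1 (Y.left.residueField y) ≅ E.curve.left,
        e.hom ≫ E.ι ≫ f = CohB1.ProjSpace.toSpec 1 (Y.left.residueField y) ≫ Y.left.fromSpecResidueField y) ∧
      (letI : Algebra R (Y.left.residueField y) := ((Y.left.residue y).hom.comp (Models.stalkHom R Y y)).toAlgebra;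
        Module.length R (Y.left.residueField y) = (Models.wdeg R (Over.mk (f ≫ Y.hom)) E : ℕ∞)) ∧
      ArSurf.inter R (Over.mk (f ≫ Y.hom)) L E = -(Models.wdeg R (Over.mk (f ≫ Y.hom)) E : ℤ) := by
  obtain ⟨-, hEc, hker, e, he, ⟨eI⟩⟩ := arith_exc hY hy hf E hE
  refine ⟨⟨hEc, _, inferInstance, e, ⟨eI⟩⟩, ⟨e, he⟩, ?_⟩
  obtain ⟨-, -, hft⟩ := arith_instances hY
  haveI := hft
  let K := Y.left.residueField y
  let κ := IsLocalRing.ResidueField R
  let g : R →+* K := (Y.left.residue y).hom.comp (Models.stalkHom R Y y)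
  letI : Algebra R K := g.toAlgebra
  have hg : Spec.map (CommRingCat.ofHom g) = Y.left.fromSpecResidueField y ≫ Y.hom := specMap_stalkHom Y y
  have hgker : ∀ r ∈ IsLocalRing.maximalIdeal R, g r = 0 := fun r hr => by
    have h1 : Spec.map (CommRingCat.ofHom g) (IsLocalRing.closedPoint K) = IsLocalRing.closedPoint R := by
      rw [hg]
      refine Eq.trans ?_ hys
      exact congrArg Y.hom.base (Y.left.fromSpecResidueField_apply y _)
    have h2 : r ∈ (Spec.map (CommRingCat.ofHom g) (IsLocalRing.closedPoint K)).asIdeal := by rw [h1]; exact hr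
    have h3 : g r ∈ IsLocalRing.maximalIdeal K := h2
    rwa [IsLocalRing.maximalIdeal_eq_bot, Ideal.mem_bot] at h3
  let gκ : κ →+* K := Ideal.Quotient.lift _ g hgker
  letI : Algebra κ K := gκ.toAlgebra
  haveI : IsScalarTower R κ K := IsScalarTower.of_algebraMap_eq fun r => rfl
  have hstr : Spec.map (CommRingCat.ofHom (algebraMap κ K)) ≫ Spec.map (CommRingCat.ofHom (IsLocalRing.residue R)) =
      Y.left.fromSpecResidueField y ≫ Y.hom := by
    rw [← Spec.map_comp, ← hg]; rfl
  haveI : Module.Finite κ K := by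
    haveI : IsClosedImmersion (Y.left.fromSpecResidueField y) := IsClosedImmersion.of_isPreimmersion _ (by
      rw [Scheme.range_fromSpecResidueField]; exact hy)
    haveI : LocallyOfFiniteType (Spec.map (CommRingCat.ofHom g)) := by rw [hg]; infer_instance
    have hgft : g.FiniteType := by
      have := (HasRingHomProperty.Spec_iff (P := @LocallyOfFiniteType) (φ := CommRingCat.ofHom g)).1 inferInstance
      exact this
    haveI : Algebra.FiniteType κ K :=
      RingHom.FiniteType.of_comp_finiteType (f := IsLocalRing.residue R) (g := gκ) hgft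
    exact finite_of_finite_type_of_isJacobsonRing κ K
  -- the curve over the residue field
  let P1 := CohB1.ProjSpace 1 K
  letI : P1.Over (Spec (CommRingCat.of κ)) := ⟨CohB1.ProjSpace.toSpec 1 K ≫ specStr (k := κ) K⟩
  letI : E.curve.left.Over (Spec (CommRingCat.of κ)) := ⟨E.curve.hom⟩
  haveI := E.isClosedImmersion
  haveI : IsClosedImmersion (Spec.map (CommRingCat.ofHom (IsLocalRing.residue R))) :=
    IsClosedImmersion.spec_of_surjective _ IsLocalRing.residue_surjective
  have hcomp : e.hom ≫ (E.curve.left ↘ Spec (CommRingCat.of κ)) = P1 ↘ Spec (CommRingCat.of κ) := by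
    show e.hom ≫ E.curve.hom = CohB1.ProjSpace.toSpec 1 K ≫ specStr (k := κ) K
    rw [← cancel_mono (Spec.map (CommRingCat.ofHom (IsLocalRing.residue R))), Category.assoc, Category.assoc, ← E.w, hstr]
    show e.hom ≫ E.ι ≫ f ≫ Y.hom = _
    rw [reassoc_of% he]
  haveI : IsProper (P1 ↘ Spec (CommRingCat.of κ)) := by
    haveI := StratLib.isProper_toSpec 1 K
    haveI : IsFinite (specStr (k := κ) K) := by
      rw [IsFinite.SpecMap_iff]; exact RingHom.finite_algebraMap.2 inferInstance
    exact inferInstanceAs (IsProper (CohB1.ProjSpace.toSpec 1 K ≫ specStr (k := κ) K))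
  haveI : IsProper (E.curve.left ↘ Spec (CommRingCat.of κ)) := by
    rw [show E.curve.left ↘ Spec (CommRingCat.of κ) = e.inv ≫ (P1 ↘ Spec (CommRingCat.of κ)) by rw [← hcomp, e.inv_hom_id_assoc]]
    infer_instance
  haveI : ∀ n : ℤ, Coh.IsQCoh (Twist.twistProjSpace 1 K n) := fun n =>
    FinLFAnn.isQCoh_of_isFinLocFree (AmpleDevLib.isFinLocFree_of_isInvertible (PicPnLib.twist_inv 1 K n))
  have hE : ∀ n : ℤ, Curv2.euler κ E.curve.left (pb e.inv (Twist.twistProjSpace 1 K n)) =
      (Module.finrank κ K : ℤ) * (n + 1) := fun n => by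
    rw [BlowPtLib.euler_pb_iso e.inv (by rw [← hcomp, e.inv_hom_id_assoc]), euler_line_ext K n]
  obtain ⟨z⟩ := PicPnLib.twist_zero 1 K
  let eO : pb e.inv (Twist.twistProjSpace 1 K 0) ≅ Coh.structureModule E.curve.left :=
    (Scheme.Modules.pullback e.inv).mapIso z ≪≫ KFlatLib.pullUnitIso e.inv
  have hO : Curv2.euler κ E.curve.left (Coh.structureModule E.curve.left) = (Module.finrank κ K : ℤ) := by
    rw [← CurvLib.euler_congr (k := κ) eO, hE]; ring
  have hw : (Models.wdeg R (Over.mk (f ≫ Y.hom)) E : ℤ) = (Module.finrank κ K : ℤ) := by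
    rw [← hO, CurvLib.euler_eq_finrank (k := κ) fun n hn => ?_]
    · rfl
    · haveI : Coh.IsQCoh (Coh.structureModule E.curve.left) := QCohLib.isQCoh_unit
      refine HdgLefLib.sub_iso eO n ?_
      exact (QuotSchLib.subsingleton_HH_pullback_iso e.symm (Twist.twistProjSpace 1 K 0) n).2
        (PnCohLib.subsingleton_HH_twist (n := 1) (R := K) 0 n (by omega) (by omega))
  refine ⟨?_, ?_⟩
  · rw [show Models.wdeg R (Over.mk (f ≫ Y.hom)) E = Module.finrank κ K by exact_mod_cast hw]
    rw [Module.length_eq_of_surjective (S := R) (R := κ) (M := K) IsLocalRing.residue_surjective,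
      Module.length_eq_finrank]
  · obtain ⟨eL⟩ := hL
    obtain ⟨pt⟩ := BlowPtLib.nonempty_pb_tensor E.ι L (ClSub.idealMod E.ι.ker)
    obtain ⟨i⟩ := nonempty_pb_twist_inverse (R := K) e.inv
    let eI' : pb E.ι (ClSub.idealMod E.ι.ker) ≅ pb e.inv (Twist.twistProjSpace 1 K 1) :=
      ((Scheme.Modules.pullbackId _).app _).symm ≪≫ (Scheme.Modules.pullbackCongr e.inv_hom_id.symm).app _ ≪≫
        ((Scheme.Modules.pullbackComp e.inv e.hom).app _).symm ≪≫
        (Scheme.Modules.pullback e.inv).mapIso ((Scheme.Modules.pullbackComp e.hom E.ι).app _ ≪≫ eI)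
    obtain ⟨e1⟩ := nonempty_inverse_unique (L := pb E.ι (ClSub.idealMod E.ι.ker)) (A := pb E.ι L)
      (B := pb e.inv (Twist.twistProjSpace 1 K (-1)))
      (pt.symm ≪≫ (Scheme.Modules.pullback E.ι).mapIso eL ≪≫ KFlatLib.pullUnitIso E.ι) (congrLeft eI' _ ≪≫ i)
    have hd : topologicalKrullDim E.curve.left ≤ ((1 : ℕ) : WithBot ℕ∞) := E.dim_eq.le
    rw [ArSurf.inter, ArSurf.curveDeg, HilbPolyLib.eulerCharLE_eq (k := κ) hd, HilbPolyLib.eulerCharLE_eq (k := κ) hd,
      CurvLib.euler_congr (k := κ) e1, hE, hO, hw]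
    ring

include hY hy hf hE in
/-- **Picard groups along the blow-up of a closed point.** -/
theorem arith_pic :
    (∀ L : Y.left.Modules, PicF.IsInvertible L →
        Nonempty ((Scheme.Modules.pullback f).obj L ≅ Coh.structureModule X) →
          Nonempty (L ≅ Coh.structureModule Y.left)) ∧
      ∀ F : X.Modules, PicF.IsInvertible F →
        Nonempty ((Scheme.Modules.pullback E.ι).obj F ≅ Coh.structureModule E.curve.left) →
          ∃ L : Y.left.Modules, PicF.IsInvertible L ∧ Nonempty ((Scheme.Modules.pullback f).obj L ≅ F) := by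
  obtain ⟨hint, hln, -⟩ := arith_instances hY
  haveI := hint; haveI := hln
  haveI := hY.1 y
  obtain ⟨hd, -, hker, e, he, -⟩ := arith_exc hY hy hf E hE
  let Z : Fin 1 → Y.left := fun _ => y
  have hZr : Set.range Z = {y} := Set.range_const
  have hZ : IsClosed (Set.range Z) := hZr ▸ hy
  have hvi : Scheme.IdealSheafData.vanishingIdeal (⟨Set.range Z, hZ⟩ : Closeds Y.left) =
      Scheme.IdealSheafData.vanishingIdeal ⟨{y}, hy⟩ := by
    congr 1; exact Closeds.ext hZr
  have hf' : BlowUp.IsBlowUp f (Scheme.IdealSheafData.vanishingIdeal ⟨Set.range Z, hZ⟩) := hvi ▸ hf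
  have hpack : ∀ F : X.Modules, PicF.IsInvertible F →
      Nonempty ((Scheme.Modules.pullback E.ι).obj F ≅ Coh.structureModule E.curve.left) →
      LocReg (Scheme.IdealSheafData.vanishingIdeal ⟨Set.range Z, hZ⟩) 1 ∧
        (FlatMod.IsFinLocFree ((Coh.push f).obj F) ∧
          IsIso ((Scheme.Modules.pullbackPushforwardAdjunction f).counit.app F)) ∧
        (∀ y' : Y.left, ∃ W : Y.left.Opens, y' ∈ W ∧
          Nonempty (((Coh.push f).obj F).restrict W.ι ≅ Coh.structureModule (W : Scheme.{u}))) := fun F hF ⟨t⟩ => by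
    have hFl := AmpleDevLib.isFinLocFree_of_isInvertible hF
    have hexc : BlowUp.exceptional f (Scheme.IdealSheafData.vanishingIdeal ⟨Set.range Z, hZ⟩) = E.ι.ker := by
      show (Scheme.IdealSheafData.vanishingIdeal ⟨Set.range Z, hZ⟩).comap f = _
      rw [hvi, hker]
    haveI := E.isClosedImmersion
    obtain ⟨hreg, hloc⟩ := counit_of_trivial_on_exceptional Z (fun a b _ => Subsingleton.elim a b) (fun _ => hy) hZ
      (fun _ => ⟨hY.1 y, hd⟩) hf' hFl 1 (by
        rw [hexc]
        let ψ := IsClosedImmersion.lift E.ι E.ι.ker.subschemeι (by rw [Scheme.IdealSheafData.ker_subschemeι])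
        exact ⟨(Scheme.Modules.pullbackCongr (IsClosedImmersion.lift_fac E.ι E.ι.ker.subschemeι _).symm).app F ≪≫
          ((Scheme.Modules.pullbackComp ψ E.ι).app F).symm ≪≫ (Scheme.Modules.pullback ψ).mapIso t ≪≫
          KFlatLib.pullUnitIso ψ ≪≫ (freeOne _).symm⟩)
    refine ⟨hreg, counit_of_locally_trivial hf' hreg hloc, fun y' => ?_⟩
    obtain ⟨W, n, hW, ⟨s⟩⟩ := hloc y'
    refine ⟨W, hW, ?_⟩
    obtain ⟨s'⟩ := nonempty_push_free hf' hreg s
    have hn : n = 1 := by
      by_cases hne : Nonempty ((f ⁻¹ᵁ W : X.Opens) : Scheme.{u})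
      · exact CohCmpLib.eq_one_of_rank_one_free (AmpleThLib.restrict_isInvertible hF _) s
      · exfalso
        refine hne ?_
        by_cases hyy : y' = y
        · obtain ⟨c⟩ := (inferInstance : Nonempty E.curve.left)
          have h1 : E.ι c ∈ f.base ⁻¹' {y} := hE ▸ ⟨c, rfl⟩
          exact ⟨⟨E.ι c, show f (E.ι c) ∈ W from (show f (E.ι c) = y from h1) ▸ hyy ▸ hW⟩⟩
        · let V : Y.left.Opens := ⟨({y} : Set Y.left)ᶜ, hy.isOpen_compl⟩
          haveI := isIso_off_centre hf V (BlowPtLib.comap_eq_top_of_disjoint V.ι _ fun z h => by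
            rw [← SetLike.mem_coe, Scheme.IdealSheafData.coe_support_vanishingIdeal] at h
            exact z.2 h)
          obtain ⟨a, ha⟩ := (f ∣_ V).homeomorph.surjective ⟨y', hyy⟩
          refine ⟨⟨a.1, ?_⟩⟩
          show f a.1 ∈ W
          rw [show f a.1 = y' from (morphismRestrict_base_coe f V a).symm.trans (congrArg Subtype.val ha)]
          exact hW
    subst hn
    exact ⟨s' ≪≫ freeOne _⟩
  have hO : PicF.IsInvertible (Coh.structureModule X) := CurvLib.isInvertible_structureModule
  obtain ⟨hreg, -, -⟩ := hpack _ hO ⟨KFlatLib.pullUnitIso E.ι⟩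
  refine ⟨fun L hL ⟨t⟩ => ?_, fun F hF ht => ?_⟩
  · haveI := isIso_unit hf' hreg (AmpleDevLib.isFinLocFree_of_isInvertible hL)
    haveI := isIso_unitToPush hf' hreg
    exact ⟨asIso ((Scheme.Modules.pullbackPushforwardAdjunction f).unit.app L) ≪≫
      (Scheme.Modules.pushforward f).mapIso t ≪≫ (asIso (ClSub.unitToPush f)).symm⟩
  · obtain ⟨-, ⟨-, hiso⟩, hinv⟩ := hpack F hF ht
    haveI := hiso
    exact ⟨(Coh.push f).obj F, hinv, ⟨asIso ((Scheme.Modules.pullbackPushforwardAdjunction f).counit.app F)⟩⟩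

end Curve

end BlowRegLib
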