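import Groth.Agent.SpSeqLib.BiSS
import Groth.Agent.SpSeqLib.AcyclicComplex

/-!
# The spectral sequence of a bicomplex, from page one
-/

universe w v u

set_option autoImplicit false
set_option linter.style.haveILetI false
set_option linter.unusedSectionVars false
set_option backward.isDefEq.respectTransparency false
set_option backward.isDefEq.respectTransparency.types false

open CategoryTheory CategoryTheory.Limits CategoryTheory.Pretriangulated ComposableArrows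

namespace BlowRegLib.BiSSAb

open SpSeqLib SpSeqLib.BiSS SpSeqLib.StupidFil SpSeqLib.BiTotal

variable {C : Type u} [Category.{v} C] [Abelian C] [HasCoproducts.{0} C] [AB4OfSize.{0} C]
  [EnoughInjectives C] [HasInjectiveResolutions C]

theorem isSAcyclic_id [HasDerivedCategory.{w} C] (Z : C) : IsSAcyclic (𝟭 C) Z := by
  rw [isSAcyclic_iff]
  intro q hq
  obtain ⟨n, rfl⟩ : ∃ n, q = n + 1 := ⟨q - 1, by omega⟩
  let R : InjectiveResolution Z := injectiveResolution Z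
  refine IsZero.of_iso ?_ (R.isoRightDerivedObj (𝟭 C) (n + 1))
  exact (ShortComplex.exact_iff_isZero_homology _).1 ((R.cocomplex_exactAt_succ n).map (𝟭 C))

theorem nonempty_phi_id [HasDerivedCategory.{w} C] (K : CochainComplex C ℤ) (hK : CochainComplex.plus C K) (n : ℤ) :
    Nonempty (((phi (𝟭 C)).shift n).obj (qPlus K hK) ≅ K.homology n) := by
  obtain ⟨m, hm⟩ := hK
  haveI := hm
  obtain ⟨e⟩ := nonempty_phiShiftQPlus_iso (𝟭 C) K m (fun k => isSAcyclic_id _) n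
  exact ⟨e ≪≫ (HomologicalComplex.homologyFunctor C _ n).mapIso
    (HomologicalComplex.Hom.isoOfComponents (fun _ => Iso.refl _)
      (fun _ _ _ => (Category.id_comp _).trans (Category.comp_id _).symm))⟩

/-- **The spectral sequence of a first quadrant bicomplex whose rows resolve a complex.** -/
theorem exists_spectralSequence (M : Bi C) (hM : ∀ p q : ℤ, p < 0 ∨ q < 0 → IsZero ((M.X p).X q))
    (G : CochainComplex C ℤ) [G.IsStrictlyGE 0]
    (ε : (HomologicalComplex.single (CochainComplex C ℤ) (ComplexShape.up ℤ) 0).obj G ⟶ M) [Mono ε]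
    (hrow : ∀ q : ℤ, QuasiIso (((HomologicalComplex.eval C (ComplexShape.up ℤ) q).mapHomologicalComplex
      (ComplexShape.up ℤ)).map ε))
    (H : ℤ → C) (hH : ∀ n : ℕ, Nonempty (H n ≅ G.homology n)) (hH' : ∀ n : ℤ, n < 0 → IsZero (H n)) :
    ∃ (E : CohomologicalSpectralSequence C 1) (ab : SpSeq.Abutment E H),
      (∀ n, ab.IsFinite n) ∧ SpSeq.IsBounded E ∧
      (∀ p q : ℕ, Nonempty ((E.page 1 le_rfl).X ((p : ℤ), (q : ℤ)) ≅ (M.X p).homology q)) ∧
      ∀ p q : ℤ, p < 0 ∨ q < 0 → IsZero ((E.page 1 le_rfl).X (p, q)) := by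
  letI : HasDerivedCategory.{max u v} C := HasDerivedCategory.standard C
  have harith₁ : ∀ (p : ℕ) (k : ℤ), k < 0 → k + -(p : ℤ) < 0 := fun p k h => by omega
  have harith₂ : ∀ p q : ℕ, -(p : ℤ) + ((p : ℤ) + q) = q := fun p q => by omega
  let S : C ⥤ C := 𝟭 C
  haveI hMGE : (tot.obj M).IsStrictlyGE 0 := isStrictlyGE_tot M 0 fun p q hpq => hM p q (by lia)
  haveI := quasiIso_tot_of_row M hM G ε hrow
  obtain ⟨eZ⟩ := nonempty_tot_single_iso 0 G
  let eG := eZ ≪≫ (shiftFunctorZero' (CochainComplex C ℤ) (-0) neg_zero).app G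
  let i : G ⟶ tot.obj M := eG.inv ≫ tot.map ε
  haveI : QuasiIso i := by dsimp only [i]; infer_instance
  let Y := SpSeqLib.BiSS.obj M hM S
  have he : ∀ n : ℤ, Nonempty (H n ≅ total Y n) := by
    intro n
    obtain ⟨e⟩ := nonempty_obj_iso M hM S (bot_le : (⊥ : EInt) ≤ ⊤) n
    have hb : IsZero ((seq M (bot_le : (⊥ : EInt) ≤ ⊤)).X₁) := by
      rw [IsZero.iff_id_eq_zero]
      ext m : 1
      exact (isZero_tX M (by simp [Keep])).eq_of_src _ _
    have hS := seq_shortExact M (bot_le : (⊥ : EInt) ≤ ⊤)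
    haveI : IsIso (seq M (bot_le : (⊥ : EInt) ≤ ⊤)).g := hS.isIso_g_iff.2 hb
    haveI : IsIso (tObjι M ⊤) := by
      haveI : ∀ m, IsIso ((tObjι M ⊤).f m) := fun m => isIso_tι M le_top
      exact HomologicalComplex.Hom.isIso_of_components _
    let g : (seq M (bot_le : (⊥ : EInt) ≤ ⊤)).X₃ ⟶ M :=
      (asIso (seq M (bot_le : (⊥ : EInt) ≤ ⊤)).g).inv ≫ tObjι M ⊤
    haveI : IsIso g := by dsimp only [g]; infer_instance
    haveI : QuasiIso (tot.map g) := inferInstance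
    obtain ⟨e'⟩ := nonempty_phi_id G ⟨0, inferInstance⟩ n
    let et := e ≪≫ ((phi S).shift n).mapIso (qPlusIso (hL := ⟨0, inferInstance⟩) (tot.map g) ≪≫
      (qPlusIso (hK := ⟨0, inferInstance⟩) (hL := ⟨0, inferInstance⟩) i).symm) ≪≫ e'
    by_cases hn : 0 ≤ n
    · obtain ⟨k, rfl⟩ := Int.eq_ofNat_of_zero_le hn
      obtain ⟨eh⟩ := hH k
      exact ⟨eh ≪≫ et.symm⟩
    · exact ⟨(hH' n (by omega)).iso (IsZero.of_iso ((ShortComplex.exact_iff_isZero_homology _).1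
        (ShortComplex.exact_of_isZero_X₂ _ (G.isZero_of_isStrictlyGE 0 n (by omega)))) et)⟩
  refine ⟨EOne.sseq Y, EOne.abutment₁ Y fun n => (he n).some, EOne.isFinite_abutment₁ Y _, EOne.isBounded Y,
    fun p q => ?_,
    fun p q h => h.elim (EOne.isZero_page_of_fst_neg Y 1 le_rfl p q) (EOne.isZero_page_of_snd_neg Y 1 le_rfl p q)⟩
  haveI hp : (M.X (p : ℤ)).IsStrictlyGE 0 := by
    rw [CochainComplex.isStrictlyGE_iff]
    exact fun k hk => hM p k (Or.inr hk)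
  let hij : ((-(p : ℤ) : ℤ) : EInt) ≤ ((-(p : ℤ) + 1 : ℤ) : EInt) := WithBotTop.coe_le_coe.2 (by omega)
  obtain ⟨e₂⟩ := nonempty_obj_iso M hM S hij ((p : ℤ) + q)
  obtain ⟨e₃⟩ := nonempty_step_iso_single M hij (p : ℤ) (by rw [EOne.keep_coe]; omega)
    (by rw [EOne.keep_coe]; omega) (fun m hm => by rw [EOne.keep_coe, EOne.keep_coe]; omega)
  obtain ⟨e₄⟩ := nonempty_tot_single_iso (p : ℤ) (M.X (p : ℤ))
  haveI : ((M.X (p : ℤ))⟦-(p : ℤ)⟧).IsStrictlyGE 0 := by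
    rw [CochainComplex.isStrictlyGE_iff]
    exact fun k hk => (hM p (k + -(p : ℤ)) (Or.inr (harith₁ p k hk))).of_iso
      ((M.X (p : ℤ)).shiftFunctorObjXIso (-(p : ℤ)) k (k + -(p : ℤ)) rfl)
  let e₅ : qPlus ((M.X (p : ℤ))⟦-(p : ℤ)⟧) ⟨0, inferInstance⟩ ≅ (qPlus (M.X (p : ℤ)) ⟨0, hp⟩)⟦-(p : ℤ)⟧ :=
    DerivedCategory.Plus.ι.preimageIso ((DerivedCategory.Q.commShiftIso (-(p : ℤ))).app (M.X (p : ℤ)) ≪≫
      ((DerivedCategory.Plus.ι.commShiftIso (-(p : ℤ))).app (qPlus (M.X (p : ℤ)) ⟨0, hp⟩)).symm)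
  obtain ⟨e₆⟩ := nonempty_phi_id (M.X (p : ℤ)) ⟨0, hp⟩ (q : ℤ)
  exact ⟨EOne.pageOneIso Y p q ≪≫ e₂ ≪≫ ((phi S).shift ((p : ℤ) + q)).mapIso
      (qPlusIso (hL := ⟨0, inferInstance⟩) ((tot.mapIso e₃ ≪≫ e₄).hom) ≪≫ e₅) ≪≫
    ((phi S).shiftIso (-(p : ℤ)) ((p : ℤ) + q) (q : ℤ) (harith₂ p q)).app _ ≪≫ e₆⟩

end BlowRegLib.BiSSAb
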