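import Groth.Agent.S14330
import Groth.Agent.RefHullLib.BigOpen
import Groth.Agent.RefHullLib.Generic
import Groth.Agent.LocSuppLib.DepthTwo
import Groth.Agent.MiscFlat6.QALocus

/-! # Big opens of normal schemes -/

set_option autoImplicit false
set_option linter.style.haveILetI false
universe u

open CategoryTheory CategoryTheory.Limits AlgebraicGeometry TopologicalSpace Opposite

noncomputable section

namespace BlowRegLib.BigOpenPic

/-- S7885 -/
theorem sections_and_pic (T : Scheme.{u}) [IsLocallyNoetherian T]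
    (hT : ∀ x : T, IsDomain (T.presheaf.stalk x) ∧ IsIntegrallyClosed (T.presheaf.stalk x))
    (U : T.Opens) (hU : ∀ x : T, x ∉ (U : Set T) → 2 ≤ ringKrullDim (T.presheaf.stalk x))
    (L : T.Modules) (hL : PicF.IsInvertible L) :
    Function.Bijective (L.val.map (homOfLE (le_top (a := U))).op) ∧
      (Nonempty (L.restrict U.ι ≅ Coh.structureModule (U : Scheme.{u})) →
        Nonempty (L ≅ Coh.structureModule T)) := by
  have hd : ∀ M : T.Modules, PicF.IsInvertible M → ∀ x : T, x ∉ U →
      (2 : ℕ∞) ≤ LocCoh.depth (T.presheaf.stalk x) (M.presheaf.stalk x) := fun M hM x hx => by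
    haveI := (hT x).1
    haveI := (hT x).2
    exact Groth.Agent.S14330.depth_line hM x 2 (RefHullLib.two_le_depth_normal (hU x hx))
  refine ⟨?_, fun ⟨e⟩ => ?_⟩
  · have hb := (LocSuppLib.depth_two_iff_bijective U (CurvLib.isCoh_of_isInvertible hL)).1 (hd L hL) ⊤
    have key : ∀ (V : T.Opens) (i : (⊤ : T.Opens) ⊓ U ≤ ⊤) (j : V ≤ ⊤), (⊤ : T.Opens) ⊓ U = V →
        Function.Bijective (L.presheaf.map (homOfLE i).op) →
        Function.Bijective (L.presheaf.map (homOfLE j).op) := by
      rintro V i j rfl h; exact h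
    exact key U inf_le_left le_top (top_inf_eq U) hb
  · obtain ⟨e₀⟩ := MiscFlat6.nonempty_restrict_structureModule (X := T) U.ι
    haveI := RefHullLib.isIso_unit_of_depth U (CurvLib.isCoh_of_isInvertible hL) (hd L hL)
    haveI := RefHullLib.isIso_unit_of_depth U (CurvLib.isCoh_of_isInvertible CurvLib.isInvertible_structureModule)
      (hd _ CurvLib.isInvertible_structureModule)
    exact ⟨asIso ((Scheme.Modules.restrictAdjunction U.ι).unit.app L) ≪≫
      (Scheme.Modules.pushforward U.ι).mapIso (e ≪≫ e₀.symm) ≪≫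
      (asIso ((Scheme.Modules.restrictAdjunction U.ι).unit.app (Coh.structureModule T))).symm⟩

end BlowRegLib.BigOpenPic
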