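import Groth.Agent.BlowUpLib.Exists
import Groth.Agent.EffCartLib.Basic
import Groth.Agent.S13731
import Groth.Agent.CurvLib.Divisor
import Mathlib.AlgebraicGeometry.Morphisms.Separated

/-!
# An open subscheme of a blow-up that covers for the h-topology is everything
-/

set_option autoImplicit false
set_option linter.style.haveILetI false

universe u

open CategoryTheory CategoryTheory.Limits AlgebraicGeometry

namespace BlowRegLib.BlowH

theorem maximal_of_closure_mem {X : Scheme.{u}} {m : X} (hm : closure {m} ∈ irreducibleComponents ↥X)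
    {η : X} (h : η ⤳ m) : η = m := by
  have h1 : closure ({m} : Set X) ⊆ closure {η} :=
    isClosed_closure.closure_subset_iff.mpr (Set.singleton_subset_iff.mpr h.mem_closure)
  have h2 : closure {η} ⊆ closure ({m} : Set X) := hm.2 isIrreducible_singleton.closure h1
  exact h.antisymm (specializes_iff_mem_closure.mpr (h2 (subset_closure rfl))) |>.eq

theorem eq_top {X X' : Scheme.{u}} [IsNoetherian X] [X.IsSeparated] [X'.IsSeparated]
    (𝓘 : X.IdealSheafData) (b : X' ⟶ X) [LocallyOfFiniteType b] [QuasiCompact b]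
    (hb : BlowUp.IsBlowUp b 𝓘) (U : X'.Opens) (hU : SGA1.UnivSubmersive (U.ι ≫ b)) : U = ⊤ := by
  haveI : IsLocallyNoetherian X' := LocallyOfFiniteType.isLocallyNoetherian b
  haveI : CompactSpace X' := QuasiCompact.compactSpace_of_compactSpace b
  haveI : IsNoetherian X' := { }
  haveI : IsSeparated b := IsSeparated.of_comp b (terminal.from X)
  haveI : LocallyOfFiniteType (U.ι ≫ b) := inferInstance
  haveI : QuasiCompact (U.ι ≫ b) := inferInstance
  have hp : SGA1.UnivSubmersive (pullback.snd (U.ι ≫ b) b) :=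
    MorphismProperty.pullback_snd (P := MorphismProperty.universally _) _ _ hU
  let E : PreZeroHypercover.{u} X' := PreZeroHypercover.singleton (pullback.snd (U.ι ≫ b) b)
  have hE : SGA1.UnivSubmersive (Sigma.desc E.f) := by
    let ι₀ : pullback (U.ι ≫ b) b ⟶ ∐ E.X := Sigma.ι E.X PUnit.unit
    haveI : IsIso ι₀ := ⟨⟨Sigma.desc (fun _ => 𝟙 _), Sigma.ι_desc _ _,
      Sigma.hom_ext _ _ fun j => by
        obtain ⟨⟩ := j
        refine (Category.assoc _ _ _).symm.trans ((congrArg (· ≫ ι₀) (Sigma.ι_desc _ _)).trans ?_)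
        exact (Category.id_comp _).trans (Category.comp_id _).symm⟩⟩
    have e : Sigma.desc E.f = inv ι₀ ≫ pullback.snd (U.ι ≫ b) b := by
      rw [IsIso.eq_inv_comp]
      exact Sigma.ι_desc _ _
    rw [e]
    exact (MorphismProperty.cancel_left_of_respectsIso (P := MorphismProperty.universally
      (AlgebraicGeometry.topologically fun f => Topology.IsQuotientMap f)) _ _).mpr hp
  haveI : Finite E.I₀ := inferInstanceAs (Finite PUnit)
  haveI : ∀ i, LocallyOfFiniteType (E.f i) := fun _ => inferInstanceAs (LocallyOfFiniteType (pullback.snd _ _))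
  haveI : ∀ i, QuasiCompact (E.f i) := fun _ => inferInstanceAs (QuasiCompact (pullback.snd _ _))
  haveI : ∀ i, IsSeparated (E.f i) := fun _ => inferInstanceAs (IsSeparated (pullback.snd _ _))
  refine top_le_iff.mp fun x' _ => ?_
  obtain ⟨i, ξ, v, hξv, hv, hgen⟩ := Groth.Agent.S13731.result E hE x'
  let V : X.Opens := 𝓘.support.compl
  let q : pullback (U.ι ≫ b) b ⟶ X := pullback.snd _ _ ≫ b
  let W := q ⁻¹ᵁ V
  have hξW : (ξ : ↑(pullback (U.ι ≫ b) b)) ∈ W := by
    intro hmem
    have hm : (pullback.snd (U.ι ≫ b) b) ξ ∈ ((𝓘.comap b).support : Set X') := by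
      rw [Scheme.IdealSheafData.support_comap]
      exact hmem
    obtain ⟨η, hη, hne⟩ := CurvLib.exists_generization_of_mem hb.1 hm
    exact hne (maximal_of_closure_mem hgen hη)
  have hcart : BlowUp.IsEffCartierIdeal (𝓘.comap (W.ι ≫ q)) := by
    have htop : 𝓘.comap (W.ι ≫ q) = ⊤ := by
      rw [← Scheme.IdealSheafData.support_eq_bot_iff, Scheme.IdealSheafData.support_comap]
      refine SetLike.ext fun y => iff_of_false (fun hy => ?_) (fun hy => hy)
      have h1 : W.ι y ∈ W := y.2
      exact h1 hy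
    rw [htop]
    exact EffCartLib.isEffCartier_top
  have heq : (W.ι ≫ pullback.fst (U.ι ≫ b) b) ≫ U.ι = W.ι ≫ pullback.snd (U.ι ≫ b) b :=
    BlowUpLib.hom_ext hb (W.ι ≫ q) hcart (by simp [q, pullback.condition]) (by simp [q])
  let δ : (U : Scheme.{u}) ⟶ pullback (U.ι ≫ b) b := pullback.lift (𝟙 _) U.ι (by simp)
  have hδ1 : δ ≫ pullback.fst (U.ι ≫ b) b = 𝟙 _ := pullback.lift_fst _ _ _
  have hδ2 : δ ≫ pullback.snd (U.ι ≫ b) b = U.ι := pullback.lift_snd _ _ _
  have hW : W.ι ≫ pullback.fst (U.ι ≫ b) b ≫ δ = W.ι := by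
    apply pullback.hom_ext
    · rw [Category.assoc, Category.assoc, hδ1, Category.comp_id]
    · rw [Category.assoc, Category.assoc, hδ2]
      exact (Category.assoc _ _ _).symm.trans heq
  haveI : IsClosedImmersion δ := by
    haveI : IsClosedImmersion (δ ≫ pullback.fst (U.ι ≫ b) b) := by
      rw [hδ1]; infer_instance
    exact IsClosedImmersion.of_comp δ (pullback.fst (U.ι ≫ b) b)
  have hξδ : (ξ : ↑(pullback (U.ι ≫ b) b)) ∈ Set.range δ :=
    ⟨pullback.fst (U.ι ≫ b) b (W.ι ⟨ξ, hξW⟩), congr($hW ⟨ξ, hξW⟩)⟩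
  obtain ⟨u₀, hu₀⟩ := δ.isClosedEmbedding.isClosed_range.stableUnderSpecialization hξv hξδ
  have : U.ι u₀ = x' := by
    rw [← hv, ← hu₀]
    exact congr($(hδ2.symm) u₀)
  exact this ▸ u₀.2

end BlowRegLib.BlowH
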