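import Mathlib.RingTheory.MvPolynomial.Homogeneous
import Mathlib.LinearAlgebra.Dual.Lemmas
import Mathlib.LinearAlgebra.FiniteDimensional.Basic
import Mathlib.LinearAlgebra.Projectivization.Basic
import Mathlib.Algebra.CharZero.Infinite
import Mathlib.Tactic.FieldSimp
import Mathlib.Tactic.LinearCombination

/-!
# Cayley–Bacharach sets and the ranks of evaluation maps
-/

set_option autoImplicit false
universe u v w

open BigOperators

noncomputable section

namespace BlowRegLib

theorem exists_annihilator_all_ne_zero {k : Type u} [Field k] [Infinite k] {ι : Type v} [Fintype ι] [DecidableEq ι]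
    (W : Submodule k (ι → k)) (h : ∀ i, (Pi.single i (1 : k) : ι → k) ∉ W) :
    ∃ c : ι → k, (∀ i, c i ≠ 0) ∧ ∀ w ∈ W, ∑ i, c i * w i = 0 := by
  classical
  have key : ∀ s : Finset ι, ∃ φ : Module.Dual k (ι → k), (∀ w ∈ W, φ w = 0) ∧ ∀ i ∈ s, φ (Pi.single i 1) ≠ 0 := by
    intro s
    induction s using Finset.induction with
    | empty => exact ⟨0, fun _ _ => rfl, fun i hi => absurd hi (Finset.notMem_empty i)⟩
    | @insert z s hz ih =>
      obtain ⟨φ, hφ, hφs⟩ := ih
      obtain ⟨ψ, hψz, hψ⟩ := Submodule.exists_dual_map_eq_bot_of_notMem (h z) inferInstance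
      have hψW : ∀ w ∈ W, ψ w = 0 := fun w hw => by
        have := Submodule.mem_map_of_mem (f := ψ) hw
        rw [hψ] at this
        exact (Submodule.mem_bot k).1 this
      obtain ⟨t, ht⟩ := Infinite.exists_notMem_finset
        ((insert z s).image fun i => -(φ (Pi.single i 1) / ψ (Pi.single i 1)))
      refine ⟨φ + t • ψ, fun w hw => by simp [hφ w hw, hψW w hw], fun i hi h0 => ?_⟩
      simp only [LinearMap.add_apply, LinearMap.smul_apply, smul_eq_mul] at h0
      by_cases hψi : ψ (Pi.single i 1) = 0
      · rcases Finset.mem_insert.1 hi with rfl | his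
        · exact hψz hψi
        · rw [hψi, mul_zero, add_zero] at h0; exact hφs i his h0
      · apply ht
        refine Finset.mem_image.2 ⟨i, hi, ?_⟩
        field_simp
        linear_combination -h0
  obtain ⟨φ, hφ, hne⟩ := key Finset.univ
  refine ⟨fun i => φ (Pi.single i 1), fun i => hne i (Finset.mem_univ i), fun w hw => ?_⟩
  rw [← hφ w hw]
  conv_rhs => rw [pi_eq_sum_univ' w, map_sum]
  refine Finset.sum_congr rfl fun i _ => ?_
  rw [map_smul, smul_eq_mul, mul_comm]

theorem rank_add_le {k : Type u} [Field k] [Infinite k] {σ : Type v} [Finite σ] {ι : Type w} [Fintype ι]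
    (pt : ι → σ → k) (n m : ℕ) (hm : m ≤ n)
    (hCB : ∀ i, ∀ p : MvPolynomial σ k, p.IsHomogeneous n →
      (∀ j, j ≠ i → MvPolynomial.eval (pt j) p = 0) → MvPolynomial.eval (pt i) p = 0) :
    (∃ s : MvPolynomial σ k, s.IsHomogeneous (n - m) ∧ s ≠ 0 ∧ ∀ i, MvPolynomial.eval (pt i) s = 0) ∨
      Module.finrank k (LinearMap.range
          ((LinearMap.pi fun i : ι => (MvPolynomial.aeval (R := k) (pt i)).toLinearMap) ∘ₗ
            (MvPolynomial.homogeneousSubmodule σ k m).subtype)) +
        Module.finrank k ↥(MvPolynomial.homogeneousSubmodule σ k (n - m)) ≤ Fintype.card ι := by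
  classical
  refine or_iff_not_imp_left.2 fun hns => ?_
  let ev : MvPolynomial σ k →ₗ[k] (ι → k) := LinearMap.pi fun i => (MvPolynomial.aeval (R := k) (pt i)).toLinearMap
  have hev : ∀ p i, ev p i = MvPolynomial.eval (pt i) p := fun p i => by
    simp [ev, MvPolynomial.aeval_eq_eval]
  let W := (MvPolynomial.homogeneousSubmodule σ k n).map ev
  obtain ⟨c, hc, hcW⟩ := exists_annihilator_all_ne_zero W fun i hi => by
    obtain ⟨p, hp, hpe⟩ := Submodule.mem_map.1 hi
    have := hCB i p ((MvPolynomial.mem_homogeneousSubmodule n p).1 hp) fun j hj => by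
      rw [← hev, hpe, Pi.single_eq_of_ne hj]
    rw [← hev, hpe, Pi.single_eq_same] at this
    exact one_ne_zero this
  let P := LinearMap.range (ev ∘ₗ (MvPolynomial.homogeneousSubmodule σ k m).subtype)
  let ψ : ↥(MvPolynomial.homogeneousSubmodule σ k (n - m)) →ₗ[k] Module.Dual k (ι → k) :=
    { toFun := fun q => ∑ i, (c i * ev q.1 i) • LinearMap.proj i
      map_add' := fun q q' => by
        simp only [Submodule.coe_add, map_add, Pi.add_apply, mul_add, add_smul, Finset.sum_add_distrib]
      map_smul' := fun r q => by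
        simp only [Submodule.coe_smul, map_smul, Pi.smul_apply, smul_eq_mul, Finset.smul_sum, smul_smul,
          RingHom.id_apply]
        exact Finset.sum_congr rfl fun i _ => by ring_nf }
  have happ : ∀ q w, ψ q w = ∑ i, c i * ev q.1 i * w i := fun q w => by simp [ψ]
  have hinj : Function.Injective ψ := by
    rw [injective_iff_map_eq_zero]
    intro q hq
    by_contra hne
    refine hns ⟨q.1, (MvPolynomial.mem_homogeneousSubmodule _ _).1 q.2, fun h => hne (Subtype.ext h), fun i => ?_⟩
    have h1 := happ q (Pi.single i 1)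
    rw [hq, LinearMap.zero_apply, Finset.sum_eq_single i (fun j _ hj => by simp [hj]) (by simp),
      Pi.single_eq_same, mul_one] at h1
    rw [← hev]
    exact (mul_eq_zero.1 h1.symm).resolve_left (hc i)
  have hann : LinearMap.range ψ ≤ P.dualAnnihilator := by
    rintro _ ⟨q, rfl⟩
    rw [Submodule.mem_dualAnnihilator]
    rintro _ ⟨p, rfl⟩
    rw [happ]
    have hpq : p.1 * q.1 ∈ MvPolynomial.homogeneousSubmodule σ k n := by
      rw [MvPolynomial.mem_homogeneousSubmodule]
      have := ((MvPolynomial.mem_homogeneousSubmodule _ _).1 p.2).mul ((MvPolynomial.mem_homogeneousSubmodule _ _).1 q.2)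
      rwa [Nat.add_sub_cancel' hm] at this
    rw [← hcW _ (Submodule.mem_map_of_mem hpq)]
    refine Finset.sum_congr rfl fun i _ => ?_
    rw [LinearMap.comp_apply, Submodule.subtype_apply, hev, hev, hev, map_mul]
    ring
  have h1 := Submodule.finrank_mono hann
  rw [LinearMap.finrank_range_of_inj hinj] at h1
  have h2 := Subspace.finrank_add_finrank_dualAnnihilator_eq P
  rw [Module.finrank_fintype_fun_eq_card] at h2
  change Module.finrank k P + _ ≤ _
  omega

end BlowRegLib
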