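import Mathlib.AlgebraicTopology.CechNerve
import Mathlib.AlgebraicTopology.SimplicialObject.Homotopy

/-!
# Simplicial homotopy between maps of Čech nerves over the same base map
-/

set_option autoImplicit false
universe v u

open CategoryTheory Limits Simplicial Opposite

noncomputable section

namespace BlowRegLib.CechHomotopy

theorem succAbove_val {n : ℕ} (i : Fin (n + 1)) (k : Fin n) :
    (i.succAbove k).1 = if k.1 < i.1 then k.1 else k.1 + 1 := by
  rcases i with ⟨i, hi⟩; rcases k with ⟨k, hk⟩
  simp only [Fin.succAbove, Fin.lt_def, Fin.val_castSucc]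
  split_ifs <;> simp

theorem predAbove_val {n : ℕ} (j : Fin n) (k : Fin (n + 1)) :
    (j.predAbove k).1 = if j.1 < k.1 then k.1 - 1 else k.1 := by
  rcases j with ⟨j, hj⟩; rcases k with ⟨k, hk⟩
  simp only [Fin.predAbove, Fin.lt_def, Fin.val_castSucc]
  split_ifs <;> simp

macro "idx" : tactic => `(tactic| (simp only [Fin.ext_iff, decide_eq_decide, succAbove_val, predAbove_val, Fin.val_succ,
  Fin.val_castSucc, Fin.le_def, Fin.lt_def] at *; split_ifs at * <;> omega))

variable {C : Type u} [Category.{v} C] {f g : Arrow C}
  [∀ n : ℕ, HasWidePullback f.right (fun _ : Fin (n + 1) => f.left) fun _ => f.hom]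
  [∀ n : ℕ, HasWidePullback g.right (fun _ : Fin (n + 1) => g.left) fun _ => g.hom]
  (F G : f ⟶ g) (hr : F.right = G.right)

include hr in
theorem w (q : Bool) : (bif q then F.left else G.left) ≫ g.hom = f.hom ≫ F.right := by
  cases q
  · rw [hr]; exact G.w
  · exact F.w

/-- The homotopy components. -/
def h {n : ℕ} (j : Fin (n + 1)) : f.cechNerve _⦋n⦌ ⟶ g.cechNerve _⦋n + 1⦌ :=
  WidePullback.lift (WidePullback.base _ ≫ F.right)
    (fun k => WidePullback.π _ (j.predAbove k) ≫ (bif decide (k.1 ≤ j.1) then F.left else G.left))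
    fun k => by
      rw [Category.assoc, w F G hr, WidePullback.π_arrow_assoc]

theorem h_base {n : ℕ} (j : Fin (n + 1)) : h F G hr j ≫ WidePullback.base _ = WidePullback.base _ ≫ F.right :=
  WidePullback.lift_base _ _ _ _

theorem h_π {n : ℕ} (j : Fin (n + 1)) (k : Fin (n + 2)) : h F G hr j ≫ WidePullback.π _ k =
    WidePullback.π _ (j.predAbove k) ≫ (bif decide (k.1 ≤ j.1) then F.left else G.left) :=
  WidePullback.lift_π _ _ _ _ _

omit [∀ n : ℕ, HasWidePullback g.right (fun _ : Fin (n + 1) => g.left) fun _ => g.hom] in
theorem map_π {a b : SimplexCategoryᵒᵖ} (φ : a ⟶ b) (k : Fin (b.unop.len + 1)) :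
    f.cechNerve.map φ ≫ WidePullback.π _ k = WidePullback.π _ (φ.unop.toOrderHom k) :=
  WidePullback.lift_π _ _ _ _ _

omit [∀ n : ℕ, HasWidePullback g.right (fun _ : Fin (n + 1) => g.left) fun _ => g.hom] in
theorem map_base {a b : SimplexCategoryᵒᵖ} (φ : a ⟶ b) :
    f.cechNerve.map φ ≫ WidePullback.base _ = WidePullback.base _ :=
  WidePullback.lift_base _ _ _ _

theorem congr_π {m : ℕ} {a b : Fin (m + 1)} {p q : Bool} (hab : a = b) (hpq : p = q) :
    WidePullback.π (fun _ : Fin (m + 1) => f.hom) a ≫ (bif p then F.left else G.left) =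
      WidePullback.π (fun _ : Fin (m + 1) => f.hom) b ≫ (bif q then F.left else G.left) := by
  subst hab hpq; rfl

/-- The homotopy. -/
def homotopy : SimplicialObject.Homotopy (Arrow.mapCechNerve F) (Arrow.mapCechNerve G) where
  h := h F G hr
  h_zero_comp_δ_zero n := by
    refine WidePullback.hom_ext _ _ _ (fun k => ?_) ?_
    · rw [Category.assoc]
      erw [map_π, h_π, WidePullback.lift_π]
      refine (congr_π F G (b := k) (q := false) ?_ ?_).trans rfl
      · change (0 : Fin (n + 1)).predAbove ((0 : Fin (n + 2)).succAbove k) = k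
        simp [Fin.succAbove, Fin.predAbove]
      · change decide (((0 : Fin (n + 2)).succAbove k).1 ≤ 0) = false
        simp
    · rw [Category.assoc]
      erw [map_base, h_base, WidePullback.lift_base]
      rw [hr]
  h_last_comp_δ_last n := by
    refine WidePullback.hom_ext _ _ _ (fun k => ?_) ?_
    · rw [Category.assoc]
      erw [map_π, h_π, WidePullback.lift_π]
      refine (congr_π F G (b := k) (q := true) ?_ ?_).trans rfl
      · change (Fin.last n).predAbove ((Fin.last (n + 1)).succAbove k) = k
        simp
      · change decide (((Fin.last (n + 1)).succAbove k).1 ≤ n) = true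
        simp; omega
    · rw [Category.assoc]
      erw [map_base, h_base, WidePullback.lift_base]
  h_succ_comp_δ_castSucc_of_lt {n} i j hij := by
    refine WidePullback.hom_ext _ _ _ (fun k => ?_) ?_
    · rw [Category.assoc, Category.assoc]
      erw [map_π, h_π, h_π]
      rw [← Category.assoc]
      erw [map_π]
      refine congr_π F G ?_ ?_
      · change j.succ.predAbove (i.castSucc.succAbove k) = i.succAbove (j.predAbove k)
        idx
      · change decide ((i.castSucc.succAbove k).1 ≤ j.succ.1) = decide (k.1 ≤ j.1)
        idx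
    · rw [Category.assoc, Category.assoc]
      erw [map_base, h_base, h_base]
      rw [← Category.assoc]
      erw [map_base]
  h_succ_comp_δ_castSucc_succ {n} j := by
    refine WidePullback.hom_ext _ _ _ (fun k => ?_) ?_
    · rw [Category.assoc, Category.assoc]
      erw [map_π, h_π, h_π]
      refine congr_π F G ?_ ?_
      · change j.succ.predAbove (j.castSucc.succ.succAbove k) = j.castSucc.predAbove (j.castSucc.succ.succAbove k)
        idx
      · change decide ((j.castSucc.succ.succAbove k).1 ≤ j.succ.1) = decide ((j.castSucc.succ.succAbove k).1 ≤ j.castSucc.1)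
        idx
    · rw [Category.assoc, Category.assoc]
      erw [map_base, h_base, h_base]
  h_castSucc_comp_δ_succ_of_lt {n} i j hij := by
    refine WidePullback.hom_ext _ _ _ (fun k => ?_) ?_
    · rw [Category.assoc, Category.assoc]
      erw [map_π, h_π, h_π]
      rw [← Category.assoc]
      erw [map_π]
      refine congr_π F G ?_ ?_
      · change j.castSucc.predAbove (i.succ.succAbove k) = i.succAbove (j.predAbove k)
        idx
      · change decide ((i.succ.succAbove k).1 ≤ j.castSucc.1) = decide (k.1 ≤ j.1)
        idx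
    · rw [Category.assoc, Category.assoc]
      erw [map_base, h_base, h_base]
      rw [← Category.assoc]
      erw [map_base]
  h_comp_σ_castSucc_of_le {n} i j hij := by
    refine WidePullback.hom_ext _ _ _ (fun k => ?_) ?_
    · rw [Category.assoc, Category.assoc]
      erw [map_π, h_π, h_π]
      rw [← Category.assoc]
      erw [map_π]
      refine congr_π F G ?_ ?_
      · change j.predAbove (i.castSucc.predAbove k) = i.predAbove (j.succ.predAbove k)
        idx
      · change decide ((i.castSucc.predAbove k).1 ≤ j.1) = decide (k.1 ≤ j.succ.1)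
        idx
    · rw [Category.assoc, Category.assoc]
      erw [map_base, h_base, h_base]
      rw [← Category.assoc]
      erw [map_base]
  h_comp_σ_succ_of_lt {n} i j hij := by
    refine WidePullback.hom_ext _ _ _ (fun k => ?_) ?_
    · rw [Category.assoc, Category.assoc]
      erw [map_π, h_π, h_π]
      rw [← Category.assoc]
      erw [map_π]
      refine congr_π F G ?_ ?_
      · change j.predAbove (i.succ.predAbove k) = i.predAbove (j.castSucc.predAbove k)
        idx
      · change decide ((i.succ.predAbove k).1 ≤ j.1) = decide (k.1 ≤ j.castSucc.1)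
        idx
    · rw [Category.assoc, Category.assoc]
      erw [map_base, h_base, h_base]
      rw [← Category.assoc]
      erw [map_base]

theorem map_id : Arrow.mapCechNerve (𝟙 f) = 𝟙 f.cechNerve := by
  refine NatTrans.ext (funext fun n => WidePullback.hom_ext _ _ _ (fun k => ?_) ?_)
  · erw [WidePullback.lift_π, Category.id_comp, Category.comp_id]
  · erw [WidePullback.lift_base, Category.id_comp, Category.comp_id]

theorem section_homotopic {Y X : C} (f : Y ⟶ X)
    [∀ n : ℕ, HasWidePullback (Arrow.mk f).right (fun _ : Fin (n + 1) => (Arrow.mk f).left) (fun _ => (Arrow.mk f).hom)]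
    (φ : Arrow.mk f ⟶ Arrow.mk f) (hφr : φ.right = 𝟙 X) :
    Nonempty (SimplicialObject.Homotopy (𝟙 (Arrow.mk f).cechNerve) (Arrow.mapCechNerve φ)) ∧
      Nonempty (SimplicialObject.Homotopy (Arrow.mapCechNerve φ) (𝟙 (Arrow.mk f).cechNerve)) := by
  rw [← map_id]
  exact ⟨⟨homotopy (𝟙 _) φ hφr.symm⟩, ⟨homotopy φ (𝟙 _) hφr⟩⟩

end BlowRegLib.CechHomotopy
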