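import Groth.Agent.BlowRegLib.Global
import Groth.Agent.CohCmpLib.StratIff
import Groth.Prelude.Def_Omega2

/-!
# A regular closed immersion with conormal rank at least one
-/

set_option autoImplicit false
set_option linter.style.haveILetI false
set_option maxHeartbeats 1000000
set_option backward.isDefEq.respectTransparency false
set_option backward.isDefEq.respectTransparency.types false

universe u

open CategoryTheory CategoryTheory.Limits AlgebraicGeometry TopologicalSpace Opposite
open KFlatLib (pb)

noncomputable section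

namespace BlowRegLib

/-- The ideal module vanishes over an open on which the ideal does. -/
theorem isZero_idealMod_restrict {Y : Scheme.{u}} (I : Y.IdealSheafData) (U : Y.Opens) (h : I.comap U.ι = ⊥) :
    IsZero ((ClSub.idealMod I).restrict U.ι) := by
  haveI : IsIso (I.comap U.ι).subschemeι := (Scheme.isIso_subschemeι_iff_eq_bot _).2 h
  haveI : IsIso (pullback.fst U.ι I.subschemeι) := by
    rw [← Scheme.IdealSheafData.comapIso_inv_subschemeι]
    infer_instance
  have hpb : IsPullback (pullback.snd U.ι I.subschemeι) (pullback.fst U.ι I.subschemeι) I.subschemeι U.ι :=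
    (IsPullback.of_hasPullback U.ι I.subschemeι).flip
  haveI : IsIso (I.subschemeι ∣_ U) := by
    have e := (isPullback_morphismRestrict I.subschemeι U).flip.isoIsPullback_hom_snd _ _ hpb
    rw [← e]
    infer_instance
  let F := Scheme.Modules.restrictFunctor U.ι
  haveI : IsIso (F.map (ClSub.toSubscheme I)) := Scheme.Modules.Hom.isIso_iff_isIso_app.2 fun W =>
    (ConcreteCategory.isIso_iff_bijective _).2 (by
      haveI : IsIso (I.subschemeι.app (U.ι ''ᵁ W)) := by
        have e := morphismRestrict_app I.subschemeι U W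
        have : IsIso ((I.subschemeι ∣_ U).app W) := inferInstance
        rw [e] at this
        exact @IsIso.of_isIso_comp_right _ _ _ _ _ _ _ inferInstance this
      exact (ConcreteCategory.isIso_iff_bijective (I.subschemeι.app (U.ι ''ᵁ W))).1 inferInstance)
  have h0 : F.map (kernel.ι (ClSub.toSubscheme I)) = 0 := by
    rw [← cancel_mono (F.map (ClSub.toSubscheme I)), ← F.map_comp, kernel.condition, F.map_zero, zero_comp]
  haveI : Mono (F.map (kernel.ι (ClSub.toSubscheme I))) := inferInstance
  exact IsZero.of_mono_eq_zero _ h0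

/-- The defining sequences of a regular closed immersion with conormal sheaf of positive rank are nonempty. -/
theorem locReg_one {Z Y : Scheme.{u}} (f : Z ⟶ Y) (hf : Mor2.IsRegularClosedImmersion f) (d : ℕ) (hd : 1 ≤ d)
    (hC : FlatMod.IsFinLocFreeOfRank d (Omega.conormal f)) : LocReg f.ker 1 := by
  haveI := hf.1
  refine locReg_of_range f 1 (fun z => ?_) le_rfl
  obtain ⟨U, hU, hzU, rs, hrs, hker⟩ := hf.2 z
  refine ⟨⟨U, hU⟩, hzU, rs, ?_, hrs.toIsWeaklyRegular, hker⟩
  by_contra hlen
  have hnil : rs = [] := List.eq_nil_of_length_eq_zero (by omega)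
  haveI : IsAffine (U : Scheme.{u}) := hU
  have hbot : f.ker.comap U.ι = ⊥ := Scheme.IdealSheafData.ext_of_isAffine (by
    rw [Groth.Agent.S4666.ideal_comap_eq f.ker U.ι ⟨U, hU⟩ ⟨⊤, isAffineOpen_top _⟩ (fun x _ => x.2),
      hker, hnil, Ideal.ofList_nil, Ideal.map_bot]
    rfl)
  obtain ⟨O, hzO, eO⟩ := hC z
  have hz : IsZero ((Omega.conormal f).restrict (f ⁻¹ᵁ U).ι) := by
    refine IsZero.of_iso ?_ ((Scheme.Modules.restrictFunctorIsoPullback (f ⁻¹ᵁ U).ι).app _)
    refine IsZero.of_iso ?_ ((Scheme.Modules.pullbackComp (f ⁻¹ᵁ U).ι f).app _ ≪≫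
      (Scheme.Modules.pullbackCongr (morphismRestrict_ι f U).symm).app _ ≪≫
      ((Scheme.Modules.pullbackComp _ _).app _).symm ≪≫
      (Scheme.Modules.pullback (f ∣_ U)).mapIso ((Scheme.Modules.restrictFunctorIsoPullback U.ι).app _).symm)
    exact Functor.map_isZero _ (isZero_idealMod_restrict f.ker U hbot)
  have := CohCmpLib.rank_unique (Omega.conormal f) hzO hzU eO
    ⟨hz.iso ((IsZero.iff_id_eq_zero _).2 (Sigma.hom_ext _ _ fun i => i.elim0))⟩
  omega

end BlowRegLib
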