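import Groth.Agent.CurveVBLib.Basic
import Groth.Agent.LocSuppLib.LocFree
import Mathlib.RingTheory.Ideal.KrullsHeightTheorem
import Mathlib.LinearAlgebra.Determinant

/-!
# The support of the cokernel of a monomorphism of vector bundles has codimension at most one
-/

set_option autoImplicit false
set_option linter.style.haveILetI false
set_option maxHeartbeats 1000000
universe u

open CategoryTheory CategoryTheory.Limits AlgebraicGeometry TopologicalSpace Opposite
open DevissLib

noncomputable section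

namespace BlowRegLib

theorem exists_height_le_one {R M N : Type u} [CommRing R] [IsNoetherianRing R] [IsDomain R]
    [AddCommGroup M] [Module R M] [Module.Free R M] [Module.Finite R M]
    [AddCommGroup N] [Module R N] [Module.Free R N] [Module.Finite R N]
    (f : M →ₗ[R] N) (hf : Function.Injective f) (hns : ¬ Function.Surjective f) :
    ∃ q : Ideal R, q.IsPrime ∧ q.height ≤ 1 ∧ ∀ r : R, (∀ n, r • n ∈ LinearMap.range f) → r ∈ q := by
  classical
  by_cases h0 : ∀ r : R, (∀ n, r • n ∈ LinearMap.range f) → r = 0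
  · exact ⟨⊥, Ideal.isPrime_bot, by rw [Ideal.height_bot]; exact zero_le_one, fun r hr => h0 r hr⟩
  push_neg at h0
  obtain ⟨r₀, hr₀, hr₀ne⟩ := h0
  have hex : ∀ r : R, (∀ n, r • n ∈ LinearMap.range f) → ∃ g : N →ₗ[R] M, ∀ n, f (g n) = r • n :=
    fun r hr => ⟨(LinearEquiv.ofInjective f hf).symm.toLinearMap ∘ₗ
      LinearMap.codRestrict (LinearMap.range f) (r • (LinearMap.id : N →ₗ[R] N)) hr, fun n =>
        congrArg Subtype.val ((LinearEquiv.ofInjective f hf).apply_symm_apply ⟨r • n, hr n⟩)⟩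
  obtain ⟨g₀, hg₀⟩ := hex r₀ hr₀
  have hg₀inj : Function.Injective g₀ := fun a b h => by
    have := congrArg f h
    rw [hg₀, hg₀] at this
    exact smul_right_injective N hr₀ne this
  have hrank : Module.finrank R M = Module.finrank R N :=
    le_antisymm (LinearMap.finrank_le_finrank_of_injective hf)
      (LinearMap.finrank_le_finrank_of_injective hg₀inj)
  let e : M ≃ₗ[R] N := LinearEquiv.ofFinrankEq M N hrank
  let h : M →ₗ[R] M := e.symm.toLinearMap ∘ₗ f
  have hd : ¬ IsUnit (LinearMap.det h) := fun hu => hns fun n => by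
    obtain ⟨m, hm⟩ := (LinearMap.equivOfIsUnitDet hu).surjective (e.symm n)
    rw [LinearMap.equivOfIsUnitDet_apply] at hm
    exact ⟨m, e.symm.injective hm⟩
  obtain ⟨P, hP, hPd⟩ := Ideal.exists_le_maximal (Ideal.span {LinearMap.det h})
    (fun hh => hd (Ideal.span_singleton_eq_top.1 hh))
  haveI := hP.isPrime
  obtain ⟨q, hq, hqP⟩ := Ideal.exists_minimalPrimes_le hPd
  haveI hqp : q.IsPrime := hq.1.1
  refine ⟨q, hqp, Ideal.height_le_one_of_isPrincipal_of_mem_minimalPrimes _ _ hq, fun r hr => ?_⟩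
  obtain ⟨g, hg⟩ := hex r hr
  have hcomp : h ∘ₗ (g ∘ₗ e.toLinearMap) = r • LinearMap.id := LinearMap.ext fun m => by
    simp [h, hg]
  have hdet := congrArg LinearMap.det hcomp
  rw [LinearMap.det_comp, LinearMap.det_smul, LinearMap.det_id, mul_one] at hdet
  refine hqp.mem_of_pow_mem (Module.finrank R M) ?_
  rw [← hdet]
  exact Ideal.mul_mem_right _ _ (hq.1.2 (Ideal.mem_span_singleton_self _))

section Scheme

variable {X : Scheme.{u}} [IsLocallyNoetherian X] [IsIntegral X]

/-- A section killing the stalk on an affine open. -/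
theorem smul_stalk_eq_zero {M : X.Modules} [Coh.IsQCoh M] {U : X.Opens} (hU : IsAffineOpen U) {x : X}
    (hx : x ∈ U) (r : Γ(X, U)) (hr : ∀ t : Γ(M, U), r • t = 0) (z : (St x).obj M) :
    X.presheaf.germ U x hx r • z = 0 := by
  obtain ⟨W, hxW, s, rfl⟩ := exists_gm_eq M x z
  obtain ⟨a, haW, hxa⟩ := QCohLib.exists_basicOpen_nhd hU hxW hx
  obtain ⟨n, t, ht⟩ := (QCohLib.localizingAt_of_isQCoh hU M a).exists_extend
    (M.presheaf.map (homOfLE haW).op s)
  have hu : IsUnit (X.presheaf.germ U x hx a) := (X.mem_basicOpen a x hx).1 hxa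
  have e1 : gm M x hx t = X.presheaf.germ U x hx a ^ n • gm M x hxW s := by
    rw [← gm_map M (X.basicOpen_le a) x hxa t, ht, gm_smul, gm_map M haW x hxa s, map_pow]
    congr 2
    exact TopCat.Presheaf.germ_res_apply X.presheaf _ x hxa a
  refine (hu.pow n).smul_eq_zero.1 ?_
  rw [smul_comm, ← e1, ← gm_smul, hr, gm_zero]

theorem isIso_or_exists_codim_le_one {M N : X.Modules} (hM : FlatMod.IsFinLocFree M)
    (hN : FlatMod.IsFinLocFree N) (φ : M ⟶ N) [Mono φ] :
    IsIso φ ∨ ∃ x : X, x ∈ CohB1.support (cokernel φ) ∧ ringKrullDim (X.presheaf.stalk x) ≤ 1 := by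
  classical
  rcases (CohB1.support (cokernel φ)).eq_empty_or_nonempty with he | ⟨x, hx⟩
  · left
    haveI : Epi φ := Abelian.epi_of_cokernel_π_eq_zero φ
      ((DevissLib.isZero_of_support_empty he).eq_of_tgt _ _)
    exact isIso_of_mono_of_epi φ
  right
  have hMc := LocSuppLib.isCoh_of_isFinLocFree hM
  have hC : Coh.IsCoh (cokernel φ) :=
    QCohLib.isCoh_cokernel φ hMc.1 (LocSuppLib.isCoh_of_isFinLocFree hN)
  haveI : Coh.IsQCoh (cokernel φ) := hC.1
  let R := X.presheaf.stalk x
  let S : ShortComplex X.Modules := ShortComplex.mk φ (cokernel.π φ) (cokernel.condition φ)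
  have hS : S.ShortExact :=
    { exact := ShortComplex.exact_cokernel φ
      mono_f := inferInstanceAs (Mono φ)
      epi_g := inferInstanceAs (Epi (cokernel.π φ)) }
  have hxS := hS.map_of_exact (St x)
  let f := ((St x).map φ).hom
  let g := ((St x).map (cokernel.π φ)).hom
  have hf : Function.Injective f := (ModuleCat.mono_iff_injective _).mp hxS.mono_f
  have hg : Function.Surjective g := (ModuleCat.epi_iff_surjective _).mp hxS.epi_g
  have hfg : LinearMap.range f = LinearMap.ker g := hxS.exact.moduleCat_range_eq_ker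
  obtain ⟨UM, m, hUM, ⟨eM⟩⟩ := hM x
  obtain ⟨UN, n, hUN, ⟨eN⟩⟩ := hN x
  obtain ⟨bM⟩ := CurveVBLib.nonempty_stalk_pi_on eM hUM
  obtain ⟨bN⟩ := CurveVBLib.nonempty_stalk_pi_on eN hUN
  haveI : Module.Free R ((St x).obj M) := Module.Free.of_equiv bM.symm
  haveI : Module.Free R ((St x).obj N) := Module.Free.of_equiv bN.symm
  haveI : Module.Finite R ((St x).obj M) := Module.Finite.equiv bM.symm
  haveI : Module.Finite R ((St x).obj N) := Module.Finite.equiv bN.symm
  have hns : ¬ Function.Surjective f := fun hs => by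
    obtain ⟨c, hc⟩ := (mem_support_iff_nonzero _ x).1 hx
    obtain ⟨z, rfl⟩ := hg c
    have : z ∈ LinearMap.ker g := hfg ▸ LinearMap.mem_range.2 (hs z)
    exact hc this
  obtain ⟨q', hq', hht, hann⟩ := exists_height_le_one f hf hns
  haveI := hq'
  obtain ⟨U, hU, hxU⟩ := QCohLib.exists_affine_nhd x
  letI := X.presheaf.algebra_section_stalk (⟨x, hxU⟩ : U)
  haveI : IsLocalization.AtPrime R (hU.primeIdealOf ⟨x, hxU⟩).asIdeal := hU.isLocalization_stalk ⟨x, hxU⟩
  let q : PrimeSpectrum Γ(X, U) := ⟨q'.under Γ(X, U), inferInstance⟩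
  let y : X := hU.fromSpec q
  have hyU : y ∈ U := by
    have : y ∈ Set.range hU.fromSpec := ⟨q, rfl⟩
    rwa [hU.range_fromSpec] at this
  have hyq : hU.primeIdealOf ⟨y, hyU⟩ = q :=
    hU.fromSpec.isOpenEmbedding.injective (hU.fromSpec_primeIdealOf ⟨_, hyU⟩)
  refine ⟨y, ?_, ?_⟩
  · by_contra hy
    haveI : Module.Finite Γ(X, U) Γ(cokernel φ, U) := QCohLib.finite_of_isFT hC.2 hU
    rw [← QCohLib.mem_support_iff hU hyU, hyq, Module.support_eq_zeroLocus,
      PrimeSpectrum.mem_zeroLocus, Set.not_subset] at hy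
    obtain ⟨r, hr, hrq⟩ := hy
    refine hrq ?_
    change X.presheaf.germ U x hxU r ∈ q'
    refine hann _ fun z => ?_
    rw [hfg, LinearMap.mem_ker, map_smul]
    exact smul_stalk_eq_zero hU hxU r (fun t => Module.mem_annihilator.1 hr t) _
  · letI := X.presheaf.algebra_section_stalk (⟨y, hyU⟩ : U)
    haveI : IsLocalization.AtPrime (X.presheaf.stalk y) q.asIdeal := by
      have h := hU.isLocalization_stalk ⟨y, hyU⟩
      rw [hyq] at h
      exact h
    rw [IsLocalization.AtPrime.ringKrullDim_eq_height q.asIdeal (X.presheaf.stalk y),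
      show q.asIdeal.height = q'.height from
        IsLocalization.height_under (hU.primeIdealOf ⟨x, hxU⟩).asIdeal.primeCompl q']
    exact_mod_cast hht

end Scheme

end BlowRegLib
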