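import Groth.Agent.QCohLib.Coherent
import Groth.Agent.QCohLib.Push
import Groth.Agent.DevissLib.Basic
import Groth.Agent.OmegaTFLib.Torsion

/-!
Coherent modules isomorphic on an open have a common coherent roof.
-/

set_option autoImplicit false
set_option linter.style.haveILetI false

noncomputable section

universe u

open CategoryTheory CategoryTheory.Limits AlgebraicGeometry

namespace BlowRegLib

attribute [local instance] Abelian.hasFiniteBiproducts

theorem exists_common_coh (X : Scheme.{u}) [IsNoetherian X] (U : X.Opens)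
    (F₁ F₂ : X.Modules) (h₁ : Coh.IsCoh F₁) (h₂ : Coh.IsCoh F₂)
    (e : F₁.restrict U.ι ≅ F₂.restrict U.ι) :
    ∃ (G : X.Modules) (p₁ : G ⟶ F₁) (p₂ : G ⟶ F₂), Coh.IsCoh G ∧
      IsIso ((Scheme.Modules.restrictFunctor U.ι).map p₁) ∧
      IsIso ((Scheme.Modules.restrictFunctor U.ι).map p₂) := by
  let R := Scheme.Modules.restrictFunctor U.ι
  let adj := Scheme.Modules.restrictAdjunction U.ι
  haveI : PreservesFiniteLimits R := inferInstance
  haveI : PreservesColimitsOfSize.{0, 0} R := adj.leftAdjoint_preservesColimits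
  haveI : R.Additive := inferInstance
  let ψ : F₁ ⊞ F₂ ⟶ (Scheme.Modules.pushforward U.ι).obj (R.obj F₂) :=
    biprod.desc (adj.unit.app F₁ ≫ (Scheme.Modules.pushforward U.ι).map e.hom) (-adj.unit.app F₂)
  haveI : Coh.IsQCoh F₂ := h₂.1
  haveI : Coh.IsQCoh (R.obj F₂) := inferInstanceAs (Coh.IsQCoh (F₂.restrict U.ι))
  haveI : Coh.IsQCoh ((Scheme.Modules.pushforward U.ι).obj (R.obj F₂)) := QCohLib.isQCoh_pushforward U.ι _
  let p₁ : kernel ψ ⟶ F₁ := kernel.ι ψ ≫ biprod.fst
  let p₂ : kernel ψ ⟶ F₂ := kernel.ι ψ ≫ biprod.snd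
  -- the adjunct of `ψ`
  let χ : R.obj (F₁ ⊞ F₂) ⟶ R.obj F₂ := R.map biprod.fst ≫ e.hom - R.map biprod.snd
  have hχ : R.map ψ ≫ adj.counit.app (R.obj F₂) = χ := by
    have hψ : ψ = biprod.fst ≫ adj.unit.app F₁ ≫ (Scheme.Modules.pushforward U.ι).map e.hom -
        biprod.snd ≫ adj.unit.app F₂ := by
      apply biprod.hom_ext' <;> simp [ψ]
    rw [hψ, R.map_sub, R.map_comp, R.map_comp, R.map_comp, Preadditive.sub_comp, Category.assoc, Category.assoc,
      Category.assoc]
    refine congrArg₂ (· - ·) (congrArg _ ?_) ?_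
    · have hn := adj.counit.naturality e.hom
      simp only [Functor.comp_map, Functor.id_map] at hn
      exact (congrArg _ hn).trans (adj.left_triangle_components_assoc F₁ _)
    · exact (congrArg _ (adj.left_triangle_components F₂)).trans (Category.comp_id _)
  haveI : IsIso (adj.counit.app (R.obj F₂)) := inferInstance
  have hker : ∀ {Z : (U : Scheme.{u}).Modules} (a : Z ⟶ R.obj (F₁ ⊞ F₂)), a ≫ χ = 0 → a ≫ R.map ψ = 0 := fun a ha => by
    rw [← cancel_mono (adj.counit.app (R.obj F₂)), Category.assoc, hχ, ha, zero_comp]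
  have hι : R.map (kernel.ι ψ) ≫ χ = 0 := by
    rw [← hχ, ← Category.assoc, ← R.map_comp, kernel.condition, R.map_zero, zero_comp]
  haveI : Mono (R.map (kernel.ι ψ)) := inferInstance
  have h21 : R.map p₁ ≫ e.hom = R.map p₂ := by
    have h := hι
    rw [Preadditive.comp_sub, sub_eq_zero] at h
    rw [R.map_comp, R.map_comp, Category.assoc, h]
  let a : R.obj F₁ ⟶ R.obj (F₁ ⊞ F₂) := R.map biprod.inl + e.hom ≫ R.map biprod.inr
  have ha : a ≫ χ = 0 := by
    simp only [a, χ, Preadditive.comp_sub, Preadditive.add_comp, Category.assoc, ← R.map_comp_assoc, ← R.map_comp,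
      biprod.inl_fst, biprod.inl_snd, biprod.inr_fst, biprod.inr_snd, R.map_id, R.map_zero, Category.id_comp,
      zero_comp, comp_zero, add_zero, zero_add]
    exact sub_eq_zero.mpr (Category.comp_id _).symm
  haveI : IsIso (R.map p₁) := by
    refine ⟨kernel.lift (R.map ψ) a (hker a ha) ≫ (PreservesKernel.iso R ψ).inv, ?_, ?_⟩
    · rw [← cancel_mono (R.map (kernel.ι ψ)), Category.assoc, Category.assoc, PreservesKernel.iso_inv_ι,
        kernel.lift_ι, Category.id_comp]
      calc R.map p₁ ≫ a = R.map p₁ ≫ R.map biprod.inl + R.map p₂ ≫ R.map biprod.inr := by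
            rw [← h21, Category.assoc, ← Preadditive.comp_add]
        _ = R.map (kernel.ι ψ ≫ (biprod.fst ≫ biprod.inl + biprod.snd ≫ biprod.inr)) := by
            rw [← R.map_comp, ← R.map_comp, ← R.map_add, Category.assoc, Category.assoc, ← Preadditive.comp_add]
        _ = R.map (kernel.ι ψ) := by rw [biprod.total, Category.comp_id]
    · have hp : R.map p₁ = R.map (kernel.ι ψ) ≫ R.map biprod.fst := R.map_comp _ _
      rw [hp, Category.assoc, ← Category.assoc (PreservesKernel.iso R ψ).inv, PreservesKernel.iso_inv_ι,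
        ← Category.assoc, kernel.lift_ι]
      simp only [a, Preadditive.add_comp, Category.assoc, ← R.map_comp, biprod.inl_fst, biprod.inr_fst, R.map_id,
        R.map_zero, comp_zero, add_zero]
  refine ⟨kernel ψ, p₁, p₂, QCohLib.isCoh_kernel ψ (DevissLib.isCoh_biprod h₁ h₂) inferInstance, ‹_›, ?_⟩
  show IsIso (R.map p₂)
  rw [← h21]
  infer_instance

end BlowRegLib
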