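import Groth.Agent.BlowRegLib.PosC
import Groth.Agent.MiscFlat6.TensorGG
import Groth.Agent.MiscFlat6.CounitTwist
import Groth.Agent.QCohLib.Push

/-! # Epimorphy of the counit of pullback and direct image -/

set_option autoImplicit false
set_option linter.style.haveILetI false
universe u

open CategoryTheory CategoryTheory.Limits AlgebraicGeometry TopologicalSpace Opposite

noncomputable section

namespace BlowRegLib.CounitGG

variable {X S : Scheme.{u}} (f : X ⟶ S)

theorem gg_of_epi [QuasiCompact f] [QuasiSeparated f] (F : X.Modules) [Coh.IsQCoh F]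
    (he : Epi ((Scheme.Modules.pullbackPushforwardAdjunction f).counit.app F)) (U : S.Opens) (hU : IsAffineOpen U) :
    Curv2.IsGloballyGenerated (F.restrict (f ⁻¹ᵁ U).ι) := by
  let O := f ⁻¹ᵁ U
  haveI := QCohLib.isQCoh_pushforward f F
  refine MiscFlat6.isGloballyGenerated_of_cancel _ fun N q hq => ?_
  let q' : F ⟶ (Scheme.Modules.pushforward O.ι).obj N :=
    (Scheme.Modules.restrictAdjunction O.ι).homEquiv _ _ q
  have hO : ∀ u : Γ(F, O), q'.app O u = 0 := by
    intro u
    rw [show q' = (Scheme.Modules.restrictAdjunction O.ι).unit.app F ≫ (Scheme.Modules.pushforward O.ι).map q from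
      Adjunction.homEquiv_unit _ _ _ _]
    refine (show _ = q.app (O.ι ⁻¹ᵁ O) (((Scheme.Modules.restrictAdjunction O.ι).unit.app F).app O u) from rfl).trans ?_
    have key : ∀ (T : (O : Scheme.{u}).Opens), T = ⊤ → ∀ v : Γ(F.restrict O.ι, T), q.app T v = 0 := by
      rintro T rfl v; exact hq v
    exact key _ (Scheme.Opens.ι_preimage_self O) _
  have hp : (Scheme.Modules.pushforward f).map q' = 0 := by
    apply Scheme.Modules.hom_ext
    intro W
    refine ConcreteCategory.hom_ext _ _ fun t => ?_
    let M₁ := (Scheme.Modules.pushforward f).obj F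
    let M₂ := (Scheme.Modules.pushforward f).obj ((Scheme.Modules.pushforward O.ι).obj N)
    let φ : M₁ ⟶ M₂ := (Scheme.Modules.pushforward f).map q'
    haveI : IsAffine (U : Scheme.{u}) := hU
    have hr : (Scheme.Modules.restrictFunctor U.ι).map φ = 0 :=
      MiscFlat6.eq_zero_of_affine_cover (fun _ : Unit => (⊤ : (U : Scheme.{u}).Opens))
        (fun _ => isAffineOpen_top _) (fun _ => ⟨(), trivial⟩) _ _ fun _ v => by
          show φ.app (U.ι ''ᵁ ⊤) v = 0
          have key : ∀ (T : S.Opens), T = U → ∀ v : Γ(M₁, T), φ.app T v = 0 := by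
            rintro T rfl v; exact hO v
          exact key _ U.ι_image_top v
    let W' : S.Opens := U.ι ''ᵁ (U.ι ⁻¹ᵁ W)
    have hle : W' ≤ W := U.ι.image_preimage_le W
    have heq : O.ι ⁻¹ᵁ (f ⁻¹ᵁ W') = O.ι ⁻¹ᵁ (f ⁻¹ᵁ W) := Opens.ext (Set.ext fun z =>
      ⟨fun h => hle h, fun h => ⟨⟨f (O.ι z), z.2⟩, h, rfl⟩⟩)
    have hinj : Function.Injective (M₂.presheaf.map (homOfLE hle).op) := by
      have key : ∀ (V V' : (O : Scheme.{u}).Opens) (h : V' ≤ V), V' = V →
          Function.Injective (N.presheaf.map (homOfLE h).op) := by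
        rintro V V' h rfl a b e
        simpa using e
      exact key _ _ (O.ι.preimage_mono (f.preimage_mono hle)) heq
    show φ.app W t = 0
    apply hinj
    rw [map_zero]
    refine (NatTrans.naturality_apply φ.mapPresheaf (homOfLE hle).op t).symm.trans ?_
    exact congr(Scheme.Modules.Hom.app $hr (U.ι ⁻¹ᵁ W) (M₁.presheaf.map (homOfLE hle).op t))
  haveI := he
  have h0 : q' = 0 := by
    refine (cancel_epi ((Scheme.Modules.pullbackPushforwardAdjunction f).counit.app F)).1 ?_
    rw [← (Scheme.Modules.pullbackPushforwardAdjunction f).counit_naturality q', hp, Functor.map_zero,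
      zero_comp, comp_zero]
  haveI := (Scheme.Modules.restrictAdjunction O.ι).left_adjoint_additive
  refine ((Scheme.Modules.restrictAdjunction O.ι).homEquiv _ _).injective ?_
  change q' = _
  rw [h0, Adjunction.homEquiv_unit, Functor.map_zero, comp_zero]

/-- S10869 -/
theorem counit_criteria [QuasiCompact f] [QuasiSeparated f]
    (F : X.Modules) (hF : Coh.IsQCoh F) :
    (Epi ((Scheme.Modules.pullbackPushforwardAdjunction f).counit.app F) ↔
      ∃ G : S.Modules, Coh.IsQCoh G ∧ ∃ φ : (Scheme.Modules.pullback f).obj G ⟶ F, Epi φ) ∧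
    (Epi ((Scheme.Modules.pullbackPushforwardAdjunction f).counit.app F) ↔
      ∀ U : S.Opens, IsAffineOpen U → Curv2.IsGloballyGenerated (F.restrict (f ⁻¹ᵁ U).ι)) := by
  haveI := hF
  refine ⟨⟨fun h => ⟨_, QCohLib.isQCoh_pushforward f F, _, h⟩, ?_⟩, ⟨fun h U hU => gg_of_epi f F h U hU, fun h => ?_⟩⟩
  · rintro ⟨G, -, φ, hφ⟩
    let adj := Scheme.Modules.pullbackPushforwardAdjunction f
    obtain ⟨ψ, rfl⟩ := (adj.homEquiv G F).symm.surjective φ
    rw [Adjunction.homEquiv_counit] at hφ
    haveI := hφ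
    exact epi_of_epi ((Scheme.Modules.pullback f).map ψ) _
  · refine BlowRegLib.epi_counit_of_local f fun y => ?_
    obtain ⟨W, hW, hy, -⟩ := exists_isAffineOpen_mem_and_subset (x := y) (U := ⊤) trivial
    exact ⟨W, hy, h W hW⟩

end BlowRegLib.CounitGG
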