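import Groth.Agent.AVVanishLib.Basic
import Groth.Agent.H0Lib.Main
import Groth.Agent.S2431
import Groth.Prelude.Def_ClSub2

/-!
# Covers with no extra functions are geometrically connected
-/

set_option autoImplicit false
universe u

open CategoryTheory CategoryTheory.Limits AlgebraicGeometry TopologicalSpace

noncomputable section

namespace BlowRegLib

theorem app_injective_of_flat_surjective {X Y : Scheme.{u}} (f : X ⟶ Y) [Flat f] [Surjective f] (U : Y.Opens) :
    Function.Injective (f.app U) := by
  intro a b hab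
  refine TopCat.Presheaf.section_ext Y.sheaf U a b fun y hy => ?_
  obtain ⟨x, rfl⟩ := f.surjective y
  have h := Flat.stalkMap f x
  have hinj : Function.Injective (f.stalkMap x) := by
    algebraize [(f.stalkMap x).hom]
    have : Module.FaithfullyFlat (Y.presheaf.stalk (f x)) (X.presheaf.stalk x) :=
      @Module.FaithfullyFlat.of_flat_of_isLocalHom _ _ _ _ _ _ _ h (f.toLRSHom.prop x)
    exact RingHom.FaithfullyFlat.injective (f := (f.stalkMap x).hom) ‹_›
  apply hinj
  have h1 := Scheme.Hom.germ_stalkMap_apply f U x hy a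
  have h2 := Scheme.Hom.germ_stalkMap_apply f U x hy b
  refine h1.trans (Eq.trans ?_ h2.symm)
  rw [hab]

theorem mono_unitToPush_of_flat_surjective {X Y : Scheme.{u}} (f : X ⟶ Y) [Flat f] [Surjective f] :
    Mono (ClSub.unitToPush f) := by
  refine Preadditive.mono_of_cancel_zero _ fun g hg => ?_
  refine Scheme.Modules.hom_ext _ _ fun W => ?_
  ext s
  refine (app_injective_of_flat_surjective f W) ?_
  have := congrArg (fun φ => φ.app W s) hg
  exact this.trans (map_zero _).symm

theorem geometricallyConnected_of_cover {k : Type u} [Field k] {X Y : Scheme.{u}} (g : Y ⟶ Spec (CommRingCat.of k))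
    (ρ : X ⟶ Y) [IsProper g] [GeometricallyConnected g] [GeometricallyReduced g]
    [IsFinite ρ] [Flat ρ] [Surjective ρ]
    (h0 : Subsingleton (Coh.HH Y (cokernel (ClSub.unitToPush ρ)) 0)) :
    GeometricallyConnected (ρ ≫ g) := by
  haveI : IsLocallyNoetherian Y := LocallyOfFiniteType.isLocallyNoetherian g
  haveI : Flat g := inferInstance
  haveI : LocallyOfFinitePresentation g := inferInstance
  haveI hmono := mono_unitToPush_of_flat_surjective ρ
  have hsub := (AVVanishLib.subsingleton_HH_zero_iff _).1 h0
  have hsurj : Function.Surjective (ρ.app ⊤) := fun s => by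
    let φ := (KFlatLib.unitSecEquiv ((Scheme.Modules.pushforward ρ).obj (Coh.structureModule X))).symm s
    have hφ : φ ≫ cokernel.π (ClSub.unitToPush ρ) = 0 := hsub.elim _ _
    let ψ := Abelian.monoLift (ClSub.unitToPush ρ) φ hφ
    refine ⟨KFlatLib.unitSecEquiv (Coh.structureModule Y) ψ, ?_⟩
    have h := congrArg (KFlatLib.unitSecEquiv _) (Abelian.monoLift_comp (ClSub.unitToPush ρ) φ hφ)
    exact h.trans (Equiv.apply_symm_apply _ s)
  refine (Groth.Agent.S2431.result (ρ ≫ g) fun U => ?_).2
  rcases (U : Set ↥(Spec (CommRingCat.of k))).eq_empty_or_nonempty with hU | ⟨x, hx⟩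
  · obtain rfl : U = ⊥ := Opens.ext hU
    have h2 : Subsingleton Γ(X, (ρ ≫ g) ⁻¹ᵁ (⊥ : (Spec (CommRingCat.of k)).Opens)) := by
      rw [Scheme.Hom.preimage_bot]; infer_instance
    have h1 : Subsingleton Γ(Spec (CommRingCat.of k), ⊥) := inferInstance
    exact (ConcreteCategory.isIso_iff_bijective _).2
      ⟨fun a b _ => Subsingleton.elim a b, fun b => ⟨0, h2.elim _ _⟩⟩
  · obtain rfl : U = ⊤ := eq_top_iff.2 fun y _ => by
      rw [Subsingleton.elim (α := PrimeSpectrum k) y x]; exact hx
    have hg := H0Lib.bijective_app_of_geometrically g ⊤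
    exact (ConcreteCategory.isIso_iff_bijective _).2
      (show Function.Bijective ((ρ.app ⊤) ∘ (g.app ⊤)) from
        ⟨(app_injective_of_flat_surjective ρ ⊤).comp hg.1, hsurj.comp hg.2⟩)

end BlowRegLib
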