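import Groth.Prelude.Def_W4c1hurwitzcptBd
import Mathlib.RingTheory.PowerSeries.Order
import Mathlib.RingTheory.PowerSeries.NoZeroDivisors
import Mathlib.RingTheory.PowerSeries.Inverse
import Mathlib.RingTheory.PowerSeries.Substitution
import Mathlib.LinearAlgebra.Matrix.ToLinearEquiv
import Mathlib.LinearAlgebra.Basis.Basic
import Mathlib.LinearAlgebra.Matrix.Basis

/-!
# Bases of lattices in `k⟦x⟧` over `k⟦x³⟧` with distinct valuations
-/

set_option autoImplicit false
universe u

open PowerSeries Matrix
open scoped BigOperators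

noncomputable section

namespace BlowRegLib

open W4c1hurwitzcpt

variable {k : Type u} [Field k]


/-- The component in residue class `r`. -/
def comp3 (r : Fin 3) : (RootDisk 3 k) →ₗ[(PowerSeries k)] (PowerSeries k) where
  toFun f := PowerSeries.mk fun n => PowerSeries.coeff (3 * n + (r : ℕ)) (RootDisk.val f)
  map_add' f g := by
    ext n
    simp
  map_smul' a f := by
    ext n
    rw [PowerSeries.coeff_mk, RingHom.id_apply, smul_eq_mul, PowerSeries.coeff_mul, Algebra.smul_def, map_mul]
    change PowerSeries.coeff _ (PowerSeries.expand 3 (by norm_num) a * RootDisk.val f) = _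
    rw [PowerSeries.coeff_mul]
    refine (Finset.sum_of_injOn (fun p : ℕ × ℕ => (3 * p.1, 3 * p.2 + (r : ℕ))) ?_ ?_ ?_ ?_).symm
    · intro p _ q _ h
      simp only [Prod.mk.injEq] at h
      ext <;> omega
    · intro p hp
      simp only [Finset.mem_coe, Finset.mem_antidiagonal] at hp ⊢
      omega
    · intro p hp hp'
      simp only [Finset.mem_antidiagonal] at hp
      rw [PowerSeries.coeff_expand]
      split_ifs with h3
      · exfalso
        refine hp' ⟨(p.1 / 3, n - p.1 / 3), ?_, ?_⟩
        · simp only [Finset.mem_coe, Finset.mem_antidiagonal]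
          have := r.2
          omega
        · have := r.2
          ext <;> simp only <;> omega
      · rw [zero_mul]
    · intro p _
      rw [PowerSeries.coeff_mk, PowerSeries.coeff_expand_mul]

theorem comp3_apply (r : Fin 3) (f : (RootDisk 3 k)) (n : ℕ) :
    PowerSeries.coeff n (comp3 r f) = PowerSeries.coeff (3 * n + (r : ℕ)) (RootDisk.val f) := by
  simp only [comp3, LinearMap.coe_mk, AddHom.coe_mk, PowerSeries.coeff_mk]

theorem eq_zero_of_comp3 (f : (RootDisk 3 k)) (h : ∀ r, comp3 r f = 0) : f = 0 := by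
  apply (RootDisk.val (p := 3) (k := k)).injective
  rw [map_zero]
  ext n
  have h1 := congrArg (PowerSeries.coeff (n / 3)) (h ⟨n % 3, Nat.mod_lt _ (by norm_num)⟩)
  rw [comp3_apply, map_zero] at h1
  simpa [Nat.div_add_mod] using h1

variable {M : Submodule (PowerSeries k) (RootDisk 3 k)}

/-- The valuation of an element. -/
abbrev ordM (m : M) : ℕ := (PowerSeries.order (RootDisk.val (m : (RootDisk 3 k)))).toNat

theorem val_ne_zero {m : M} (hm : m ≠ 0) : RootDisk.val (m : (RootDisk 3 k)) ≠ 0 := fun h =>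
  hm (Subtype.ext ((RootDisk.val (p := 3) (k := k)).injective (h.trans (map_zero _).symm)))

theorem ord_bounded (b : Module.Basis (Fin 3) (PowerSeries k) M) :
    ∃ D : ℕ, ∀ (g : Module.Basis (Fin 3) (PowerSeries k) M) (j : Fin 3), ordM (g j) < D := by
  classical
  let A : Matrix (Fin 3) (Fin 3) (PowerSeries k) := Matrix.of fun r i => comp3 r (b i : (RootDisk 3 k))
  have hA : A.det ≠ 0 := fun h => by
    obtain ⟨v, hv, hv0⟩ := Matrix.exists_mulVec_eq_zero_iff.2 h
    refine hv ?_
    have hs : ∑ i, v i • b i = 0 := by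
      refine Subtype.ext (eq_zero_of_comp3 _ fun r => ?_)
      have := congrFun hv0 r
      simp only [Matrix.mulVec, dotProduct, A, Matrix.of_apply, Pi.zero_apply] at this
      simp only [Submodule.coe_sum, Submodule.coe_smul, map_sum, map_smul, smul_eq_mul]
      rw [← this]
      exact Finset.sum_congr rfl fun i _ => mul_comm _ _
    exact funext fun i => Fintype.linearIndependent_iff.1 b.linearIndependent v hs i
  refine ⟨3 * (A.det.order.toNat + 1), fun g j => ?_⟩
  by_contra hlt
  rw [not_lt] at hlt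
  set N := A.det.order.toNat + 1
  let B : Matrix (Fin 3) (Fin 3) (PowerSeries k) := Matrix.of fun r i => comp3 r (g i : (RootDisk 3 k))
  have hBA : A = B * g.toMatrix b := by
    ext1 r i
    simp only [Matrix.mul_apply, A, B, Matrix.of_apply, Module.Basis.toMatrix_apply]
    conv_lhs => rw [← g.sum_repr (b i)]
    simp only [Submodule.coe_sum, Submodule.coe_smul, map_sum, map_smul, smul_eq_mul]
    exact Finset.sum_congr rfl fun l _ => mul_comm _ _
  have hcol : ∀ r, (PowerSeries.X : PowerSeries k) ^ N ∣ B r j := fun r => by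
    rw [PowerSeries.X_pow_dvd_iff]
    intro n hn
    simp only [B, Matrix.of_apply, comp3_apply]
    refine PowerSeries.coeff_of_lt_order_toNat _ (lt_of_lt_of_le ?_ hlt)
    have := r.2
    omega
  have hdvd : (PowerSeries.X : PowerSeries k) ^ N ∣ B.det := by
    rw [Matrix.det_apply]
    refine Finset.dvd_sum fun σ _ => ?_
    rw [Units.smul_def, zsmul_eq_mul]
    refine Dvd.dvd.mul_left ?_ _
    exact (hcol (σ j)).trans (Finset.dvd_prod_of_mem (fun i => B (σ i) i) (Finset.mem_univ j))
  have hdvdA : (PowerSeries.X : PowerSeries k) ^ N ∣ A.det := by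
    rw [hBA, Matrix.det_mul]
    exact dvd_mul_of_dvd_left hdvd _
  rw [PowerSeries.X_pow_dvd_iff] at hdvdA
  exact PowerSeries.coeff_order hA (hdvdA _ (Nat.lt_succ_self _))

theorem exists_improve (g : Module.Basis (Fin 3) (PowerSeries k) M) {i j : Fin 3} (hij : i ≠ j)
    (hmod : Nat.ModEq 3 (ordM (g i)) (ordM (g j))) (hle : ordM (g i) ≤ ordM (g j)) :
    ∃ g' : Module.Basis (Fin 3) (PowerSeries k) M, ∑ l, ordM (g l) < ∑ l, ordM (g' l) := by
  classical
  obtain ⟨q, hq⟩ : ∃ q, ordM (g j) = ordM (g i) + 3 * q := by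
    refine ⟨(ordM (g j) - ordM (g i)) / 3, ?_⟩
    have := Nat.ModEq.dvd hmod
    omega
  have hi := PowerSeries.coeff_order (val_ne_zero (g.ne_zero i))
  let c : k := PowerSeries.coeff (ordM (g j)) (RootDisk.val (g j : (RootDisk 3 k))) /
    PowerSeries.coeff (ordM (g i)) (RootDisk.val (g i : (RootDisk 3 k)))
  let a : (PowerSeries k) := PowerSeries.C c * PowerSeries.X ^ q
  let t : M →ₗ[(PowerSeries k)] M := (g.coord j).smulRight (a • g i)
  have htt : t ∘ₗ t = 0 := LinearMap.ext fun m => by
    simp [t, Finsupp.single_apply, hij, hij.symm]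
  let e : M ≃ₗ[(PowerSeries k)] M := LinearEquiv.ofLinear (LinearMap.id - t) (LinearMap.id + t)
    (by
      rw [LinearMap.sub_comp, LinearMap.comp_add, LinearMap.comp_add, LinearMap.id_comp, LinearMap.id_comp,
        LinearMap.comp_id, htt]
      abel)
    (by
      rw [LinearMap.add_comp, LinearMap.comp_sub, LinearMap.comp_sub, LinearMap.id_comp, LinearMap.id_comp,
        LinearMap.comp_id, htt]
      abel)
  refine ⟨g.map e, ?_⟩
  have hl : ∀ l, l ≠ j → g.map e l = g l := fun l hl => by
    simp [e, t, Finsupp.single_apply, hl, Ne.symm hl]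
  have hj : g.map e j = g j - a • g i := by simp [e, t]
  have hkey : ordM (g j) < ordM (g.map e j) := by
    have hne := val_ne_zero ((g.map e).ne_zero j)
    refine lt_of_not_ge fun hge => PowerSeries.coeff_order hne ?_
    change PowerSeries.coeff (ordM (g.map e j)) (RootDisk.val (g.map e j : (RootDisk 3 k))) = 0
    have hval : RootDisk.val (g.map e j : (RootDisk 3 k)) = RootDisk.val (g j : (RootDisk 3 k)) -
        PowerSeries.C c * PowerSeries.X ^ (3 * q) * RootDisk.val (g i : (RootDisk 3 k)) := by
      rw [hj, Submodule.coe_sub, Submodule.coe_smul, map_sub, Algebra.smul_def, map_mul]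
      congr 2
      change PowerSeries.expand 3 (by norm_num) a = _
      rw [map_mul, map_pow, PowerSeries.expand_C, PowerSeries.expand_X, ← pow_mul]
    rw [hval, map_sub, mul_assoc, PowerSeries.coeff_C_mul, PowerSeries.coeff_X_pow_mul']
    rcases lt_or_eq_of_le hge with hlt | heq
    · rw [PowerSeries.coeff_of_lt_order_toNat _ hlt]
      split_ifs with h
      · rw [PowerSeries.coeff_of_lt_order_toNat _ (show _ - 3 * q < ordM (g i) by omega), mul_zero, sub_zero]
      · rw [mul_zero, sub_zero]
    · rw [heq, if_pos (by omega), show ordM (g j) - 3 * q = ordM (g i) by omega]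
      simp only [c]
      rw [div_mul_cancel₀ _ hi, sub_self]
  refine Finset.sum_lt_sum (fun l _ => ?_) ⟨j, Finset.mem_univ j, hkey⟩
  rcases eq_or_ne l j with rfl | h
  · exact hkey.le
  · rw [hl l h]

theorem exists_basis_distinct (b : Module.Basis (Fin 3) (PowerSeries k) M) :
    ∃ g : Module.Basis (Fin 3) (PowerSeries k) M, ∀ i j : Fin 3, i ≠ j → ¬ Nat.ModEq 3 (ordM (g i)) (ordM (g j)) := by
  classical
  obtain ⟨D, hD⟩ := ord_bounded b
  let T : Set ℕ := {n | ∃ g : Module.Basis (Fin 3) (PowerSeries k) M, ∑ l, ordM (g l) = n}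
  have hfin : T.Finite := (Set.finite_lt_nat (3 * D + 1)).subset fun n hn => by
    obtain ⟨g, rfl⟩ := hn
    have h0 := hD g 0
    have h1 := hD g 1
    have h2 := hD g 2
    simp only [Set.mem_setOf_eq, Fin.sum_univ_three]
    omega
  obtain ⟨n, hnT, hmax⟩ := hfin.exists_maximal ⟨_, b, rfl⟩
  obtain ⟨g, rfl⟩ := hnT
  refine ⟨g, fun i j hij hmod => ?_⟩
  rcases le_total (ordM (g i)) (ordM (g j)) with hle | hle
  · obtain ⟨g', hg'⟩ := exists_improve g hij hmod hle
    exact absurd (hmax ⟨g', rfl⟩ hg'.le) (not_le.2 hg')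
  · obtain ⟨g', hg'⟩ := exists_improve g hij.symm hmod.symm hle
    exact absurd (hmax ⟨g', rfl⟩ hg'.le) (not_le.2 hg')

end BlowRegLib
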