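import Groth.Agent.CurvOpenLib.Example
import Groth.Agent.NodalLib.NodalPt

/-!
# Nodality of families of curves is a good condition
-/

set_option autoImplicit false
set_option linter.style.haveILetI false
set_option backward.isDefEq.respectTransparency false
set_option backward.isDefEq.respectTransparency.types false
universe u

open CategoryTheory CategoryTheory.Limits AlgebraicGeometry AlgSp AlgSpLib

namespace CurvOpenLib

theorem nodalPt_comp_etale {U' U V : Scheme.{u}} (a : U' ⟶ U) (h : U ⟶ V) [Etale a] [LocallyOfFiniteType h]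
    (u' : U') : NodalLib.NodalPt (a ≫ h) u' ↔ NodalLib.NodalPt h (a.base u') :=
  and_congr (by rw [FibDimLib.fibreDimAt_eq_of_etale_square h (a ≫ h) a (𝟙 V) (Category.comp_id _) u'])
    (NodalLib.smoothOrNode_comp_etale h a u').symm

theorem good_nodal : GoodProp.{u} (fun h u => NodalLib.NodalPt h u) where
  srcEt a h _ _ _ u' := nodalPt_comp_etale a h u'
  tgtEt {U V W} h b _ _ _ u := by
    let gr : U ⟶ pullback (h ≫ b) b := pullback.lift (𝟙 U) h (by simp)
    haveI : Etale gr := by
      haveI : Etale (gr ≫ pullback.fst (h ≫ b) b) := by rw [pullback.lift_fst]; infer_instance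
      exact Etale.of_comp gr (pullback.fst (h ≫ b) b)
    haveI : LocallyOfFiniteType (pullback.snd (h ≫ b) b) :=
      MorphismProperty.pullback_snd (P := @LocallyOfFiniteType) _ _ inferInstance
    have e : gr ≫ pullback.snd (h ≫ b) b = h := pullback.lift_snd _ _ _
    conv_rhs => rw [← e]
    rw [nodalPt_comp_etale gr (pullback.snd (h ≫ b) b) u, NodalLib.nodalPt_baseChange (h ≫ b) (IsPullback.of_hasPullback (h ≫ b) b)]
    rw [← Scheme.Hom.comp_apply, pullback.lift_fst]
    rfl
  baseChange h g h' g' _ _ sq u' := NodalLib.nodalPt_baseChange h sq u'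
  isOpen h _ _ := NodalLib.isOpen_nodalPt h

theorem locP_nodal_iff {S : Scheme.{u}} {X : Sp S} {T : Over S} {f : X ⟶ (yon S).obj T}
    (hfl : LocP @Flat f) (hlfp : LocP @LocallyOfFinitePresentation f) :
    LocP CurvSt.nodalFam f ↔ LocP (allPts fun h u => NodalLib.NodalPt h u) f := by
  constructor
  · intro H U V a b h ha hb e u
    exact ((NodalLib.isNodalFamily_iff_pt h.left).1 (H a b h ha hb e)).2.2 u
  · intro H U V a b h ha hb e
    exact (NodalLib.isNodalFamily_iff_pt h.left).2 ⟨hfl a b h ha hb e, hlfp a b h ha hb e, H a b h ha hb e⟩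

theorem nodalPt_of_smooth_field {k : Type u} [Field k] {X : Scheme.{u}} (q : X ⟶ Spec (CommRingCat.of k))
    [Smooth q] (x : X) (hd : FlatMor.fibreDimAt q x = 1) : NodalLib.NodalPt q x := by
  refine ⟨hd, Or.inl ⟨⊤, trivial, ?_⟩⟩
  show Smooth (_ ≫ q.fiberToSpecResidueField _)
  haveI : Smooth (q.fiberToSpecResidueField (q.base x)) :=
    MorphismProperty.pullback_snd (P := @Smooth) _ _ ‹Smooth q›
  infer_instance

theorem nonempty_fiber_nodal {S : Scheme.{u}} (Ω : Type u) [Field Ω] (t : Spec (CommRingCat.of Ω) ⟶ S) :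
    Nonempty ((AlgSt.fullSub (CurvSt.Curves S 0) (fun A => AlgSp.LocP CurvSt.nodalFam A.obj.f ∧
      CurvSt.GeomFib (fun _ _ _ X' _ _ => Nonempty ↥X') A.obj)).p.Fiber (Over.mk t)) := by
  haveI := GenusZeroLib.smooth_toSpec 1 Ω
  have hA := isCurveFam_line Ω t
  refine ⟨⟨⟨⟨lineFam Ω t, hA⟩, ?_, ?_⟩, rfl⟩⟩
  · exact (locP_nodal_iff hA.2.1 hA.2.2.2.1.1).2 ((locP_iff_atlas good_nodal hA.2.1 hA.2.2.2.1.1
      (repWith_id (@Etale : MorphismProperty Scheme.{u}) (lineObj Ω t))
      (repWith_id (@Surjective : MorphismProperty Scheme.{u}) (lineObj Ω t))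
      (h := lineHom Ω t) (Category.id_comp _)).2 fun x =>
        nodalPt_of_smooth_field (CohB1.ProjSpace.toSpec 1 Ω) x ((fibreDimAt_line Ω x).trans Nat.cast_one))
  · intro K _ _ t' X' q i hP
    have h2 : (yon S).map ((yon S).preimage i) = i := (yon S).map_preimage i
    rw [← h2] at hP
    have h3 := (IsPullback.of_map (yon S) (by
      apply (yon S).map_injective
      simp only [Functor.map_comp]
      exact hP.w) hP).map (Over.forget S)
    haveI : Surjective (lineHom Ω t).left := ⟨fun y => by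
      obtain ⟨x⟩ : Nonempty ↥(CohB1.ProjSpace 1 Ω) := GenusZeroLib.irreducibleSpace_projSpace Ω 1 |>.toNonempty
      exact ⟨x, @Subsingleton.elim ↥(Spec (CommRingCat.of Ω)) inferInstance _ _⟩⟩
    haveI : Surjective q := MorphismProperty.of_isPullback (P := @Surjective) h3 ‹_›
    obtain ⟨y⟩ : Nonempty ↥(Spec (CommRingCat.of K)) := inferInstance
    obtain ⟨x, -⟩ := q.surjective y
    exact ⟨x⟩

theorem isOpenSubstack_nodal {S : Scheme.{u}}
    (hC : AlgSt.IsAlgStack Scheme.fppfPrecoverage (CurvSt.Curves S 0)) :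
    AlgSt.IsOpenSubstack (CurvSt.Curves S 0) (fun A => AlgSp.LocP CurvSt.nodalFam A.obj.f) Scheme.fppfPrecoverage :=
  isOpenSubstack_curves good_nodal hC _ fun A => locP_nodal_iff A.property.2.1 A.property.2.2.2.1.1

end CurvOpenLib
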