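import Groth.Agent.CurveH0Lib.Conn
import Groth.Agent.FibVALib.Curve
import Groth.Agent.SurfNumLib.K3
import Groth.Agent.CurveVBLib.Integral

/-! # Constants and geometric connectedness -/

set_option autoImplicit false
set_option linter.style.haveILetI false
universe u

open CategoryTheory CategoryTheory.Limits AlgebraicGeometry TopologicalSpace Opposite

noncomputable section

namespace BlowRegLib.CurveGeomConn

/-- S16754 -/
theorem constants_iff (k : Type u) [Field k]
    (X : Scheme.{u}) [X.Over (Spec (CommRingCat.of k))] [IsProper (X ↘ Spec (CommRingCat.of k))]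
    [Smooth (X ↘ Spec (CommRingCat.of k))] (hdim : topologicalKrullDim ↥X = 1) :
    (Module.finrank k (Coh.HH X (Coh.structureModule X) 0) = 1 ↔ GeometricallyConnected (X ↘ Spec (CommRingCat.of k))) ∧
      (GeometricallyConnected (X ↘ Spec (CommRingCat.of k)) ↔ GeometricallyIntegral (X ↘ Spec (CommRingCat.of k))) := by
  haveI : Nonempty X := by
    by_contra hne
    haveI : IsEmpty X := not_nonempty_iff.mp hne
    have := topologicalKrullDim_zero_of_discreteTopology X
    rw [hdim] at this
    exact absurd this (not_le.mpr zero_lt_one)
  have h21 : GeometricallyConnected (X ↘ Spec (CommRingCat.of k)) →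
      GeometricallyIntegral (X ↘ Spec (CommRingCat.of k)) := fun h => by
    haveI := h
    exact FibVALib.geometricallyIntegral_of_geometricallyConnected _
  refine ⟨⟨fun h0 => ?_, fun h => ?_⟩, ⟨h21, fun h => ?_⟩⟩
  · haveI : ConnectedSpace X := SurfNumLib.connected_of_h0 (k := k) (X := X) h0
    haveI := CurvLib.isNoetherian k (X := X)
    haveI : ∀ x : X, IsDomain (X.presheaf.stalk x) := fun x =>
      haveI := CurveVBLib.regular_stalk (k := k) x
      CommAlgDim.isDomain_of_isRegularLocalRing _
    haveI : IsIntegral X := CurveVBLib.isIntegral_of_connected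
    exact CurveH0Lib.geometricallyConnected_of_h0 k h0
  · haveI := h21 h
    exact FibVALib.finrank_h0_structure k X hdim
  · exact ⟨fun K _ y Z fst snd hsq => by
      haveI := h.geometrically_isIntegral _ _ _ hsq
      infer_instance⟩

end BlowRegLib.CurveGeomConn
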