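import Groth.Prelude.Def_DefoSh2
import Groth.Agent.FiltSectLib.Stalks
import Groth.Agent.PerfLib.LocalLift
import Groth.Agent.Formal2VBLib.Punct
import Mathlib.RingTheory.Flat.EquationalCriterion
import Mathlib.Algebra.Homology.ShortComplex.ShortExact

/-!
# First order deformations of vector bundles are locally trivial
-/

set_option autoImplicit false
set_option linter.style.haveILetI false
universe u

open CategoryTheory CategoryTheory.Limits AlgebraicGeometry TopologicalSpace Opposite ArtFun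

noncomputable section

namespace BlowRegLib.DefoTriv

variable {k : Type u} [Field k] {X : Scheme.{u}} [X.Over (Spec (CommRingCat.of k))] {E : X.Modules}
  (D : DefoSh.Defo E (ArtFun.Art.dual k k))

theorem sf_apply {M N : X.Modules} (φ : M ⟶ N) (x : X) (v : ↑(M.presheaf.stalk x)) :
    (DerSch.stalkFunctor X x).map φ v = RefHull.stalkMapₗ φ x v := by
  obtain ⟨W, hxW, s, rfl⟩ := TopCat.Presheaf.germ_exist M.presheaf v
  exact (DerSch.stalkFunctor_map_germ x φ W hxW s).trans (RefHull.stalkMapₗ_germ _ _ _ _).symm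

theorem epi_of_surj {M N : X.Modules} (φ : M ⟶ N) (h : ∀ x, Function.Surjective (RefHull.stalkMapₗ φ x)) : Epi φ := by
  rw [Preadditive.epi_iff_isZero_cokernel, KFlatLib.isZero_iff_forall_stalk]
  intro x
  haveI : Epi ((DerSch.stalkFunctor X x).map φ) := by
    rw [ModuleCat.epi_iff_surjective]
    intro v
    obtain ⟨w, hw⟩ := h x v
    exact ⟨w, (sf_apply φ x w).trans hw⟩
  exact (isZero_cokernel_of_epi _).of_iso (PreservesCokernel.iso (DerSch.stalkFunctor X x) φ)

theorem mono_of_inj {M N : X.Modules} (φ : M ⟶ N) (h : ∀ x, Function.Injective (RefHull.stalkMapₗ φ x)) : Mono φ := by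
  rw [Preadditive.mono_iff_isZero_kernel, KFlatLib.isZero_iff_forall_stalk]
  intro x
  haveI : Mono ((DerSch.stalkFunctor X x).map φ) := by
    rw [ModuleCat.mono_iff_injective]
    intro v w e
    exact h x ((sf_apply φ x v).symm.trans (e.trans (sf_apply φ x w)))
  exact (isZero_kernel_of_mono _).of_iso (PreservesKernel.iso (DerSch.stalkFunctor X x) φ)

theorem eq_zero_of_stalk {M N : X.Modules} (φ : M ⟶ N) (h : ∀ x v, RefHull.stalkMapₗ φ x v = 0) : φ = 0 := by
  refine Scheme.Modules.hom_ext _ _ fun W => ConcreteCategory.hom_ext _ _ fun m => ?_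
  refine TopCat.Presheaf.section_ext ((QCohLib.toAbF X).obj N : TopCat.Sheaf AddCommGrpCat _) W _ _ fun x hx => ?_
  refine ((RefHull.stalkMapₗ_germ φ x hx m).symm.trans ((h x _).trans ?_))
  exact (map_zero _).symm

theorem exact_of_stalks {F G H : X.Modules} (φ : F ⟶ G) (ψ : G ⟶ H) (w : φ ≫ ψ = 0)
    (h : ∀ x v, RefHull.stalkMapₗ ψ x v = 0 → ∃ a, RefHull.stalkMapₗ φ x a = v) : (ShortComplex.mk φ ψ w).Exact := by
  rw [ShortComplex.exact_iff_isZero_homology, KFlatLib.isZero_iff_forall_stalk]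
  intro x
  have hx : ((ShortComplex.mk φ ψ w).map (DerSch.stalkFunctor X x)).Exact := by
    rw [ShortComplex.moduleCat_exact_iff]
    intro v hv
    obtain ⟨a, ha⟩ := h x v ((sf_apply ψ x v).symm.trans hv)
    exact ⟨a, (sf_apply φ x a).trans ha⟩
  rw [ShortComplex.exact_iff_isZero_homology] at hx
  exact hx.of_iso ((ShortComplex.mk φ ψ w).mapHomologyIso (DerSch.stalkFunctor X x)).symm

/-- The nilpotent element. -/
def eps : ArtFun.Art.dual k k := (DualNumber.eps : DualNumber k)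

theorem eps_mem : eps (k := k) ∈ IsLocalRing.maximalIdeal (ArtFun.Art.dual k k) := by
  rw [Art.mem_maximalIdeal_iff]
  rfl

theorem exists_eq_eps_mul {a : ArtFun.Art.dual k k} (ha : a ∈ IsLocalRing.maximalIdeal (ArtFun.Art.dual k k)) :
    ∃ b, a = b * eps (k := k) := by
  rw [Art.mem_maximalIdeal_iff] at ha
  let z : DualNumber k := a
  have hz : z.fst = 0 := ha
  refine ⟨(TrivSqZeroExt.inl z.snd : DualNumber k), ?_⟩
  have h : z = (TrivSqZeroExt.inl z.snd : DualNumber k) * DualNumber.eps := by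
    ext <;> simp [hz, TrivSqZeroExt.fst_mul, TrivSqZeroExt.snd_mul]
  exact h

theorem exists_eq_eps_smul (x : X) (v : ↑(D.sheaf.presheaf.stalk x)) (hv : RefHull.stalkMapₗ D.π x v = 0) :
    ∃ w, v = RefHull.stalkMapₗ (D.act eps) x w := by
  letI := DefoSh.stalkModule D.sheaf D.act.toRingHom x
  refine Submodule.smul_induction_on (D.ker_le x v hv) (fun a ha m _ => ?_) ?_
  · obtain ⟨b, rfl⟩ := exists_eq_eps_mul ha
    refine ⟨b • m, ?_⟩
    rw [mul_comm, mul_smul]
    rfl
  · rintro a b ⟨c, rfl⟩ ⟨d, rfl⟩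
    exact ⟨c + d, (map_add _ c d).symm⟩

theorem eps_sq_apply (x : X) (w : ↑(D.sheaf.presheaf.stalk x)) :
    RefHull.stalkMapₗ (D.act eps) x (RefHull.stalkMapₗ (D.act eps) x w) = 0 := by
  letI := DefoSh.stalkModule D.sheaf D.act.toRingHom x
  change eps (k := k) • eps (k := k) • w = 0
  rw [← mul_smul, show eps (k := k) * eps = 0 from DualNumber.eps_mul_eps, zero_smul]

theorem mem_range_of_eps_eq_zero (x : X) (v : ↑(D.sheaf.presheaf.stalk x))
    (hv : RefHull.stalkMapₗ (D.act eps) x v = 0) : RefHull.stalkMapₗ D.π x v = 0 := by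
  letI := DefoSh.stalkModule D.sheaf D.act.toRingHom x
  haveI : Module.Flat (ArtFun.Art.dual k k) ↑(D.sheaf.presheaf.stalk x) := D.flat x
  obtain ⟨ι, a, y, hy, ha⟩ := Module.Flat.isTrivialRelation_of_sum_smul_eq_zero
    (f := fun _ : Fin 1 => eps (k := k)) (x := fun _ : Fin 1 => v) (by rw [Fin.sum_univ_one]; exact hv)
  rw [show v = _ from hy 0, map_sum]
  refine Finset.sum_eq_zero fun j _ => ?_
  have h0 : eps (k := k) * a 0 j = 0 := by simpa using ha j
  have h1 : (a 0 j : DualNumber k).fst = 0 := by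
    let z : DualNumber k := a 0 j
    have h' : (DualNumber.eps : DualNumber k) * z = 0 := h0
    have := congrArg TrivSqZeroExt.snd h'
    show z.fst = 0
    simpa [TrivSqZeroExt.snd_mul] using this
  change RefHull.stalkMapₗ D.π x (RefHull.stalkMapₗ (D.act (a 0 j)) x _) = 0
  rw [← DefoSh.stalkMapₗ_comp_apply, D.act_π _ h1, DefoSh.stalkMapₗ_zero_apply]

theorem exists_j : ∃ (j : E ⟶ D.sheaf) (w : j ≫ D.π = 0), D.π ≫ j = D.act eps ∧ (ShortComplex.mk j D.π w).ShortExact := by
  haveI : Epi D.π := epi_of_surj D.π D.surj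
  have hk : kernel.ι D.π ≫ (D.act eps : D.sheaf ⟶ D.sheaf) = 0 := eq_zero_of_stalk _ fun x v => by
    rw [DefoSh.stalkMapₗ_comp_apply]
    obtain ⟨w, hw⟩ := exists_eq_eps_smul D x (RefHull.stalkMapₗ (kernel.ι D.π) x v)
      (by rw [← DefoSh.stalkMapₗ_comp_apply, kernel.condition, DefoSh.stalkMapₗ_zero_apply])
    rw [hw, eps_sq_apply]
  let hcok := Abelian.epiIsCokernelOfKernel _ (kernelIsKernel D.π)
  let j : E ⟶ D.sheaf := (CokernelCofork.IsColimit.desc' hcok _ hk).1
  have hj : D.π ≫ j = D.act eps := (CokernelCofork.IsColimit.desc' hcok _ hk).2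
  have hj' : ∀ x v, RefHull.stalkMapₗ j x (RefHull.stalkMapₗ D.π x v) = RefHull.stalkMapₗ (D.act eps) x v := fun x v => by
    rw [← DefoSh.stalkMapₗ_comp_apply, hj]
  have w : j ≫ D.π = 0 := by
    rw [← cancel_epi D.π, reassoc_of% hj, comp_zero]
    exact D.act_π eps rfl
  refine ⟨j, w, hj, { exact := exact_of_stalks _ _ _ fun x v hv => ?_, mono_f := ?_, epi_g := ‹Epi D.π› }⟩
  · obtain ⟨u, hu⟩ := exists_eq_eps_smul D x v hv
    exact ⟨_, (hj' x u).trans hu.symm⟩
  · refine mono_of_inj j fun x => (injective_iff_map_eq_zero _).2 fun v hv => ?_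
    obtain ⟨u, rfl⟩ := D.surj x v
    rw [hj'] at hv
    exact mem_range_of_eps_eq_zero D x u hv

theorem act_eq (a : ArtFun.Art.dual k k) :
    (D.act a : D.sheaf ⟶ D.sheaf) =
      Formal.smulMod k D.sheaf (a : DualNumber k).fst + (D.act eps : D.sheaf ⟶ D.sheaf) ≫
        Formal.smulMod k D.sheaf (a : DualNumber k).snd := by
  have ha : a = algebraMap k (ArtFun.Art.dual k k) (a : DualNumber k).fst +
      algebraMap k (ArtFun.Art.dual k k) (a : DualNumber k).snd * eps := by
    let z : DualNumber k := a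
    have h : z = algebraMap k (DualNumber k) z.fst + algebraMap k (DualNumber k) z.snd * DualNumber.eps := by
      ext <;> simp [TrivSqZeroExt.algebraMap_eq_inl, TrivSqZeroExt.fst_mul, TrivSqZeroExt.snd_mul]
    exact h
  conv_lhs => rw [ha, map_add, map_mul, D.act_algebraMap, D.act_algebraMap]
  rfl

section Generic

variable {C : Type*} [Category C] [Preadditive C] [HasBinaryBiproducts C] {C' : Type*} [Category C'] [Preadditive C']
  (R : C ⥤ C') [R.Additive]

theorem eps_comm {E M : C} (π : M ⟶ E) (j : E ⟶ M) (εM : M ⟶ M) (εP : E ⊞ E ⟶ E ⊞ E) (hM : εM = π ≫ j)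
    (hP : εP = biprod.fst ≫ biprod.inr) (eh : R.obj M ⟶ R.obj (E ⊞ E)) (r : R.obj M ⟶ R.obj E)
    (h1 : eh ≫ R.map (biprod.fst : E ⊞ E ⟶ E) = R.map π) (h2 : eh ≫ R.map (biprod.snd : E ⊞ E ⟶ E) = r)
    (hext : ∀ {Z} (f g : Z ⟶ R.obj (E ⊞ E)), f ≫ R.map biprod.fst = g ≫ R.map biprod.fst →
      f ≫ R.map biprod.snd = g ≫ R.map biprod.snd → f = g)
    (hjπ : R.map j ≫ R.map π = 0) (hjr : R.map j ≫ r = 𝟙 _) : R.map εM ≫ eh = eh ≫ R.map εP := by
  subst hM hP
  refine hext _ _ ?_ ?_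
  · rw [Category.assoc, Category.assoc, h1, ← R.map_comp (biprod.fst ≫ biprod.inr), Category.assoc, biprod.inr_fst,
      comp_zero, R.map_zero, comp_zero, R.map_comp, Category.assoc, hjπ, comp_zero]
  · rw [Category.assoc, Category.assoc, h2, ← R.map_comp (biprod.fst ≫ biprod.inr), Category.assoc, biprod.inr_snd,
      Category.comp_id, h1, R.map_comp, Category.assoc, hjr, Category.comp_id]

theorem act_comm {M P : C} (eh : R.obj M ⟶ R.obj P) (aM cM εM dM : M ⟶ M) (aP cP εP dP : P ⟶ P)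
    (hM : aM = cM + εM ≫ dM) (hP : aP = cP + εP ≫ dP) (hc : R.map cM ≫ eh = eh ≫ R.map cP)
    (hd : R.map dM ≫ eh = eh ≫ R.map dP) (hε : R.map εM ≫ eh = eh ≫ R.map εP) :
    R.map aM ≫ eh = eh ≫ R.map aP := by
  subst hM hP
  rw [R.map_add, R.map_add, R.map_comp, R.map_comp, Preadditive.add_comp, Preadditive.comp_add, hc, Category.assoc,
    hd, ← Category.assoc, hε, Category.assoc]

end Generic

theorem exists_local_iso (hE : FlatMod.IsFinLocFree E) (x : X) :
    ∃ (U : X.Opens) (e : D.sheaf.restrict U.ι ≅ (DefoSh.Defo.trivDual k E).sheaf.restrict U.ι), x ∈ U ∧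
      e.hom ≫ (Scheme.Modules.restrictFunctor U.ι).map (DefoSh.Defo.trivDual k E).π =
        (Scheme.Modules.restrictFunctor U.ι).map D.π ∧
      ∀ a : ArtFun.Art.dual k k, (Scheme.Modules.restrictFunctor U.ι).map (D.act a) ≫ e.hom =
        e.hom ≫ (Scheme.Modules.restrictFunctor U.ι).map ((DefoSh.Defo.trivDual k E).act a) := by
  obtain ⟨j, w, hj, hS⟩ := exists_j D
  haveI : Epi D.π := hS.epi_g
  obtain ⟨V, i, _, v, s, hv, hs⟩ := Groth.Agent.PerfLib.exists_lift_locFree hE (𝟙 E) D.π x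
  let U := i.opensRange
  let Φ : (U : Scheme.{u}) ⟶ V := i.isoOpensRange.inv
  have hΦ : Φ ≫ i = U.ι := i.isoOpensRange_inv_comp
  let R := Scheme.Modules.restrictFunctor U.ι
  let c := Scheme.Modules.restrictFunctorCongr hΦ.symm ≪≫ Scheme.Modules.restrictFunctorComp Φ i
  let s' : R.obj E ⟶ R.obj D.sheaf := c.hom.app E ≫ (Scheme.Modules.restrictFunctor Φ).map s ≫ c.inv.app D.sheaf
  have hs' : s' ≫ R.map D.π = 𝟙 _ := by
    simp only [s', Category.assoc]
    rw [← c.inv.naturality D.π]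
    change c.hom.app E ≫ (Scheme.Modules.restrictFunctor Φ).map s ≫
      (Scheme.Modules.restrictFunctor Φ).map ((Scheme.Modules.restrictFunctor i).map D.π) ≫ c.inv.app E = _
    rw [← Functor.map_comp_assoc, hs, CategoryTheory.Functor.map_id, CategoryTheory.Functor.map_id, Category.id_comp,
      Iso.hom_inv_id_app]
  haveI : PreservesFiniteLimits R := inferInstance
  haveI : PreservesFiniteColimits R := inferInstance
  let S := (ShortComplex.mk j D.π w).map R
  have hSR : S.ShortExact := hS.map_of_exact R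
  haveI := hSR.mono_f
  let sp : S.Splitting := ShortComplex.Splitting.ofExactOfSection S hSR.exact s' hs' hSR.mono_f
  haveI : R.Additive := inferInstance
  haveI := preservesBinaryBiproducts_of_preservesBinaryProducts R
  let B := R.mapBiprod E E
  have hB1 : B.hom ≫ (biprod.fst : R.obj E ⊞ R.obj E ⟶ _) = R.map (biprod.fst : E ⊞ E ⟶ E) := biprod.lift_fst _ _
  have hB2 : B.hom ≫ (biprod.snd : R.obj E ⊞ R.obj E ⟶ _) = R.map (biprod.snd : E ⊞ E ⟶ E) := biprod.lift_snd _ _
  have hBf : B.inv ≫ R.map (biprod.fst : E ⊞ E ⟶ E) = biprod.fst := B.inv_comp_eq.2 hB1.symm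
  have hBs : B.inv ≫ R.map (biprod.snd : E ⊞ E ⟶ E) = biprod.snd := B.inv_comp_eq.2 hB2.symm
  have hBfst : ∀ {Z} (f g : Z ⟶ R.obj E), (biprod.lift f g ≫ B.inv) ≫ R.map (biprod.fst : E ⊞ E ⟶ E) = f := fun f g =>
    (Category.assoc _ _ _).trans ((congrArg (biprod.lift f g ≫ ·) hBf).trans (biprod.lift_fst _ _))
  have hBsnd : ∀ {Z} (f g : Z ⟶ R.obj E), (biprod.lift f g ≫ B.inv) ≫ R.map (biprod.snd : E ⊞ E ⟶ E) = g := fun f g =>
    (Category.assoc _ _ _).trans ((congrArg (biprod.lift f g ≫ ·) hBs).trans (biprod.lift_snd _ _))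
  let r : R.obj D.sheaf ⟶ R.obj E := sp.r
  let eh : R.obj D.sheaf ⟶ R.obj (E ⊞ E) := biprod.lift (R.map D.π) r ≫ B.inv
  let ei : R.obj (E ⊞ E) ⟶ R.obj D.sheaf := R.map biprod.fst ≫ s' + R.map biprod.snd ≫ R.map j
  have hid : r ≫ R.map j + R.map D.π ≫ s' = 𝟙 _ := sp.id
  have hjr : R.map j ≫ r = 𝟙 _ := sp.f_r
  have hsr : s' ≫ r = 0 := sp.s_r
  have hjπ : R.map j ≫ R.map D.π = 0 := by rw [← R.map_comp, w, R.map_zero]
  have hext : ∀ {Z} (f g : Z ⟶ R.obj (E ⊞ E)), f ≫ R.map biprod.fst = g ≫ R.map biprod.fst →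
      f ≫ R.map biprod.snd = g ≫ R.map biprod.snd → f = g := fun f g h1 h2 => by
    rw [← cancel_mono B.hom]
    exact biprod.hom_ext _ _
      (((Category.assoc _ _ _).trans (congrArg (f ≫ ·) hB1)).trans (h1.trans ((Category.assoc _ _ _).trans (congrArg (g ≫ ·) hB1)).symm))
      (((Category.assoc _ _ _).trans (congrArg (f ≫ ·) hB2)).trans (h2.trans ((Category.assoc _ _ _).trans (congrArg (g ≫ ·) hB2)).symm))
  let e : R.obj D.sheaf ≅ R.obj (E ⊞ E) :=
    { hom := eh
      inv := ei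
      hom_inv_id := by
        simp only [ei, Preadditive.comp_add, eh]
        rw [← Category.assoc, ← Category.assoc _ (R.map biprod.snd), hBfst, hBsnd, add_comm, hid]
      inv_hom_id := by
        refine hext _ _ ?_ ?_
        · simp only [Category.assoc, Category.id_comp, eh]
          rw [← Category.assoc (biprod.lift _ _), hBfst]
          simp only [ei, Preadditive.add_comp, Category.assoc, hs', hjπ, comp_zero, add_zero, Category.comp_id]
        · simp only [Category.assoc, Category.id_comp, eh]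
          rw [← Category.assoc (biprod.lift _ _), hBsnd]
          simp only [ei, Preadditive.add_comp, Category.assoc, hsr, hjr, comp_zero, zero_add, Category.comp_id] }
  refine ⟨U, e, ⟨v, hv⟩, hBfst _ _, fun a => ?_⟩
  have hsc : ∀ c : k, R.map (Formal.smulMod k D.sheaf c) ≫ eh = eh ≫ R.map (Formal.smulMod k (E ⊞ E) c) := fun c =>
    ((congrArg (· ≫ eh) (Formal2VBLib.restrict_smulModΓ U.ι D.sheaf _)).trans (Formal2VBLib.smulModΓ_naturality eh _)).trans
      (congrArg (eh ≫ ·) (Formal2VBLib.restrict_smulModΓ U.ι (E ⊞ E) _).symm)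
  exact act_comm R eh _ _ _ _ _ _ _ _ (act_eq D a) (act_eq (DefoSh.Defo.trivDual k E) a) (hsc _) (hsc _)
    (eps_comm R D.π j _ _ hj.symm (DefoSh.dualAct_eps (k := k) E) eh r (hBfst _ _) (hBsnd _ _) hext hjπ hjr)

end BlowRegLib.DefoTriv
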