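import Groth.Agent.CurveVBLib.Basic

/-!
# Degrees of subsheaves of the same generic rank
-/

set_option autoImplicit false
set_option linter.style.haveILetI false
set_option maxHeartbeats 1000000
universe u

open CategoryTheory CategoryTheory.Limits AlgebraicGeometry TopologicalSpace Opposite
open DevissLib CurvLib

noncomputable section

namespace BlowRegLib

variable {k : Type u} [Field k] {X : Scheme.{u}} [X.Over (Spec (CommRingCat.of k))] [IsIntegral X]
  [IsProper (X ↘ Spec (CommRingCat.of k))]

theorem deg_le_of_mono (hdim : topologicalKrullDim X = 1) {E F : X.Modules} (hE : Coh.IsCoh E) (hF : Coh.IsCoh F)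
    {n : ℕ} (hn : Module.finrank (X.presheaf.stalk (genericPoint X)) (E.presheaf.stalk (genericPoint X)) = n)
    (f : E ⟶ F) [Mono f] (hgen : Subsingleton ((cokernel f).presheaf.stalk (genericPoint X))) :
    Curv2.deg k X E n ≤ Curv2.deg k X F n ∧ (Curv2.deg k X E n = Curv2.deg k X F n ↔ IsIso f) := by
  haveI := CurvLib.isNoetherian k (X := X)
  let S : ShortComplex X.Modules := ShortComplex.mk f (cokernel.π f) (cokernel.condition f)
  have hS : S.ShortExact :=
    { exact := ShortComplex.exact_cokernel f
      mono_f := inferInstanceAs (Mono f)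
      epi_g := inferInstanceAs (Epi (cokernel.π f)) }
  have hT : Coh.IsCoh (cokernel f) := QCohLib.isCoh_cokernel f hE.1 hF
  have h0 : genRank (cokernel f) = 0 := Module.finrank_zero_of_subsingleton
  have hr : genRank F = n := by
    have := genRank_add hS hE hF hT
    change genRank F = genRank E + genRank (cokernel f) at this
    rw [this, h0, Nat.add_zero]
    exact hn
  have hd := CurveVBLib.dg_add (k := k) (S := S) hS hE hF hT
  simp only [S, ShortComplex.mk] at hd
  have hE' : Curv2.deg k X E n = CurveVBLib.dg k E := by
    rw [CurveVBLib.dg, show genRank E = n from hn]; rfl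
  have hF' : Curv2.deg k X F n = CurveVBLib.dg k F := by
    rw [CurveVBLib.dg, hr]; rfl
  obtain ⟨hpos, hzero⟩ := CurveVBLib.dg_nonneg_of_rank_zero (k := k) hdim hT h0
  refine ⟨by omega, fun he => ?_, fun hi => ?_⟩
  · have hz : IsZero (cokernel f) := hzero (by omega)
    haveI : Epi f := Abelian.epi_of_cokernel_π_eq_zero f (hz.eq_of_tgt _ _)
    exact isIso_of_mono_of_epi f
  · haveI := hi
    have hz : IsZero (cokernel f) := isZero_cokernel_of_epi f
    have := CurveVBLib.dg_of_isZero (k := k) hz
    omega

end BlowRegLib
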