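import Groth.Agent.AmpleThLib.ProjA
import Groth.Agent.ProjClosedLib.Map
import Groth.Agent.EGA2SymLib.Coprod
import Groth.Agent.QCohLib.ProjSpace

/-! # Disjoint union of two closed subschemes of projective spaces -/

set_option autoImplicit false
universe u

open CategoryTheory CategoryTheory.Limits AlgebraicGeometry MvPolynomial

noncomputable section

namespace BlowRegLib.DisjUnionPn

variable {R : Type u} [CommRing R] {N n : ℕ}

/-- the graded map killing the variables outside the image of `g` -/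
def linMap (v : Fin (N + 1) → MvPolynomial (Fin (n + 1)) R) (hv : ∀ i, (v i).IsHomogeneous 1) :
    CohB1.polyGrading N R →+*ᵍ CohB1.polyGrading n R where
  toRingHom := (aeval v).toRingHom
  map_mem {i x} hx := by
    have := MvPolynomial.IsHomogeneous.aeval (hx : x.IsHomogeneous i) v hv
    rw [one_mul] at this
    exact this

theorem linMap_surj (v : Fin (N + 1) → MvPolynomial (Fin (n + 1)) R) (hv : ∀ i, (v i).IsHomogeneous 1)
    (f : Fin (n + 1) → Fin (N + 1)) (hf : ∀ j, v (f j) = X j) :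
    Function.Surjective (linMap v hv) := fun p => ⟨rename f p, by
  show aeval v (rename f p) = p
  rw [aeval_rename, show v ∘ f = X from funext hf, aeval_X_left_apply]⟩

/-- the linear embedding -/
def emb (v : Fin (N + 1) → MvPolynomial (Fin (n + 1)) R) (hv : ∀ i, (v i).IsHomogeneous 1)
    (hs : Function.Surjective (linMap v hv)) : CohB1.ProjSpace n R ⟶ CohB1.ProjSpace N R :=
  Proj.map (linMap v hv) (ProjClosedLib.irrelevant_le_map _ hs)

theorem emb_toSpec (v : Fin (N + 1) → MvPolynomial (Fin (n + 1)) R) (hv : ∀ i, (v i).IsHomogeneous 1)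
    (hs : Function.Surjective (linMap v hv)) :
    emb v hv hs ≫ CohB1.ProjSpace.toSpec N R = CohB1.ProjSpace.toSpec n R :=
  AmpleThLib.map_baseA (linMap v hv) _ fun c => (aeval v).commutes c

instance isClosedImmersion_emb (v : Fin (N + 1) → MvPolynomial (Fin (n + 1)) R) (hv : ∀ i, (v i).IsHomogeneous 1)
    (hs : Function.Surjective (linMap v hv)) : IsClosedImmersion (emb v hv hs) :=
  ProjClosedLib.isClosedImmersion_map _ hs _

theorem not_mem_stdOpen (v : Fin (N + 1) → MvPolynomial (Fin (n + 1)) R) (hv : ∀ i, (v i).IsHomogeneous 1)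
    (hs : Function.Surjective (linMap v hv)) (i : Fin (N + 1)) (hi : v i = 0) (x : CohB1.ProjSpace n R) :
    emb v hv hs x ∉ QCohLib.stdOpen N R i := by
  intro h
  have h2 : x ∈ Proj.basicOpen (CohB1.polyGrading n R) (linMap v hv (X i)) := h
  rw [show linMap v hv (X i) = 0 from (aeval_X v i).trans hi, Proj.basicOpen_zero] at h2
  exact h2

/-- S14066 -/
theorem exists_coprod (k : Type u) [Field k] (n m : ℕ)
    (X₁ X₂ : Scheme.{u}) [X₁.Over (Spec (CommRingCat.of k))] [X₂.Over (Spec (CommRingCat.of k))]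
    (i₁ : X₁ ⟶ CohB1.ProjSpace n k) [IsClosedImmersion i₁] (h₁ : i₁ ≫ CohB1.ProjSpace.toSpec n k = X₁ ↘ (Spec (CommRingCat.of k)))
    (i₂ : X₂ ⟶ CohB1.ProjSpace m k) [IsClosedImmersion i₂] (h₂ : i₂ ≫ CohB1.ProjSpace.toSpec m k = X₂ ↘ (Spec (CommRingCat.of k))) :
    ∃ j : X₁ ⨿ X₂ ⟶ CohB1.ProjSpace (n + m + 1) k, IsClosedImmersion j ∧
      j ≫ CohB1.ProjSpace.toSpec (n + m + 1) k = coprod.desc (X₁ ↘ (Spec (CommRingCat.of k))) (X₂ ↘ (Spec (CommRingCat.of k))) := by
  let v₁ : Fin (n + m + 1 + 1) → MvPolynomial (Fin (n + 1)) k := fun i =>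
    if h : i.1 < n + 1 then X ⟨i.1, h⟩ else 0
  let v₂ : Fin (n + m + 1 + 1) → MvPolynomial (Fin (m + 1)) k := fun i =>
    if h : n + 1 ≤ i.1 then X ⟨i.1 - (n + 1), by omega⟩ else 0
  have hv₁ : ∀ i, (v₁ i).IsHomogeneous 1 := fun i => by
    simp only [v₁]; split
    · exact isHomogeneous_X _ _
    · exact isHomogeneous_zero _ _ _
  have hv₂ : ∀ i, (v₂ i).IsHomogeneous 1 := fun i => by
    simp only [v₂]; split
    · exact isHomogeneous_X _ _
    · exact isHomogeneous_zero _ _ _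
  have hs₁ := linMap_surj v₁ hv₁ (fun j => ⟨j.1, by omega⟩) fun j => by
    simp only [v₁]; rw [dif_pos j.2]
  have hs₂ := linMap_surj v₂ hv₂ (fun j => ⟨n + 1 + j.1, by omega⟩) fun j => by
    simp only [v₂]; rw [dif_pos (Nat.le_add_right _ _)]
    congr 1; ext; simp
  let e₁ := i₁ ≫ emb v₁ hv₁ hs₁
  let e₂ := i₂ ≫ emb v₂ hv₂ hs₂
  haveI : IsClosedImmersion (coprod.desc e₁ e₂) := by
    refine EGA2SymLib.isClosedImmersion_coprodDesc e₁ e₂ fun x y hxy => ?_
    obtain ⟨i, hi⟩ := TopologicalSpace.Opens.mem_iSup.mp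
      ((QCohLib.iSup_stdOpen (n + m + 1) k).ge (Set.mem_univ (e₁ x)))
    by_cases h : i.1 < n + 1
    · rw [hxy] at hi
      exact not_mem_stdOpen v₂ hv₂ hs₂ i (by simp only [v₂]; rw [dif_neg (by omega)]) (i₂ y) hi
    · exact not_mem_stdOpen v₁ hv₁ hs₁ i (by simp only [v₁]; rw [dif_neg h]) (i₁ x) hi
  refine ⟨coprod.desc e₁ e₂, inferInstance, ?_⟩
  apply coprod.hom_ext
  · rw [coprod.inl_desc_assoc, coprod.inl_desc, Category.assoc, emb_toSpec, h₁]
  · rw [coprod.inr_desc_assoc, coprod.inr_desc, Category.assoc, emb_toSpec, h₂]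

end BlowRegLib.DisjUnionPn
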