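import Mathlib.RingTheory.Valuation.Discrete.IsDiscreteValuationRing
import Mathlib.RingTheory.Valuation.Discrete.Basic
import Mathlib.AlgebraicGeometry.FunctionField
import Mathlib.AlgebraicGeometry.Noetherian
import Mathlib.AlgebraicGeometry.Morphisms.Separated
import Mathlib.RingTheory.DiscreteValuationRing.TFAE
import Mathlib.RingTheory.KrullDimension.Field

/-!
# Rational functions with prescribed orders at finitely many points of codimension one
-/

set_option autoImplicit false
set_option linter.style.haveILetI false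
universe u

open CategoryTheory CategoryTheory.Limits AlgebraicGeometry TopologicalSpace
open scoped WithZero

noncomputable section

namespace BlowRegLib

section Approx

variable {K : Type*} [Field K] {ι : Type*} [Finite ι] (v : ι → Valuation K ℤᵐ⁰)

theorem eventually_lt_pow {x : ℤᵐ⁰} (hx : 1 < x) (g : ℤᵐ⁰) : ∀ᶠ m : ℕ in Filter.atTop, g < x ^ m := by
  obtain ⟨n, hn⟩ : ∃ n : ℕ, g < x ^ n := by
    obtain ⟨n, hn⟩ := MulArchimedean.arch g hx
    exact ⟨n + 1, hn.trans_lt (pow_lt_pow_right₀ hx n.lt_succ_self)⟩
  exact Filter.eventually_atTop.2 ⟨n, fun m hm => hn.trans_le (pow_le_pow_right₀ hx.le hm)⟩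

variable (h : ∀ i j, i ≠ j → ∃ a : K, v i a ≤ 1 ∧ 1 < v j a)

include h

omit [Finite ι] in
theorem exists_sep (i : ι) : ∀ s : Finset ι, i ∉ s → ∃ c : K, v i c < 1 ∧ ∀ j ∈ s, 1 < v j c := by
  classical
  intro s
  induction s using Finset.induction with
  | empty => exact fun _ => ⟨0, by simp, by simp⟩
  | @insert r s hrs ih =>
    intro hi
    rw [Finset.mem_insert, not_or] at hi
    obtain ⟨c, hc, hcs⟩ := ih hi.2
    obtain ⟨a, ha, ha'⟩ := h i r hi.1
    obtain ⟨b, hb, hb'⟩ := h r i (Ne.symm hi.1)
    obtain ⟨d, hd, hd'⟩ : ∃ d : K, v i d < 1 ∧ 1 < v r d := by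
      refine ⟨a / b, ?_, ?_⟩
      · rw [map_div₀, div_lt_one₀ (zero_lt_one.trans hb')]
        exact ha.trans_lt hb'
      · have hb0 : 0 < v r b := by
          refine pos_iff_ne_zero.2 fun hz => ?_
          rw [map_eq_zero] at hz
          rw [hz, map_zero] at hb'
          exact absurd hb' (not_lt.2 zero_le_one)
        rw [map_div₀, one_lt_div₀ hb0]
        exact hb.trans_lt ha'
    have hev : ∀ j ∈ s, ∀ᶠ m : ℕ in Filter.atTop, v j c ≠ v j d ^ m := fun j hj => by
      rcases lt_trichotomy (v j d) 1 with hlt | heq | hgt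
      · exact Filter.Eventually.of_forall fun m he =>
          absurd (he ▸ pow_le_one₀ zero_le hlt.le) (not_le.2 (hcs j hj))
      · exact Filter.Eventually.of_forall fun m he =>
          absurd (by rw [he, heq, one_pow]) (hcs j hj).ne'
      · exact (eventually_lt_pow hgt (v j c)).mono fun m hm => hm.ne
    obtain ⟨m, ⟨hm, hm'⟩, hm1⟩ := ((((Finset.eventually_all s).2 hev).and
      (eventually_lt_pow hd' (v r c))).and (Filter.eventually_ge_atTop 1)).exists
    refine ⟨c + d ^ m, ?_, fun j hj => ?_⟩
    · refine ((v i).map_add _ _).trans_lt (max_lt hc ?_)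
      rw [map_pow]
      exact pow_lt_one₀ zero_le hd (by omega)
    · rcases Finset.mem_insert.1 hj with rfl | hj
      · rw [(v j).map_add_eq_of_lt_right (by rwa [map_pow]), map_pow]
        exact one_lt_pow₀ hd' (by omega)
      · rw [(v j).map_add_of_distinct_val (by rw [map_pow]; exact hm j hj)]
        exact lt_max_of_lt_left (hcs j hj)

/-- Approximation: prescribed values at finitely many independent valuations. -/
theorem exists_prescribed [Nonempty ι] (t : ι → K) (ht : ∀ i, t i ≠ 0) :
    ∃ f : K, ∀ i, v i f = v i (t i) := by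
  classical
  haveI := Fintype.ofFinite ι
  choose z hz hz' using fun i => exists_sep v h i (Finset.univ.erase i) (by simp)
  have hev : ∀ i j : ι, ∀ᶠ m : ℕ in Filter.atTop, i ≠ j → 1 ≤ m ∧
      v i (t j) / v i (z j) ^ m < v i (t i) := by
    intro i j
    rcases eq_or_ne i j with rfl | hij
    · exact Filter.Eventually.of_forall fun _ h => absurd rfl h
    · have h1 : 1 < v i (z j) := hz' j i (by simp [hij])
      have hpos : 0 < v i (t i) := pos_iff_ne_zero.2 ((Valuation.ne_zero_iff _).2 (ht i))
      refine ((eventually_lt_pow h1 (v i (t j) / v i (t i))).and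
        (Filter.eventually_ge_atTop 1)).mono fun m hm _ => ⟨hm.2, ?_⟩
      rw [div_lt_iff₀ (pow_pos (zero_lt_one.trans h1) m)]
      rw [div_lt_iff₀ hpos] at hm
      rw [mul_comm]
      exact hm.1
  obtain ⟨m, hm, hm1⟩ := (((Filter.eventually_all.2 fun i => Filter.eventually_all.2 (hev i))).and
    (Filter.eventually_ge_atTop 1)).exists
  refine ⟨∑ j, t j / (1 + z j ^ m), fun i => ?_⟩
  have hii : v i (t i / (1 + z i ^ m)) = v i (t i) := by
    rw [map_div₀, (v i).map_one_add_of_lt, div_one]
    rw [map_pow]
    exact pow_lt_one₀ zero_le (hz i) (by omega)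
  rw [← hii]
  refine (v i).map_sum_eq_of_lt (f := fun j => t j / (1 + z j ^ m)) (Finset.mem_univ i)
    fun j hj => ?_
  have hij : i ≠ j := Ne.symm (by simpa using hj)
  try dsimp only
  rw [hii, map_div₀, (v i).map_add_eq_of_lt_right, map_pow]
  · exact (hm i j hij).2
  · rw [map_one, map_pow]
    exact one_lt_pow₀ (hz' j i (by simp [hij])) (by omega)

end Approx

section Scheme

variable {X : Scheme.{u}} [IsIntegral X]

theorem dvr_of_normal_dim_one [IsLocallyNoetherian X] {x : X}
    (hn : IsIntegrallyClosed (X.presheaf.stalk x)) (hd : ringKrullDim (X.presheaf.stalk x) = 1) :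
    IsDiscreteValuationRing (X.presheaf.stalk x) := by
  haveI : Ring.KrullDimLE 1 (X.presheaf.stalk x) := Ring.krullDimLE_iff.2 hd.le
  haveI : Ring.DimensionLEOne (X.presheaf.stalk x) :=
    ⟨fun {p} hp hprime => hprime.isMaximal_of_ne_bot hp⟩
  haveI : IsDedekindDomain (X.presheaf.stalk x) := { }
  have hnF : ¬ IsField (X.presheaf.stalk x) := fun hF => by
    rw [ringKrullDim_eq_zero_of_isField hF] at hd
    exact zero_ne_one hd
  have h : IsDedekindDomain (X.presheaf.stalk x) ↔ IsDiscreteValuationRing (X.presheaf.stalk x) :=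
    (IsDiscreteValuationRing.TFAE _ hnF).out 2 0
  exact h.mp inferInstance

/-- Two points with the same local ring in the function field are equal. -/
theorem eq_of_stalk_hom [X.IsSeparated] {x y : X}
    (h : X.presheaf.stalk x →+* X.presheaf.stalk y) [IsLocalHom h]
    (hcomp : (algebraMap (X.presheaf.stalk y) X.functionField).comp h =
      algebraMap (X.presheaf.stalk x) X.functionField) : x = y := by
  have hcomp' : CommRingCat.ofHom h ≫
      X.presheaf.stalkSpecializes ((genericPoint_spec X).specializes trivial : genericPoint X ⤳ y) =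
        X.presheaf.stalkSpecializes ((genericPoint_spec X).specializes trivial) :=
    CommRingCat.hom_ext hcomp
  let q := X.presheaf.stalkSpecializes
    ((genericPoint_spec X).specializes trivial : genericPoint X ⤳ y)
  haveI : IsDominant (Spec.map q) := by
    rw [isDominant_iff, DenseRange, dense_iff_closure_eq]
    rw [show Set.range (Spec.map q) = Set.range (PrimeSpectrum.comap q.hom) from rfl]
    have h1 := PrimeSpectrum.closure_range_comap q.hom
    refine h1.trans ?_
    have hker : RingHom.ker q.hom = ⊥ := (RingHom.injective_iff_ker_eq_bot _).1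
      (IsFractionRing.injective (X.presheaf.stalk y) X.functionField)
    rw [hker, PrimeSpectrum.zeroLocus_bot]
    rfl
  have e : Spec.map (CommRingCat.ofHom h) ≫ X.fromSpecStalk x = X.fromSpecStalk y := by
    refine ext_of_isDominant (Spec.map q) ?_
    rw [← Category.assoc, ← Spec.map_comp, hcomp', Scheme.SpecMap_stalkSpecializes_fromSpecStalk,
      Scheme.SpecMap_stalkSpecializes_fromSpecStalk]
  have e2 := congr_arg (fun φ : _ ⟶ X => φ (IsLocalRing.closedPoint (X.presheaf.stalk y))) e
  dsimp only at e2
  have hc : Spec.map (CommRingCat.ofHom h) (IsLocalRing.closedPoint (X.presheaf.stalk y)) =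
      IsLocalRing.closedPoint (X.presheaf.stalk x) := IsLocalRing.comap_closedPoint h
  have e3 : X.fromSpecStalk x (Spec.map (CommRingCat.ofHom h)
      (IsLocalRing.closedPoint (X.presheaf.stalk y))) =
        X.fromSpecStalk y (IsLocalRing.closedPoint (X.presheaf.stalk y)) := e2
  exact Scheme.fromSpecStalk_closedPoint.symm.trans
    ((congr_arg (X.fromSpecStalk x) hc.symm).trans (e3.trans Scheme.fromSpecStalk_closedPoint))

/-- The valuation of the function field at a point with a discrete valuation ring. -/
def valAt (x : X) [IsDiscreteValuationRing (X.presheaf.stalk x)] : Valuation X.functionField ℤᵐ⁰ :=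
  (IsDiscreteValuationRing.maximalIdeal (X.presheaf.stalk x)).valuation X.functionField

theorem valAt_lt_one_iff (x : X) [IsDiscreteValuationRing (X.presheaf.stalk x)]
    (a : X.presheaf.stalk x) :
    valAt x (algebraMap _ X.functionField a) < 1 ↔ a ∈ IsLocalRing.maximalIdeal (X.presheaf.stalk x) :=
  IsDedekindDomain.HeightOneSpectrum.valuation_lt_one_iff_mem _ a

theorem exists_independent [X.IsSeparated] {x y : X} [IsDiscreteValuationRing (X.presheaf.stalk x)]
    [IsDiscreteValuationRing (X.presheaf.stalk y)] (hxy : x ≠ y) :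
    ∃ a : X.functionField, valAt x a ≤ 1 ∧ 1 < valAt y a := by
  by_contra hcon
  push_neg at hcon
  have hex : ∀ a : X.presheaf.stalk x, ∃ b : X.presheaf.stalk y,
      algebraMap _ X.functionField b = algebraMap _ X.functionField a := fun a =>
    IsDiscreteValuationRing.exists_lift_of_le_one
      (hcon _ (IsDedekindDomain.HeightOneSpectrum.valuation_le_one _ a))
  have hinj := IsFractionRing.injective (X.presheaf.stalk y) X.functionField
  choose g hg using hex
  let h : X.presheaf.stalk x →+* X.presheaf.stalk y :=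
    { toFun := g
      map_one' := hinj (by simp [hg])
      map_mul' := fun a b => hinj (by simp [hg])
      map_zero' := hinj (by simp [hg])
      map_add' := fun a b => hinj (by simp [hg]) }
  have hinjh : Function.Injective h := fun a b hab =>
    IsFractionRing.injective (X.presheaf.stalk x) X.functionField
      (by rw [← hg a, ← hg b]; exact congr_arg _ hab)
  haveI : IsLocalHom h := ⟨fun a ha => by
    by_contra hna
    obtain ⟨π, hπ⟩ := IsDiscreteValuationRing.exists_irreducible (X.presheaf.stalk x)
    have hπu : IsUnit (h π) := by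
      obtain ⟨c, rfl⟩ : π ∣ a := by
        rw [← Ideal.mem_span_singleton, ← hπ.maximalIdeal_eq]
        exact (IsLocalRing.mem_maximalIdeal a).2 hna
      rw [map_mul] at ha
      exact isUnit_of_mul_isUnit_left ha
    have hall : ∀ b : X.presheaf.stalk x, b ≠ 0 → IsUnit (h b) := fun b hb => by
      obtain ⟨n, w, rfl⟩ := IsDiscreteValuationRing.eq_unit_mul_pow_irreducible hb hπ
      rw [map_mul, map_pow]
      exact (w.isUnit.map h).mul (hπu.pow n)
    obtain ⟨ρ, hρ⟩ := IsDiscreteValuationRing.exists_irreducible (X.presheaf.stalk y)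
    obtain ⟨p, q, hq, hpq⟩ := IsFractionRing.div_surjective (A := X.presheaf.stalk x)
      (algebraMap (X.presheaf.stalk y) X.functionField ρ)
    have hq0 : algebraMap _ X.functionField q ≠ 0 :=
      IsFractionRing.to_map_ne_zero_of_mem_nonZeroDivisors hq
    have h1 : ρ * h q = h p := hinj (by
      rw [map_mul, show algebraMap _ X.functionField (h q) = _ from hg q,
        show algebraMap _ X.functionField (h p) = _ from hg p, ← hpq, div_mul_cancel₀ _ hq0])
    have hp0 : p ≠ 0 := fun hp => by
      rw [hp, map_zero, mul_eq_zero] at h1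
      rcases h1 with h1 | h1
      · exact hρ.ne_zero h1
      · exact (hall q (nonZeroDivisors.ne_zero hq)).ne_zero h1
    exact hρ.not_isUnit (isUnit_of_mul_isUnit_left (h1 ▸ hall p hp0))⟩
  exact hxy (eq_of_stalk_hom h (RingHom.ext hg))

/-- A rational function with prescribed orders at finitely many points of codimension one. -/
theorem exists_prescribed_orders [IsLocallyNoetherian X] [X.IsSeparated]
    {r : ℕ} (ξ : Fin r → X) (hξ : Function.Injective ξ)
    (hnor : ∀ i, IsIntegrallyClosed (X.presheaf.stalk (ξ i)))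
    (hcodim : ∀ i, ringKrullDim (X.presheaf.stalk (ξ i)) = 1) (n : Fin r → ℤ) :
    ∃ f : X.functionField, f ≠ 0 ∧ ∀ i : Fin r,
      ∃ (ϖ : X.presheaf.stalk (ξ i)) (_ : Irreducible ϖ) (w : (X.presheaf.stalk (ξ i))ˣ),
        f = algebraMap (X.presheaf.stalk (ξ i)) X.functionField (w : X.presheaf.stalk (ξ i)) *
          algebraMap (X.presheaf.stalk (ξ i)) X.functionField ϖ ^ (n i) := by
  rcases Nat.eq_zero_or_pos r with rfl | hr
  · exact ⟨1, one_ne_zero, fun i => i.elim0⟩
  haveI : Nonempty (Fin r) := ⟨⟨0, hr⟩⟩
  haveI hdvr := fun i => dvr_of_normal_dim_one (hnor i) (hcodim i)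
  choose ϖ hϖ using fun i => IsDiscreteValuationRing.exists_irreducible (X.presheaf.stalk (ξ i))
  let t : Fin r → X.functionField := fun i =>
    algebraMap (X.presheaf.stalk (ξ i)) X.functionField (ϖ i) ^ n i
  have ht : ∀ i, t i ≠ 0 := fun i => zpow_ne_zero _
    ((map_ne_zero_iff _ (IsFractionRing.injective _ _)).2 (hϖ i).ne_zero)
  obtain ⟨f, hf⟩ := exists_prescribed (fun i => valAt (ξ i))
    (fun i j hij => exists_independent fun he => hij (hξ he)) t ht
  have hf0 : f ≠ 0 := fun h0 => by
    have := hf ⟨0, hr⟩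
    rw [h0, map_zero] at this
    exact (Valuation.ne_zero_iff _).2 (ht _) this.symm
  refine ⟨f, hf0, fun i => ⟨ϖ i, hϖ i, ?_⟩⟩
  have hv : valAt (ξ i) (f / t i) = 1 := by
    rw [map_div₀, hf i, div_self ((Valuation.ne_zero_iff _).2 (ht i))]
  obtain ⟨a, ha⟩ := IsDiscreteValuationRing.exists_lift_of_le_one hv.le
  have hu : IsUnit a := IsLocalRing.notMem_maximalIdeal.1 fun hm => by
    have := (valAt_lt_one_iff (ξ i) a).2 hm
    rw [ha, hv] at this
    exact lt_irrefl _ this
  exact ⟨hu.unit, by rw [hu.unit_spec, ha]; exact (div_mul_cancel₀ _ (ht i)).symm⟩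

end Scheme

end BlowRegLib
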