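import Groth.Prelude.Def_Canon

/-!
# Uniqueness of dualizing pairs
-/

set_option autoImplicit false
universe u

open CategoryTheory CategoryTheory.Limits AlgebraicGeometry

noncomputable section

namespace BlowRegLib

variable (A : Type u) [CommRing A] {X : Scheme.{u}} [X.Over (Spec (CommRingCat.of A))] (r : ℕ)

theorem HHlin_comp {F G H : X.Modules} (φ : F ⟶ G) (ψ : G ⟶ H) :
    Canon.HHlin A (φ ≫ ψ) r = Canon.HHlin A ψ r ∘ₗ Canon.HHlin A φ r := by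
  refine LinearMap.ext fun x => ?_
  change Sheaf.H.map ((SheafOfModules.toSheaf X.ringCatSheaf).map (φ ≫ ψ)) r x =
    Sheaf.H.map _ r (Sheaf.H.map _ r x)
  rw [← Sheaf.H.map_comp_apply]
  exact congrArg (fun φ => Sheaf.H.map φ r x) ((SheafOfModules.toSheaf X.ringCatSheaf).map_comp φ ψ)

theorem HHlin_id (F : X.Modules) : Canon.HHlin A (𝟙 F) r = LinearMap.id := by
  refine LinearMap.ext fun x => ?_
  change Sheaf.H.map ((SheafOfModules.toSheaf X.ringCatSheaf).map (𝟙 F)) r x = x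
  exact (congrArg (fun φ => Sheaf.H.map φ r x)
    ((SheafOfModules.toSheaf X.ringCatSheaf).map_id F)).trans (Sheaf.H.map_id_apply x)

theorem dual_pair_unique {ω ω' : X.Modules} {tr : Coh.HH X ω r →ₗ[A] A} {tr' : Coh.HH X ω' r →ₗ[A] A}
    (h : Canon.IsRDualOver A X r ω tr) (h' : Canon.IsRDualOver A X r ω' tr') :
    (∃! ρ : ω' ⟶ ω, tr ∘ₗ Canon.HHlin A ρ r = tr') ∧
      ∀ ρ : ω' ⟶ ω, tr ∘ₗ Canon.HHlin A ρ r = tr' → IsIso ρ := by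
  obtain ⟨ρ, hρ⟩ := (h.2 ω' h'.1).2 tr'
  refine ⟨⟨ρ, hρ, fun σ hσ => (h.2 ω' h'.1).1 (hσ.trans hρ.symm)⟩, fun σ hσ => ?_⟩
  obtain ⟨τ, hτ⟩ := (h'.2 ω h.1).2 tr
  refine ⟨τ, (h'.2 ω' h'.1).1 ?_, (h.2 ω h.1).1 ?_⟩
  · change tr' ∘ₗ Canon.HHlin A (σ ≫ τ) r = tr' ∘ₗ Canon.HHlin A (𝟙 ω') r
    rw [HHlin_comp, HHlin_id, LinearMap.comp_id, ← LinearMap.comp_assoc]
    exact (congrArg (· ∘ₗ Canon.HHlin A σ r) hτ).trans hσ
  · change tr ∘ₗ Canon.HHlin A (τ ≫ σ) r = tr ∘ₗ Canon.HHlin A (𝟙 ω) r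
    rw [HHlin_comp, HHlin_id, LinearMap.comp_id, ← LinearMap.comp_assoc]
    exact (congrArg (· ∘ₗ Canon.HHlin A τ r) hσ).trans hτ

end BlowRegLib
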