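import Groth.Agent.RefHullLib.NormalHull
import Groth.Agent.S1411
import Groth.Agent.CurveVBLib.Basic
import Groth.Prelude.Def_CurvBase

/-! # Duals of coherent sheaves on reduced schemes without isolated points -/

set_option autoImplicit false
set_option linter.style.haveILetI false
universe u

open CategoryTheory CategoryTheory.Limits AlgebraicGeometry TopologicalSpace Opposite IsLocalRing

noncomputable section

namespace BlowRegLib.DualTf

theorem not_isField_stalk {X : Scheme.{u}} [IsLocallyNoetherian X] (x : X)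
    (hx : IsClosed ({x} : Set X)) (hp : ¬ IsOpen ({x} : Set X)) : ¬ IsField (X.presheaf.stalk x) := fun hF => hp <| by
  refine Groth.Agent.S1411.isOpen_singleton_of_isClosed_of_minimal x hx fun y hy => ?_
  obtain ⟨z, rfl⟩ : y ∈ Set.range (X.fromSpecStalk x) := by rw [Scheme.range_fromSpecStalk]; exact hy
  letI := hF.toField
  rw [Subsingleton.elim (α := PrimeSpectrum (X.presheaf.stalk x)) z (closedPoint _)]
  exact Scheme.fromSpecStalk_closedPoint

theorem not_isAssociatedPrime_dual {A : Type u} [CommRing A] [IsLocalRing A] [_root_.IsReduced A] [IsNoetherianRing A]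
    (M : Type u) [AddCommGroup M] [Module A M] (hA : ¬ IsField A) :
    ¬ IsAssociatedPrime (maximalIdeal A) (Module.Dual A M) := by
  intro h
  obtain ⟨hP, φ, hφ⟩ := (isAssociatedPrime_iff_exists_injective_linearMap _ _).1 h
  let ψ : Module.Dual A M := φ (Submodule.Quotient.mk 1)
  have hψ : ψ ≠ 0 := fun h0 => one_ne_zero (α := A ⧸ maximalIdeal A) (hφ (by
    show φ (Submodule.Quotient.mk 1) = φ 0
    rw [map_zero]; exact h0))
  have hann : ∀ a ∈ maximalIdeal A, a • ψ = 0 := fun a ha => by
    show a • φ (Submodule.Quotient.mk 1) = 0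
    rw [← map_smul, ← Submodule.Quotient.mk_smul, smul_eq_mul, mul_one, (Submodule.Quotient.mk_eq_zero _).2 ha, map_zero]
  obtain ⟨m, hm⟩ : ∃ m, ψ m ≠ 0 := by
    by_contra hc
    push Not at hc
    exact hψ (LinearMap.ext hc)
  have hmul : ∀ a ∈ maximalIdeal A, a * ψ m = 0 := fun a ha => by
    have := LinearMap.congr_fun (hann a ha) m
    simpa using this
  by_cases hu : IsUnit (ψ m)
  · refine hA ((IsLocalRing.isField_iff_maximalIdeal_eq).2 (eq_bot_iff.2 fun a ha => ?_))
    exact (Submodule.mem_bot A).2 (hu.mul_left_eq_zero.1 (hmul a ha))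
  · have h2 : (ψ m) ^ 2 = 0 := by
      rw [pow_two]; exact hmul _ ((IsLocalRing.mem_maximalIdeal _).2 hu)
    exact hm (IsReduced.eq_zero _ ⟨2, h2⟩)

/-- S18916 -/
theorem not_isAssPoint_dual (k : Type u) [Field k]
    (X : Scheme.{u}) [X.Over (Spec (CommRingCat.of k))] [IsProper (X ↘ Spec (CommRingCat.of k))]
    [AlgebraicGeometry.IsReduced X]
    (hpure : ∀ x : X, IsClosed ({x} : Set X) → ¬ IsOpen ({x} : Set X))
    (F : X.Modules) (hF : Coh.IsCoh F) (x : X) (hx : IsClosed ({x} : Set X)) :
    ¬ Curv2.IsAssPoint (RefHull.dual F) x := by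
  haveI : IsLocallyNoetherian X := LocallyOfFiniteType.isLocallyNoetherian (X ↘ Spec (CommRingCat.of k))
  intro h
  obtain ⟨e⟩ := RefHullLib.nonempty_dual_stalk hF x
  exact not_isAssociatedPrime_dual _ (not_isField_stalk x hx (hpure x hx))
    ((LinearEquiv.isAssociatedPrime_iff e).1 h)

end BlowRegLib.DualTf
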