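import Groth.Agent.BlowPtLib.Local
import Groth.Agent.PicPnLib.BaseChange

/-!
# The exceptional divisor over a quasi-regular centre is a projective space over the centre
-/

set_option autoImplicit false
set_option linter.style.haveILetI false
set_option linter.unusedSectionVars false
set_option maxHeartbeats 1000000
set_option backward.isDefEq.respectTransparency false
set_option backward.isDefEq.respectTransparency.types false

universe u

open CategoryTheory CategoryTheory.Limits AlgebraicGeometry TopologicalSpace Opposite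
open TwistLib (genSet)
open AmpleLib (GenOn GenAt)
open AmpleLib (genAt_res)
open LichtLib (ideFn)
open BlowPtLib (exists_charts_family restrict_smul_ι res_restrict)

noncomputable section

namespace BlowRegLib

variable {P X : Scheme.{u}} {b : X ⟶ P} {𝓘 𝓙 : P.IdealSheafData} {k : Type u} [CommRing k] {m : ℕ}

/-- Projective spaces along a change of rings. -/
theorem exists_map_quotient (R : Type u) [CommRing R] (K : Ideal R) (m : ℕ) :
    ∃ j : CohB1.ProjSpace m (R ⧸ K) ⟶ CohB1.ProjSpace m R,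
      IsPullback j (CohB1.ProjSpace.toSpec m (R ⧸ K)) (CohB1.ProjSpace.toSpec m R)
        (Spec.map (CommRingCat.ofHom (Ideal.Quotient.mk K))) ∧
      ∀ d : ℤ, Nonempty ((Scheme.Modules.pullback j).obj (Twist.twistProjSpace m R d) ≅
        Twist.twistProjSpace m (R ⧸ K) d) := by
  obtain ⟨j', hj', ht'⟩ := PicPnLib.exists_square m (R ⧸ K) (Spec.map (CommRingCat.ofHom (Ideal.Quotient.mk K)))
  obtain ⟨i, hi, ht⟩ := PicPnLib.exists_square m R (𝟙 (Spec (CommRingCat.of R)))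
  haveI : IsIso i := hi.isIso_fst_of_isIso
  refine ⟨j' ≫ inv i, IsPullback.of_right (h₁₁ := j' ≫ inv i) (h₁₂ := i) (h₂₂ := 𝟙 (Spec (CommRingCat.of R))) ?_ ?_ hi,
    fun d => ?_⟩
  · rw [Category.assoc, IsIso.inv_hom_id, Category.comp_id, Category.comp_id]
    exact hj'
  · rw [Category.assoc, show inv i ≫ CohB1.ProjSpace.toSpec m R = CohB1.ProjSpaceOver.toBase m _ from by
      rw [IsIso.inv_comp_eq, hi.w, Category.comp_id], hj'.w]
  · obtain ⟨e'⟩ := ht' d
    obtain ⟨e⟩ := ht d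
    exact ⟨(Scheme.Modules.pullback (j' ≫ inv i)).mapIso e.symm ≪≫ (Scheme.Modules.pullbackComp _ _).app _ ≪≫
      (Scheme.Modules.pullbackCongr (by simp : (j' ≫ inv i) ≫ i = j')).app _ ≪≫ e'⟩

/-- The constants on the base. -/
abbrev cstP (q : P ⟶ Spec (CommRingCat.of k)) (U : P.Opens) : k →+* Γ(P, U) :=
  (P.presheaf.map (homOfLE (le_top : U ≤ ⊤)).op).hom.comp (ProjUP.toGlobal q)

/-- **The exceptional divisor over a quasi-regular centre.** -/
theorem exists_embedding (hb : BlowUp.IsBlowUp b 𝓘) (q : P ⟶ Spec (CommRingCat.of k)) (U₀ : P.affineOpens)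
    (hag : 𝓙.ideal U₀ = 𝓘.ideal U₀) (hsupp : ∀ x, x ∈ 𝓙.support → x ∈ U₀.1)
    (a : Fin (m + 1) → Γ(P, U₀.1)) (ha : Ideal.span (Set.range a) = 𝓙.ideal U₀)
    (hres : ∀ x : Γ(P, U₀.1), ∃ c : k, x - cstP q U₀.1 c ∈ 𝓙.ideal U₀)
    (hq : ∀ (d : ℕ) (F : MvPolynomial (Fin (m + 1)) k), F.IsHomogeneous d →
      MvPolynomial.eval₂ (cstP q U₀.1) a F ∈ 𝓙.ideal U₀ ^ (d + 1) → ∀ s, cstP q U₀.1 (F.coeff s) ∈ 𝓙.ideal U₀) :
    ∃ φ : (𝓙.comap b).subscheme ⟶ CohB1.ProjSpace m (k ⧸ (𝓙.ideal U₀).comap (cstP q U₀.1)), IsIso φ ∧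
      φ ≫ CohB1.ProjSpace.toSpec m _ ≫ Spec.map (CommRingCat.ofHom (Ideal.Quotient.mk _)) =
        (𝓙.comap b).subschemeι ≫ b ≫ q ∧
      Nonempty ((Scheme.Modules.pullback φ).obj (Twist.twistProjSpace m _ 1) ≅
        (Scheme.Modules.pullback (𝓙.comap b).subschemeι).obj (ClSub.idealMod (𝓙.comap b))) := by
  obtain ⟨W, hW, hcov, hnz, hgen, hmax, htop, hflat⟩ := exists_charts_family hb U₀ hag a ha
  let J := 𝓙.comap b
  let O : X.Opens := b ⁻¹ᵁ U₀.1
  have hcart : BlowUp.IsEffCartierIdeal J := fun x => by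
    by_cases hx : x ∈ O
    · obtain ⟨l, hl⟩ := Opens.mem_iSup.1 (hcov hx)
      exact ⟨W l, hl, _, hnz l, hgen l⟩
    · obtain ⟨V, hV, hxV, hVs⟩ := exists_isAffineOpen_mem_and_subset (x := x) (U := J.support.compl)
        (fun h => hx (hsupp _ ((Scheme.IdealSheafData.support_comap 𝓙 b).le h)))
      refine ⟨⟨V, hV⟩, hxV, 1, one_mem _, ?_⟩
      rw [Ideal.span_singleton_one]
      exact CDivRatioLib.ideal_eq_top J ⟨V, hV⟩ fun y hy h => hVs hy h
  have hL : PicF.IsInvertible (ClSub.idealMod J) := IntMultLib.isInvertible_idealMod J hcart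
  have hLO := AmpleThLib.restrict_isInvertible hL O.ι
  choose t ht using fun l => LichtLib.exists_ideFn J O ((b.app U₀.1).hom (a l)) fun T hT => by
    rw [Groth.Agent.S4666.ideal_comap_eq 𝓙 b U₀ T hT]
    exact Ideal.mem_map_of_mem _ (ha ▸ Ideal.subset_span ⟨l, rfl⟩)
  let σ : Fin (m + 1) → Γ((ClSub.idealMod J).restrict O.ι, ⊤) := fun l =>
    AmpleLib.res (ClSub.idealMod J) (O.ι_image_top.le : O.ι ''ᵁ ⊤ ≤ O) (t l)
  have hσ : ∀ l, genSet hLO (σ l) = O.ι ⁻¹ᵁ (W l).1 := fun l => by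
    have hWl : GenOn (ClSub.idealMod J) (AmpleLib.res _ (hW l) (t l)) := by
      refine LichtLib.genOn_of_prinPiece J ⟨W l, _, hnz l, hgen l⟩ (hW l) (t l) ?_
      rw [ht]
      rfl
    ext z
    have e1 : z ∈ genSet hLO (σ l) ↔ GenAt (ClSub.idealMod J) (t l) z.2 :=
      (MiscFlat6.genAt_restrict_iff hL O.ι _ z).trans (genAt_res _ (t l) _)
    refine ⟨fun hz => ?_, fun hz => e1.2 ((genAt_res (hW l) (t l) hz).1 (hWl.genAt hz))⟩
    let O' : X.Opens := O.ι ''ᵁ genSet hLO (σ l)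
    obtain ⟨T, hT, hzT, hTO⟩ := exists_isAffineOpen_mem_and_subset (x := z.1) (U := O') ⟨z, hz, rfl⟩
    have hTU : T ≤ O := hTO.trans (O.ι_image_le _)
    have hg : GenOn (ClSub.idealMod J) (AmpleLib.res _ hTU (t l)) := TwistLib.genOn_of_genAt fun y hy => by
      obtain ⟨y', hy', rfl⟩ := hTO hy
      exact (genAt_res hTU (t l) hy).2 (((MiscFlat6.genAt_restrict_iff hL O.ι _ y').trans (genAt_res _ (t l) _)).1 hy')
    obtain ⟨h1, h2⟩ := LichtLib.exists_prinPiece_of_genOn J ⟨T, hT⟩ _ hg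
    rw [LichtLib.ideFn_res, ht] at h1 h2
    exact hmax l ⟨T, hT⟩ hTU h1 h2 hzT
  obtain ⟨r, hr, hpre, hfrac, ⟨er⟩⟩ := GenusZeroLib.exists_toPA_iso (O.ι ≫ b ≫ q) hLO σ fun y => by
    obtain ⟨l, hl⟩ := Opens.mem_iSup.1 (hcov y.2)
    exact ⟨l, (hσ l).ge hl⟩
  have hrange : Set.range J.subschemeι ⊆ Set.range O.ι := by
    rw [Scheme.IdealSheafData.range_subschemeι, Scheme.Opens.range_ι]
    exact fun x hx => hsupp _ ((Scheme.IdealSheafData.support_comap 𝓙 b).le hx)
  let g : J.subscheme ⟶ O := IsOpenImmersion.lift O.ι J.subschemeι hrange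
  have hg : g ≫ O.ι = J.subschemeι := IsOpenImmersion.lift_fac _ _ _
  let γ : k →+* Γ(P, U₀.1) := cstP q U₀.1
  let K : Ideal k := (𝓙.ideal U₀).comap γ
  let mk : CommRingCat.of k ⟶ CommRingCat.of (k ⧸ K) := CommRingCat.ofHom (Ideal.Quotient.mk K)
  let w : J.subscheme ⟶ Spec (CommRingCat.of k) := J.subschemeι ≫ b ≫ q
  have hw0 : ∀ c ∈ K, (ProjUP.toGlobal w c) = 0 := fun c hc => by
    have hcovD : (⊤ : J.subscheme.Opens) ≤ ⨆ l, J.subschemeι ⁻¹ᵁ (W l).1 := fun y _ => by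
      obtain ⟨l, hl⟩ := Opens.mem_iSup.1 (hcov (show J.subschemeι y ∈ b ⁻¹ᵁ U₀.1 from
        hsupp _ ((Scheme.IdealSheafData.support_comap 𝓙 b).le ((Scheme.IdealSheafData.range_subschemeι J).subset ⟨y, rfl⟩))))
      exact Opens.mem_iSup.2 ⟨l, hl⟩
    refine J.subscheme.sheaf.eq_of_locally_eq' (fun l => J.subschemeι ⁻¹ᵁ (W l).1) ⊤ (fun l => homOfLE le_top) hcovD _ 0
      fun l => ?_
    have h1 := Ideal.mem_map_of_mem (b.appLE U₀.1 (W l).1 (hW l)).hom (show γ c ∈ 𝓙.ideal U₀ from hc)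
    rw [← Groth.Agent.S4666.ideal_comap_eq 𝓙 b U₀ (W l) (hW l)] at h1
    have h2 := (GenFlatStrat.subschemeι_app_eq_zero_iff J (W l) _).mpr h1
    rw [map_zero]
    refine Eq.trans ?_ h2
    let s := (Scheme.ΓSpecIso (CommRingCat.of k)).inv c
    show (w.app ⊤ ≫ J.subscheme.presheaf.map (homOfLE le_top).op).hom s =
      (q.app ⊤ ≫ P.presheaf.map (homOfLE le_top).op ≫ b.appLE U₀.1 (W l).1 (hW l) ≫ J.subschemeι.app (W l).1).hom s
    refine DFunLike.congr_fun (congrArg CommRingCat.Hom.hom ?_) s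
    have B : q.app ⊤ ≫ P.presheaf.map (homOfLE le_top).op ≫ b.appLE U₀.1 (W l).1 (hW l) =
        (b ≫ q).appLE ⊤ (W l).1 le_top := by
      rw [← Scheme.Hom.appLE_comp_appLE b q ⊤ U₀.1 (W l).1 le_top (hW l)]
      simp [Scheme.Hom.appLE]
    rw [reassoc_of% B, Scheme.Hom.app_eq_appLE J.subschemeι, Scheme.Hom.appLE_comp_appLE]
    simp [Scheme.Hom.appLE, w]
  let wR : J.subscheme ⟶ Spec (CommRingCat.of (k ⧸ K)) :=
    J.subscheme.toSpecΓ ≫ Spec.map (CommRingCat.ofHom (Ideal.Quotient.lift K (ProjUP.toGlobal w) hw0))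
  have hwR : wR ≫ Spec.map mk = w := by
    rw [Category.assoc, ← Spec.map_comp]
    refine ext_to_Spec ?_
    ext c
    simp [ProjUP.toGlobal, mk]
    rfl
  obtain ⟨j, hj, hjt⟩ := exists_map_quotient k K m
  haveI : IsClosedImmersion (Spec.map mk) := IsClosedImmersion.spec_of_surjective _ Ideal.Quotient.mk_surjective
  haveI : IsClosedImmersion j := MorphismProperty.of_isPullback hj.flip ‹_›
  have hgr : (g ≫ r) ≫ CohB1.ProjSpace.toSpec m k = w := by
    rw [Category.assoc]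
    show _ = J.subschemeι ≫ b ≫ q
    rw [← reassoc_of% hg]
    exact congrArg (g ≫ ·) hr
  let φ : J.subscheme ⟶ CohB1.ProjSpace m (k ⧸ K) := hj.lift (g ≫ r) wR (hgr.trans hwR.symm)
  have hφj : φ ≫ j = g ≫ r := hj.lift_fst _ _ _
  have hφw : φ ≫ CohB1.ProjSpace.toSpec m (k ⧸ K) = wR := hj.lift_snd _ _ _
  refine ⟨φ, ?_, ?_, ?_⟩
  · let D : Fin (m + 1) → (CohB1.ProjSpace m k).Opens := fun l => QCohLib.stdOpen m k l
    have hcj : ⨆ l, j ⁻¹ᵁ D l = ⊤ := by
      rw [← Scheme.Hom.preimage_iSup, QCohLib.iSup_stdOpen]; rfl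
    refine (IsZariskiLocalAtTarget.iff_of_iSup_eq_top (P := MorphismProperty.isomorphisms Scheme.{u}) _ hcj).2 fun l => ?_
    have hpre' : (g ≫ r) ⁻¹ᵁ D l = J.subschemeι ⁻¹ᵁ (W l).1 := by
      rw [Scheme.Hom.comp_preimage]
      rw [show r ⁻¹ᵁ D l = O.ι ⁻¹ᵁ (W l).1 from (hpre l).trans (hσ l), ← Scheme.Hom.comp_preimage, hg]
    haveI : IsAffine ((D l : (CohB1.ProjSpace m k).Opens) : Scheme.{u}) := GradedCechLib.isAffineOpen_stdOpen (n := m) (R := k) l
    have hAff : IsAffineOpen ((g ≫ r) ⁻¹ᵁ D l) := hpre' ▸ (W l).2.preimage J.subschemeι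
    haveI : IsAffine ((g ≫ r) ⁻¹ᵁ D l : J.subscheme.Opens).toScheme := hAff
    haveI : IsAffine (j ⁻¹ᵁ D l : (CohB1.ProjSpace m (k ⧸ K)).Opens).toScheme :=
      (GradedCechLib.isAffineOpen_stdOpen (n := m) (R := k) l).preimage j
    have hφpre : φ ⁻¹ᵁ (j ⁻¹ᵁ D l) = (g ≫ r) ⁻¹ᵁ D l := by rw [← Scheme.Hom.comp_preimage, hφj]
    haveI : IsAffine (φ ⁻¹ᵁ (j ⁻¹ᵁ D l) : J.subscheme.Opens).toScheme := hφpre ▸ hAff
    suffices hs : Function.Surjective (φ.app (j ⁻¹ᵁ D l)) ∧ Function.Injective (φ.app (j ⁻¹ᵁ D l)) by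
      have hs' : ∀ V, V = j ⁻¹ᵁ D l → IsIso (φ.app V) := fun V h =>
        h ▸ (ConcreteCategory.isIso_iff_bijective _).2 ⟨hs.2, hs.1⟩
      rw [MorphismProperty.arrow_mk_iso_iff (MorphismProperty.isomorphisms Scheme.{u})
        (arrowIsoSpecΓOfIsAffine _)]
      haveI : IsIso ((φ ∣_ (j ⁻¹ᵁ D l)).appTop) := by
        rw [morphismRestrict_appTop]
        haveI := hs' _ (Scheme.Opens.ι_image_top (j ⁻¹ᵁ D l))
        infer_instance
      show IsIso (Spec.map _)
      infer_instance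
    have happ : ∀ z, φ.app (j ⁻¹ᵁ D l) (j.app (D l) z) =
        J.subscheme.presheaf.map (eqToHom hφpre).op ((g ≫ r).app (D l) z) := fun z => by
      have h := Scheme.Hom.congr_app hφj (D l)
      rw [Scheme.Hom.comp_app] at h
      exact congr($h z)
    have hbij : Function.Bijective (J.subscheme.presheaf.map (eqToHom hφpre).op) :=
      ConcreteCategory.bijective_of_isIso _
    let θ := J.subschemeι.appLE (W l).1 ((g ≫ r) ⁻¹ᵁ D l) hpre'.le
    have hθ : Function.Surjective θ := by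
      have h1 : Function.Surjective (J.subschemeι.app (W l).1) := J.subschemeι.app_surjective (W l).1 (W l).2
      intro z
      obtain ⟨w, hw⟩ := h1 (J.subscheme.presheaf.map (eqToHom (congrArg op hpre')) z)
      refine ⟨w, ?_⟩
      simp only [θ, Scheme.Hom.appLE, CommRingCat.comp_apply]
      rw [hw, ← CommRingCat.comp_apply, ← Functor.map_comp, Subsingleton.elim (_ ≫ _) (𝟙 _), J.subscheme.presheaf.map_id]
      rfl
    let S : Subring Γ(X, (W l).1) := (RingHom.range ((g ≫ r).app (D l)).hom).comap θ.hom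
    have hrW : r ⁻¹ᵁ D l = O.ι ⁻¹ᵁ (W l).1 := (hpre l).trans (hσ l)
    have hVle : O.ι ''ᵁ (r ⁻¹ᵁ D l) ≤ (W l).1 := fun x hx => by
      obtain ⟨z, hz, rfl⟩ := hx
      exact hrW.le hz
    have hVge : (W l).1 ≤ O.ι ''ᵁ (r ⁻¹ᵁ D l) := fun x hx => ⟨⟨x, hW l hx⟩, hrW.ge hx, rfl⟩
    have hval : ∀ z : Γ(CohB1.ProjSpace m k, D l),
        θ (X.presheaf.map (homOfLE hVge).op ((r.app (D l)).hom z)) = ((g ≫ r).app (D l)).hom z := fun z => by
      have h1 : θ (X.presheaf.map (homOfLE hVge).op ((r.app (D l)).hom z)) =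
          ((r.app (D l)) ≫ X.presheaf.map (homOfLE hVge).op ≫ J.subschemeι.appLE (W l).1 _ hpre'.le).hom z := rfl
      rw [h1, Scheme.Hom.map_appLE]
      have h2 : J.subschemeι.appLE (O.ι ''ᵁ (r ⁻¹ᵁ D l)) ((g ≫ r) ⁻¹ᵁ D l)
          (hpre'.le.trans (Scheme.Hom.preimage_mono J.subschemeι hVge)) = g.app (r ⁻¹ᵁ D l) := by
        simp only [← hg]
        rw [← Scheme.Hom.appLE_comp_appLE g O.ι _ (r ⁻¹ᵁ D l) _
          (by rw [O.ι.preimage_image_eq]) (by rw [Scheme.Hom.comp_preimage])]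
        rw [Scheme.Opens.ι_appLE, Scheme.Hom.app_eq_appLE, Subsingleton.elim (homOfLE _).op (𝟙 _)]
        erw [CategoryTheory.Functor.map_id, Category.id_comp]
        rfl
      rw [h2, Scheme.Hom.comp_app]
    have hJW : ∀ z ∈ (𝓙.comap b).ideal (W l), θ z = 0 := fun z hz => by
      have := (GenFlatStrat.subschemeι_app_eq_zero_iff J (W l) z).mpr hz
      simp only [θ, Scheme.Hom.appLE, CommRingCat.comp_apply]
      rw [show (J.subschemeι.app (W l).1).hom z = 0 from this, map_zero]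
    let Φ : MvPolynomial (Fin (m + 1)) k →+* Γ(X, (W l).1) :=
      ((X.presheaf.map (homOfLE hVge).op).hom.comp (r.app (D l)).hom).comp (GradedCechLib.deh m k l)
    let κ := (b.appLE U₀.1 (W l).1 (hW l)).hom
    have hΦC : ∀ c : k, Φ (MvPolynomial.C c) = κ (γ c) := fun c => by
      refine (congrArg (fun z => X.presheaf.map (homOfLE hVge).op ((r.app (D l)).hom z)) (GradedCechLib.deh_C m k l c)).trans ?_
      have h3 : r ≫ CohB1.ProjSpace.toSpec m k = O.ι ≫ b ≫ q := hr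
      let s := (Scheme.ΓSpecIso (CommRingCat.of k)).inv c
      show ((CohB1.ProjSpace.toSpec m k).app ⊤ ≫ (CohB1.ProjSpace m k).presheaf.map (homOfLE le_top).op ≫ r.app (D l) ≫
          X.presheaf.map (homOfLE hVge).op).hom s =
        (q.app ⊤ ≫ P.presheaf.map (homOfLE le_top).op ≫ b.appLE U₀.1 (W l).1 (hW l)).hom s
      refine DFunLike.congr_fun (congrArg CommRingCat.Hom.hom ?_) s
      have A : (CohB1.ProjSpace.toSpec m k).app ⊤ ≫ (CohB1.ProjSpace m k).presheaf.map (homOfLE le_top).op ≫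
          r.app (D l) = (r ≫ CohB1.ProjSpace.toSpec m k).appLE ⊤ (r ⁻¹ᵁ D l) le_top := by
        rw [← Scheme.Hom.appLE_comp_appLE r (CohB1.ProjSpace.toSpec m k) ⊤ (D l) (r ⁻¹ᵁ D l) le_top le_rfl,
          ← Scheme.Hom.app_eq_appLE]
        simp [Scheme.Hom.appLE]
      have B : q.app ⊤ ≫ P.presheaf.map (homOfLE le_top).op ≫ b.appLE U₀.1 (W l).1 (hW l) =
          (b ≫ q).appLE ⊤ (W l).1 le_top := by
        rw [← Scheme.Hom.appLE_comp_appLE b q ⊤ U₀.1 (W l).1 le_top (hW l)]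
        simp [Scheme.Hom.appLE]
      rw [reassoc_of% A, B]
      simp only [h3]
      rw [← Scheme.Hom.appLE_comp_appLE O.ι (b ≫ q) ⊤ ⊤ (r ⁻¹ᵁ D l) le_top le_top, Scheme.Opens.ι_appLE]
      simp only [Scheme.Hom.appLE, Category.assoc, ← Functor.map_comp]
      rfl
    have hΦX : ∀ j, Φ (MvPolynomial.X j) * κ (a l) = κ (a j) := fun j => by
      let F : Γ(X, (W l).1) := X.presheaf.map (homOfLE hVge).op ((r.app (D l)).hom
        (Proj.awayToSection (CohB1.polyGrading m k) (MvPolynomial.X l)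
          (TwistLib.frac (CohB1.polyGrading m k) (MvPolynomial.isHomogeneous_X k l) (MvPolynomial.isHomogeneous_X k j))))
      have hF : Φ (MvPolynomial.X j) = F := by
        show X.presheaf.map (homOfLE hVge).op ((r.app (D l)).hom (GradedCechLib.toSec m k l (GradedCechLib.deh₀ m k l _))) = F
        rw [GradedCechLib.deh₀_X]
        rfl
      rw [hF]
      have h1 := congrArg (fun s => ideFn J (AmpleLib.res (ClSub.idealMod J) hVge s)) (hfrac l j)
      have h2 : ∀ i, ideFn J (AmpleLib.res (ClSub.idealMod J) hVge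
          (AmpleLib.res (ClSub.idealMod J) ((O.ι_image_le (r ⁻¹ᵁ D l)) : O.ι ''ᵁ (r ⁻¹ᵁ D l) ≤ O) (t i))) =
          (b.appLE U₀.1 (W l).1 (hW l)).hom (a i) := fun i => by
        rw [AmpleLib.res_res, LichtLib.ideFn_res, ht]
        rfl
      have h3 : ideFn J (AmpleLib.res (ClSub.idealMod J) hVge ((show Γ(X, O.ι ''ᵁ (r ⁻¹ᵁ D l)) from (r.app (D l)).hom
        (Proj.awayToSection (CohB1.polyGrading m k) (MvPolynomial.X l)
          (TwistLib.frac (CohB1.polyGrading m k) (MvPolynomial.isHomogeneous_X k l) (MvPolynomial.isHomogeneous_X k j)))) •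
          AmpleLib.res (ClSub.idealMod J) ((O.ι_image_le (r ⁻¹ᵁ D l)) : O.ι ''ᵁ (r ⁻¹ᵁ D l) ≤ O) (t l))) =
          ideFn J (AmpleLib.res (ClSub.idealMod J) hVge
            (AmpleLib.res (ClSub.idealMod J) ((O.ι_image_le (r ⁻¹ᵁ D l)) : O.ι ''ᵁ (r ⁻¹ᵁ D l) ≤ O) (t j))) := by
        refine Eq.trans ?_ (h1.trans ?_)
        · simp only [σ, res_restrict, AmpleLib.res_res]
          exact congrArg (fun s => ideFn J (AmpleLib.res (ClSub.idealMod J) hVge s))
            (restrict_smul_ι (ClSub.idealMod J) _ _).symm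
        · simp only [σ, res_restrict, AmpleLib.res_res]
      rw [AmpleLib.res_smul, LichtLib.ideFn_smul, h2, h2] at h3
      exact h3
    have hΦF : ∀ (d : ℕ) (F : MvPolynomial (Fin (m + 1)) k), F.IsHomogeneous d →
        Φ F * κ (a l) ^ d = κ (MvPolynomial.eval₂ γ a F) := fun d F hF => by
      rw [F.as_sum, map_sum, MvPolynomial.eval₂_sum, map_sum, Finset.sum_mul]
      refine Finset.sum_congr rfl fun e he => ?_
      have hdeg : e.degree = d := by
        by_contra hne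
        exact MvPolynomial.mem_support_iff.1 he (hF.coeff_eq_zero hne)
      rw [MvPolynomial.eval₂_monomial, MvPolynomial.monomial_eq, map_mul, map_mul, hΦC, ← hdeg, mul_assoc]
      congr 1
      simp only [Finsupp.prod, map_prod, map_pow]
      rw [show e.degree = ∑ i ∈ e.support, e i from rfl, ← Finset.prod_pow_eq_pow_sum, ← Finset.prod_mul_distrib]
      simp only [← mul_pow, hΦX]
    constructor
    · have hS : S = ⊤ := htop l S (fun x => ?_) fun j f hf => ?_
      · intro z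
        obtain ⟨z', rfl⟩ := hbij.2 z
        obtain ⟨v, rfl⟩ := hθ z'
        obtain ⟨t, ht'⟩ := (show v ∈ S from hS ▸ trivial)
        exact ⟨j.app (D l) t, (happ t).trans (congrArg _ ht')⟩
      · obtain ⟨c, hc⟩ := hres x
        have h1 := Ideal.mem_map_of_mem κ hc
        rw [← Groth.Agent.S4666.ideal_comap_eq 𝓙 b U₀ (W l) (hW l)] at h1
        have h2 := hJW _ h1
        rw [map_sub, map_sub, sub_eq_zero] at h2
        exact ⟨GradedCechLib.deh m k l (MvPolynomial.C c),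
          (hval _).symm.trans ((congrArg θ (hΦC c)).trans h2.symm)⟩
      · exact ⟨GradedCechLib.deh m k l (MvPolynomial.X j), (hval _).symm.trans (congrArg θ
          ((mul_cancel_right_mem_nonZeroDivisors (hnz l)).1 ((hΦX j).trans hf.symm)))⟩
    · refine (injective_iff_map_eq_zero _).2 fun z hz => ?_
      obtain ⟨z, rfl⟩ := j.app_surjective (D l) (GradedCechLib.isAffineOpen_stdOpen (n := m) (R := k) l) z
      have hz' : ((g ≫ r).app (D l)).hom z = 0 := hbij.1 (by
        rw [map_zero, ← happ z]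
        exact hz)
      obtain ⟨d, F, hF, hFz⟩ := HomogeneousLocalization.Away.mk_surjective (CohB1.polyGrading m k)
        (GradedCechLib.X_mem m k l) ((Function.surjInv (GradedCechLib.toSec_bijective m k l).2) z)
      have hF' : F.IsHomogeneous d :=
        (MvPolynomial.mem_homogeneousSubmodule _ _).1 (by rwa [smul_eq_mul, mul_one] at hF)
      have hdF : GradedCechLib.deh m k l F = z := by
        refine (congrArg (GradedCechLib.toSec m k l) (?_ : GradedCechLib.deh₀ m k l F = _)).trans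
          (Function.surjInv_eq (GradedCechLib.toSec_bijective m k l).2 z)
        rw [← hFz]
        refine HomogeneousLocalization.val_injective _ ?_
        rw [GradedCechLib.val_deh₀_homogeneous m k l F d hF', HomogeneousLocalization.Away.val_mk]
        rfl
      have hG : Φ F ∈ J.ideal (W l) := by
        refine (GenFlatStrat.subschemeι_app_eq_zero_iff J (W l) _).mp ?_
        have hθ0 : θ (Φ F) = 0 := by
          refine (hval _).trans ?_
          erw [hdF]
          exact hz'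
        refine (ConcreteCategory.bijective_of_isIso
          (J.subscheme.presheaf.map (eqToHom hpre').op)).1 ?_
        rw [map_zero]
        exact hθ0
      have hG' : Φ F ∈ Ideal.span {κ (a l)} := (hgen l).le hG
      have hp : κ (a l) ^ d ∈ Ideal.span {κ (a l)} ^ d :=
        Ideal.pow_mem_pow (Ideal.mem_span_singleton_self (κ (a l))) d
      have hx : κ (MvPolynomial.eval₂ γ a F) ∈ Ideal.span {κ (a l)} ^ (d + 1) :=
        (hΦF d F hF') ▸ (pow_succ' (Ideal.span {κ (a l)}) d) ▸ Ideal.mul_mem_mul hG' hp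
      obtain ⟨N, hN⟩ := hflat l (MvPolynomial.eval₂ γ a F) (d + 1) hx
      have hev : MvPolynomial.eval₂ γ a (F * MvPolynomial.X l ^ N) = MvPolynomial.eval₂ γ a F * a l ^ N := by
        rw [MvPolynomial.eval₂_mul, MvPolynomial.eval₂_pow, MvPolynomial.eval₂_X]
      have h0 := hq (d + N) (F * MvPolynomial.X l ^ N) (hF'.mul (MvPolynomial.isHomogeneous_X_pow l N))
        (hev.symm ▸ (show d + 1 + N = d + N + 1 by omega) ▸ hN)
      have hFK : F ∈ K.map MvPolynomial.C := MvPolynomial.mem_map_C_iff.2 fun s => by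
        have h1 := h0 (s + Finsupp.single l N)
        rwa [MvPolynomial.X_pow_eq_monomial, MvPolynomial.coeff_mul_monomial, mul_one] at h1
      have hC : ∀ c ∈ K, (j.app (D l)).hom (GradedCechLib.deh m k l (MvPolynomial.C c)) = 0 := fun c hc => by
        rw [GradedCechLib.deh_C]
        let s := (Scheme.ΓSpecIso (CommRingCat.of k)).inv c
        show ((CohB1.ProjSpace.toSpec m k).app ⊤ ≫ (CohB1.ProjSpace m k).presheaf.map (homOfLE le_top).op ≫
          j.app (D l)).hom s = 0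
        have e1 : (CohB1.ProjSpace.toSpec m k).app ⊤ ≫ (CohB1.ProjSpace m k).presheaf.map (homOfLE le_top).op ≫
            j.app (D l) = (Spec.map mk).app ⊤ ≫ (CohB1.ProjSpace.toSpec m (k ⧸ K)).appLE ⊤ (j ⁻¹ᵁ D l) le_top := by
          have A : (CohB1.ProjSpace.toSpec m k).app ⊤ ≫ (CohB1.ProjSpace m k).presheaf.map (homOfLE le_top).op ≫
              j.app (D l) = (j ≫ CohB1.ProjSpace.toSpec m k).appLE ⊤ (j ⁻¹ᵁ D l) le_top := by
            rw [← Scheme.Hom.appLE_comp_appLE j (CohB1.ProjSpace.toSpec m k) ⊤ (D l) (j ⁻¹ᵁ D l) le_top le_rfl,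
              ← Scheme.Hom.app_eq_appLE]
            simp [Scheme.Hom.appLE]
          have B : (Spec.map mk).app ⊤ ≫ (CohB1.ProjSpace.toSpec m (k ⧸ K)).appLE ⊤ (j ⁻¹ᵁ D l) le_top =
              (CohB1.ProjSpace.toSpec m (k ⧸ K) ≫ Spec.map mk).appLE ⊤ (j ⁻¹ᵁ D l) le_top := by
            simp [Scheme.Hom.appLE, Scheme.Hom.comp_app]
          rw [A, B]
          simp only [hj.w]
          rfl
        rw [e1]
        have e2 : ((Spec.map mk).app ⊤).hom s = 0 := by
          refine (congr($(Scheme.ΓSpecIso_inv_naturality mk) c)).symm.trans ?_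
          show (Scheme.ΓSpecIso (CommRingCat.of (k ⧸ K))).inv (Ideal.Quotient.mk K c) = 0
          rw [Ideal.Quotient.eq_zero_iff_mem.2 hc, map_zero]
        rw [CommRingCat.comp_apply, e2, map_zero]
      rw [← hdF]
      have hle : K.map MvPolynomial.C ≤ RingHom.ker ((j.app (D l)).hom.comp (GradedCechLib.deh m k l)) :=
        Ideal.map_le_iff_le_comap.2 fun c hc => hC c hc
      exact hle hFK
  · show _ = w
    rw [← Category.assoc, hφw]
    exact hwR
  · obtain ⟨t1⟩ := hjt 1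
    refine ⟨(Scheme.Modules.pullback φ).mapIso t1.symm ≪≫ (Scheme.Modules.pullbackComp φ j).app _ ≪≫
      (Scheme.Modules.pullbackCongr hφj).app _ ≪≫
      ((Scheme.Modules.pullbackComp g r).app _).symm ≪≫ (Scheme.Modules.pullback g).mapIso ?_ ≪≫
      (Scheme.Modules.pullback g).mapIso ((Scheme.Modules.restrictFunctorIsoPullback O.ι).app _) ≪≫
      (Scheme.Modules.pullbackComp g O.ι).app _ ≪≫ (Scheme.Modules.pullbackCongr hg).app _⟩
    refine eqToIso ?_ ≪≫ er
    rw [Nat.cast_one]; rfl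

end BlowRegLib
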