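import Groth.Agent.BlowRegLib.ExcField

/-!
# The blow-up of an affine scheme in a projective space
-/

set_option autoImplicit false
set_option linter.style.haveILetI false
set_option maxHeartbeats 2000000
set_option backward.isDefEq.respectTransparency false
set_option backward.isDefEq.respectTransparency.types false

universe u

open CategoryTheory CategoryTheory.Limits AlgebraicGeometry TopologicalSpace Opposite
open TwistLib (genSet)
open AmpleLib (GenOn GenAt)
open AmpleLib (genAt_res)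
open LichtLib (ideFn)
open BlowPtLib (exists_charts_family restrict_smul_ι res_restrict)

noncomputable section

namespace BlowRegLib

variable {P X : Scheme.{u}} {b : X ⟶ P} {𝓘 : P.IdealSheafData} {k : Type u} [CommRing k] {m : ℕ}

/-- **The blow-up in finitely many generators is a closed subscheme of projective space.** -/
theorem exists_closed_embedding [IsAffine P] (hb : BlowUp.IsBlowUp b 𝓘) (q : P ⟶ Spec (CommRingCat.of k))
    (hsur : Function.Surjective (cstP q (⊤ : P.Opens)))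
    (a : Fin (m + 1) → Γ(P, ⊤)) (ha : Ideal.span (Set.range a) = 𝓘.ideal ⟨⊤, isAffineOpen_top P⟩) :
    ∃ r : X ⟶ CohB1.ProjSpace m k, IsClosedImmersion r ∧ r ≫ CohB1.ProjSpace.toSpec m k = b ≫ q ∧
      Nonempty ((Scheme.Modules.pullback r).obj (Twist.twistProjSpace m k 1) ≅ ClSub.idealMod (𝓘.comap b)) := by
  let U₀ : P.affineOpens := ⟨⊤, isAffineOpen_top P⟩
  let 𝓙 := 𝓘
  have hag : 𝓙.ideal U₀ = 𝓘.ideal U₀ := rfl
  have hsupp : ∀ x, x ∈ 𝓙.support → x ∈ U₀.1 := fun x _ => trivial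
  let γ : k →+* Γ(P, U₀.1) := cstP q U₀.1
  obtain ⟨W, hW, hcov, hnz, hgen, hmax, htop, hflat⟩ := exists_charts_family hb U₀ hag a ha
  let J := 𝓙.comap b
  let O : X.Opens := b ⁻¹ᵁ U₀.1
  have hcart : BlowUp.IsEffCartierIdeal J := fun x => by
    by_cases hx : x ∈ O
    · obtain ⟨l, hl⟩ := Opens.mem_iSup.1 (hcov hx)
      exact ⟨W l, hl, _, hnz l, hgen l⟩
    · obtain ⟨V, hV, hxV, hVs⟩ := exists_isAffineOpen_mem_and_subset (x := x) (U := J.support.compl)
        (fun h => hx (hsupp _ ((Scheme.IdealSheafData.support_comap 𝓙 b).le h)))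
      refine ⟨⟨V, hV⟩, hxV, 1, one_mem _, ?_⟩
      rw [Ideal.span_singleton_one]
      exact CDivRatioLib.ideal_eq_top J ⟨V, hV⟩ fun y hy h => hVs hy h
  have hL : PicF.IsInvertible (ClSub.idealMod J) := IntMultLib.isInvertible_idealMod J hcart
  have hLO := AmpleThLib.restrict_isInvertible hL O.ι
  choose t ht using fun l => LichtLib.exists_ideFn J O ((b.app U₀.1).hom (a l)) fun T hT => by
    rw [Groth.Agent.S4666.ideal_comap_eq 𝓙 b U₀ T hT]
    exact Ideal.mem_map_of_mem _ (ha ▸ Ideal.subset_span ⟨l, rfl⟩)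
  let σ : Fin (m + 1) → Γ((ClSub.idealMod J).restrict O.ι, ⊤) := fun l =>
    AmpleLib.res (ClSub.idealMod J) (O.ι_image_top.le : O.ι ''ᵁ ⊤ ≤ O) (t l)
  have hσ : ∀ l, genSet hLO (σ l) = O.ι ⁻¹ᵁ (W l).1 := fun l => by
    have hWl : GenOn (ClSub.idealMod J) (AmpleLib.res _ (hW l) (t l)) := by
      refine LichtLib.genOn_of_prinPiece J ⟨W l, _, hnz l, hgen l⟩ (hW l) (t l) ?_
      rw [ht]
      rfl
    ext z
    have e1 : z ∈ genSet hLO (σ l) ↔ GenAt (ClSub.idealMod J) (t l) z.2 :=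
      (MiscFlat6.genAt_restrict_iff hL O.ι _ z).trans (genAt_res _ (t l) _)
    refine ⟨fun hz => ?_, fun hz => e1.2 ((genAt_res (hW l) (t l) hz).1 (hWl.genAt hz))⟩
    let O' : X.Opens := O.ι ''ᵁ genSet hLO (σ l)
    obtain ⟨T, hT, hzT, hTO⟩ := exists_isAffineOpen_mem_and_subset (x := z.1) (U := O') ⟨z, hz, rfl⟩
    have hTU : T ≤ O := hTO.trans (O.ι_image_le _)
    have hg : GenOn (ClSub.idealMod J) (AmpleLib.res _ hTU (t l)) := TwistLib.genOn_of_genAt fun y hy => by
      obtain ⟨y', hy', rfl⟩ := hTO hy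
      exact (genAt_res hTU (t l) hy).2 (((MiscFlat6.genAt_restrict_iff hL O.ι _ y').trans (genAt_res _ (t l) _)).1 hy')
    obtain ⟨h1, h2⟩ := LichtLib.exists_prinPiece_of_genOn J ⟨T, hT⟩ _ hg
    rw [LichtLib.ideFn_res, ht] at h1 h2
    exact hmax l ⟨T, hT⟩ hTU h1 h2 hzT
  obtain ⟨r, hr, hpre, hfrac, ⟨er⟩⟩ := GenusZeroLib.exists_toPA_iso (O.ι ≫ b ≫ q) hLO σ fun y => by
    obtain ⟨l, hl⟩ := Opens.mem_iSup.1 (hcov y.2)
    exact ⟨l, (hσ l).ge hl⟩
  haveI : IsIso O.ι := inferInstanceAs (IsIso (⊤ : X.Opens).ι)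
  let ρ : X ⟶ CohB1.ProjSpace m k := inv O.ι ≫ r
  refine ⟨ρ, ?_, ?_, ?_⟩
  rotate_left
  · show (inv O.ι ≫ r) ≫ _ = _
    rw [Category.assoc, IsIso.inv_comp_eq]
    exact hr
  · refine ⟨((Scheme.Modules.pullbackComp (inv O.ι) r).app _).symm ≪≫ (Scheme.Modules.pullback (inv O.ι)).mapIso ?_ ≪≫
      (Scheme.Modules.pullbackComp (inv O.ι) O.ι).app _ ≪≫
      (Scheme.Modules.pullbackCongr (IsIso.inv_hom_id O.ι)).app _ ≪≫ (Scheme.Modules.pullbackId X).app _⟩
    refine eqToIso ?_ ≪≫ er ≪≫ (Scheme.Modules.restrictFunctorIsoPullback O.ι).app _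
    rw [Nat.cast_one]; rfl
  · let D : Fin (m + 1) → (CohB1.ProjSpace m k).Opens := fun l => QCohLib.stdOpen m k l
    have hcj : ⨆ l, D l = ⊤ := QCohLib.iSup_stdOpen m k
    suffices hci : IsClosedImmersion r by
      show IsClosedImmersion (inv O.ι ≫ r)
      infer_instance
    refine (IsZariskiLocalAtTarget.iff_of_iSup_eq_top (P := @IsClosedImmersion) _ hcj).2 fun l => ?_
    have hrW : r ⁻¹ᵁ D l = O.ι ⁻¹ᵁ (W l).1 := (hpre l).trans (hσ l)
    haveI : IsAffine ((D l : (CohB1.ProjSpace m k).Opens) : Scheme.{u}) := GradedCechLib.isAffineOpen_stdOpen (n := m) (R := k) l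
    have hAff : IsAffineOpen (r ⁻¹ᵁ D l) := hrW ▸ (W l).2.preimage_of_isIso O.ι
    haveI : IsAffine (r ⁻¹ᵁ D l : (O : Scheme.{u}).Opens).toScheme := hAff
    have hVle : O.ι ''ᵁ (r ⁻¹ᵁ D l) ≤ (W l).1 := fun x hx => by
      obtain ⟨z, hz, rfl⟩ := hx
      exact hrW.le hz
    have hVge : (W l).1 ≤ O.ι ''ᵁ (r ⁻¹ᵁ D l) := fun x hx => ⟨⟨x, hW l hx⟩, hrW.ge hx, rfl⟩
    let Φ : MvPolynomial (Fin (m + 1)) k →+* Γ(X, (W l).1) :=
      ((X.presheaf.map (homOfLE hVge).op).hom.comp (r.app (D l)).hom).comp (GradedCechLib.deh m k l)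
    let κ := (b.appLE U₀.1 (W l).1 (hW l)).hom
    have hΦC : ∀ c : k, Φ (MvPolynomial.C c) = κ (γ c) := fun c => by
      refine (congrArg (fun z => X.presheaf.map (homOfLE hVge).op ((r.app (D l)).hom z)) (GradedCechLib.deh_C m k l c)).trans ?_
      have h3 : r ≫ CohB1.ProjSpace.toSpec m k = O.ι ≫ b ≫ q := hr
      let s := (Scheme.ΓSpecIso (CommRingCat.of k)).inv c
      show ((CohB1.ProjSpace.toSpec m k).app ⊤ ≫ (CohB1.ProjSpace m k).presheaf.map (homOfLE le_top).op ≫ r.app (D l) ≫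
          X.presheaf.map (homOfLE hVge).op).hom s =
        (q.app ⊤ ≫ P.presheaf.map (homOfLE le_top).op ≫ b.appLE U₀.1 (W l).1 (hW l)).hom s
      refine DFunLike.congr_fun (congrArg CommRingCat.Hom.hom ?_) s
      have A : (CohB1.ProjSpace.toSpec m k).app ⊤ ≫ (CohB1.ProjSpace m k).presheaf.map (homOfLE le_top).op ≫
          r.app (D l) = (r ≫ CohB1.ProjSpace.toSpec m k).appLE ⊤ (r ⁻¹ᵁ D l) le_top := by
        rw [← Scheme.Hom.appLE_comp_appLE r (CohB1.ProjSpace.toSpec m k) ⊤ (D l) (r ⁻¹ᵁ D l) le_top le_rfl,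
          ← Scheme.Hom.app_eq_appLE]
        simp [Scheme.Hom.appLE]
      have B : q.app ⊤ ≫ P.presheaf.map (homOfLE le_top).op ≫ b.appLE U₀.1 (W l).1 (hW l) =
          (b ≫ q).appLE ⊤ (W l).1 le_top := by
        rw [← Scheme.Hom.appLE_comp_appLE b q ⊤ U₀.1 (W l).1 le_top (hW l)]
        simp [Scheme.Hom.appLE]
      rw [reassoc_of% A, B]
      simp only [h3]
      rw [← Scheme.Hom.appLE_comp_appLE O.ι (b ≫ q) ⊤ ⊤ (r ⁻¹ᵁ D l) le_top le_top, Scheme.Opens.ι_appLE]
      simp only [Scheme.Hom.appLE, Category.assoc, ← Functor.map_comp]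
      rfl
    have hΦX : ∀ j, Φ (MvPolynomial.X j) * κ (a l) = κ (a j) := fun j => by
      let F : Γ(X, (W l).1) := X.presheaf.map (homOfLE hVge).op ((r.app (D l)).hom
        (Proj.awayToSection (CohB1.polyGrading m k) (MvPolynomial.X l)
          (TwistLib.frac (CohB1.polyGrading m k) (MvPolynomial.isHomogeneous_X k l) (MvPolynomial.isHomogeneous_X k j))))
      have hF : Φ (MvPolynomial.X j) = F := by
        show X.presheaf.map (homOfLE hVge).op ((r.app (D l)).hom (GradedCechLib.toSec m k l (GradedCechLib.deh₀ m k l _))) = F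
        rw [GradedCechLib.deh₀_X]
        rfl
      rw [hF]
      have h1 := congrArg (fun s => ideFn J (AmpleLib.res (ClSub.idealMod J) hVge s)) (hfrac l j)
      have h2 : ∀ i, ideFn J (AmpleLib.res (ClSub.idealMod J) hVge
          (AmpleLib.res (ClSub.idealMod J) ((O.ι_image_le (r ⁻¹ᵁ D l)) : O.ι ''ᵁ (r ⁻¹ᵁ D l) ≤ O) (t i))) =
          (b.appLE U₀.1 (W l).1 (hW l)).hom (a i) := fun i => by
        rw [AmpleLib.res_res, LichtLib.ideFn_res, ht]
        rfl
      have h3 : ideFn J (AmpleLib.res (ClSub.idealMod J) hVge ((show Γ(X, O.ι ''ᵁ (r ⁻¹ᵁ D l)) from (r.app (D l)).hom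
        (Proj.awayToSection (CohB1.polyGrading m k) (MvPolynomial.X l)
          (TwistLib.frac (CohB1.polyGrading m k) (MvPolynomial.isHomogeneous_X k l) (MvPolynomial.isHomogeneous_X k j)))) •
          AmpleLib.res (ClSub.idealMod J) ((O.ι_image_le (r ⁻¹ᵁ D l)) : O.ι ''ᵁ (r ⁻¹ᵁ D l) ≤ O) (t l))) =
          ideFn J (AmpleLib.res (ClSub.idealMod J) hVge
            (AmpleLib.res (ClSub.idealMod J) ((O.ι_image_le (r ⁻¹ᵁ D l)) : O.ι ''ᵁ (r ⁻¹ᵁ D l) ≤ O) (t j))) := by
        refine Eq.trans ?_ (h1.trans ?_)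
        · simp only [σ, res_restrict, AmpleLib.res_res]
          exact congrArg (fun s => ideFn J (AmpleLib.res (ClSub.idealMod J) hVge s))
            (restrict_smul_ι (ClSub.idealMod J) _ _).symm
        · simp only [σ, res_restrict, AmpleLib.res_res]
      rw [AmpleLib.res_smul, LichtLib.ideFn_smul, h2, h2] at h3
      exact h3
    have hsurj : Function.Surjective (r.app (D l)).hom := by
      let S : Subring Γ(X, (W l).1) := ((X.presheaf.map (homOfLE hVge).op).hom.comp (r.app (D l)).hom).range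
      have hS : S = ⊤ := htop l S (fun x => ?_) fun j f hf => ?_
      · intro z
        obtain ⟨t, ht'⟩ := (show X.presheaf.map (homOfLE hVge).op z ∈ S from hS ▸ trivial)
        refine ⟨t, ?_⟩
        refine (ConcreteCategory.bijective_of_isIso
          (X.presheaf.map (eqToHom (le_antisymm hVge hVle)).op)).1 ?_
        exact ht'
      · obtain ⟨c, rfl⟩ := hsur x
        exact ⟨GradedCechLib.deh m k l (MvPolynomial.C c), hΦC c⟩
      · exact ⟨GradedCechLib.deh m k l (MvPolynomial.X j),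
          (mul_cancel_right_mem_nonZeroDivisors (hnz l)).1 ((hΦX j).trans hf.symm)⟩
    rw [MorphismProperty.arrow_mk_iso_iff @IsClosedImmersion (arrowIsoSpecΓOfIsAffine _)]
    refine IsClosedImmersion.spec_of_surjective _ ?_
    rw [morphismRestrict_appTop]
    have hV : ∀ V, V = D l → Function.Surjective (r.app V).hom := fun V h => h ▸ hsurj
    simp only [CommRingCat.hom_comp, RingHom.coe_comp]
    exact (ConcreteCategory.bijective_of_isIso _).2.comp (hV _ (Scheme.Opens.ι_image_top (D l)))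

end BlowRegLib
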