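import Groth.Agent.BlowRegLib.Point
import Groth.Agent.BlowPtLib.Plane
import Groth.Agent.SurfNumLib.Basic
import Groth.Agent.RuledSurfLib.Push

/-!
# Intersection numbers on the blow-up of a point of a surface
-/

set_option autoImplicit false
set_option linter.style.haveILetI false
set_option linter.unusedSectionVars false
set_option maxHeartbeats 1000000
set_option backward.isDefEq.respectTransparency false
set_option backward.isDefEq.respectTransparency.types false

universe u

open CategoryTheory CategoryTheory.Limits AlgebraicGeometry TopologicalSpace Opposite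
open HilbPolyLib (congrLeft congrRight assocIso swapIso unitLeft)
open KFlatLib (pb)
open CohB1 (tensorMod)

noncomputable section

namespace BlowRegLib

variable {k : Type u} [Field k]

/-- Cohomology through a direct image without higher terms. -/
theorem euler_pullback_eq {Z Y : Scheme.{u}} [Z.Over (Spec (CommRingCat.of k))] [Y.Over (Spec (CommRingCat.of k))]
    (σ : Z ⟶ Y) (hσ : σ ≫ (Y ↘ Spec (CommRingCat.of k)) = Z ↘ Spec (CommRingCat.of k))
    [QuasiCompact σ] [QuasiSeparated σ] (E : Y.Modules)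
    (hu : IsIso ((Scheme.Modules.pullbackPushforwardAdjunction σ).unit.app E))
    (hv : ∀ p : ℕ, 1 ≤ p → IsZero ((Coh.RpushAb σ p).obj (Coh.toAb ((Scheme.Modules.pullback σ).obj E)))) :
    Curv2.euler k Z (pb σ E) = Curv2.euler k Y E := by
  have hR : ∀ p : ℕ, 0 < p → IsZero ((Coh.Rpush σ p).obj (pb σ E)) := fun p hp => by
    obtain ⟨e⟩ := RpushLib.nonempty_toAb_rpush_iso σ (pb σ E) p
    have hz : IsZero ((QCohLib.toAbF Y).obj ((Coh.Rpush σ p).obj (pb σ E))) := (hv p hp).of_iso e
    exact (IsZero.iff_id_eq_zero _).2 ((QCohLib.toAbF Y).map_injective (hz.eq_of_src _ _))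
  unfold Curv2.euler
  refine finsum_congr fun q => ?_
  obtain ⟨e⟩ := RuledSurfLib.nonempty_HH_push k σ hσ (pb σ E) hR q
  haveI := hu
  rw [(e.trans (CurvLib.hIso (k := k) (asIso ((Scheme.Modules.pullbackPushforwardAdjunction σ).unit.app E)) q).symm).finrank_eq]
  rfl

/-- The intersection pairing through Euler characteristics. -/
theorem pr_formula {X : Scheme.{u}} [X.Over (Spec (CommRingCat.of k))] (A B : X.Modules) :
    HodgeIdxLib.pr k A B = Curv2.euler k X (Coh.structureModule X) - Curv2.euler k X A - Curv2.euler k X B +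
      Curv2.euler k X (tensorMod A B) := by
  simp only [HodgeIdxLib.pr, IntFunLib.N]
  rw [CurvLib.euler_congr (k := k) (congrRight B (swapIso A _ ≪≫ unitLeft A) ≪≫ swapIso B A),
    CurvLib.euler_congr (k := k) (swapIso A (Coh.structureModule X) ≪≫ unitLeft A),
    CurvLib.euler_congr (k := k) (swapIso B (Coh.structureModule X) ≪≫ unitLeft B)]
  ring

variable {X X' : Scheme.{u}} {π : X' ⟶ X} {𝓘 : X.IdealSheafData} [X'.Over (Spec (CommRingCat.of k))]
  [IsProper (X' ↘ Spec (CommRingCat.of k))]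

/-- Euler characteristics and restriction to an effective Cartier divisor. -/
theorem euler_restrict (J : X'.IdealSheafData) (hJ : PicF.IsInvertible (ClSub.idealMod J)) {M : X'.Modules}
    (hM : PicF.IsInvertible M) [J.subscheme.Over (Spec (CommRingCat.of k))]
    (hk : J.subschemeι ≫ (X' ↘ Spec (CommRingCat.of k)) = J.subscheme ↘ Spec (CommRingCat.of k)) :
    Curv2.euler k X' M = Curv2.euler k X' (tensorMod M (ClSub.idealMod J)) +
      Curv2.euler k J.subscheme (pb J.subschemeι M) := by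
  haveI := CurvLib.isNoetherian k (X := X')
  haveI : IsLocallyNoetherian J.subscheme := LocallyOfFiniteType.isLocallyNoetherian J.subschemeι
  obtain ⟨T, hT, ⟨e₁⟩, ⟨e₂⟩, ⟨e₃⟩⟩ := HdgLefLib.exists_restrict_seq J (AmpleDevLib.isFinLocFree_of_isInvertible hM)
  have hG := CurvLib.isCoh_of_isInvertible (AmpleDevLib.isInvertible_pb J.subschemeι hM)
  haveI := hG.1
  have h := CurvLib.euler_add_of_isCoh (k := k) hT
    (QCohLib.isCoh_of_iso e₁.symm (CurvLib.isCoh_of_isInvertible (HilbPolyLib.isInvertible_tensor hM hJ)))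
    (QCohLib.isCoh_of_iso e₂.symm (CurvLib.isCoh_of_isInvertible hM))
    (QCohLib.isCoh_of_iso e₃.symm (QCohLib.isCoh_push_finite J.subschemeι _ hG))
  rw [CurvLib.euler_congr e₁, CurvLib.euler_congr e₂, CurvLib.euler_congr e₃,
    ← (PushLinLib.euler_push k J.subschemeι hk _).2] at h
  exact h

/-- The pairing with an effective Cartier divisor. -/
theorem pr_divisor (J : X'.IdealSheafData) (hJ : PicF.IsInvertible (ClSub.idealMod J)) {A : X'.Modules}
    (hA : PicF.IsInvertible A) [J.subscheme.Over (Spec (CommRingCat.of k))]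
    (hk : J.subschemeι ≫ (X' ↘ Spec (CommRingCat.of k)) = J.subscheme ↘ Spec (CommRingCat.of k)) :
    HodgeIdxLib.pr k A (ClSub.idealMod J) =
      Curv2.euler k J.subscheme (Coh.structureModule J.subscheme) - Curv2.euler k J.subscheme (pb J.subschemeι A) := by
  rw [pr_formula, euler_restrict J hJ hA hk, euler_restrict J hJ CurvLib.isInvertible_structureModule hk,
    CurvLib.euler_congr (k := k) (unitLeft (ClSub.idealMod J)),
    CurvLib.euler_congr (k := k) (KFlatLib.pullUnitIso J.subschemeι)]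
  ring

variable [X.Over (Spec (CommRingCat.of k))] [IsProper (X ↘ Spec (CommRingCat.of k))]
  (hπk : π ≫ (X ↘ Spec (CommRingCat.of k)) = X' ↘ Spec (CommRingCat.of k))

include hπk in
/-- Pulling back preserves intersection numbers. -/
theorem pr_pullback [IsLocallyNoetherian X] (hπ : BlowUp.IsBlowUp π 𝓘) (hreg : LocReg 𝓘 1)
    {L M : X.Modules} (hL : PicF.IsInvertible L) (hM : PicF.IsInvertible M) :
    HodgeIdxLib.pr k (pb π L) (pb π M) = HodgeIdxLib.pr k L M := by
  haveI := isProper_b hπ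
  have h : ∀ {E : X.Modules}, PicF.IsInvertible E → Curv2.euler k X' (pb π E) = Curv2.euler k X E := fun hE =>
    euler_pullback_eq π hπk _ (isIso_unit hπ hreg (AmpleDevLib.isFinLocFree_of_isInvertible hE))
      (isZero_pullback hπ hreg (AmpleDevLib.isFinLocFree_of_isInvertible hE))
  obtain ⟨t⟩ := BlowPtLib.nonempty_pb_tensor π L M
  rw [pr_formula, pr_formula, ← h hL, ← h hM, ← h (HilbPolyLib.isInvertible_tensor hL hM),
    ← h CurvLib.isInvertible_structureModule, CurvLib.euler_congr (k := k) t,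
    CurvLib.euler_congr (k := k) (KFlatLib.pullUnitIso π)]

include hπk in
/-- **Intersection numbers on the blow-up of a closed point of a surface.** -/
theorem intersection_rules [IsAlgClosed k] [IsLocallyNoetherian X] (P : X) (hP : IsClosed ({P} : Set X))
    [IsRegularLocalRing (X.presheaf.stalk P)] (hd : ringKrullDim (X.presheaf.stalk P) = (2 : ℕ))
    (hπ : BlowUp.IsBlowUp π (Scheme.IdealSheafData.vanishingIdeal ⟨{P}, hP⟩))
    {L M : X.Modules} (hL : PicF.IsInvertible L) (hM : PicF.IsInvertible M) :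
    HodgeIdxLib.pr k (pb π L) (pb π M) = HodgeIdxLib.pr k L M ∧
      HodgeIdxLib.pr k (pb π L)
        (ClSub.idealMod (BlowUp.exceptional π (Scheme.IdealSheafData.vanishingIdeal ⟨{P}, hP⟩))) = 0 ∧
      HodgeIdxLib.pr k (ClSub.idealMod (BlowUp.exceptional π (Scheme.IdealSheafData.vanishingIdeal ⟨{P}, hP⟩)))
        (ClSub.idealMod (BlowUp.exceptional π (Scheme.IdealSheafData.vanishingIdeal ⟨{P}, hP⟩))) = -1 := by
  obtain ⟨U, hPU, a, hnr, ha⟩ := exists_point_chart P hP 2 hd
  let 𝓙 := Scheme.IdealSheafData.vanishingIdeal (⟨{P}, hP⟩ : Closeds X)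
  have hsupp : ∀ x, x ∈ 𝓙.support → x ∈ U.1 := fun x hx => by
    rw [← SetLike.mem_coe, Scheme.IdealSheafData.coe_support_vanishingIdeal] at hx
    exact (show x = P from hx) ▸ hPU
  have hreg : LocReg 𝓙 1 := fun y => by
    by_cases hy : y = P
    · exact ⟨U, hy ▸ hPU, 2, a, one_le_two, hnr, ha⟩
    · obtain ⟨V, hV, hyV, hVs⟩ := exists_isAffineOpen_mem_and_subset (x := y)
        (U := ⟨({P} : Set X)ᶜ, hP.isOpen_compl⟩) hy
      refine ⟨⟨V, hV⟩, hyV, 1, fun _ => 1, le_rfl, nr_one, ?_⟩
      rw [BlowPtLib.vanishingIdeal_eq_top _ ⟨V, hV⟩ fun x hx h => hVs hx h, Set.range_const, Ideal.span_singleton_one]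
  obtain ⟨hqr, hspan⟩ := qr_rev hnr
  have hne : Ideal.span (Set.range fun i => a (Fin.rev i)) ≠ ⊤ := by
    rw [hspan, ha, BlowPtLib.vanishingIdeal_eq_prime _ U P hPU fun x _ => Iff.rfl]
    exact (U.2.primeIdealOf ⟨P, hPU⟩).isPrime.ne_top
  obtain ⟨φ, hφ, hφk, ⟨eφ⟩⟩ := BlowPtLib.exists_embedding (𝓙 := 𝓙) (m := 1) hπ (X ↘ Spec (CommRingCat.of k)) U rfl
    hsupp (fun i => a (Fin.rev i)) (hspan.trans ha) (exists_const_sub_mem _ P hP U hPU)
    (fun d F hF h => eq_zero_of_eval_mem _ hqr hne d F hF (by rwa [hspan.trans ha]))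
  let J := 𝓙.comap π
  have hJ : PicF.IsInvertible (ClSub.idealMod J) := IntMultLib.isInvertible_idealMod _ hπ.1
  letI : J.subscheme.Over (Spec (CommRingCat.of k)) := ⟨J.subschemeι ≫ (X' ↘ Spec (CommRingCat.of k))⟩
  letI : (CohB1.ProjSpace 1 k).Over (Spec (CommRingCat.of k)) := ⟨CohB1.ProjSpace.toSpec 1 k⟩
  haveI := hφ
  haveI : IsProper (J.subscheme ↘ Spec (CommRingCat.of k)) :=
    inferInstanceAs (IsProper (J.subschemeι ≫ (X' ↘ Spec (CommRingCat.of k))))
  have hE : ∀ n : ℤ, Curv2.euler k J.subscheme (pb φ (Twist.twistProjSpace 1 k n)) = n + 1 := fun n => by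
    haveI : Coh.IsQCoh (Twist.twistProjSpace 1 k n) :=
      FinLFAnn.isQCoh_of_isFinLocFree (AmpleDevLib.isFinLocFree_of_isInvertible (PicPnLib.twist_inv 1 k n))
    rw [BlowPtLib.euler_pb_iso φ (hφk.trans (congrArg (J.subschemeι ≫ ·) hπk)) (Twist.twistProjSpace 1 k n),
      BlowPtLib.euler_twist_line rfl]
  have hE0 : Curv2.euler k J.subscheme (Coh.structureModule J.subscheme) = 1 := by
    obtain ⟨z⟩ := PicPnLib.twist_zero 1 k
    rw [← CurvLib.euler_congr (k := k) ((Scheme.Modules.pullback φ).mapIso z ≪≫ KFlatLib.pullUnitIso φ), hE]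
    norm_num
  refine ⟨pr_pullback hπk hπ hreg hL hM, ?_, ?_⟩
  · rw [pr_divisor J hJ (AmpleDevLib.isInvertible_pb π hL) rfl]
    obtain ⟨V, hPV, ⟨t⟩⟩ := hL P
    obtain ⟨f⟩ := BlowPtLib.nonempty_pb_trivial (J.subschemeι ≫ π) V (fun z => by
      have h : J.subschemeι z ∈ J.support := (Scheme.IdealSheafData.range_subschemeι _).subset ⟨z, rfl⟩
      have h' : π (J.subschemeι z) ∈ 𝓙.support := (Scheme.IdealSheafData.support_comap _ π).le h
      rw [← SetLike.mem_coe, Scheme.IdealSheafData.coe_support_vanishingIdeal] at h'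
      rw [Scheme.Hom.comp_apply, show π (J.subschemeι z) = P from h']
      exact hPV) t
    have e : Curv2.euler k J.subscheme (pb J.subschemeι (pb π L)) = Curv2.euler k J.subscheme (Coh.structureModule J.subscheme) :=
      CurvLib.euler_congr (k := k) ((Scheme.Modules.pullbackComp J.subschemeι π).app L ≪≫ f)
    rw [e, sub_self]
  · rw [pr_divisor J hJ hJ rfl, hE0, ← CurvLib.euler_congr (k := k) eφ, hE]
    norm_num

end BlowRegLib
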