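import Groth.Agent.BlowRegLib.Counit
import Groth.Agent.BlowRegLib.Surface
import Groth.Agent.ExtShLib.Nat
import Groth.Agent.CohCmpLib.HomLift

/-!
# Endomorphisms of a bundle trivial on the exceptional divisor
-/

set_option autoImplicit false
set_option linter.style.haveILetI false
set_option linter.unusedSectionVars false
set_option maxHeartbeats 1000000
set_option backward.isDefEq.respectTransparency false
set_option backward.isDefEq.respectTransparency.types false

universe u

open CategoryTheory CategoryTheory.Limits AlgebraicGeometry TopologicalSpace Opposite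
open CohCmpLib (homMod)
open KFlatLib (pb)
open PnDualLib (preMap)

noncomputable section

namespace BlowRegLib

/-- Local homomorphisms are functorial in isomorphisms of the source. -/
def preMapIso {X : Scheme.{u}} {A B : X.Modules} (e : A ≅ B) (P : X.Modules) : homMod B P ≅ homMod A P where
  hom := preMap e.hom P
  inv := preMap e.inv P
  hom_inv_id := by rw [ExtShLib.preMap_comp, e.inv_hom_id, ExtShLib.preMap_id]
  inv_hom_id := by rw [ExtShLib.preMap_comp, e.hom_inv_id, ExtShLib.preMap_id]

variable (k : Type u) [Field k] {X P : Scheme.{u}} [X.Over (Spec (CommRingCat.of k))]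
  [P.Over (Spec (CommRingCat.of k))] [IsLocallyNoetherian P] {b : X ⟶ P} {𝓘 : P.IdealSheafData}

/-- **Endomorphisms of a bundle free over a cover of the base have the cohomology of those of the direct image.** -/
theorem nonempty_HH_end (hbk : b ≫ (P ↘ Spec (CommRingCat.of k)) = X ↘ Spec (CommRingCat.of k))
    (hb : BlowUp.IsBlowUp b 𝓘) (hreg : LocReg 𝓘 1) {F : X.Modules}
    (h : ∀ y : P, ∃ (W : P.Opens) (n : ℕ), y ∈ W ∧
      Nonempty (F.restrict (b ⁻¹ᵁ W).ι ≅ FlatMod.freeMod ((b ⁻¹ᵁ W : X.Opens) : Scheme.{u}) n))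
    [ModSite.HasSheafHom (O := X.sheaf) F]
    [ModSite.HasSheafHom (O := P.sheaf) ((Scheme.Modules.pushforward b).obj F)] (i : ℕ) :
    Nonempty (Coh.HH X ((ModSite.sheafHom (O := X.sheaf) F).obj F) i ≃ₗ[k]
      Coh.HH P ((ModSite.sheafHom (O := P.sheaf) ((Scheme.Modules.pushforward b).obj F)).obj
        ((Scheme.Modules.pushforward b).obj F)) i) := by
  obtain ⟨hE, hc⟩ := counit_of_locally_trivial hb hreg h
  let E : P.Modules := (Scheme.Modules.pushforward b).obj F
  haveI := hc
  let c : pb b E ≅ F := asIso ((Scheme.Modules.pullbackPushforwardAdjunction b).counit.app F)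
  haveI := CohCmpLib.isIso_homPull (g := b) (M := E) (P := E) hE
  let G : P.Modules := homMod E E
  let e₁ : (ModSite.sheafHom (O := X.sheaf) F).obj F ≅ pb b G :=
    (ModSite.sheafHom (O := X.sheaf) F).mapIso c.symm ≪≫ ExtShLib.shApp F (pb b E) ≪≫
      preMapIso c (pb b E) ≪≫ (asIso (CohCmpLib.homPull b E E)).symm
  have hG : FlatMod.IsFinLocFree G := CohCmpLib.isFinLocFree_homMod hE hE
  have hR : ∀ p : ℕ, 0 < p → IsZero ((Coh.Rpush b p).obj (pb b G)) := fun p hp => by
    obtain ⟨e⟩ := RpushLib.nonempty_toAb_rpush_iso b (pb b G) p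
    exact RpushLib.isZero_of_isZero_toAb ((isZero_pullback hb hreg hG p hp).of_iso e)
  haveI := isProper_b hb
  obtain ⟨f⟩ := RuledSurfLib.nonempty_HH_push k b hbk (pb b G) hR i
  haveI := isIso_unit hb hreg hG
  exact ⟨(CurvLib.hIso (k := k) e₁ i).trans (f.trans
    ((CurvLib.hIso (k := k) (asIso ((Scheme.Modules.pullbackPushforwardAdjunction b).unit.app G)) i).symm.trans
      (CurvLib.hIso (k := k) (ExtShLib.shApp E E).symm i)))⟩

end BlowRegLib
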