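import Groth.Agent.SplitCoverLib.Main
import Groth.Prelude.Def_CohProp
import Groth.Prelude.Def_EtOpen
import Mathlib.CategoryTheory.Sites.PreservesLocallyBijective
import Mathlib.CategoryTheory.Sites.Over

/-!
# Finite etale schemes give finite locally constant sheaves of sets
-/

set_option autoImplicit false
set_option linter.style.haveILetI false

universe u

open CategoryTheory CategoryTheory.Limits AlgebraicGeometry TopologicalSpace Opposite SplitCover

noncomputable section

namespace BlowRegLib.EtSplit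

/-- A finite etale morphism of constant rank acquires that many disjoint covering sections after a finite
etale surjective base change. -/
theorem exists_sections : ∀ (n : ℕ) {X S : Scheme.{u}} (φ : X ⟶ S) [IsFinite φ] [Etale φ],
    (∀ s, φ.finrank s = n) →
    ∃ (Y : Scheme.{u}) (ψ : Y ⟶ S) (σ : Fin n → (Y ⟶ pullback φ ψ)),
      IsFinite ψ ∧ Etale ψ ∧ Surjective ψ ∧
      (∀ i, σ i ≫ pullback.snd φ ψ = 𝟙 Y) ∧ (∀ i j a b, σ i a = σ j b → i = j) ∧
      ∀ z, ∃ i, z ∈ Set.range (σ i) := by
  intro n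
  induction n with
  | zero =>
    intro X S φ _ _ hn
    refine ⟨S, 𝟙 S, fun i => i.elim0, inferInstance, inferInstance, inferInstance, fun i => i.elim0,
      fun i => i.elim0, fun z => ?_⟩
    have h := Scheme.Hom.one_le_finrank_map φ (pullback.fst φ (𝟙 S) z)
    rw [hn] at h
    omega
  | succ k ih =>
    intro X S φ _ _ hn
    let pr₁ := pullback.fst φ φ
    let pr₂ := pullback.snd φ φ
    let Δ := pullback.diagonal φ
    haveI : IsOpenImmersion Δ := inferInstance
    haveI : IsClosedImmersion Δ := inferInstance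
    let U : (pullback φ φ : Scheme.{u}).Opens := ⟨(Set.range Δ)ᶜ, Δ.isClosedEmbedding.isClosed_range.isOpen_compl⟩
    haveI : IsClosedImmersion U.ι := IsClosedImmersion.of_isPreimmersion _ (by
      rw [Scheme.Opens.range_ι]
      exact (Δ.isOpenEmbedding.isOpen_range).isClosed_compl)
    let φU := U.ι ≫ pr₂
    haveI : IsFinite φU := inferInstance
    haveI : Etale φU := inferInstance
    have hU : ∀ x, φU.finrank x = k := by
      intro x
      obtain ⟨Ω, _, _, g, hg⟩ := exists_geom x
      haveI : IsSepClosed Ω := inferInstance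
      let t : Spec (CommRingCat.of Ω) := (⟨⊥, Ideal.isPrime_bot⟩ : PrimeSpectrum Ω)
      haveI : IsFinite pr₂ := inferInstance
      haveI : Etale pr₂ := inferInstance
      haveI : Etale (Δ ≫ pr₂) := inferInstance
      haveI : IsFinite (Δ ≫ pr₂) := inferInstance
      have hZ : Nat.card ↥(pullback pr₂ g) = k + 1 := by
        rw [← finrank_eq_card_fibre pr₂ g t, Scheme.Hom.finrank_pullback_snd, hn]
      haveI : Finite ↥(pullback pr₂ g) := Nat.finite_of_card_ne_zero (by omega)
      have hΔ : Nat.card ↥(pullback (Δ ≫ pr₂) g) = 1 := by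
        haveI : IsIso (Δ ≫ pr₂) := by
          rw [show Δ ≫ pr₂ = 𝟙 X from pullback.diagonal_snd φ]; infer_instance
        rw [← finrank_eq_card_fibre (Δ ≫ pr₂) g t, Scheme.Hom.finrank_eq_one_of_isIso]
        rfl
      have hU' : φU.finrank x = Nat.card ↥(pullback (U.ι ≫ pr₂) g) := by
        rw [← finrank_eq_card_fibre φU g t, hg]
      rw [card_pullback_comp] at hΔ hU'
      rw [Scheme.Opens.range_ι] at hU'
      classical
      haveI := Fintype.ofFinite ↥(pullback pr₂ g)
      have hsplit := Fintype.card_subtype_compl fun z : ↥(pullback pr₂ g) => pullback.fst pr₂ g z ∈ Set.range Δ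
      simp only [Nat.card_eq_fintype_card] at hZ hΔ
      rw [hU', ← Fintype.card_eq_nat_card]
      exact hsplit.trans (by rw [hZ, hΔ]; rfl)
    obtain ⟨V, ψ₀, σ₀, h1, h2, h4, hs, hd, hc⟩ := ih φU hU
    have hφ : Surjective φ := Scheme.Hom.one_le_finrank_iff_surjective φ |>.mp fun s => by
      show 1 ≤ φ.finrank s
      rw [hn]; omega
    let ψ := ψ₀ ≫ φ
    let p : pullback φ ψ ⟶ pullback φ φ :=
      pullback.lift (pullback.fst φ ψ) (pullback.snd φ ψ ≫ ψ₀) (by rw [Category.assoc]; exact pullback.condition)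
    let h : pullback φU ψ₀ ⟶ pullback φ ψ :=
      pullback.lift (pullback.fst φU ψ₀ ≫ U.ι ≫ pr₁) (pullback.snd φU ψ₀) (by
        simp only [ψ, Category.assoc]
        rw [← reassoc_of% (pullback.condition (f := φU) (g := ψ₀))]
        simp only [φU, pr₁, pr₂, Category.assoc, pullback.condition])
    have hp1 : p ≫ pr₁ = pullback.fst φ ψ := pullback.lift_fst _ _ _
    have hp2 : p ≫ pr₂ = pullback.snd φ ψ ≫ ψ₀ := pullback.lift_snd _ _ _
    have hh1 : h ≫ pullback.fst φ ψ = pullback.fst φU ψ₀ ≫ U.ι ≫ pr₁ := pullback.lift_fst _ _ _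
    have hh2 : h ≫ pullback.snd φ ψ = pullback.snd φU ψ₀ := pullback.lift_snd _ _ _
    have hp : h ≫ p = pullback.fst φU ψ₀ ≫ U.ι := by
      apply pullback.hom_ext
      · show (h ≫ p) ≫ pr₁ = (pullback.fst φU ψ₀ ≫ U.ι) ≫ pr₁
        rw [Category.assoc, hp1, hh1, Category.assoc]
      · show (h ≫ p) ≫ pr₂ = (pullback.fst φU ψ₀ ≫ U.ι) ≫ pr₂
        rw [Category.assoc, hp2, ← Category.assoc, hh2, Category.assoc]
        exact (pullback.condition (f := φU) (g := ψ₀)).symm
    let k₁ : pullback U.ι p ⟶ pullback φU ψ₀ :=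
      pullback.lift (pullback.fst U.ι p) (pullback.snd U.ι p ≫ pullback.snd φ ψ) (by
        show pullback.fst U.ι p ≫ U.ι ≫ pr₂ = (pullback.snd U.ι p ≫ pullback.snd φ ψ) ≫ ψ₀
        rw [pullback.condition_assoc, hp2, Category.assoc])
    have hk1 : k₁ ≫ pullback.fst φU ψ₀ = pullback.fst U.ι p := pullback.lift_fst _ _ _
    have hk2 : k₁ ≫ pullback.snd φU ψ₀ = pullback.snd U.ι p ≫ pullback.snd φ ψ := pullback.lift_snd _ _ _
    let l : pullback φU ψ₀ ⟶ pullback U.ι p := pullback.lift (pullback.fst φU ψ₀) h hp.symm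
    have hl1 : l ≫ pullback.fst U.ι p = pullback.fst φU ψ₀ := pullback.lift_fst _ _ _
    have hl2 : l ≫ pullback.snd U.ι p = h := pullback.lift_snd _ _ _
    have hk : k₁ ≫ h = pullback.snd U.ι p := by
      apply pullback.hom_ext
      · rw [Category.assoc, hh1, ← Category.assoc, hk1, pullback.condition_assoc, hp1]
      · rw [Category.assoc, hh2, hk2]
    have hl : l ≫ k₁ = 𝟙 _ := by
      apply pullback.hom_ext
      · rw [Category.assoc, hk1, hl1, Category.id_comp]
      · rw [Category.assoc, hk2, ← Category.assoc, hl2, hh2, Category.id_comp]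
    have hinj : Function.Injective h := by
      haveI : IsOpenImmersion (pullback.snd U.ι p) := inferInstance
      intro a b hab
      rw [← hl2, Scheme.Hom.comp_apply, Scheme.Hom.comp_apply] at hab
      have h' := congrArg k₁ ((pullback.snd U.ι p).isOpenEmbedding.injective hab)
      rwa [← Scheme.Hom.comp_apply, ← Scheme.Hom.comp_apply, hl] at h'
    let σz : V ⟶ pullback φ ψ := pullback.lift ψ₀ (𝟙 V) (by simp [ψ])
    have hz1 : σz ≫ pullback.fst φ ψ = ψ₀ := pullback.lift_fst _ _ _
    have hz2 : σz ≫ pullback.snd φ ψ = 𝟙 V := pullback.lift_snd _ _ _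
    have hΔ1 : Δ ≫ pr₁ = 𝟙 X := pullback.diagonal_fst φ
    have hΔ2 : Δ ≫ pr₂ = 𝟙 X := pullback.diagonal_snd φ
    have hzp : σz ≫ p = ψ₀ ≫ Δ := by
      apply pullback.hom_ext
      · show (σz ≫ p) ≫ pr₁ = (ψ₀ ≫ Δ) ≫ pr₁
        rw [Category.assoc, hp1, hz1, Category.assoc, hΔ1, Category.comp_id]
      · show (σz ≫ p) ≫ pr₂ = (ψ₀ ≫ Δ) ≫ pr₂
        rw [Category.assoc, hp2, ← Category.assoc, hz2, Category.id_comp, Category.assoc, hΔ2, Category.comp_id]
    let σ : Fin (k + 1) → (V ⟶ pullback φ ψ) := Fin.cases σz fun i => σ₀ i ≫ h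
    refine ⟨V, ψ, σ, inferInstance, inferInstance, inferInstance, fun i => ?_, ?_, fun z => ?_⟩
    · refine Fin.cases ?_ (fun i => ?_) i
      · exact hz2
      · show (σ₀ i ≫ h) ≫ pullback.snd φ ψ = 𝟙 V
        rw [Category.assoc, hh2, hs i]
    · have hne : ∀ (i : Fin k) a b, σz a ≠ (σ₀ i ≫ h) b := fun i a b e => by
        have h1 := congrArg p e
        rw [← Scheme.Hom.comp_apply, ← Scheme.Hom.comp_apply, hzp, Category.assoc, hp, ← Category.assoc,
          Scheme.Hom.comp_apply, Scheme.Hom.comp_apply] at h1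
        exact (((σ₀ i ≫ pullback.fst φU ψ₀) b).2 : _ ∈ (Set.range Δ)ᶜ) ⟨ψ₀ a, h1⟩
      intro i
      refine Fin.cases ?_ (fun i => ?_) i <;> intro j <;> refine Fin.cases ?_ (fun j => ?_) j <;> intro a b e
      · rfl
      · exact absurd e (hne j a b)
      · exact absurd e.symm (hne i b a)
      · simp only [σ, Fin.cases_succ, Scheme.Hom.comp_apply] at e
        rw [hd i j a b (hinj e)]
    · by_cases hz : p z ∈ Set.range Δ
      · have hmem : z ∈ Set.range (pullback.snd Δ p) := by rw [Scheme.Pullback.range_snd]; exact hz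
        obtain ⟨w, rfl⟩ := hmem
        have e1 : pullback.snd Δ p ≫ pullback.fst φ ψ = pullback.fst Δ p := by
          rw [← hp1, ← pullback.condition_assoc, hΔ1, Category.comp_id]
        have e2 : pullback.snd Δ p ≫ pullback.snd φ ψ ≫ ψ₀ = pullback.fst Δ p := by
          rw [← hp2, ← pullback.condition_assoc, hΔ2, Category.comp_id]
        have e : pullback.snd Δ p = (pullback.snd Δ p ≫ pullback.snd φ ψ) ≫ σz := by
          apply pullback.hom_ext
          · rw [Category.assoc, hz1, Category.assoc, e1, e2]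
          · rw [Category.assoc, hz2, Category.comp_id]
        exact ⟨0, (pullback.snd Δ p ≫ pullback.snd φ ψ) w, by
          rw [← Scheme.Hom.comp_apply]
          simp only [σ, Fin.cases_zero]
          rw [← e]⟩
      · have hmem : z ∈ Set.range (pullback.snd U.ι p) := by
          rw [Scheme.Pullback.range_snd, Scheme.Opens.range_ι]; exact hz
        obtain ⟨w, rfl⟩ := hmem
        obtain ⟨i, v, hv⟩ := hc (k₁ w)
        refine ⟨i.succ, v, ?_⟩
        simp only [σ, Fin.cases_succ, Scheme.Hom.comp_apply]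
        rw [hv, ← Scheme.Hom.comp_apply, hk]

section Site

variable {S : Scheme.{u}} {P : S.Etale} {W : S.Etale} {n : ℕ}

/-- The comparison map from constant sections to points. -/
def cmp (τ : Fin n → (W ⟶ P)) :
    (Over.forget W).op ⋙ (Functor.const S.Etaleᵒᵖ).obj (ULift.{u + 1} (Fin n)) ⟶
      (Over.forget W).op ⋙ yoneda.obj P ⋙ uliftFunctor.{u + 1, u} where
  app V := TypeCat.ofHom fun i => (⟨V.unop.hom ≫ τ i.down⟩ : ULift.{u + 1} (V.unop.left ⟶ P))
  naturality V V' g := by
    ext i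
    refine ULift.ext _ _ ?_
    change V'.unop.hom ≫ τ i.down = g.unop.left ≫ V.unop.hom ≫ τ i.down
    rw [Over.w_assoc]

theorem over_mem {Y : Over W} {ι : Type (u + 1)} {Z : ι → S.Etale} (g : ∀ i, Z i ⟶ Y.left)
    (hg : ⋃ i, Set.range (g i).left = .univ) {R : Sieve Y}
    (hR : ∀ i, R (Over.homMk (g i) : Over.mk (g i ≫ Y.hom) ⟶ Y)) : R ∈ S.smallEtaleTopology.over W Y := by
  rw [GrothendieckTopology.mem_over_iff]
  refine S.smallEtaleTopology.superset_covering ?_ ((Scheme.ofArrows_mem_smallEtaleTopology_iff g).2 hg)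
  rintro V _ ⟨_, k, _, ⟨i⟩, rfl⟩
  refine Sieve.downward_closed _ ?_ k
  exact (Sieve.overEquiv_iff R (g i)).2 (hR i)

theorem isLocallyInjective_cmp (τ : Fin n → (W ⟶ P))
    (hinj : ∀ (V : S.Etale) (v : V ⟶ W), Nonempty V.left → ∀ i j, v ≫ τ i = v ≫ τ j → i = j) :
    Presheaf.IsLocallyInjective (S.smallEtaleTopology.over W) (cmp τ) where
  equalizerSieve_mem {Y} a b h := by
    by_cases hne : Nonempty Y.unop.left.left
    · have : a = b := ULift.ext _ _ (hinj Y.unop.left Y.unop.hom hne _ _ (congrArg ULift.down h))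
      subst this
      rw [Presheaf.equalizerSieve_self_eq_top]
      exact GrothendieckTopology.top_mem _ _
    · haveI := not_nonempty_iff.1 hne
      exact over_mem (ι := PEmpty.{u + 2}) (Z := fun i => i.elim) (fun i => i.elim)
        (Set.eq_univ_of_forall fun y => isEmptyElim y) fun i => i.elim

theorem isLocallySurjective_cmp (τ : Fin n → (W ⟶ P))
    (hsurj : ∀ (V : S.Etale) (v : V ⟶ W) (g : V ⟶ P), ∀ z : V.left, ∃ (O : V.left.Opens) (i : Fin n),
      z ∈ O ∧ O.ι ≫ g.left = O.ι ≫ v.left ≫ (τ i).left) :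
    Presheaf.IsLocallySurjective (S.smallEtaleTopology.over W) (cmp τ) where
  imageSieve_mem {Y} s := by
    choose O i hz hO using hsurj Y.left Y.hom s.down
    let Z : ULift.{u + 1} Y.left.left → S.Etale := fun z => Scheme.Etale.mk ((O z.down).ι ≫ Y.left.hom)
    let g : ∀ z, Z z ⟶ Y.left := fun z => MorphismProperty.Over.homMk (O z.down).ι rfl
    refine over_mem g (Set.eq_univ_of_forall fun z => Set.mem_iUnion.2 ⟨⟨z⟩, ⟨z, hz z⟩, rfl⟩) fun z => ⟨⟨i z.down⟩, ?_⟩
    refine ULift.ext _ _ (MorphismProperty.Over.Hom.ext ?_)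
    change ((O z.down).ι ≫ Y.hom.left) ≫ (τ (i z.down)).left = (O z.down).ι ≫ s.down.left
    rw [Category.assoc, hO]

theorem W_whisker (W : S.Etale) (Q : S.Etaleᵒᵖ ⥤ Type (u + 1)) :
    (S.smallEtaleTopology.over W).W
      (Functor.whiskerLeft (Over.forget W).op (toSheafify S.smallEtaleTopology Q)) :=
  (GrothendieckTopology.W_iff_isLocallyBijective _ _).2
    ⟨Presheaf.isLocallyInjective_whisker _ S.smallEtaleTopology _ _,
      Presheaf.isLocallySurjective_whisker _ S.smallEtaleTopology _ _⟩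

theorem over_iso (τ : Fin n → (W ⟶ P))
    (hinj : ∀ (V : S.Etale) (v : V ⟶ W), Nonempty V.left → ∀ i j, v ≫ τ i = v ≫ τ j → i = j)
    (hsurj : ∀ (V : S.Etale) (v : V ⟶ W) (g : V ⟶ P), ∀ z : V.left, ∃ (O : V.left.Opens) (i : Fin n),
      z ∈ O ∧ O.ι ≫ g.left = O.ι ≫ v.left ≫ (τ i).left) :
    Nonempty ((EtDesc.repSh P).over W ≅ (CohProp.constSh S (ULift.{u + 1} (Fin n))).over W) := by
  let J := S.smallEtaleTopology
  let F := (EtDesc.repSh P).over W
  let G := (CohProp.constSh S (ULift.{u + 1} (Fin n))).over W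
  let p : (Over.forget W).op ⋙ yoneda.obj P ⋙ uliftFunctor.{u + 1, u} ⟶ F.obj :=
    Functor.whiskerLeft (Over.forget W).op (toSheafify J (yoneda.obj P ⋙ uliftFunctor.{u + 1, u}))
  let q : (Over.forget W).op ⋙ (Functor.const S.Etaleᵒᵖ).obj (ULift.{u + 1} (Fin n)) ⟶ G.obj :=
    Functor.whiskerLeft (Over.forget W).op (toSheafify J ((Functor.const S.Etaleᵒᵖ).obj (ULift.{u + 1} (Fin n))))
  have hp : (J.over W).W p := (GrothendieckTopology.W_iff_isLocallyBijective _ _).2
    ⟨Presheaf.isLocallyInjective_whisker _ J _ _, Presheaf.isLocallySurjective_whisker _ J _ _⟩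
  have hq : (J.over W).W q := W_whisker W _
  have ha : (J.over W).W (cmp τ) := (GrothendieckTopology.W_iff_isLocallyBijective _ _).2
    ⟨isLocallyInjective_cmp τ hinj, isLocallySurjective_cmp τ hsurj⟩
  rw [GrothendieckTopology.W_iff] at hp hq ha
  exact ⟨(asIso ((sheafificationAdjunction (J.over W) (Type (u + 1))).counit.app F)).symm ≪≫
    (asIso ((presheafToSheaf (J.over W) (Type (u + 1))).map p)).symm ≪≫
    (asIso ((presheafToSheaf (J.over W) (Type (u + 1))).map (cmp τ))).symm ≪≫
    asIso ((presheafToSheaf (J.over W) (Type (u + 1))).map q) ≪≫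
    asIso ((sheafificationAdjunction (J.over W) (Type (u + 1))).counit.app G)⟩

end Site

theorem isFinLocConstSet_repSh (S X : Scheme.{u}) (f : X ⟶ S) [Etale f] [IsFinite f] :
    CohProp.IsFinLocConstSet (EtDesc.repSh (Scheme.Etale.mk f)) := by
  have H : ∀ s : S, ∃ (W : S.Etale) (n : ℕ), (∃ y : W.left, W.hom y = s) ∧
      Nonempty ((EtDesc.repSh (Scheme.Etale.mk f)).over W ≅ (CohProp.constSh S (ULift.{u + 1} (Fin n))).over W) := by
    intro s
    let U : S.Opens := ⟨f.finrank ⁻¹' {f.finrank s}, (Scheme.Hom.isLocallyConstant_finrank f).isOpen_fiber _⟩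
    let φ := pullback.snd f U.ι
    have hn : ∀ t, φ.finrank t = f.finrank s := fun t => by
      rw [Scheme.Hom.finrank_pullback_snd]
      exact t.2
    obtain ⟨Y, ψ, σ, -, hψ, hψs, hs, hd, hc⟩ := exists_sections _ φ hn
    let W : S.Etale := Scheme.Etale.mk (ψ ≫ U.ι)
    obtain ⟨y, hy⟩ := ψ.surjective ⟨s, rfl⟩
    refine ⟨W, f.finrank s, ⟨y, ?_⟩, ?_⟩
    · exact congrArg U.ι hy
    · haveI : ∀ i, IsOpenImmersion (σ i) := fun i => (section_props (pullback.snd φ ψ) (σ i) (hs i)).1
      let τ : Fin (f.finrank s) → (W ⟶ Scheme.Etale.mk f) := fun i =>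
        MorphismProperty.Over.homMk (σ i ≫ pullback.fst φ ψ ≫ pullback.fst f U.ι) (by
          change (σ i ≫ pullback.fst φ ψ ≫ pullback.fst f U.ι) ≫ f = ψ ≫ U.ι
          simp only [Category.assoc, pullback.condition]
          change σ i ≫ pullback.fst φ ψ ≫ φ ≫ U.ι = ψ ≫ U.ι
          rw [pullback.condition_assoc, reassoc_of% (hs i)])
      refine over_iso τ (fun V v hV i j h => ?_) fun V v g z => ?_
      · obtain ⟨z⟩ := hV
        have h' : v.left ≫ σ i ≫ pullback.fst φ ψ ≫ pullback.fst f U.ι = v.left ≫ σ j ≫ pullback.fst φ ψ ≫ pullback.fst f U.ι :=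
          congrArg (fun m => m.left) h
        have e : ∀ i, σ i ≫ pullback.fst φ ψ ≫ φ = ψ := fun i =>
          (congrArg (σ i ≫ ·) pullback.condition).trans ((Category.assoc _ _ _).symm.trans
            ((congrArg (· ≫ ψ) (hs i)).trans (Category.id_comp _)))
        have h1 : v.left ≫ σ i = v.left ≫ σ j := by
          refine pullback.hom_ext (pullback.hom_ext ?_ ?_) ?_
          · simp only [Category.assoc]
            exact h'
          · simp only [Category.assoc]
            change v.left ≫ σ i ≫ pullback.fst φ ψ ≫ φ = v.left ≫ σ j ≫ pullback.fst φ ψ ≫ φ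
            exact congrArg (v.left ≫ ·) ((e i).trans (e j).symm)
          · exact (Category.assoc _ _ _).trans ((congrArg (v.left ≫ ·) ((hs i).trans (hs j).symm)).trans (Category.assoc _ _ _).symm)
        exact hd i j (v.left z) (v.left z) (congrArg (fun m => m z) h1)
      · have hv : v.left ≫ ψ ≫ U.ι = V.hom := MorphismProperty.Over.w v
        have hg : g.left ≫ f = V.hom := MorphismProperty.Over.w g
        let t : V.left ⟶ pullback φ ψ :=
          pullback.lift (pullback.lift g.left (v.left ≫ ψ) (hg.trans (hv.symm.trans (Category.assoc _ _ _).symm))) v.left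
            (pullback.lift_snd _ _ _)
        have ht2 : t ≫ pullback.snd φ ψ = v.left := pullback.lift_snd _ _ _
        have ht1 : t ≫ pullback.fst φ ψ ≫ pullback.fst f U.ι = g.left :=
          (congrArg (t ≫ ·) rfl).trans (((Category.assoc _ _ _).symm.trans
            (congrArg (· ≫ pullback.fst f U.ι) (pullback.lift_fst _ _ _))).trans (pullback.lift_fst _ _ _))
        obtain ⟨i, hi⟩ := hc (t z)
        refine ⟨t ⁻¹ᵁ (σ i).opensRange, i, hi, ?_⟩
        let O := t ⁻¹ᵁ (σ i).opensRange
        have hr : Set.range (O.ι ≫ t) ⊆ Set.range (σ i) := by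
          rintro _ ⟨w, rfl⟩
          exact w.2
        have hfac := IsOpenImmersion.lift_fac (σ i) (O.ι ≫ t) hr
        have h1 : IsOpenImmersion.lift (σ i) (O.ι ≫ t) hr = O.ι ≫ v.left := by
          have h3 : (IsOpenImmersion.lift (σ i) (O.ι ≫ t) hr ≫ σ i) ≫ pullback.snd φ ψ = (O.ι ≫ t) ≫ pullback.snd φ ψ :=
            congrArg (· ≫ pullback.snd φ ψ) hfac
          exact (Category.comp_id _).symm.trans ((congrArg (_ ≫ ·) (hs i).symm).trans ((Category.assoc _ _ _).symm.trans
            (h3.trans ((Category.assoc _ _ _).trans (congrArg (O.ι ≫ ·) ht2)))))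
        rw [h1] at hfac
        change O.ι ≫ g.left = O.ι ≫ v.left ≫ σ i ≫ pullback.fst φ ψ ≫ pullback.fst f U.ι
        exact (congrArg (O.ι ≫ ·) ht1.symm).trans ((Category.assoc _ _ _).symm.trans
          ((congrArg (· ≫ pullback.fst φ ψ ≫ pullback.fst f U.ι) hfac.symm).trans
            ((Category.assoc _ _ _).trans (Category.assoc _ _ _))))
  choose W n hy hiso using H
  exact ⟨S, W, fun s => ⟨s, hy s⟩, fun s => ⟨_, inferInstance, hiso s⟩⟩

end BlowRegLib.EtSplit
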