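import Groth.Agent.FinCovLib.Cover
import Groth.Agent.SplitCoverLib.Main
import Mathlib.CategoryTheory.Comma.Over.Basic

/-!
# The number of sections of a finite etale covering
-/

set_option autoImplicit false
set_option backward.isDefEq.respectTransparency false
set_option backward.isDefEq.respectTransparency.types false
universe u

open CategoryTheory CategoryTheory.Limits AlgebraicGeometry TopologicalSpace

noncomputable section

namespace BlowRegLib

attribute [local instance] FinCovLib.preAlg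

theorem finrank_eq_of_rank_push {X Y : Scheme.{u}} (f : X ⟶ Y) [IsFinite f] [Flat f] {d : ℕ}
    (h : FlatMod.IsFinLocFreeOfRank d ((Scheme.Modules.pushforward f).obj (Coh.structureModule X))) (y : Y) :
    f.finrank y = d := by
  obtain ⟨V, hV, hyV, ⟨b⟩⟩ := FinCovLib.exists_basis_of_push f h y
  rw [FinCovLib.finrank_of_affine f hV hyV]
  haveI := Module.Free.of_basis b
  haveI := Module.Finite.of_basis b
  haveI : Nontrivial Γ(Y, V) := (hV.primeIdealOf ⟨y, hyV⟩).nontrivial
  rw [Module.rankAtStalk_eq_finrank_of_free, Pi.natCast_apply, Nat.cast_id, Module.finrank_eq_card_basis b,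
    Fintype.card_fin]

variable {P T : Scheme.{u}} (p : P ⟶ T) [IsFinite p] [Etale p] [ConnectedSpace T]

theorem section_eq_of_apply_eq {σ τ : T ⟶ P} (hσ : σ ≫ p = 𝟙 T) (hτ : τ ≫ p = 𝟙 T) (t : T) (h : σ t = τ t) :
    σ = τ := by
  obtain ⟨hoτ, hcτ⟩ := SplitCover.section_props p τ hτ
  haveI := hoτ
  have hclopen : IsClopen (σ ⁻¹' Set.range τ) :=
    ⟨hcτ.preimage σ.continuous, τ.isOpenEmbedding.isOpen_range.preimage σ.continuous⟩
  have hall : σ ⁻¹' Set.range τ = Set.univ := by
    rcases isClopen_iff.1 hclopen with h0 | h0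
    · exact absurd (show t ∈ σ ⁻¹' Set.range τ from ⟨t, h.symm⟩) (by rw [h0]; exact Set.notMem_empty t)
    · exact h0
  have hsub : Set.range σ ⊆ Set.range τ := fun z hz => by
    obtain ⟨s, rfl⟩ := hz
    exact Set.eq_univ_iff_forall.1 hall s
  have e := IsOpenImmersion.lift_fac τ σ hsub
  have h1 : IsOpenImmersion.lift τ σ hsub = 𝟙 T := by
    have := congrArg (· ≫ p) e
    simp only [Category.assoc, hτ, hσ, Category.comp_id] at this
    exact this
  rw [← e, h1, Category.id_comp]

theorem finite_fibre_card {n : ℕ} (hn : ∀ t, p.finrank t = n) (t : T) :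
    (p ⁻¹' {t}).Finite ∧ Nat.card (p ⁻¹' {t}) ≤ n := by
  have hfin : (p ⁻¹' {t}).Finite := p.finite_preimage_singleton t
  refine ⟨hfin, ?_⟩
  obtain ⟨Ω, _, _, g, hg⟩ := SplitCover.exists_geom t
  haveI : IsSepClosed Ω := inferInstance
  let c : Spec (CommRingCat.of Ω) := (⟨⊥, Ideal.isPrime_bot⟩ : PrimeSpectrum Ω)
  have hZ : Nat.card ↥(pullback p g) = n := by
    rw [← SplitCover.finrank_eq_card_fibre p g c, hn]
  let F : ↥(pullback p g) → ↥(p ⁻¹' {t}) := fun z => ⟨pullback.fst p g z, by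
    rw [Set.mem_preimage, Set.mem_singleton_iff, ← Scheme.Hom.comp_apply, pullback.condition, Scheme.Hom.comp_apply, hg]⟩
  have hF : Function.Surjective F := fun ⟨z, hz⟩ => by
    obtain ⟨w, hw, -⟩ := Scheme.Pullback.exists_preimage_pullback (f := p) (g := g) z c
      ((Set.mem_singleton_iff.1 hz).trans (hg c).symm)
    exact ⟨w, Subtype.ext hw⟩
  haveI : Finite ↥(pullback p g) := by
    rcases Nat.eq_zero_or_pos n with rfl | hpos
    · haveI : IsFinite (pullback.snd p g) := inferInstance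
      have hc' := (pullback.snd p g).finite_preimage_singleton c
      haveI : Subsingleton (Spec (CommRingCat.of Ω)) := inferInstanceAs (Subsingleton (PrimeSpectrum Ω))
      rw [show pullback.snd p g ⁻¹' {c} = Set.univ from Set.eq_univ_of_forall fun z => Subsingleton.elim _ _] at hc'
      exact Set.finite_univ_iff.1 hc'
    · exact Nat.finite_of_card_ne_zero (by omega)
  exact hZ ▸ Nat.card_le_card_of_surjective F hF

theorem sections_facts {n : ℕ} (hn : ∀ t, p.finrank t = n) :
    Finite {σ : T ⟶ P // σ ≫ p = 𝟙 T} ∧ Nat.card {σ : T ⟶ P // σ ≫ p = 𝟙 T} ≤ n ∧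
      (Nat.card {σ : T ⟶ P // σ ≫ p = 𝟙 T} = n ↔
        ∃ e : P ≅ ∐ fun _ : Fin n => T, e.hom ≫ Sigma.desc (fun _ : Fin n => 𝟙 T) = p) := by
  classical
  let S := {σ : T ⟶ P // σ ≫ p = 𝟙 T}
  let ev : ∀ t : T, S → ↥(p ⁻¹' {t}) := fun t σ => ⟨σ.1 t, by
    rw [Set.mem_preimage, Set.mem_singleton_iff, ← Scheme.Hom.comp_apply, σ.2]
    rfl⟩
  have hev : ∀ t, Function.Injective (ev t) := fun t σ τ h =>
    Subtype.ext (section_eq_of_apply_eq p σ.2 τ.2 t (congrArg Subtype.val h))
  let t₀ : T := Classical.arbitrary T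
  haveI := (finite_fibre_card p hn t₀).1.to_subtype
  haveI hfin : Finite S := Finite.of_injective _ (hev t₀)
  have hle : Nat.card S ≤ n :=
    (Nat.card_le_card_of_injective _ (hev t₀)).trans (finite_fibre_card p hn t₀).2
  refine ⟨hfin, hle, fun hcard => ?_, fun ⟨e, he⟩ => le_antisymm hle ?_⟩
  · let ε : Fin n ≃ S := (Finite.equivFinOfCardEq hcard).symm
    let σ : Fin n → (T ⟶ P) := fun i => (ε i).1
    have hc : ∀ z, ∃ i, z ∈ Set.range (σ i) := fun z => by
      have hb : Function.Bijective (ev (p z)) := by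
        haveI := (finite_fibre_card p hn (p z)).1.to_subtype
        haveI := Fintype.ofFinite S
        haveI := Fintype.ofFinite ↥(p ⁻¹' {p z})
        refine (Fintype.bijective_iff_injective_and_card _).2 ⟨hev _, le_antisymm
          (Fintype.card_le_of_injective _ (hev _)) ?_⟩
        rw [← Nat.card_eq_fintype_card, ← Nat.card_eq_fintype_card, hcard]
        exact (finite_fibre_card p hn (p z)).2
      obtain ⟨s, hs⟩ := hb.2 ⟨z, rfl⟩
      exact ⟨ε.symm s, p z, by simpa [σ] using congrArg Subtype.val hs⟩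
    haveI : ∀ i, IsOpenImmersion (σ i) := fun i => (SplitCover.section_props p (σ i) (ε i).2).1
    obtain ⟨hcol⟩ := nonempty_isColimit_cofanMk_of σ (top_le_iff.mp fun z _ => by
      obtain ⟨i, hi⟩ := hc z
      exact Opens.mem_iSup.mpr ⟨i, hi⟩) (by
      intro i j hij
      refine disjoint_iff_inf_le.mpr fun z hz => ?_
      obtain ⟨⟨a, ha⟩, ⟨b, hb⟩⟩ := hz
      have hab : a = b := by
        have h1 := congrArg p (ha.trans hb.symm)
        rw [← Scheme.Hom.comp_apply, ← Scheme.Hom.comp_apply, (ε i).2, (ε j).2] at h1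
        exact h1
      subst hab
      exact hij (ε.injective (Subtype.ext (section_eq_of_apply_eq p (ε i).2 (ε j).2 a (ha.trans hb.symm)))))
    haveI : IsIso (Sigma.desc σ) := (Cofan.nonempty_isColimit_iff_isIso_sigmaDesc (Cofan.mk _ σ)).mp ⟨hcol⟩
    refine ⟨(asIso (Sigma.desc σ)).symm, ?_⟩
    rw [Iso.symm_hom, Iso.inv_comp_eq]
    refine Sigma.hom_ext _ _ fun i => ?_
    rw [Sigma.ι_desc, asIso_hom, Sigma.ι_desc_assoc]
    exact (ε i).2.symm
  · let F : Fin n → S := fun i => ⟨Sigma.ι (fun _ : Fin n => T) i ≫ e.inv, by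
      rw [Category.assoc, ← he, Iso.inv_hom_id_assoc, Sigma.ι_desc]⟩
    have hF : Function.Injective F := fun i j hij => by
      by_contra hne
      have h1 : Sigma.ι (fun _ : Fin n => T) i = Sigma.ι (fun _ : Fin n => T) j :=
        (cancel_mono e.inv).1 (congrArg Subtype.val hij)
      have hmem : Sigma.ι (fun _ : Fin n => T) i t₀ ∈ Scheme.Hom.opensRange (Sigma.ι (fun _ : Fin n => T) i) ⊓
          Scheme.Hom.opensRange (Sigma.ι (fun _ : Fin n => T) j) := ⟨⟨t₀, rfl⟩, ⟨t₀, by rw [h1]⟩⟩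
      exact (disjoint_opensRange_sigmaι (fun _ : Fin n => T) i j hne).le_bot hmem
    have := Nat.card_le_card_of_injective F hF
    rwa [Nat.card_fin] at this

theorem over_hom_facts {X Y X' : Scheme.{u}} (f : X ⟶ Y) [IsFinite f] [Etale f] (n : ℕ)
    (hdeg : FlatMod.IsFinLocFreeOfRank n ((Scheme.Modules.pushforward f).obj (Coh.structureModule X)))
    (φ : X' ⟶ Y) [ConnectedSpace X'] :
    Finite (Over.mk φ ⟶ Over.mk f) ∧ Nat.card (Over.mk φ ⟶ Over.mk f) ≤ n ∧
      (Nat.card (Over.mk φ ⟶ Over.mk f) = n ↔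
        ∃ e : pullback f φ ≅ ∐ fun _ : Fin n => X',
          e.hom ≫ Sigma.desc (fun _ : Fin n => 𝟙 X') = pullback.snd f φ) := by
  let e : (Over.mk φ ⟶ Over.mk f) ≃ {σ : X' ⟶ pullback f φ // σ ≫ pullback.snd f φ = 𝟙 X'} :=
    { toFun := fun a => ⟨pullback.lift a.left (𝟙 X') (by rw [Category.id_comp]; exact Over.w a), pullback.lift_snd _ _ _⟩
      invFun := fun σ => Over.homMk (σ.1 ≫ pullback.fst f φ) (by
        show (σ.1 ≫ pullback.fst f φ) ≫ f = φ
        rw [Category.assoc, pullback.condition, ← Category.assoc, σ.2, Category.id_comp])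
      left_inv := fun a => Over.OverMorphism.ext (pullback.lift_fst _ _ _)
      right_inv := fun σ => Subtype.ext (pullback.hom_ext (pullback.lift_fst _ _ _)
        ((pullback.lift_snd _ _ _).trans σ.2.symm)) }
  obtain ⟨h1, h2, h3⟩ := sections_facts (pullback.snd f φ) (n := n) fun t => by
    rw [Scheme.Hom.finrank_pullback_snd, finrank_eq_of_rank_push f hdeg]
  haveI := h1
  rw [Nat.card_congr e]
  exact ⟨Finite.of_equiv _ e.symm, h2, h3⟩

end BlowRegLib
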