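import Groth.Agent.BlowRegLib.LineExt
import Groth.Agent.BlowRegLib.Surface
import Groth.Agent.BlowRegLib.Counit
import Groth.Agent.HurwitzLib.Fiber
import Groth.Agent.DimIneqLib.Scheme
import Groth.Agent.SquareLib.Curve
import Groth.Agent.MiscFlat6.NormalLowDim
import Groth.Agent.GenusZeroLib.PSpace

/-!
# The exceptional divisor over an arbitrary base field
-/

set_option autoImplicit false
set_option linter.style.haveILetI false
set_option linter.unusedSectionVars false
set_option maxHeartbeats 1000000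
set_option backward.isDefEq.respectTransparency false
set_option backward.isDefEq.respectTransparency.types false

universe u

open CategoryTheory CategoryTheory.Limits AlgebraicGeometry TopologicalSpace Opposite
open HilbPolyLib (congrLeft congrRight assocIso swapIso unitLeft)
open Groth.Agent.QReg16Lib (QR)
open KFlatLib (pb)

noncomputable section

namespace BlowRegLib

/-- The exceptional divisor over an affine base, with its structure morphism. -/
theorem exists_exceptional_str {P X : Scheme.{u}} [IsAffine P] {b : X ⟶ P} {𝓘 : P.IdealSheafData}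
    (hb : BlowUp.IsBlowUp b 𝓘) {m : ℕ} (a : Fin (m + 1) → Γ(P, ⊤))
    (ha : Ideal.span (Set.range a) = 𝓘.ideal ⟨⊤, isAffineOpen_top P⟩) (hQR : QR a) :
    ∃ (K : Ideal Γ(P, ⊤)) (_ : K = 𝓘.ideal ⟨⊤, isAffineOpen_top P⟩)
      (φ : (𝓘.comap b).subscheme ⟶ CohB1.ProjSpace m (Γ(P, ⊤) ⧸ K)), IsIso φ ∧
      φ ≫ CohB1.ProjSpace.toSpec m _ ≫ Spec.map (CommRingCat.ofHom (Ideal.Quotient.mk K)) =
        (𝓘.comap b).subschemeι ≫ b ≫ P.toSpecΓ ∧
      Nonempty (pb φ (Twist.twistProjSpace m (Γ(P, ⊤) ⧸ K) 1) ≅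
        pb (𝓘.comap b).subschemeι (ClSub.idealMod (𝓘.comap b))) := by
  let U₀ : P.affineOpens := ⟨⊤, isAffineOpen_top P⟩
  have hγ : ∀ c : Γ(P, ⊤), cstP P.toSpecΓ (⊤ : P.Opens) c = c := fun c => by
    have h1 : (Scheme.ΓSpecIso Γ(P, ⊤)).inv ≫ P.toSpecΓ.appTop = 𝟙 _ := by
      rw [← cancel_epi (Scheme.ΓSpecIso Γ(P, ⊤)).hom, Iso.hom_inv_id_assoc, Category.comp_id,
        Scheme.toSpecΓ_appTop]
    simp [cstP, ProjUP.toGlobal]
    exact congr($h1 c)
  obtain ⟨φ, hφ, hφs, hφt⟩ := exists_embedding (𝓙 := 𝓘) hb P.toSpecΓ U₀ rfl (fun x _ => trivial) a ha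
    (fun x => ⟨x, by rw [show cstP P.toSpecΓ (⊤ : P.Opens) x = x from hγ x, sub_self]; exact zero_mem _⟩)
    (fun d F hF h s => by
      rw [show cstP P.toSpecΓ (⊤ : P.Opens) (F.coeff s) = F.coeff s from hγ _]
      refine ha ▸ hQR d F hF ?_ s
      rw [show Ideal.span (Set.range a) = 𝓘.ideal U₀ from ha]
      have e : cstP P.toSpecΓ (⊤ : P.Opens) = RingHom.id _ := RingHom.ext hγ
      rwa [show MvPolynomial.eval a F = MvPolynomial.eval₂ (cstP P.toSpecΓ (⊤ : P.Opens)) a F by rw [e]; rfl])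
  exact ⟨_, Ideal.ext fun c => by rw [Ideal.mem_comap, hγ], φ, hφ, hφs, hφt⟩

/-- Evaluation at a closed point is surjective. -/
theorem evaluation_surjective {X : Scheme.{u}} {U : X.affineOpens} (P : X) (hP : IsClosed ({P} : Set X)) (hPU : P ∈ U.1) :
    Function.Surjective (X.evaluation U.1 P hPU).hom ∧
      RingHom.ker (X.evaluation U.1 P hPU).hom = (Scheme.IdealSheafData.vanishingIdeal ⟨{P}, hP⟩).ideal U := by
  obtain ⟨hker, hfr⟩ := DimIneqLib.ker_evaluation U.2 P hPU
  rw [BlowPtLib.vanishingIdeal_eq_prime _ U P hPU fun x _ => Iff.rfl]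
  refine ⟨fun z => ?_, hker⟩
  haveI : (U.2.primeIdealOf ⟨P, hPU⟩).asIdeal.IsMaximal := by
    refine (PrimeSpectrum.isClosed_singleton_iff_isMaximal _).1 ?_
    have e : U.2.fromSpec ⁻¹' {P} = {U.2.primeIdealOf ⟨P, hPU⟩} := by
      ext z
      rw [Set.mem_preimage, Set.mem_singleton_iff, Set.mem_singleton_iff]
      constructor
      · intro hz'
        exact U.2.fromSpec.isOpenEmbedding.injective (hz'.trans (U.2.fromSpec_primeIdealOf ⟨P, hPU⟩).symm)
      · rintro rfl
        exact U.2.fromSpec_primeIdealOf ⟨P, hPU⟩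
    rw [← e]
    exact hP.preimage U.2.fromSpec.continuous
  obtain ⟨a, b, hb, he⟩ := hfr z
  have hb' : b ∉ (U.2.primeIdealOf ⟨P, hPU⟩).asIdeal := fun h => hb (RingHom.mem_ker.1 (hker.ge h))
  obtain ⟨c, i, hi, hc⟩ := Ideal.IsMaximal.exists_inv ‹_› hb'
  refine ⟨c * a, ?_⟩
  have h0 : (X.evaluation U.1 P hPU).hom i = 0 := RingHom.mem_ker.1 (hker.ge hi)
  have h1 := congrArg (X.evaluation U.1 P hPU).hom hc
  rw [map_add, map_mul, map_one, h0, add_zero] at h1
  rw [map_mul, ← he, mul_left_comm, h1, mul_one]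

variable {k : Type u} [Field k] {X X' : Scheme.{u}} {π : X' ⟶ X} [X.Over (Spec (CommRingCat.of k))]
  [LocallyOfFiniteType (X ↘ Spec (CommRingCat.of k))] [IsLocallyNoetherian X]

/-- The Euler characteristics on the exceptional divisor of a closed point of a surface, and its dimension. -/
theorem exc_field (P : X) (hP : IsClosed ({P} : Set X))
    [IsRegularLocalRing (X.presheaf.stalk P)] (hd : ringKrullDim (X.presheaf.stalk P) = (2 : ℕ))
    (hπ : BlowUp.IsBlowUp π (Scheme.IdealSheafData.vanishingIdeal ⟨{P}, hP⟩)) :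
    letI : ((Scheme.IdealSheafData.vanishingIdeal ⟨{P}, hP⟩).comap π).subscheme.Over (Spec (CommRingCat.of k)) :=
      ⟨((Scheme.IdealSheafData.vanishingIdeal ⟨{P}, hP⟩).comap π).subschemeι ≫ π ≫ (X ↘ Spec (CommRingCat.of k))⟩
    letI : Algebra k (X.residueField P) := Curv2.resAlgebra k X P
    topologicalKrullDim ((Scheme.IdealSheafData.vanishingIdeal ⟨{P}, hP⟩).comap π).subscheme ≤ 1 ∧
      Curv2.euler k ((Scheme.IdealSheafData.vanishingIdeal ⟨{P}, hP⟩).comap π).subscheme
        (Coh.structureModule _) = (Module.finrank k (X.residueField P) : ℤ) ∧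
      Curv2.euler k ((Scheme.IdealSheafData.vanishingIdeal ⟨{P}, hP⟩).comap π).subscheme
        (pb ((Scheme.IdealSheafData.vanishingIdeal ⟨{P}, hP⟩).comap π).subschemeι
          (ClSub.idealMod ((Scheme.IdealSheafData.vanishingIdeal ⟨{P}, hP⟩).comap π))) =
        2 * (Module.finrank k (X.residueField P) : ℤ) := by
  let 𝓙 := Scheme.IdealSheafData.vanishingIdeal (⟨{P}, hP⟩ : Closeds X)
  let q := X ↘ Spec (CommRingCat.of k)
  let J := 𝓙.comap π
  letI : J.subscheme.Over (Spec (CommRingCat.of k)) := ⟨J.subschemeι ≫ π ≫ q⟩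
  letI : Algebra k (X.residueField P) := Curv2.resAlgebra k X P
  obtain ⟨U, hPU, a, hnr, ha⟩ := exists_point_chart P hP 2 hd
  obtain ⟨hb', he, a', hQR, ha'⟩ := exists_affine_data hπ hnr ha U.1 U.2 le_rfl
  let U' : Scheme.{u} := U.1
  haveI : IsAffine U' := U.2
  let O := π ⁻¹ᵁ U.1
  let b' := π ∣_ U.1
  obtain ⟨K, hK, φ, hφ, hφs, ⟨eφ⟩⟩ := exists_exceptional_str hb' a' ha' hQR
  haveI := hφ
  -- the residue ring
  let g : k →+* Γ(U', ⊤) := Coh.toGlobal (U.1.ι ≫ q)
  let ev : Γ(U', ⊤) →+* X.residueField P := (X.evaluation U.1 P hPU).hom.comp U.1.topIso.hom.hom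
  obtain ⟨hsur, hker⟩ := evaluation_surjective P hP hPU
  have hevs : Function.Surjective ev := hsur.comp (ConcreteCategory.bijective_of_isIso U.1.topIso.hom).2
  have hevk : ∀ c : k, ev (g c) = Curv2.resMap k X P c := fun c => by
    show X.evaluation U.1 P hPU (U.1.topIso.hom ((U.1.ι ≫ q).appTop ((Scheme.ΓSpecIso (CommRingCat.of k)).inv c))) = _
    have e : (U.1.ι ≫ q).appTop ≫ U.1.topIso.hom = q.appTop ≫ X.presheaf.map (homOfLE (le_top : U.1 ≤ ⊤)).op := by
      simp [Scheme.Hom.comp_appTop, Scheme.Opens.topIso, ← Functor.map_comp]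
    have e' := congr($e ((Scheme.ΓSpecIso (CommRingCat.of k)).inv c))
    simp only [CommRingCat.comp_apply] at e'
    rw [e', ← Scheme.germ_residue]
    show X.residue P ((X.presheaf.germ U.1 P hPU) _) = _
    rw [TopCat.Presheaf.germ_res_apply]
    rfl
  have hKev : K = RingHom.ker ev := by
    rw [hK]
    ext x
    rw [Groth.Agent.S4666.ideal_comap_eq 𝓙 U.1.ι U ⟨⊤, isAffineOpen_top _⟩ (fun z _ => z.2),
      RingHom.mem_ker, show ev x = X.evaluation U.1 P hPU (U.1.topIso.hom x) from rfl]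
    have hiso : (U.1.ι.appLE U.1 ⊤ fun z _ => z.2) = U.1.topIso.inv := by
      simp [Scheme.Hom.appLE, Scheme.Opens.topIso, ← Functor.map_comp]
      rfl
    rw [hiso, ← hker, show RingHom.ker (X.evaluation U.1 P hPU).hom = Ideal.comap (X.evaluation U.1 P hPU).hom ⊥ from rfl]
    refine ⟨fun h => ?_, fun h => ?_⟩
    · obtain ⟨y, hy, rfl⟩ := (Ideal.mem_map_iff_of_surjective _ (ConcreteCategory.bijective_of_isIso U.1.topIso.inv).2).1 h
      show X.evaluation U.1 P hPU (U.1.topIso.hom (U.1.topIso.inv y)) = 0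
      rw [Iso.inv_hom_id_apply]
      exact Ideal.mem_bot.1 hy
    · refine (Ideal.mem_map_iff_of_surjective _ (ConcreteCategory.bijective_of_isIso U.1.topIso.inv).2).2
        ⟨U.1.topIso.hom x, Ideal.mem_bot.2 h, ?_⟩
      exact Iso.hom_inv_id_apply _ _
  let R := Γ(U', ⊤) ⧸ K
  letI : Algebra k R := ((Ideal.Quotient.mk K).comp g).toAlgebra
  let e₀ : R ≃+* X.residueField P :=
    (Ideal.quotEquivOfEq hKev).trans (RingHom.quotientKerEquivOfSurjective hevs)
  let eR : R ≃ₐ[k] X.residueField P := AlgEquiv.ofRingEquiv (f := e₀) fun c => hevk c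
  haveI : Module.Finite k (X.residueField P) := HurwitzLib.finite_residueField hP
  haveI : Module.Finite k R := Module.Finite.equiv eR.symm.toLinearEquiv
  have hfin : Module.finrank k R = Module.finrank k (X.residueField P) := eR.toLinearEquiv.finrank_eq
  -- the divisor over the affine open
  have hbase : U'.toSpecΓ ≫ Spec.map (CommRingCat.ofHom g) = U.1.ι ≫ q := by
    rw [show CommRingCat.ofHom g = (Scheme.ΓSpecIso (CommRingCat.of k)).inv ≫ (U.1.ι ≫ q).appTop from rfl,
      Spec.map_comp, ← Category.assoc, ← Scheme.toSpecΓ_naturality, Category.assoc,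
      toSpecΓ_SpecMap_ΓSpecIso_inv, Category.comp_id]
  let J' := J.comap O.ι
  have hJ' : (𝓙.comap U.1.ι).comap b' = J' := he
  letI : (CohB1.ProjSpace 1 R).Over (Spec (CommRingCat.of k)) := ⟨CohB1.ProjSpace.toSpec 1 R ≫ specStr (k := k) R⟩
  let φ' : J'.subscheme ⟶ CohB1.ProjSpace 1 R := eqToHom (by rw [hJ']) ≫ φ
  have hι : ∀ {A B : (O : Scheme.{u}).IdealSheafData} (h : A = B),
      eqToHom (congrArg Scheme.IdealSheafData.subscheme h) ≫ B.subschemeι = A.subschemeι := fun h => by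
    cases h; simp
  have hrange : Set.range J.subschemeι ⊆ Set.range O.ι := by
    rw [Scheme.Opens.range_ι, Scheme.IdealSheafData.range_subschemeι]
    intro z hz
    have h' : π z ∈ 𝓙.support := (Scheme.IdealSheafData.support_comap 𝓙 π).le hz
    rw [← SetLike.mem_coe, Scheme.IdealSheafData.coe_support_vanishingIdeal] at h'
    show π z ∈ U.1
    rw [show π z = P from h']
    exact hPU
  haveI : Surjective (pullback.snd O.ι J.subschemeι) := ⟨fun z => by
    have h1 : z ∈ Set.range (pullback.snd O.ι J.subschemeι) := by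
      rw [Scheme.Pullback.range_snd]
      exact hrange ⟨z, rfl⟩
    exact h1⟩
  haveI : IsIso (pullback.snd O.ι J.subschemeι) :=
    (isIso_iff_isOpenImmersion_and_surjective _).2 ⟨inferInstance, inferInstance⟩
  let ψ : J.subscheme ⟶ J'.subscheme := inv (pullback.snd O.ι J.subschemeι) ≫ (J.comapIso O.ι).inv
  have hψ : ψ ≫ J'.subschemeι ≫ O.ι = J.subschemeι := by
    have h1 : J'.subschemeι = (J.comapIso O.ι).hom ≫ pullback.fst O.ι J.subschemeι :=
      (Scheme.IdealSheafData.comapIso_hom_fst J O.ι).symm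
    rw [h1]
    simp [ψ, pullback.condition]
  let Φ : J.subscheme ⟶ CohB1.ProjSpace 1 R := ψ ≫ φ'
  have hsR : specStr (k := k) R = Spec.map (CommRingCat.ofHom (Ideal.Quotient.mk K)) ≫ Spec.map (CommRingCat.ofHom g) := by
    rw [← Spec.map_comp]; rfl
  have hΦ : Φ ≫ (CohB1.ProjSpace 1 R ↘ Spec (CommRingCat.of k)) = J.subscheme ↘ Spec (CommRingCat.of k) := by
    show Φ ≫ CohB1.ProjSpace.toSpec 1 R ≫ specStr (k := k) R = J.subschemeι ≫ π ≫ q
    rw [hsR]
    have h1 := congrArg (· ≫ Spec.map (CommRingCat.ofHom g)) hφs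
    simp only [Category.assoc] at h1
    simp only [Φ, φ', Category.assoc]
    rw [h1, hbase, ← Category.assoc (eqToHom _) _ _, hι hJ'.symm]
    rw [← hψ]
    simp [b', morphismRestrict_ι_assoc]
    rfl
  obtain ⟨r⟩ := nonempty_restrict_ideal hπ O
  let ec : pb J.subschemeι (ClSub.idealMod J) ≅ pb Φ (Twist.twistProjSpace 1 R 1) := by
    refine ((Scheme.Modules.pullbackCongr hψ).app _).symm ≪≫ ((Scheme.Modules.pullbackComp ψ (J'.subschemeι ≫ O.ι)).app _).symm ≪≫
      (Scheme.Modules.pullback ψ).mapIso ?_ ≪≫ (Scheme.Modules.pullbackComp ψ φ').app _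
    refine ((Scheme.Modules.pullbackComp J'.subschemeι O.ι).app _).symm ≪≫ (Scheme.Modules.pullback J'.subschemeι).mapIso r ≪≫ ?_
    refine ?_ ≪≫ (Scheme.Modules.pullbackComp _ φ).app _
    have aux : ∀ {A B : (O : Scheme.{u}).IdealSheafData} (h : A = B), pb A.subschemeι (ClSub.idealMod A) ≅
        pb (eqToHom (congrArg Scheme.IdealSheafData.subscheme h)) (pb B.subschemeι (ClSub.idealMod B)) := fun h => by
      cases h; exact ((Scheme.Modules.pullbackId _).app _).symm
    exact aux hJ'.symm ≪≫ (Scheme.Modules.pullback _).mapIso eφ.symm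
  haveI : IsProper (CohB1.ProjSpace 1 R ↘ Spec (CommRingCat.of k)) := by
    haveI := StratLib.isProper_toSpec 1 R
    haveI : IsFinite (specStr (k := k) R) := by
      rw [IsFinite.SpecMap_iff]; exact RingHom.finite_algebraMap.2 inferInstance
    exact inferInstanceAs (IsProper (CohB1.ProjSpace.toSpec 1 R ≫ specStr (k := k) R))
  haveI : IsProper (J.subscheme ↘ Spec (CommRingCat.of k)) := by rw [← hΦ]; infer_instance
  have hE : ∀ n : ℤ, Curv2.euler k J.subscheme (pb Φ (Twist.twistProjSpace 1 R n)) =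
      (Module.finrank k (X.residueField P) : ℤ) * (n + 1) := fun n => by
    haveI : Coh.IsQCoh (Twist.twistProjSpace 1 R n) :=
      FinLFAnn.isQCoh_of_isFinLocFree (AmpleDevLib.isFinLocFree_of_isInvertible (PicPnLib.twist_inv 1 R n))
    rw [BlowPtLib.euler_pb_iso Φ hΦ, euler_line_ext R n, hfin]
  refine ⟨?_, ?_, ?_⟩
  · refine le_trans (Φ.isEmbedding.isInducing.topologicalKrullDim_le) ?_
    letI : Field R := (MulEquiv.isField (Field.toIsField (X.residueField P)) e₀.toMulEquiv).toField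
    exact (GenusZeroLib.dim_projSpace (k := R) (n := 1)).le
  · obtain ⟨z⟩ := PicPnLib.twist_zero 1 R
    rw [← CurvLib.euler_congr (k := k) ((Scheme.Modules.pullback Φ).mapIso z ≪≫ KFlatLib.pullUnitIso Φ), hE]
    ring
  · rw [CurvLib.euler_congr (k := k) ec, hE]
    ring

end BlowRegLib
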