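import Groth.Agent.BlowRegLib.ExcThick
import Groth.Agent.HilbPolyLib.Twist

/-!
# Cohomology of `O(D)|_D` for a positive combination of exceptional lines
-/

set_option autoImplicit false
set_option linter.style.haveILetI false
set_option linter.unusedSectionVars false
set_option maxHeartbeats 1000000
set_option backward.isDefEq.respectTransparency false
set_option backward.isDefEq.respectTransparency.types false

universe u

open CategoryTheory CategoryTheory.Limits AlgebraicGeometry TopologicalSpace Opposite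
open HilbPolyLib (congrLeft congrRight assocIso swapIso unitLeft)
open KFlatLib (pb)
open CohB1 (tensorMod tensorPow)
open ClSub (idealMod quotMod)

noncomputable section

namespace BlowRegLib

theorem two_mul_choose_two' (n : ℕ) : 2 * (n.choose 2 : ℤ) = (n : ℤ) * ((n : ℤ) - 1) := by
  induction n with
  | zero => simp
  | succ n ih =>
    rw [Nat.choose_succ_succ', Nat.choose_one_right]
    push_cast
    linarith

variable {k : Type u} [Field k] [IsAlgClosed k] {X : Scheme.{u}} [X.Over (Spec (CommRingCat.of k))]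
  [IsProper (X ↘ Spec (CommRingCat.of k))]

variable {s : ℕ} (J : Fin s → X.IdealSheafData) (hJ : ∀ i, BlowUp.IsEffCartierIdeal (J i))
  (hdis : ∀ i j, i ≠ j → ∀ x, x ∈ (J i).support → x ∉ (J j).support)
  (φ : ∀ i, (J i).subscheme ⟶ CohB1.ProjSpace 1 k) [∀ i, IsIso (φ i)]
  (hφk : ∀ i, φ i ≫ CohB1.ProjSpace.toSpec 1 k = (J i).subschemeι ≫ (X ↘ Spec (CommRingCat.of k)))
  (eφ : ∀ i, Nonempty (pb (φ i) (Twist.twistProjSpace 1 k 1) ≅ pb (J i).subschemeι (idealMod (J i))))

include hφk in
/-- The Euler characteristic of a twist on a line. -/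
theorem euler_pb_line (i : Fin s) (d : ℤ) [(J i).subscheme.Over (Spec (CommRingCat.of k))]
    (h : (J i).subschemeι ≫ (X ↘ Spec (CommRingCat.of k)) = (J i).subscheme ↘ Spec (CommRingCat.of k)) :
    Curv2.euler k (J i).subscheme (pb (φ i) (Twist.twistProjSpace 1 k d)) = d + 1 := by
  haveI : IsProper ((J i).subscheme ↘ Spec (CommRingCat.of k)) := h ▸ inferInstance
  letI : (CohB1.ProjSpace 1 k).Over (Spec (CommRingCat.of k)) := ⟨CohB1.ProjSpace.toSpec 1 k⟩
  haveI : Coh.IsQCoh (Twist.twistProjSpace 1 k d) :=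
    FinLFAnn.isQCoh_of_isFinLocFree (AmpleDevLib.isFinLocFree_of_isInvertible (PicPnLib.twist_inv 1 k d))
  rw [BlowPtLib.euler_pb_iso (φ i) ((hφk i).trans h) (Twist.twistProjSpace 1 k d), BlowPtLib.euler_twist_line rfl]

include hφk in
/-- The Euler characteristic on one line. -/
theorem euler_line {M : X.Modules} (hM : PicF.IsInvertible M) {i : Fin s} {d : ℤ} (h : HasDeg J φ i M d) :
    Curv2.euler k X (tensorMod M (quotMod (J i))) = d + 1 := by
  haveI := CurvLib.isNoetherian k (X := X)
  letI : (J i).subscheme.Over (Spec (CommRingCat.of k)) := ⟨(J i).subschemeι ≫ (X ↘ Spec (CommRingCat.of k))⟩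
  haveI : Coh.IsQCoh (pb (J i).subschemeι M) :=
    FinLFAnn.isQCoh_of_isFinLocFree (AmpleDevLib.isFinLocFree_of_isInvertible (AmpleDevLib.isInvertible_pb _ hM))
  obtain ⟨p⟩ := SurfAmpleLib.nonempty_quot_push k M hM (J i)
  rw [← CurvLib.euler_congr (k := k) p, ← (PushLinLib.euler_push k (J i).subschemeι rfl _).2,
    CurvLib.euler_congr (k := k) h.some]
  exact euler_pb_line J φ hφk i d rfl

include hφk in
/-- Degrees are unique. -/
theorem hasDeg_unique {M : X.Modules} (hM : PicF.IsInvertible M) {i : Fin s} {d d' : ℤ} (h : HasDeg J φ i M d)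
    (h' : HasDeg J φ i M d') : d = d' := by
  have e := (euler_line J φ hφk hM h).symm.trans (euler_line J φ hφk hM h')
  omega

/-- Euler characteristics in the thickening sequence. -/
theorem euler_thick {M : X.Modules} (hM : PicF.IsInvertible M) {A B : X.IdealSheafData}
    (hA : BlowUp.IsEffCartierIdeal A) (hB : BlowUp.IsEffCartierIdeal B) :
    Curv2.euler k X (tensorMod M (quotMod (A * B))) =
      Curv2.euler k X (tensorMod (tensorMod M (idealMod A)) (quotMod B)) +
        Curv2.euler k X (tensorMod M (quotMod A)) := by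
  haveI := CurvLib.isNoetherian k (X := X)
  obtain ⟨S, hS, ⟨e₁⟩, ⟨e₂⟩, ⟨e₃⟩⟩ := exists_thick_seq (k := k) hM hA hB
  rw [← CurvLib.euler_congr (k := k) e₁, ← CurvLib.euler_congr (k := k) e₂, ← CurvLib.euler_congr (k := k) e₃]
  exact CurvLib.euler_add_of_isCoh (k := k) hS
    (QCohLib.isCoh_of_iso e₁.symm
      (isCoh_thick (k := k) (HilbPolyLib.isInvertible_tensor hM (IntMultLib.isInvertible_idealMod A hA)) B))
    (QCohLib.isCoh_of_iso e₂.symm (isCoh_thick (k := k) hM _))
    (QCohLib.isCoh_of_iso e₃.symm (isCoh_thick (k := k) hM _))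

include hJ hdis eφ hφk in
/-- Euler characteristics on the thickenings of one line. -/
theorem euler_thick_line {M : X.Modules} (hM : PicF.IsInvertible M) {i : Fin s} {d : ℤ} (h : HasDeg J φ i M d) :
    ∀ m : ℕ, Curv2.euler k X (tensorMod M (quotMod (J i ^ m))) = m * (d + 1) + (m.choose 2 : ℤ)
  | 0 => by
    rw [pow_zero, CurvLib.euler_eq_sum (k := k) (d := 0) fun q _ => sub_zero_mod (isZero_thick_one (k := k) hM) q]
    simp
  | m + 1 => by
    rw [pow_succ, euler_thick (k := k) hM (SurfAmpleLib.isEffCartier_pow' (hJ i) m) (hJ i),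
      euler_thick_line hM h m]
    have hd' := hasDeg_tensor J φ h (hasDeg_idealMod_prodPow J hJ hdis φ eφ i {i} (Finset.mem_singleton_self i) m)
    rw [Finset.prod_singleton] at hd'
    rw [euler_line J φ hφk (HilbPolyLib.isInvertible_tensor hM
      (IntMultLib.isInvertible_idealMod _ (SurfAmpleLib.isEffCartier_pow' (hJ i) m))) hd',
      Nat.choose_succ_succ', Nat.choose_one_right]
    push_cast
    ring

variable (b : Fin s → ℕ)

include hdis in
/-- A product of powers of other lines is trivial on a thickened line. -/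
theorem notMem_prod_pow (T : Finset (Fin s)) {i : Fin s} (hi : i ∉ T) (x : X) (hx : x ∈ (J i).support) :
    x ∉ (∏ j ∈ T, J j ^ b j).support := fun h => by
  obtain ⟨j, hj, hxj⟩ := (SurfAmpleLib.mem_support_finprod _ _ x).1 h
  rcases Nat.eq_zero_or_pos (b j) with hb | hb
  · rw [hb, pow_zero, Scheme.IdealSheafData.one_eq_top, Scheme.IdealSheafData.support_top] at hxj
    exact hxj
  rw [Scheme.IdealSheafData.support_pow _ _ hb.ne'] at hxj
  exact hdis i j (fun e => hi (e ▸ hj)) x hx hxj

include hJ in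
theorem isEffCartier_prod_pow (T : Finset (Fin s)) : BlowUp.IsEffCartierIdeal (∏ j ∈ T, J j ^ b j) :=
  SurfAmpleLib.isEffCartier_finprod T fun j _ => SurfAmpleLib.isEffCartier_pow' (hJ j) (b j)

include k hJ hdis in
/-- A product of powers of other lines does not change a thickened line. -/
theorem nonempty_thick_prod_pow {M : X.Modules} (hM : PicF.IsInvertible M) (T : Finset (Fin s)) {i : Fin s}
    (hi : i ∉ T) : Nonempty (tensorMod (tensorMod M (idealMod (J i ^ b i))) (quotMod (∏ j ∈ T, J j ^ b j)) ≅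
      tensorMod M (quotMod (∏ j ∈ T, J j ^ b j))) := by
  have hI := SurfAmpleLib.isEffCartier_pow' (hJ i) (b i)
  obtain ⟨t⟩ := BlowPtLib.nonempty_pb_ideal_trivial (∏ j ∈ T, J j ^ b j).subschemeι (J i ^ b i)
    (IntMultLib.isInvertible_idealMod _ hI) fun z hz => by
      rcases Nat.eq_zero_or_pos (b i) with hb | hb
      · rw [hb, pow_zero, Scheme.IdealSheafData.one_eq_top, Scheme.IdealSheafData.support_top] at hz
        exact hz
      rw [Scheme.IdealSheafData.support_pow _ _ hb.ne'] at hz
      exact notMem_prod_pow J hdis b T hi _ hz ((Scheme.IdealSheafData.range_subschemeι _).subset ⟨z, rfl⟩)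
  obtain ⟨p⟩ := BlowPtLib.nonempty_pb_tensor (∏ j ∈ T, J j ^ b j).subschemeι M (idealMod (J i ^ b i))
  exact nonempty_thick_congr (k := k) (HilbPolyLib.isInvertible_tensor hM (IntMultLib.isInvertible_idealMod _ hI)) hM _
    ⟨p ≪≫ congrRight _ t ≪≫ swapIso _ _ ≪≫ unitLeft _⟩

include hJ hdis eφ hφk in
/-- **Cohomology of `L|_D` when `L` has degree `-b_i` on the lines.** -/
theorem thick_mult {L : X.Modules} (hL : PicF.IsInvertible L) (hd : ∀ i, HasDeg J φ i L (-(b i : ℤ)))
    (T : Finset (Fin s)) :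
    (∀ q : ℕ, q = 0 ∨ 2 ≤ q → Subsingleton (Coh.HH X (tensorMod L (quotMod (∏ i ∈ T, J i ^ b i))) q)) ∧
      Curv2.euler k X (tensorMod L (quotMod (∏ i ∈ T, J i ^ b i))) = -∑ i ∈ T, ((b i).choose 2 : ℤ) := by
  induction T using Finset.induction_on with
  | empty =>
    rw [Finset.prod_empty]
    refine ⟨fun q _ => sub_zero_mod (isZero_thick_one (k := k) hL) q, ?_⟩
    rw [CurvLib.euler_eq_sum (k := k) (d := 0) fun q _ => sub_zero_mod (isZero_thick_one (k := k) hL) q]
    simp
  | insert a T ha ih =>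
    rw [Finset.prod_insert ha, Finset.sum_insert ha]
    have hA := SurfAmpleLib.isEffCartier_pow' (hJ a) (b a)
    have hB := isEffCartier_prod_pow J hJ b T
    obtain ⟨t⟩ := nonempty_thick_prod_pow (k := k) J hJ hdis b hL T ha
    refine ⟨fun q hq => ?_, ?_⟩
    · obtain ⟨S, hS, ⟨e₁⟩, ⟨e₂⟩, ⟨e₃⟩⟩ := exists_thick_seq (k := k) hL hA hB
      have h3 := sub_thick J hJ hdis φ eφ q {a} (b a) hL fun i hi => by
        rw [Finset.mem_singleton] at hi
        subst hi
        exact ⟨_, hd i, fun j hj => by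
          rcases hq with rfl | hq
          · exact Or.inl ⟨rfl, by omega⟩
          · exact Or.inr (Or.inr hq)⟩
      rw [Finset.prod_singleton] at h3
      exact HdgLefLib.sub_iso e₂ q (HdgLefLib.sub₂ hS
        (HdgLefLib.sub_iso (e₁ ≪≫ t).symm q (ih.1 q hq)) (HdgLefLib.sub_iso e₃.symm q h3))
    · rw [euler_thick (k := k) hL hA hB, CurvLib.euler_congr (k := k) t, ih.2,
        euler_thick_line J hJ hdis φ hφk eφ hL (hd a)]
      linarith [two_mul_choose_two' (b a)]

include hJ hdis eφ hφk in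
/-- The first cohomology of `L|_D`. -/
theorem finrank_h1_thick_mult {L : X.Modules} (hL : PicF.IsInvertible L) (hd : ∀ i, HasDeg J φ i L (-(b i : ℤ))) :
    Module.finrank k (Coh.HH X (tensorMod L (quotMod (∏ i, J i ^ b i))) 1) = ∑ i, (b i).choose 2 := by
  obtain ⟨hv, he⟩ := thick_mult J hJ hdis φ hφk eφ b hL hd Finset.univ
  rw [CurvLib.euler_eq_sum (k := k) (d := 2) fun q hq => hv q (Or.inr hq)] at he
  haveI := hv 0 (Or.inl rfl)
  rw [Finset.sum_range_succ, Finset.sum_range_succ, Finset.sum_range_zero,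
    Module.finrank_zero_of_subsingleton (M := Coh.HH X (tensorMod L (quotMod (∏ i, J i ^ b i))) 0)] at he
  rw [← Int.natCast_inj, Nat.cast_sum]
  norm_num at he
  linarith

variable (Li : Fin s → X.Modules)

include hJ in
/-- The twist is inverse to the ideal of the divisor. -/
theorem nonempty_multiTwist_inverse (hLi : ∀ i, ClSub.IsInverseOf (Li i) (idealMod (J i))) :
    Nonempty (tensorMod (FGA.multiTwist Li b) (idealMod (∏ i, J i ^ b i)) ≅ Coh.structureModule X) := by
  have hpow : ∀ (i : Fin s) (m : ℕ),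
      Nonempty (tensorMod (tensorPow (Li i) m) (idealMod (J i ^ m)) ≅ Coh.structureModule X) := by
    intro i m
    induction m with
    | zero =>
      rw [pow_zero, Scheme.IdealSheafData.one_eq_top]
      obtain ⟨e⟩ := BlowPtLib.nonempty_idealMod_top X
      exact ⟨congrRight _ e ≪≫ unitLeft _⟩
    | succ m ih =>
      obtain ⟨e⟩ := ih
      obtain ⟨e'⟩ := hLi i
      obtain ⟨f, -⟩ := SurfNumLib.exists_idealMod_mul (SurfAmpleLib.isEffCartier_pow' (hJ i) m) (hJ i)
      rw [← pow_succ] at f
      exact ⟨congrRight _ f.symm ≪≫ assocIso _ _ _ ≪≫ congrRight _ ((assocIso _ _ _).symm ≪≫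
        congrLeft (swapIso _ _) _ ≪≫ assocIso _ _ _) ≪≫ (assocIso _ _ _).symm ≪≫
        congrLeft e _ ≪≫ unitLeft _ ≪≫ e'⟩
  have hlist : ∀ l : List (Fin s),
      BlowUp.IsEffCartierIdeal ((l.map fun i => J i ^ b i).prod) ∧
      Nonempty (tensorMod (FGA.tensorList (l.map fun i => tensorPow (Li i) (b i)))
        (idealMod ((l.map fun i => J i ^ b i).prod)) ≅ Coh.structureModule X) := by
    intro l
    induction l with
    | nil =>
      simp only [List.map_nil, List.prod_nil, FGA.tensorList]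
      refine ⟨SurfAmpleLib.isEffCartier_one, ?_⟩
      rw [Scheme.IdealSheafData.one_eq_top]
      obtain ⟨e⟩ := BlowPtLib.nonempty_idealMod_top X
      exact ⟨congrRight _ e ≪≫ unitLeft _⟩
    | cons a l ih =>
      obtain ⟨hc, ⟨e⟩⟩ := ih
      obtain ⟨e'⟩ := hpow a (b a)
      simp only [List.map_cons, List.prod_cons, FGA.tensorList]
      have ha := SurfAmpleLib.isEffCartier_pow' (hJ a) (b a)
      refine ⟨AlgSpRegLib.isEffCartier_mul ha hc, ?_⟩
      obtain ⟨f, -⟩ := SurfNumLib.exists_idealMod_mul ha hc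
      exact ⟨congrRight _ f.symm ≪≫ assocIso _ _ _ ≪≫ congrRight _ ((assocIso _ _ _).symm ≪≫
        congrLeft (swapIso _ _) _ ≪≫ assocIso _ _ _) ≪≫ (assocIso _ _ _).symm ≪≫
        congrLeft e' _ ≪≫ unitLeft _ ≪≫ e⟩
  have hh := (hlist (List.finRange s)).2
  rw [show ((List.finRange s).map fun i => J i ^ b i).prod = ∏ i, J i ^ b i from
    (Fin.prod_univ_def _).symm] at hh
  exact hh

end BlowRegLib
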