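import Mathlib.Algebra.Homology.DerivedCategory.Ext.ExactSequences
import Groth.Agent.ModSiteLib.Grothendieck
import Mathlib.Algebra.Homology.DerivedCategory.Ext.EnoughInjectives
import Mathlib.CategoryTheory.Limits.Shapes.Pullback.IsPullback.Basic

/-!
# Every class in `Ext¹` is the class of an extension
-/

set_option autoImplicit false
universe w v u

open CategoryTheory CategoryTheory.Limits

noncomputable section

namespace BlowRegLib

theorem exists_extension {C : Type u} [Category.{v} C] [Abelian C] [EnoughInjectives C] [HasExt.{w} C]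
    {A B : C} (e : Abelian.Ext A B 1) :
    ∃ (F : C) (i : B ⟶ F) (p : F ⟶ A) (hip : i ≫ p = 0) (hS : (ShortComplex.mk i p hip).ShortExact),
      hS.extClass = e := by
  obtain ⟨P⟩ := EnoughInjectives.presentation B
  let f := P.f
  let T : ShortComplex C := ShortComplex.mk f (cokernel.π f) (cokernel.condition f)
  have hT : T.ShortExact :=
    { exact := ShortComplex.exact_cokernel f
      mono_f := inferInstanceAs (Mono f)
      epi_g := inferInstanceAs (Epi (cokernel.π f)) }
  obtain ⟨g₀, hg₀⟩ := Abelian.Ext.covariant_sequence_exact₁ A hT e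
    (Abelian.Ext.eq_zero_of_injective _) (zero_add 1)
  obtain ⟨g, rfl⟩ : ∃ g : A ⟶ T.X₃, Abelian.Ext.mk₀ g = g₀ :=
    (Abelian.Ext.mk₀_bijective A T.X₃).2 g₀
  let i : B ⟶ pullback (cokernel.π f) g := pullback.lift f 0 (by rw [cokernel.condition, zero_comp])
  let p := pullback.snd (cokernel.π f) g
  have hip : i ≫ p = 0 := pullback.lift_snd _ _ _
  have hmono : Mono i := mono_of_mono_fac (show i ≫ pullback.fst _ _ = f from pullback.lift_fst _ _ _)
  haveI : Epi p := inferInstanceAs (Epi (pullback.snd (cokernel.π f) g))
  have hker : IsLimit (KernelFork.ofι i hip) := by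
    refine KernelFork.IsLimit.ofι' i hip fun {W} x hx => ?_
    have h0 : (x ≫ pullback.fst _ _) ≫ cokernel.π f = 0 := by
      rw [Category.assoc, pullback.condition, reassoc_of% hx, zero_comp]
    refine ⟨hT.exact.lift (x ≫ pullback.fst _ _) h0, ?_⟩
    apply pullback.hom_ext
    · rw [Category.assoc]
      refine (congrArg _ (pullback.lift_fst _ _ _)).trans ?_
      exact hT.exact.lift_f _ _
    · rw [Category.assoc]
      refine (congrArg _ (pullback.lift_snd _ _ _)).trans ?_
      rw [comp_zero]
      exact hx.symm
  have hS : (ShortComplex.mk i p hip).ShortExact :=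
    { exact := ShortComplex.exact_of_f_is_kernel _ hker
      mono_f := hmono
      epi_g := inferInstanceAs (Epi p) }
  refine ⟨_, i, p, hip, hS, ?_⟩
  let φ : ShortComplex.mk i p hip ⟶ T :=
    { τ₁ := 𝟙 B
      τ₂ := pullback.fst (cokernel.π f) g
      τ₃ := g
      comm₁₂ := (Category.id_comp _).trans (pullback.lift_fst _ _ _).symm
      comm₂₃ := pullback.condition }
  rw [← hg₀, ← ShortComplex.ShortExact.extClass_naturality hS hT φ]
  exact (Abelian.Ext.comp_mk₀_id _).symm

end BlowRegLib
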