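import Groth.Agent.S2422
import Groth.Agent.DevissLib.ClosedImm
import Groth.Agent.IntMultLib.Cartier
import Mathlib.AlgebraicGeometry.Morphisms.ClosedImmersion
import Mathlib.AlgebraicGeometry.IdealSheaf.Functorial

/-!
Relatively generated exceptional ideals lie in the inverse image of the point.
-/

set_option autoImplicit false
set_option linter.style.haveILetI false

noncomputable section

universe u

open CategoryTheory CategoryTheory.Limits AlgebraicGeometry TopologicalSpace

namespace BlowRegLib

variable {X Y : Scheme.{u}}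

theorem exists_over' (f : Y ⟶ X) (U : X.Opens) [IsIso (f ∣_ U)] {x : X} (hx : x ∈ U) :
    ∃ a, f a = x := by
  obtain ⟨a, ha⟩ := (f ∣_ U).homeomorph.surjective ⟨x, hx⟩
  exact ⟨a.1, (morphismRestrict_base_coe f U a).symm.trans (congrArg Subtype.val ha)⟩

theorem isIso_stalkMap_of_restrict' (f : Y ⟶ X) (U : X.Opens) [IsIso (f ∣_ U)] {a : Y}
    (ha : a ∈ f ⁻¹ᵁ U) : IsIso (f.stalkMap a) :=
  ((MorphismProperty.isomorphisms _).arrow_mk_iso_iff (morphismRestrictStalkMap f U ⟨a, ha⟩)).mp
    (LocallyRingedSpace.IsOpenImmersion.stalk_iso (f ∣_ U).toLRSHom ⟨a, ha⟩)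

/-- A proper birational morphism to a normal scheme has `f_* O = O`. -/
theorem isIso_app_of_birational [IsIntegral X] [IsIntegral Y] [IsLocallyNoetherian X] [IsLocallyNoetherian Y]
    (hX : Pi1.IsNormalScheme X) (f : Y ⟶ X) [IsProper f] (U : X.Opens) [IsIso (f ∣_ U)]
    (hgen : genericPoint X ∈ U) : ∀ V : X.Opens, IsIso (f.app V) := by
  obtain ⟨a, ha⟩ := exists_over' f U hgen
  have hS : f (genericPoint Y) ∈ U :=
    ((genericPoint_spec Y).mem_open_set_iff (f ⁻¹ᵁ U).2).mpr ⟨a, trivial, show f a ∈ U from ha ▸ hgen⟩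
  have hdom : f.base (genericPoint Y) ⤳ genericPoint X := by
    rw [← ha]
    exact ((genericPoint_spec Y).specializes trivial).map f.continuous
  have hη : f (genericPoint Y) = genericPoint X :=
    (hdom.antisymm ((genericPoint_spec X).specializes trivial)).eq
  have hsur : Function.Surjective (CohIII.stalkToFunctionField f (genericPoint X) hdom) := by
    haveI := isIso_stalkMap_of_restrict' f U (show genericPoint Y ∈ f ⁻¹ᵁ U from hS)
    refine (ConcreteCategory.bijective_of_isIso (f.stalkMap (genericPoint Y))).2.comp ?_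
    haveI : IsIso (X.presheaf.stalkSpecializes hdom) := by
      have aux : ∀ (p : X) (e : f (genericPoint Y) = p) (h : f.base (genericPoint Y) ⤳ p),
          IsIso (X.presheaf.stalkSpecializes h) := by
        rintro p rfl h
        rw [TopCat.Presheaf.stalkSpecializes_refl]
        infer_instance
      exact aux _ hη hdom
    exact (ConcreteCategory.bijective_of_isIso (X.presheaf.stalkSpecializes hdom)).2
  exact Groth.Agent.S2422.result hX f hdom (fun x _ => hsur x)

theorem le_comap_point (f : Y ⟶ X) (P : X) (hPc : IsClosed ({P} : Set X)) (V : Y.IdealSheafData)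
    (hPV : P ∈ f.base '' (V.support : Set Y)) (happ : ∀ U : X.Opens, IsIso (f.app U))
    (hfree : Epi ((Scheme.Modules.pullbackPushforwardAdjunction f).counit.app (ClSub.idealMod V))) :
    V ≤ (Scheme.IdealSheafData.vanishingIdeal ⟨{P}, hPc⟩).comap f := by
  let P₀ := Scheme.IdealSheafData.vanishingIdeal (⟨{P}, hPc⟩ : Closeds X)
  let J := P₀.comap f
  haveI : IsReduced P₀.subscheme := DevissLib.isReduced_vanishingIdeal' _
  let φ : ClSub.idealMod V ⟶ ClSub.quotMod J := ClSub.idealModι V ≫ ClSub.toSubscheme J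
  have key : (Scheme.Modules.pushforward f).map φ = 0 := by
    apply Scheme.Modules.hom_ext
    intro U
    refine ConcreteCategory.hom_ext _ _ fun s => ?_
    let g : Γ(Y, f ⁻¹ᵁ U) := (ClSub.idealModι V).app (f ⁻¹ᵁ U) s
    have hg : V.subschemeι.app (f ⁻¹ᵁ U) g = 0 :=
      ConcreteCategory.congr_hom (congrArg (fun ψ : ClSub.idealMod V ⟶ ClSub.quotMod V => ψ.app (f ⁻¹ᵁ U))
        (kernel.condition (ClSub.toSubscheme V))) s
    obtain ⟨a, ha⟩ := (ConcreteCategory.bijective_of_isIso (f.app U)).2 g
    have ha0 : P ∉ X.basicOpen a := fun hP => by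
      obtain ⟨y, hy, hyP⟩ := hPV
      obtain ⟨z, rfl⟩ : y ∈ Set.range V.subschemeι := by rw [Scheme.IdealSheafData.range_subschemeι]; exact hy
      have h1 : V.subschemeι z ∈ Y.basicOpen g := by
        rw [← ha, ← Scheme.preimage_basicOpen]
        show f (V.subschemeι z) ∈ X.basicOpen a
        rwa [show f (V.subschemeι z) = P from hyP]
      have h2 : z ∈ V.subscheme.basicOpen (V.subschemeι.app _ g) := by
        rw [← Scheme.preimage_basicOpen]; exact h1
      rw [hg, Scheme.basicOpen_zero] at h2
      exact h2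
    have hp : P₀.subschemeι.app U a = 0 := eq_zero_of_basicOpen_eq_bot _ (by
      rw [← Scheme.preimage_basicOpen, eq_bot_iff]
      intro z hz
      have hz' : P₀.subschemeι z ∈ (P₀.support : Set X) := by
        rw [← Scheme.IdealSheafData.range_subschemeι]; exact ⟨z, rfl⟩
      rw [Scheme.IdealSheafData.coe_support_vanishingIdeal] at hz'
      exact absurd (show P ∈ X.basicOpen a from
        (Set.mem_singleton_iff.1 hz') ▸ (show P₀.subschemeι z ∈ X.basicOpen a from hz)) ha0)
    show J.subschemeι.app (f ⁻¹ᵁ U) g = 0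
    have h := Scheme.Hom.congr_app
      (Scheme.IdealSheafData.subschemeMap_subschemeι J P₀ f (P₀.le_map_comap f)).symm U
    rw [← ha]
    have h3 := ConcreteCategory.congr_hom h a
    rw [Scheme.Hom.comp_app, Scheme.Hom.comp_app] at h3
    refine Eq.trans h3 ?_
    show (J.subscheme.presheaf.map _) ((Scheme.IdealSheafData.subschemeMap J P₀ f (P₀.le_map_comap f)).app _ (P₀.subschemeι.app U a)) = 0
    rw [hp, map_zero, map_zero]
  have hφ : φ = 0 := by
    haveI := hfree
    have hn := (Scheme.Modules.pullbackPushforwardAdjunction f).counit.naturality φ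
    simp only [Functor.comp_map, Functor.id_map, key, Functor.map_zero, zero_comp] at hn
    exact (cancel_epi _).1 (hn.symm.trans comp_zero.symm)
  refine Scheme.IdealSheafData.le_def.mpr fun W x hx => ?_
  obtain ⟨σ, hσ⟩ := IntMultLib.exists_section V W hx
  refine (IntMultLib.toSubscheme_app_eq_zero_iff J W x).mp ?_
  rw [← hσ]
  exact ConcreteCategory.congr_hom (congrArg (fun ψ : ClSub.idealMod V ⟶ ClSub.quotMod J => ψ.app W.1) hφ) σ

end BlowRegLib
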