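import Groth.Prelude.Def_Neron
import Groth.Prelude.Def_Coh
import Groth.Agent.H0Lib.Apply
import Groth.Agent.MiscFlat6.ProperSections
import Groth.Agent.ChowLib.Embed
import Mathlib.AlgebraicGeometry.Morphisms.UniversallyOpen
import Mathlib.AlgebraicGeometry.Geometrically.Integral
import Mathlib.RingTheory.IntegralClosure.IntegrallyClosed

/-! # Global functions of a fibred surface -/

set_option autoImplicit false
set_option linter.style.haveILetI false
universe u

open CategoryTheory CategoryTheory.Limits AlgebraicGeometry TopologicalSpace Opposite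

noncomputable section

namespace BlowRegLib.FibSurfFun

theorem appTop_injective_of_denseRange {Y X : Scheme.{u}} [IsReduced X] (g : Y ⟶ X) (hd : DenseRange g) :
    Function.Injective g.appTop := by
  refine (injective_iff_map_eq_zero g.appTop.hom).2 fun c hc => ?_
  refine eq_zero_of_basicOpen_eq_bot c (eq_bot_iff.2 fun x hx => ?_)
  obtain ⟨y, hy⟩ := hd.exists_mem_open (X.basicOpen c).isOpen ⟨x, hx⟩
  have h2 : y ∈ Y.basicOpen (g.appTop.hom c) :=
    (Scheme.preimage_basicOpen_top g c).le hy
  rw [hc, Scheme.basicOpen_zero] at h2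
  exact h2.elim

theorem bijective_toGlobal_spec {K : Type u} [Field K] {Y : Scheme.{u}} (p : Y ⟶ Spec (CommRingCat.of K))
    [IsIso p.appTop] : Function.Bijective (Coh.toGlobal p) :=
  (ConcreteCategory.bijective_of_isIso p.appTop).comp
    (ConcreteCategory.bijective_of_isIso (Scheme.ΓSpecIso (CommRingCat.of K)).inv)

/-- `R = H⁰` for a proper flat integral scheme over a Dedekind domain with geometrically integral generic fibre. -/
theorem bijective_toGlobal_of_proper {R : Type u} [CommRing R] [IsDedekindDomain R]
    (X : Over (Spec (CommRingCat.of R))) [IsIntegral X.left]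
    [Flat X.hom] [IsProper X.hom]
    [GeometricallyIntegral ((Neron.genericFibre R).obj X).hom] :
    Function.Bijective (Coh.toGlobal X.hom) := by
  let K := FractionRing R
  let g := pullback.fst X.hom (Neron.genPt R)
  let p := pullback.snd X.hom (Neron.genPt R)
  haveI : GeometricallyIntegral p := ‹GeometricallyIntegral ((Neron.genericFibre R).obj X).hom›
  haveI : IsIso p.appTop :=
    H0Lib.isIso_appTop_of_isPullback
      (IsPullback.of_horiz_isIso ⟨by simp⟩ : IsPullback (𝟙 _) p p (𝟙 _))
      (H0Lib.H0Fib.of_geometricallyIntegral p K (𝟙 _))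
  have hη : X.hom (genericPoint X.left) ∈ Set.range (Neron.genPt R) := by
    obtain ⟨z, hz, hzη⟩ := Flat.generalizingMap X.hom
      ((genericPoint_spec (Spec (CommRingCat.of R))).specializes (Set.mem_univ (X.hom (genericPoint X.left))))
    have hze : z = genericPoint X.left :=
      (hz.antisymm ((genericPoint_spec X.left).specializes (Set.mem_univ z))).eq
    subst hze
    refine ⟨(⟨⊥, Ideal.bot_prime⟩ : PrimeSpectrum K), ?_⟩
    rw [hzη, genericPoint_eq_bot_of_affine]
    exact PrimeSpectrum.ext ((RingHom.injective_iff_ker_eq_bot _).1 (IsFractionRing.injective R (FractionRing R)))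
  have hd : DenseRange g := by
    rw [DenseRange, Scheme.Pullback.range_fst]
    exact Dense.mono (Set.singleton_subset_iff.2 (show genericPoint X.left ∈ X.hom ⁻¹' _ from hη))
      (dense_iff_closure_eq.2 (genericPoint_spec X.left).def)
  have hinj := appTop_injective_of_denseRange g hd
  have hK := bijective_toGlobal_spec p
  let e := RingEquiv.ofBijective (Coh.toGlobal p) hK
  let Φ : Γ(X.left, ⊤) →+* K := e.symm.toRingHom.comp g.appTop.hom
  have hΦ : Function.Injective Φ := e.symm.injective.comp hinj
  have hΦr : ∀ r : R, Φ (Coh.toGlobal X.hom r) = algebraMap R K r := by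
    intro r
    refine e.symm_apply_eq.2 ?_
    show g.appTop (X.hom.appTop ((Scheme.ΓSpecIso (CommRingCat.of R)).inv r)) =
      p.appTop ((Scheme.ΓSpecIso (CommRingCat.of K)).inv (algebraMap R K r))
    have h1 : (g ≫ X.hom).appTop = (p ≫ Neron.genPt R).appTop := by rw [pullback.condition]
    rw [Scheme.Hom.comp_appTop, Scheme.Hom.comp_appTop] at h1
    refine (congr($h1 ((Scheme.ΓSpecIso (CommRingCat.of R)).inv r))).trans ?_
    show p.appTop ((Neron.genPt R).appTop _) = _
    congr 1
    exact congr($((Scheme.ΓSpecIso_inv_naturality (CommRingCat.ofHom (algebraMap R K))).symm) r)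
  refine ⟨fun a b h => IsFractionRing.injective R K (by rw [← hΦr, ← hΦr, h]), fun c => ?_⟩
  letI : Algebra R Γ(X.left, ⊤) := (Coh.toGlobal X.hom).toAlgebra
  haveI : Module.Finite R Γ(X.left, ⊤) := MiscFlat6.toGlobal_finite X.hom
  let Φa : Γ(X.left, ⊤) →ₐ[R] K := { Φ with commutes' := hΦr }
  haveI : Algebra.IsIntegral R Γ(X.left, ⊤) := Algebra.IsIntegral.of_finite R _
  have hint : IsIntegral R (Φ c) := (Algebra.IsIntegral.isIntegral (R := R) (A := Γ(X.left, ⊤)) c).map Φa
  obtain ⟨r, hr⟩ := IsIntegrallyClosed.isIntegral_iff.1 hint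
  exact ⟨r, hΦ ((hΦr r).trans hr)⟩

/-- S7915 -/
theorem bijective_toGlobal {R : Type u} [CommRing R] [IsDedekindDomain R]
    (X : Over (Spec (CommRingCat.of R))) [IsIntegral X.left]
    [Flat X.hom] (hproj : Neron.IsProjectiveOver R X)
    [GeometricallyIrreducible ((Neron.genericFibre R).obj X).hom]
    [GeometricallyReduced ((Neron.genericFibre R).obj X).hom] :
    Function.Bijective (Coh.toGlobal X.hom) := by
  obtain ⟨n, i, hi, w⟩ := hproj
  haveI := hi
  haveI := ChowLib.isProper_toBase n (Spec (CommRingCat.of R))
  haveI : IsProper X.hom := by rw [← w]; infer_instance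
  haveI : GeometricallyIntegral ((Neron.genericFibre R).obj X).hom :=
    GeometricallyIntegral.of_geometricallyReduced_of_geometricallyIrreducible _
  exact bijective_toGlobal_of_proper X

end BlowRegLib.FibSurfFun
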