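import Groth.Agent.BlowRegLib.ExcField
import Groth.Agent.DiagTorLib.Mult
import Groth.Agent.SDivLib.Stalk

/-!
# Intersection numbers on the blow-up of a closed point over an arbitrary field
-/

set_option autoImplicit false
set_option linter.style.haveILetI false
set_option linter.unusedSectionVars false
set_option maxHeartbeats 1000000
set_option backward.isDefEq.respectTransparency false
set_option backward.isDefEq.respectTransparency.types false

universe u

open CategoryTheory CategoryTheory.Limits AlgebraicGeometry TopologicalSpace Opposite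
open KFlatLib (pb)

noncomputable section

namespace BlowRegLib

/-- The dimension of a scheme with an effective Cartier divisor of dimension one and local rings of
dimension at most two elsewhere. -/
theorem dim_le_two_of_cartier {Y : Scheme.{u}} [IsLocallyNoetherian Y] (J : Y.IdealSheafData)
    (hJ : BlowUp.IsEffCartierIdeal J) (hE : topologicalKrullDim J.subscheme ≤ 1)
    (hoff : ∀ y : Y, y ∉ J.support → ringKrullDim (Y.presheaf.stalk y) ≤ 2) : topologicalKrullDim Y ≤ (2 : ℕ) := by
  refine SquareLib.topologicalKrullDim_le_of_stalks fun y => ?_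
  by_cases hy : y ∈ J.support
  · obtain ⟨z, rfl⟩ : y ∈ Set.range J.subschemeι := by
      rw [Scheme.IdealSheafData.range_subschemeι]; exact hy
    obtain ⟨U, hyU, f, -, hf⟩ := hJ (J.subschemeι z)
    have hk : RingHom.ker (J.subschemeι.stalkMap z).hom =
        Ideal.span {(Y.presheaf.germ U.1 _ hyU).hom f} := by
      rw [← DiagTorLib.stalkIdeal_ker J.subschemeι z, J.ker_subschemeι, SDivLib.stalkIdeal_eq _ U hyU, hf,
        Ideal.map_span, Set.image_singleton]
    let t := (Y.presheaf.germ U.1 _ hyU).hom f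
    haveI : IsNoetherianRing (Y.presheaf.stalk (J.subschemeι z)) := inferInstance
    have hq : ringKrullDim (Y.presheaf.stalk (J.subschemeι z) ⧸ Ideal.span ({t} : Set _)) ≤ 1 := by
      rw [ringKrullDim_eq_of_ringEquiv ((Ideal.quotEquivOfEq hk.symm).trans
        (RingHom.quotientKerEquivOfSurjective (J.subschemeι.stalkMap_surjective z)))]
      exact (MiscFlat6.ringKrullDim_stalk_le J.subscheme z).trans hE
    have ht : t ∈ IsLocalRing.maximalIdeal (Y.presheaf.stalk (J.subschemeι z)) := by
      refine (IsLocalRing.le_maximalIdeal ?_) (hk.ge (Ideal.mem_span_singleton_self t))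
      exact RingHom.ker_ne_top _
    have h := ringKrullDim_le_ringKrullDim_quotient_add_card ({t} : Finset _)
      (by rw [IsLocalRing.ringJacobson_eq_maximalIdeal]; simpa using ht)
    rw [Finset.coe_singleton, Finset.card_singleton] at h
    refine h.trans ((add_le_add hq le_rfl).trans ?_)
    norm_num
  · exact (hoff y hy).trans (by norm_num)

variable {k : Type u} [Field k] {X X' : Scheme.{u}} {π : X' ⟶ X} [X.Over (Spec (CommRingCat.of k))]
  [IsProper (X ↘ Spec (CommRingCat.of k))] [X'.Over (Spec (CommRingCat.of k))]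

/-- **Intersection numbers on the blow-up of a closed point of a surface over any field.** -/
theorem intersection_rules_field [IsLocallyNoetherian X]
    (hπk : π ≫ (X ↘ Spec (CommRingCat.of k)) = X' ↘ Spec (CommRingCat.of k))
    (hX : topologicalKrullDim X ≤ (2 : ℕ)) (P : X) (hP : IsClosed ({P} : Set X))
    [IsRegularLocalRing (X.presheaf.stalk P)] (hd : ringKrullDim (X.presheaf.stalk P) = (2 : ℕ))
    (hπ : BlowUp.IsBlowUp π (Scheme.IdealSheafData.vanishingIdeal ⟨{P}, hP⟩))
    {L M : X.Modules} (hL : PicF.IsInvertible L) (hM : PicF.IsInvertible M) :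
    letI : Algebra k (X.residueField P) := Curv2.resAlgebra k X P
    topologicalKrullDim X' ≤ (2 : ℕ) ∧
    HodgeIdxLib.pr k (pb π L) (pb π M) = HodgeIdxLib.pr k L M ∧
      HodgeIdxLib.pr k (pb π L)
        (ClSub.idealMod (BlowUp.exceptional π (Scheme.IdealSheafData.vanishingIdeal ⟨{P}, hP⟩))) = 0 ∧
      HodgeIdxLib.pr k (ClSub.idealMod (BlowUp.exceptional π (Scheme.IdealSheafData.vanishingIdeal ⟨{P}, hP⟩)))
        (ClSub.idealMod (BlowUp.exceptional π (Scheme.IdealSheafData.vanishingIdeal ⟨{P}, hP⟩))) =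
          -(Module.finrank k (X.residueField P) : ℤ) := by
  obtain ⟨U, hPU, a, hnr, ha⟩ := exists_point_chart P hP 2 hd
  let 𝓙 := Scheme.IdealSheafData.vanishingIdeal (⟨{P}, hP⟩ : Closeds X)
  have hreg : LocReg 𝓙 1 := fun y => by
    by_cases hy : y = P
    · exact ⟨U, hy ▸ hPU, 2, a, one_le_two, hnr, ha⟩
    · obtain ⟨V, hV, hyV, hVs⟩ := exists_isAffineOpen_mem_and_subset (x := y)
        (U := ⟨({P} : Set X)ᶜ, hP.isOpen_compl⟩) hy
      refine ⟨⟨V, hV⟩, hyV, 1, fun _ => 1, le_rfl, nr_one, ?_⟩
      rw [BlowPtLib.vanishingIdeal_eq_top _ ⟨V, hV⟩ fun x hx h => hVs hx h, Set.range_const, Ideal.span_singleton_one]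
  haveI := isProper_b hπ
  haveI : IsProper (X' ↘ Spec (CommRingCat.of k)) := by rw [← hπk]; infer_instance
  haveI := CurvLib.isNoetherian k (X := X')
  let J := 𝓙.comap π
  have hJ : PicF.IsInvertible (ClSub.idealMod J) := IntMultLib.isInvertible_idealMod _ hπ.1
  obtain ⟨hEd, hE0, hE1⟩ := exc_field (k := k) P hP hd hπ
  letI : J.subscheme.Over (Spec (CommRingCat.of k)) := ⟨J.subschemeι ≫ π ≫ (X ↘ Spec (CommRingCat.of k))⟩
  have hk : J.subschemeι ≫ (X' ↘ Spec (CommRingCat.of k)) = J.subscheme ↘ Spec (CommRingCat.of k) := by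
    rw [← hπk]
    rfl
  refine ⟨dim_le_two_of_cartier J hπ.1 hEd fun y hy => ?_, pr_pullback hπk hπ hreg hL hM, ?_, ?_⟩
  · have hyP : π y ≠ P := fun h => hy (by
      rw [Scheme.IdealSheafData.support_comap]
      show π y ∈ 𝓙.support
      rw [← SetLike.mem_coe, Scheme.IdealSheafData.coe_support_vanishingIdeal]
      exact h)
    let W : X.Opens := ⟨({P} : Set X)ᶜ, hP.isOpen_compl⟩
    haveI : IsIso (π ∣_ W) := isIso_off_centre hπ W (BlowPtLib.comap_eq_top_of_disjoint W.ι 𝓙 fun z h => by
      rw [← SetLike.mem_coe, Scheme.IdealSheafData.coe_support_vanishingIdeal] at h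
      exact z.2 h)
    haveI : IsIso (π.stalkMap y) :=
      ((MorphismProperty.isomorphisms _).arrow_mk_iso_iff (morphismRestrictStalkMap π W ⟨y, hyP⟩)).mp
        (inferInstanceAs (IsIso ((π ∣_ W).stalkMap ⟨y, hyP⟩)))
    rw [← ringKrullDim_eq_of_ringEquiv (asIso (π.stalkMap y)).commRingCatIsoToRingEquiv]
    exact (MiscFlat6.ringKrullDim_stalk_le X (π y)).trans hX
  · rw [pr_divisor J hJ (AmpleDevLib.isInvertible_pb π hL) hk]
    obtain ⟨V, hPV, ⟨t⟩⟩ := hL P
    obtain ⟨f⟩ := BlowPtLib.nonempty_pb_trivial (J.subschemeι ≫ π) V (fun z => by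
      have h : J.subschemeι z ∈ J.support := (Scheme.IdealSheafData.range_subschemeι _).subset ⟨z, rfl⟩
      have h' : π (J.subschemeι z) ∈ 𝓙.support := (Scheme.IdealSheafData.support_comap _ π).le h
      rw [← SetLike.mem_coe, Scheme.IdealSheafData.coe_support_vanishingIdeal] at h'
      rw [Scheme.Hom.comp_apply, show π (J.subschemeι z) = P from h']
      exact hPV) t
    rw [show Curv2.euler k J.subscheme (pb J.subschemeι (pb π L)) = Curv2.euler k J.subscheme (Coh.structureModule _) from
      CurvLib.euler_congr (k := k) ((Scheme.Modules.pullbackComp J.subschemeι π).app L ≪≫ f), sub_self]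
  · rw [pr_divisor J hJ hJ hk, hE0, hE1]
    ring

end BlowRegLib
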