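import Groth.Agent.MiscFlat6.FiniteFactor
import Mathlib.AlgebraicGeometry.ZariskisMainTheorem

/-!
Finite morphisms over quasi-compact opens of affine schemes extend.
-/

set_option autoImplicit false
set_option linter.style.haveILetI false

noncomputable section

universe u

open CategoryTheory CategoryTheory.Limits AlgebraicGeometry

namespace BlowRegLib

theorem exists_finite_extension (A : Type u) [CommRing A] (U : (Spec (CommRingCat.of A)).Opens)
    (hU : IsCompact (U : Set (Spec (CommRingCat.of A))))
    (U' : Scheme.{u}) (g : U' ⟶ (U : Scheme.{u})) [IsFinite g] :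
    ∃ (B : Type u) (_ : CommRing B) (_ : Algebra A B) (i : U' ⟶ Spec (CommRingCat.of B)),
      Module.Finite A B ∧ IsPullback i g (Spec.map (CommRingCat.ofHom (algebraMap A B))) U.ι := by
  let S := Spec (CommRingCat.of A)
  haveI : CompactSpace (U : Scheme.{u}) := isCompact_iff_compactSpace.mp hU
  haveI : QuasiCompact U.ι := inferInstance
  let f := g ≫ U.ι
  haveI : LocallyQuasiFinite f := inferInstance
  obtain ⟨T, j, π, -, hjqc, hπ, hjπ, hopen⟩ := MiscFlat6.exists_finite_factor f
  haveI : IsOpenImmersion j := hopen inferInstance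
  haveI := hjqc; haveI := hπ
  let ν : j.image ⟶ S := j.imageι ≫ π
  haveI : IsFinite ν := inferInstance
  have hsqI : IsPullback j.toImage (𝟙 U') j.imageι j :=
    IsPullback.of_isLimit' ⟨by rw [Category.id_comp]; exact j.toImage_imageι⟩
      (PullbackCone.IsLimit.mk _ (fun s => s.snd)
        (fun s => by
          rw [← cancel_mono j.imageι, Category.assoc, j.toImage_imageι]
          exact s.condition.symm)
        (fun s => Category.comp_id _)
        (fun s m _ h => by rw [← h]; exact (Category.comp_id _).symm))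
  haveI : IsOpenImmersion j.toImage := MorphismProperty.of_isPullback hsqI.flip inferInstance
  let W : j.image.Opens := ν ⁻¹ᵁ U
  have hν : j.toImage ≫ ν = f := by rw [← Category.assoc, j.toImage_imageι]; exact hjπ
  have hrange : Set.range j.toImage ⊆ Set.range W.ι := by
    rintro _ ⟨x, rfl⟩
    refine ⟨⟨j.toImage x, ?_⟩, rfl⟩
    show ν (j.toImage x) ∈ U
    rw [← Scheme.Hom.comp_apply, hν]
    exact (g x).2
  let k : U' ⟶ (W : Scheme.{u}) := IsOpenImmersion.lift W.ι j.toImage hrange
  have hk : k ≫ W.ι = j.toImage := IsOpenImmersion.lift_fac _ _ _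
  have hkg : k ≫ (ν ∣_ U) = g := by
    rw [← cancel_mono U.ι, Category.assoc, morphismRestrict_ι, reassoc_of% hk, hν]
  haveI : IsOpenImmersion k := by
    haveI : IsOpenImmersion (k ≫ W.ι) := by rw [hk]; infer_instance
    exact IsOpenImmersion.of_comp k W.ι
  haveI : UniversallyClosed k := by
    haveI : UniversallyClosed (k ≫ (ν ∣_ U)) := by rw [hkg]; infer_instance
    exact UniversallyClosed.of_comp_of_isSeparated k (ν ∣_ U)
  haveI : IsDominant k := ⟨by
    have hd : DenseRange j.toImage := IsDominant.denseRange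
    intro w
    refine mem_closure_iff.2 fun O hO hwO => ?_
    obtain ⟨V, hV, rfl⟩ := W.ι.isOpenEmbedding.isInducing.isOpen_iff.1 hO
    obtain ⟨x, hx⟩ := hd.exists_mem_open (hV.inter W.2) ⟨W.ι w, hwO, w.2⟩
    refine ⟨k x, ?_, x, rfl⟩
    show W.ι (k x) ∈ V
    rw [← Scheme.Hom.comp_apply, hk]
    exact hx.1⟩
  haveI : Surjective k := ⟨Set.range_eq_univ.1
    ((k.isClosedMap.isClosed_range).closure_eq ▸ (IsDominant.denseRange (f := k)).closure_range)⟩
  haveI : Epi k.base := (TopCat.epi_iff_surjective _).2 k.surjective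
  haveI : IsIso k := IsOpenImmersion.isIso k
  haveI : IsAffine j.image := isAffine_of_isAffineHom ν
  have hsq : IsPullback j.toImage g ν U.ι :=
    IsPullback.of_iso (isPullback_morphismRestrict ν U).flip (asIso k).symm (Iso.refl _) (Iso.refl _) (Iso.refl _)
      (by simp [← hk, W]) (by simp [← hkg, W]) (by simp) (by simp)
  let φ : CommRingCat.of A ⟶ Γ(j.image, ⊤) := Spec.preimage (j.image.isoSpec.inv ≫ ν)
  letI := φ.hom.toAlgebra
  have hφ : Spec.map φ = j.image.isoSpec.inv ≫ ν := Spec.map_preimage _
  have hfin : φ.hom.Finite := by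
    haveI : IsFinite (Spec.map φ) := by rw [hφ]; infer_instance
    exact (IsFinite.SpecMap_iff _).1 inferInstance
  refine ⟨Γ(j.image, ⊤), inferInstance, φ.hom.toAlgebra, j.toImage ≫ j.image.isoSpec.hom, hfin, ?_⟩
  show IsPullback _ g (Spec.map φ) U.ι
  exact IsPullback.of_iso hsq (Iso.refl _) j.image.isoSpec (Iso.refl _) (Iso.refl _)
    (by simp) (by simp) (by simp [hφ]) (by simp)

end BlowRegLib
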