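import Groth.Agent.BlowUpLib.Props
import Groth.Agent.BlowUpLib.Exists
import Mathlib.AlgebraicGeometry.Morphisms.Finite
import Mathlib.RingTheory.Ideal.GoingUp

/-!
# A finite birational morphism, an isomorphism off an effective Cartier divisor, is a blowing up
-/

set_option autoImplicit false
set_option linter.style.haveILetI false

universe u

open CategoryTheory CategoryTheory.Limits AlgebraicGeometry TopologicalSpace
open BlowUpLib (specIdeal)

namespace BlowRegLib.FiniteBlow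

section Ring

variable {A B : Type u} [CommRing A] [CommRing B] (φ : A →+* B) (e : A)

/-- The ideal `φ⁻¹ (e B)`. -/
def cond : Ideal A := (Ideal.span {φ e}).comap φ

variable {φ e}

theorem mem_cond {x : A} : x ∈ cond φ e ↔ ∃ b, φ x = φ e * b := by
  rw [cond, Ideal.mem_comap, Ideal.mem_span_singleton']
  exact exists_congr fun b => ⟨fun h => by rw [← h, mul_comm], fun h => by rw [h, mul_comm]⟩

theorem self_mem : e ∈ cond φ e := mem_cond.2 ⟨1, (mul_one _).symm⟩

theorem map_cond : (cond φ e).map φ = Ideal.span {φ e} :=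
  le_antisymm Ideal.map_comap_le ((Ideal.span_singleton_le_iff_mem _).2 (Ideal.mem_map_of_mem φ self_mem))

variable (hinj : Function.Injective φ) (hlift : ∀ b, ∃ x, φ x = φ e * b)
include hinj hlift

/-- A morphism under which `cond` becomes invertible principal factors uniquely through `φ`. -/
theorem exists_lift {C : Type u} [CommRing C] (ψ : A →+* C) {a : A} (ha : a ∈ cond φ e)
    (hnzd : ψ a ∈ nonZeroDivisors C) (hgen : (cond φ e).map ψ = Ideal.span {ψ a}) :
    ∃! χ : B →+* C, χ.comp φ = ψ := by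
  obtain ⟨v, hv⟩ := Ideal.mem_span_singleton'.1 (hgen ▸ Ideal.mem_map_of_mem ψ (self_mem (φ := φ) (e := e)))
  -- `ψ e` generates as well
  obtain ⟨b₀, hb₀⟩ := mem_cond.1 ha
  obtain ⟨x₀, hx₀⟩ := hlift (b₀ * b₀)
  obtain ⟨r, hr⟩ := Ideal.mem_span_singleton'.1
    (hgen ▸ Ideal.mem_map_of_mem ψ (mem_cond.2 ⟨b₀ * b₀, hx₀⟩ : x₀ ∈ cond φ e))
  have ha2 : a * a = e * x₀ := hinj (by rw [map_mul, map_mul, hb₀, hx₀]; ring)
  have hae : ψ a = ψ e * r := by
    have h1 : ψ a * ψ a = ψ e * r * ψ a := by rw [← map_mul, ha2, map_mul, ← hr]; ring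
    exact (mul_cancel_right_mem_nonZeroDivisors hnzd).1 h1
  have henz : ψ e ∈ nonZeroDivisors C := by
    refine mem_nonZeroDivisors_iff_right.2 fun z hz => mem_nonZeroDivisors_iff_right.1 hnzd z ?_
    rw [hae, ← mul_assoc, hz, zero_mul]
  have hdiv : ∀ b, ∃ w, ∀ x, φ x = φ e * b → ψ x = ψ e * w := fun b => by
    obtain ⟨x, hx⟩ := hlift b
    obtain ⟨w, hw⟩ := Ideal.mem_span_singleton'.1 (hgen ▸ Ideal.mem_map_of_mem ψ (mem_cond.2 ⟨b, hx⟩))
    refine ⟨r * w, fun y hy => ?_⟩
    rw [hinj (hy.trans hx.symm), ← hw, hae]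
    ring
  choose w hw using hdiv
  have hwu : ∀ b c x, φ x = φ e * b → ψ x = ψ e * c → w b = c := fun b c x hx hc =>
    (mul_cancel_left_mem_nonZeroDivisors henz).1 ((hw b x hx).symm.trans hc)
  let χ : B →+* C :=
    { toFun := w
      map_one' := hwu 1 1 e (mul_one _).symm (mul_one _).symm
      map_zero' := hwu 0 0 0 (by rw [map_zero, mul_zero]) (by rw [map_zero, mul_zero])
      map_add' := fun b b' => by
        obtain ⟨x, hx⟩ := hlift b
        obtain ⟨x', hx'⟩ := hlift b'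
        refine hwu _ _ (x + x') (by rw [map_add, hx, hx']; ring) ?_
        rw [map_add, hw b x hx, hw b' x' hx']; ring
      map_mul' := fun b b' => by
        obtain ⟨x, hx⟩ := hlift b
        obtain ⟨x', hx'⟩ := hlift b'
        obtain ⟨y, hy⟩ := hlift (b * b')
        have : x * x' = e * y := hinj (by rw [map_mul, map_mul, hx, hx', hy]; ring)
        refine hwu _ _ y hy ((mul_cancel_left_mem_nonZeroDivisors henz).1 ?_)
        rw [← map_mul, ← this, map_mul, hw b x hx, hw b' x' hx']; ring }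
  refine ⟨χ, RingHom.ext fun t => hwu (φ t) (ψ t) (e * t) (map_mul φ e t) (map_mul ψ e t), fun χ' hχ' => ?_⟩
  refine RingHom.ext fun b => ?_
  obtain ⟨x, hx⟩ := hlift b
  refine (hwu b (χ' b) x hx ?_).symm
  rw [← hχ', RingHom.comp_apply, hx, map_mul]
  rfl

theorem isBlowUp_spec (hnzd : φ e ∈ nonZeroDivisors B) :
    BlowUp.IsBlowUp (Spec.map (CommRingCat.ofHom φ)) (specIdeal (cond φ e)) := by
  refine ⟨?_, fun Y g hg => ?_⟩
  · rw [BlowUpLib.comap_specIdeal, map_cond]
    exact BlowUpLib.isEffCartier_specIdeal hnzd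
  choose C hC j hj ψ a hy hjg hnz hI using BlowUpLib.exists_gen_chart (cond φ e) g hg
  choose χ hχ hχu using fun y => exists_lift hinj hlift (ψ y) (a y).2 (hnz y) (hI y)
  let 𝒰 : Y.OpenCover := Scheme.Cover.mkOfCovers Y (fun y => Spec (CommRingCat.of (C y))) j
    (fun y => ⟨y, hy y⟩) hj
  have huniq : ∀ (y : Y) (k : Spec (CommRingCat.of (C y)) ⟶ Spec (CommRingCat.of B)),
      k ≫ Spec.map (CommRingCat.ofHom φ) = j y ≫ g → k = Spec.map (CommRingCat.ofHom (χ y)) := fun y k hk => by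
    rw [← Spec.map_preimage k] at hk ⊢
    rw [hjg, ← Spec.map_comp] at hk
    have := hχu y (Spec.preimage k).hom (congrArg CommRingCat.Hom.hom (Spec.map_injective hk))
    rw [← this, CommRingCat.ofHom_hom]
  have hext : ∀ (k k' : Y ⟶ Spec (CommRingCat.of B)), k ≫ Spec.map (CommRingCat.ofHom φ) = g →
      k' ≫ Spec.map (CommRingCat.ofHom φ) = g → k = k' := fun k k' hk hk' =>
    Scheme.Cover.hom_ext 𝒰 _ _ fun (y : Y) =>
      (huniq y (j y ≫ k) (by rw [Category.assoc, hk])).trans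
        (huniq y (j y ≫ k') (by rw [Category.assoc, hk'])).symm
  have hf : ∀ y, Spec.map (CommRingCat.ofHom (χ y)) ≫ Spec.map (CommRingCat.ofHom φ) = j y ≫ g := fun y => by
    rw [← Spec.map_comp, ← CommRingCat.ofHom_comp, hχ, hjg]
  have hglue : ∀ y y' : Y, pullback.fst (j y) (j y') ≫ Spec.map (CommRingCat.ofHom (χ y)) =
      pullback.snd (j y) (j y') ≫ Spec.map (CommRingCat.ofHom (χ y')) := by
    intro y y'
    refine Scheme.Cover.hom_ext (pullback (j y) (j y')).affineCover _ _ fun i => ?_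
    obtain ⟨θ, hθ⟩ : ∃ θ, Spec.map θ = (pullback (j y) (j y')).affineCover.f i ≫ pullback.fst (j y) (j y') :=
      ⟨_, Spec.map_preimage _⟩
    obtain ⟨θ', hθ'⟩ : ∃ θ', Spec.map θ' = (pullback (j y) (j y')).affineCover.f i ≫ pullback.snd (j y) (j y') :=
      ⟨_, Spec.map_preimage _⟩
    haveI := hj y
    haveI := hj y'
    haveI : IsOpenImmersion (pullback.fst (j y) (j y')) := inferInstance
    haveI : IsOpenImmersion (Spec.map θ) := by
      rw [hθ]
      exact MorphismProperty.comp_mem (W := @IsOpenImmersion) _ _ ((pullback (j y) (j y')).affineCover.map_prop i) inferInstance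
    rw [← Category.assoc, ← Category.assoc, ← hθ, ← hθ']
    refine (Spec.map_comp _ _).symm.trans (Eq.trans ?_ (Spec.map_comp _ _))
    refine congrArg Spec.map (CommRingCat.hom_ext ?_)
    have hflat : θ.hom.Flat := (HasRingHomProperty.Spec_iff (P := @Flat)).1 inferInstance
    have hnzθ := BlowUpLib.nzd_of_flat θ.hom hflat (hnz y)
    have hgenθ : (cond φ e).map (θ.hom.comp (ψ y)) = Ideal.span {θ.hom (ψ y (a y).1)} := by
      rw [← Ideal.map_map, hI, Ideal.map_span, Set.image_singleton]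
    obtain ⟨w₀, -, hu⟩ := exists_lift hinj hlift (θ.hom.comp (ψ y)) (a y).2 hnzθ hgenθ
    refine (hu _ ?_).trans (hu _ ?_).symm
    · show (θ.hom.comp (χ y)).comp φ = _
      rw [RingHom.comp_assoc, hχ]
    · show (θ'.hom.comp (χ y')).comp φ = _
      rw [RingHom.comp_assoc, hχ]
      have e0 : Spec.map (CommRingCat.ofHom (ψ y') ≫ θ') = Spec.map (CommRingCat.ofHom (ψ y) ≫ θ) := by
        rw [Spec.map_comp, Spec.map_comp, hθ, hθ', ← hjg, ← hjg]
        erw [Category.assoc, Category.assoc, pullback.condition_assoc]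
      exact congrArg CommRingCat.Hom.hom (Spec.map_injective e0)
  refine ⟨𝒰.glueMorphisms _ hglue, ?_, fun h hh => hext _ _ hh ?_⟩
  · refine Scheme.Cover.hom_ext 𝒰 _ _ fun (y : Y) => ?_
    rw [← Category.assoc]
    erw [Scheme.Cover.ι_glueMorphisms]
    exact hf y
  · refine Scheme.Cover.hom_ext 𝒰 _ _ fun (y : Y) => ?_
    rw [← Category.assoc]
    erw [Scheme.Cover.ι_glueMorphisms]
    exact hf y

end Ring

section Scheme

variable {X Y : Scheme.{u}} [IsReduced X] (f : X ⟶ Y) [IsFinite f] (L : Y.IdealSheafData)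
  (hiso : IsIso (f ∣_ L.support.compl)) (hdense : Dense (f.base ⁻¹' ((L.support : Set Y)ᶜ)))

section Local

omit [IsReduced X] [IsFinite f] in
private theorem isIso_of_comp {C : Type*} [Category C] {A B B' : C} (f : A ⟶ B) (g : B ⟶ B')
    (hg : IsIso g) (h : IsIso (f ≫ g)) : IsIso f := IsIso.of_isIso_comp_right f g

variable (U : Y.affineOpens) (d : Γ(Y, U.1)) (hd : d ∈ nonZeroDivisors Γ(Y, U.1)) (hLd : L.ideal U = Ideal.span {d})

include hLd in
theorem basicOpen_le : Y.basicOpen d ≤ L.support.compl := fun x hx hxL => by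
  have hx' : x ∈ (L.support : Set Y) ∩ U.1 := ⟨hxL, Y.basicOpen_le d hx⟩
  rw [L.coe_support_inter U, Scheme.zeroLocus, hLd] at hx'
  exact (Set.mem_iInter₂.1 hx'.1 d (Ideal.mem_span_singleton_self d)) hx

include hLd hdense in
theorem nzd_app : f.app U d ∈ nonZeroDivisors Γ(X, f ⁻¹ᵁ U.1) := by
  refine mem_nonZeroDivisors_iff_right.2 fun b hb => ?_
  have hbot : X.basicOpen b = ⊥ := by
    by_contra hne
    obtain ⟨x, hx⟩ : (X.basicOpen b : Set X).Nonempty := by
      rw [Set.nonempty_iff_ne_empty]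
      exact fun h => hne (SetLike.coe_injective h)
    obtain ⟨z, hz, hzb⟩ := hdense.inter_open_nonempty _ (X.basicOpen b).isOpen ⟨x, hx⟩
    have hzd : z ∈ X.basicOpen (f.app U d) := by
      rw [← Scheme.preimage_basicOpen]
      by_contra hnd
      refine hzb ?_
      have hzU : f.base z ∈ U.1 := X.basicOpen_le b hz
      have : f.base z ∈ (L.support : Set Y) ∩ U.1 := by
        rw [L.coe_support_inter U]
        refine ⟨?_, hzU⟩
        rw [hLd, Scheme.zeroLocus_span]
        rw [Scheme.zeroLocus_singleton]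
        exact hnd
      exact this.1
    have : z ∈ X.basicOpen (b * f.app U d) := by
      rw [Scheme.basicOpen_mul]
      exact ⟨hz, hzd⟩
    rw [hb, Scheme.basicOpen_zero] at this
    exact this
  exact (AlgebraicGeometry.basicOpen_eq_bot_iff b).1 hbot

include hiso hLd in
theorem isIso_app_basicOpen : IsIso (f.app (Y.basicOpen d)) := by
  haveI := hiso
  have hle := basicOpen_le L U d hLd
  let V : Y.Opens := L.support.compl
  have h := morphismRestrict_app f V (V.ι ⁻¹ᵁ Y.basicOpen d)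
  have e : V.ι ''ᵁ (V.ι ⁻¹ᵁ Y.basicOpen d) = Y.basicOpen d := by
    rw [Scheme.Hom.image_preimage_eq_opensRange_inf, Scheme.Opens.opensRange_ι]
    exact inf_eq_right.2 hle
  haveI : IsIso (f.app (V.ι ''ᵁ (V.ι ⁻¹ᵁ Y.basicOpen d))) := by
    have h1 : IsIso ((f ∣_ V).app (V.ι ⁻¹ᵁ Y.basicOpen d)) := inferInstance
    rw [h] at h1
    exact isIso_of_comp _ _ (Functor.map_isIso _ _) h1
  rw [← e]
  infer_instance

include hiso hd hLd in
theorem app_injective : Function.Injective (f.app U) := by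
  haveI := isIso_app_basicOpen f L hiso U d hLd
  rw [injective_iff_map_eq_zero]
  intro t ht
  have h1 : f.app (Y.basicOpen d) (Y.presheaf.map (homOfLE (Y.basicOpen_le d)).op t) = 0 := by
    rw [← CommRingCat.comp_apply, f.naturality, CommRingCat.comp_apply, ht, map_zero]
  have h2 : Y.presheaf.map (homOfLE (Y.basicOpen_le d)).op t = 0 :=
    (ConcreteCategory.bijective_of_isIso (f.app (Y.basicOpen d))).1 (h1.trans (map_zero _).symm)
  haveI := U.2.isLocalization_basicOpen d
  obtain ⟨⟨_, m, rfl⟩, hm⟩ := (IsLocalization.map_eq_zero_iff (Submonoid.powers d) Γ(Y, Y.basicOpen d) t).1 h2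
  exact mem_nonZeroDivisors_iff_right.1 (pow_mem hd m) t (by rw [mul_comm]; exact hm)

include hiso hLd hdense in
theorem exists_mul_mem (b : Γ(X, f ⁻¹ᵁ U.1)) :
    ∃ (m : ℕ) (t : Γ(Y, U.1)), f.app U t = f.app U d ^ m * b := by
  haveI := isIso_app_basicOpen f L hiso U d hLd
  have hle : f ⁻¹ᵁ Y.basicOpen d ≤ f ⁻¹ᵁ U.1 := Scheme.Hom.preimage_mono f (Y.basicOpen_le d)
  obtain ⟨s, hs⟩ := (ConcreteCategory.bijective_of_isIso (f.app (Y.basicOpen d))).2
    (X.presheaf.map (homOfLE hle).op b)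
  haveI := U.2.isLocalization_basicOpen d
  obtain ⟨⟨t, ⟨_, m, rfl⟩⟩, hm⟩ := IsLocalization.surj (Submonoid.powers d) s
  refine ⟨m, t, ?_⟩
  have hnat : ∀ c, f.app (Y.basicOpen d) (Y.presheaf.map (homOfLE (Y.basicOpen_le d)).op c) =
      X.presheaf.map (homOfLE hle).op (f.app U c) := fun c => by
    rw [← CommRingCat.comp_apply, f.naturality, CommRingCat.comp_apply]
    rfl
  have hm' : s * Y.presheaf.map (homOfLE (Y.basicOpen_le d)).op (d ^ m) =
      Y.presheaf.map (homOfLE (Y.basicOpen_le d)).op t := hm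
  have h1 := congrArg (f.app (Y.basicOpen d)) hm'
  rw [map_mul, hnat, hnat, hs, map_pow, ← map_mul, mul_comm] at h1
  have hB := (U.2.preimage f).isLocalization_of_eq_basicOpen (f.app U d) (homOfLE hle)
    (Scheme.preimage_basicOpen f d)
  obtain ⟨⟨_, i, rfl⟩, hi⟩ := (@IsLocalization.eq_iff_exists _ _ (Submonoid.powers (f.app U d)) _ _
    (X.presheaf.map (homOfLE hle).op).hom.toAlgebra hB _ _).1 h1.symm
  exact (mul_cancel_left_mem_nonZeroDivisors (pow_mem (nzd_app f L hdense U d hLd) i)).1 hi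

include hiso hd hLd hdense in
theorem exists_bound : ∃ n : ℕ, ∀ b : Γ(X, f ⁻¹ᵁ U.1), ∃ t : Γ(Y, U.1), f.app U t = f.app U d ^ n * b := by
  classical
  have hfin : (f.app U).hom.Finite := IsFinite.finite_app f U.1 U.2
  algebraize [(f.app U).hom]
  haveI : Module.Finite Γ(Y, U.1) Γ(X, f ⁻¹ᵁ U.1) := hfin
  obtain ⟨S, hS⟩ := (inferInstance : Module.Finite Γ(Y, U.1) Γ(X, f ⁻¹ᵁ U.1)).fg_top
  choose m t ht using exists_mul_mem f L hiso hdense U d hLd
  refine ⟨S.sup m, fun b => ?_⟩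
  have hb : b ∈ Submodule.span Γ(Y, U.1) (S : Set Γ(X, f ⁻¹ᵁ U.1)) := hS ▸ Submodule.mem_top
  induction hb using Submodule.span_induction with
  | mem y hy =>
    obtain ⟨k, hk⟩ := Nat.exists_eq_add_of_le (Finset.le_sup (f := m) hy)
    refine ⟨d ^ k * t y, ?_⟩
    rw [map_mul, map_pow, ht, hk, pow_add]
    ring
  | zero => exact ⟨0, by rw [map_zero, mul_zero]⟩
  | add y y' _ _ hy hy' =>
    obtain ⟨a, ha⟩ := hy
    obtain ⟨a', ha'⟩ := hy'
    exact ⟨a + a', by rw [map_add, ha, ha', mul_add]⟩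
  | smul c y _ hy =>
    obtain ⟨a, ha⟩ := hy
    refine ⟨c * a, ?_⟩
    rw [map_mul, ha, Algebra.smul_def, RingHom.algebraMap_toAlgebra]
    ring

end Local

include hiso hdense in
theorem exists_isBlowUp [IsNoetherian Y] (hL : BlowUp.IsEffCartierIdeal L) :
    ∃ I : Y.IdealSheafData, I.support = L.support ∧ BlowUp.IsBlowUp f I := by
  classical
  choose U hyU d hd hLd using hL
  obtain ⟨S, hS⟩ := isCompact_univ.elim_finite_subcover (fun y : Y => ((U y).1 : Set Y))
    (fun y => (U y).1.isOpen) fun y _ => Set.mem_iUnion.2 ⟨y, hyU y⟩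
  choose N hN using fun y : Y => exists_bound f L hiso hdense (U y) (d y) (hd y) (hLd y)
  obtain ⟨n, hn, hlift⟩ : ∃ n, n ≠ 0 ∧ ∀ y ∈ S, ∀ b, ∃ t, f.app (U y) t = f.app (U y) (d y) ^ n * b := by
    refine ⟨S.sup N + 1, by omega, fun y hy b => ?_⟩
    obtain ⟨k, hk⟩ := Nat.exists_eq_add_of_le (le_trans (Finset.le_sup (f := N) hy) (Nat.le_succ _))
    obtain ⟨t, ht⟩ := hN y b
    exact ⟨d y ^ k * t, by rw [map_mul, map_pow, ht, show S.sup N + 1 = N y + k from hk, pow_add]; ring⟩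
  let I : Y.IdealSheafData := ((L ^ n).comap f).map f
  have hwsq : ∀ y, Spec.map (f.app (U y)) ≫ (U y).2.fromSpec = ((U y).2.preimage f).fromSpec ≫ f := fun y => by
    have := (U y).2.SpecMap_appLE_fromSpec f ((U y).2.preimage f) le_rfl
    rw [← Scheme.Hom.app_eq_appLE] at this
    exact this
  have hcomap : ∀ y, ((L ^ n).comap f).ideal ⟨_, (U y).2.preimage f⟩ = Ideal.span {f.app (U y) (d y) ^ n} := by
    intro y
    refine BlowUpLib.specIdeal_injective ?_
    rw [← BlowUpLib.comap_fromSpec ((L ^ n).comap f) ⟨_, (U y).2.preimage f⟩]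
    show ((L ^ n).comap f).comap ((U y).2.preimage f).fromSpec = _
    rw [← Scheme.IdealSheafData.comap_comp, ← hwsq, Scheme.IdealSheafData.comap_comp, BlowUpLib.comap_fromSpec]
    refine (BlowUpLib.comap_specIdeal (f.app (U y)).hom _).trans (congrArg specIdeal ?_)
    rw [Scheme.IdealSheafData.ideal_pow, Pi.pow_apply, hLd, Ideal.span_singleton_pow, Ideal.map_span,
      Set.image_singleton, map_pow]
  have hI : ∀ y, I.ideal (U y) = cond (f.app (U y)).hom (d y ^ n) := fun y => by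
    rw [Scheme.IdealSheafData.ideal_map_of_isAffineHom, hcomap, cond, map_pow]
  have hsurj : Function.Surjective f.base := fun y₀ => by
    obtain ⟨y, hy, hy₀⟩ := Set.mem_iUnion₂.1 (hS (Set.mem_univ y₀))
    obtain ⟨p, hp⟩ : y₀ ∈ Set.range (U y).2.fromSpec.base := by rw [(U y).2.range_fromSpec]; exact hy₀
    have hint : (f.app (U y)).hom.IsIntegral := (IsFinite.finite_app f (U y).1 (U y).2).to_isIntegral
    algebraize [(f.app (U y)).hom]
    haveI : Algebra.IsIntegral Γ(Y, (U y).1) Γ(X, f ⁻¹ᵁ (U y).1) := ⟨hint⟩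
    have hker : (⊥ : Ideal Γ(X, f ⁻¹ᵁ (U y).1)).comap (algebraMap Γ(Y, (U y).1) Γ(X, f ⁻¹ᵁ (U y).1)) ≤ p.asIdeal := by
      intro z hz
      rw [Ideal.mem_comap, Ideal.mem_bot, ← map_zero (algebraMap Γ(Y, (U y).1) Γ(X, f ⁻¹ᵁ (U y).1))] at hz
      rw [app_injective f L hiso (U y) (d y) (hd y) (hLd y) hz]
      exact zero_mem _
    haveI : p.asIdeal.IsPrime := PrimeSpectrum.isPrime p
    obtain ⟨Q, -, hQ, hQc⟩ := Ideal.exists_ideal_over_prime_of_isIntegral p.asIdeal _ hker
    refine ⟨((U y).2.preimage f).fromSpec.base ⟨Q, hQ⟩, ?_⟩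
    rw [← hp]
    refine (congr($((hwsq y).symm) (⟨Q, hQ⟩ : PrimeSpectrum Γ(X, f ⁻¹ᵁ (U y).1)))).trans ?_
    exact congrArg (U y).2.fromSpec.base (PrimeSpectrum.ext hQc)
  refine ⟨I, ?_, ?_⟩
  · rw [show I.support = Closeds.closure (f '' ((L ^ n).comap f).support) from
      Scheme.IdealSheafData.support_map _ f]
    refine SetLike.coe_injective ?_
    rw [Closeds.coe_closure, Scheme.IdealSheafData.support_comap, Scheme.IdealSheafData.support_pow _ _ hn]
    show closure (f.base '' (f.base ⁻¹' (L.support : Set Y))) = L.support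
    rw [Set.image_preimage_eq _ hsurj, L.support.isClosed.closure_eq]
  let 𝒰 : Y.OpenCover := Scheme.Cover.mkOfCovers S (fun y => Spec Γ(Y, (U y.1).1)) (fun y => (U y.1).2.fromSpec)
    (fun y₀ => by
      obtain ⟨y, hy, hy₀⟩ := Set.mem_iUnion₂.1 (hS (Set.mem_univ y₀))
      exact ⟨⟨y, hy⟩, by rw [← Set.mem_range, (U y).2.range_fromSpec]; exact hy₀⟩)
    fun y => IsAffineOpen.isOpenImmersion_fromSpec (U y.1).2
  refine BlowUpLib.isBlowUp_of_local 𝒰 (fun y => Spec.map (f.app (U y.1)))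
    (fun y => ((U y.1).2.preimage f).fromSpec) (fun y => ?_) fun y => ?_
  · haveI := IsAffineOpen.isOpenImmersion_fromSpec ((U y.1).2.preimage f)
    haveI := IsAffineOpen.isOpenImmersion_fromSpec (U y.1).2
    refine (IsOpenImmersion.isPullback _ _ _ _ (hwsq y.1).symm ?_).flip
    rw [(U y.1).2.opensRange_fromSpec, ((U y.1).2.preimage f).opensRange_fromSpec]
  · show BlowUp.IsBlowUp _ (I.comap (U y.1).2.fromSpec)
    rw [BlowUpLib.comap_fromSpec, hI]
    refine isBlowUp_spec (app_injective f L hiso _ _ (hd _) (hLd _)) (fun b => ?_) ?_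
    · obtain ⟨t, ht⟩ := hlift y.1 y.2 b
      exact ⟨t, by rw [map_pow]; exact ht⟩
    · rw [map_pow]
      exact pow_mem (nzd_app f L hdense _ _ (hLd _)) n

end Scheme

end BlowRegLib.FiniteBlow
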