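import Mathlib.AlgebraicGeometry.Morphisms.Finite
import Mathlib.RingTheory.Ideal.GoingUp

/-!
# The fibre of a finite morphism and the stalk of the pushforward
-/

set_option autoImplicit false
set_option linter.style.haveILetI false
universe u

open CategoryTheory CategoryTheory.Limits AlgebraicGeometry TopologicalSpace Opposite

noncomputable section

namespace BlowRegLib

theorem mem_primeIdealOf_iff {X : Scheme.{u}} {U : X.Opens} (hU : IsAffineOpen U) {x : X} (hx : x ∈ U)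
    (r : Γ(X, U)) : r ∈ (hU.primeIdealOf ⟨x, hx⟩).asIdeal ↔ x ∉ X.basicOpen r := by
  have e := hU.fromSpec_primeIdealOf ⟨x, hx⟩
  have h' : hU.primeIdealOf ⟨x, hx⟩ ∈ hU.fromSpec ⁻¹ᵁ X.basicOpen r ↔ x ∈ X.basicOpen r := by
    change hU.fromSpec (hU.primeIdealOf ⟨x, hx⟩) ∈ X.basicOpen r ↔ _
    rw [e]
  rw [← h', hU.fromSpec_preimage_basicOpen]
  exact (not_not (a := r ∈ (hU.primeIdealOf ⟨x, hx⟩).asIdeal)).symm

theorem eq_of_basicOpen_iff {X : Scheme.{u}} {U : X.Opens} (hU : IsAffineOpen U) {x y : X} (hx : x ∈ U)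
    (hy : y ∈ U) (h : ∀ r : Γ(X, U), x ∈ X.basicOpen r ↔ y ∈ X.basicOpen r) : x = y := by
  have e : hU.primeIdealOf ⟨x, hx⟩ = hU.primeIdealOf ⟨y, hy⟩ :=
    PrimeSpectrum.ext (Ideal.ext fun r => by
      rw [mem_primeIdealOf_iff hU hx, mem_primeIdealOf_iff hU hy, h r])
  exact (hU.fromSpec_primeIdealOf ⟨x, hx⟩).symm.trans
    ((congrArg hU.fromSpec e).trans (hU.fromSpec_primeIdealOf ⟨y, hy⟩))

variable {Z X : Scheme.{u}} (g : Z ⟶ X) (x : X)

/-- The map from the stalk of the pushforward to the local ring at a point of the fibre. -/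
abbrev fibMap (z : {z : Z // g.base z = x}) :
    (g.base _* Z.presheaf).stalk x ⟶ Z.presheaf.stalk z.1 :=
  ((g.base _* Z.presheaf).stalkCongr (Inseparable.of_eq z.2)).inv ≫
    TopCat.Presheaf.stalkPushforward CommRingCat g.base Z.presheaf z.1

theorem fibMap_germ (z : {z : Z // g.base z = x}) {V : X.Opens} (hx : x ∈ V) (b : Γ(Z, g ⁻¹ᵁ V)) :
    fibMap g x z ((g.base _* Z.presheaf).germ V x hx b) =
      Z.presheaf.germ (g ⁻¹ᵁ V) z.1 (show g.base z.1 ∈ V by rw [z.2]; exact hx) b := by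
  obtain ⟨z, rfl⟩ := z
  simp only [fibMap, TopCat.Presheaf.stalkCongr, CommRingCat.comp_apply]
  erw [TopCat.Presheaf.germ_stalkSpecializes_apply]
  exact TopCat.Presheaf.stalkPushforward_germ_apply CommRingCat g.base Z.presheaf V z hx b

theorem fibre_bijOn [IsFinite g] :
    Set.BijOn (fun z : {z : Z // g.base z = x} =>
        Ideal.comap (fibMap g x z).hom (IsLocalRing.maximalIdeal (Z.presheaf.stalk z.1)))
      Set.univ {I : Ideal ((g.base _* Z.presheaf).stalk x) | I.IsMaximal} := by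
  obtain ⟨V, hV, hxV, -⟩ := exists_isAffineOpen_mem_and_subset (U := ⊤) (x := x) trivial
  have hW : IsAffineOpen (g ⁻¹ᵁ V) := hV.preimage g
  let W := g ⁻¹ᵁ V
  let P := hV.primeIdealOf ⟨x, hxV⟩
  letI : Algebra Γ(X, V) Γ(Z, W) := (g.app V).hom.toAlgebra
  haveI : Module.Finite Γ(X, V) Γ(Z, W) := IsFinite.finite_app g V hV
  haveI : Algebra.IsIntegral Γ(X, V) Γ(Z, W) := Algebra.IsIntegral.of_finite _ _
  let T := (g.base _* Z.presheaf).stalk x
  let gs : Γ(Z, W) →+* T := ((g.base _* Z.presheaf).germ V x hxV).hom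
  let I : {z : Z // g.base z = x} → Ideal T := fun z =>
    Ideal.comap (fibMap g x z).hom (IsLocalRing.maximalIdeal (Z.presheaf.stalk z.1))
  have hzW : ∀ z : {z : Z // g.base z = x}, z.1 ∈ W := fun z => by
    change g.base z.1 ∈ V
    rw [z.2]
    exact hxV
  have hI : ∀ z, (I z).comap gs = (hW.primeIdealOf ⟨z.1, hzW z⟩).asIdeal := fun z => by
    ext b
    rw [mem_primeIdealOf_iff hW (hzW z) b, Z.mem_basicOpen b z.1 (hzW z)]
    change fibMap g x z (gs b) ∈ IsLocalRing.maximalIdeal _ ↔ _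
    rw [IsLocalRing.mem_maximalIdeal, mem_nonunits_iff]
    erw [fibMap_germ g x z hxV b]
  have hover : ∀ z, ((I z).comap gs).comap (algebraMap Γ(X, V) Γ(Z, W)) = P.asIdeal := fun z => by
    rw [hI z]
    ext a
    rw [Ideal.mem_comap, mem_primeIdealOf_iff hW (hzW z), mem_primeIdealOf_iff hV hxV,
      show Z.basicOpen (algebraMap Γ(X, V) Γ(Z, W) a) = g ⁻¹ᵁ X.basicOpen a from
        (g.preimage_basicOpen a).symm]
    change g.base z.1 ∉ X.basicOpen a ↔ _
    rw [z.2]
  have hunit : ∀ a : Γ(X, V), x ∈ X.basicOpen a → IsUnit (gs (algebraMap _ _ a)) := by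
    intro a ha
    have h1 := X.toRingedSpace.isUnit_res_basicOpen a
    have h2 := ((h1.map (g.app (X.basicOpen a)).hom)).map
      ((g.base _* Z.presheaf).germ (X.basicOpen a) x ha).hom
    have e : gs (algebraMap _ _ a) = (g.base _* Z.presheaf).germ (X.basicOpen a) x ha
        (g.app (X.basicOpen a) (X.presheaf.map (homOfLE (X.basicOpen_le a)).op a)) := by
      have hn : g.app (X.basicOpen a) (X.presheaf.map (homOfLE (X.basicOpen_le a)).op a) =
          (g.base _* Z.presheaf).map (homOfLE (X.basicOpen_le a)).op (g.app V a) := by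
        rw [← CommRingCat.comp_apply, Scheme.Hom.naturality]
        rfl
      rw [hn, TopCat.Presheaf.germ_res_apply]
      rfl
    rw [e]
    exact h2
  have hdec : ∀ t : T, ∃ (b : Γ(Z, W)) (c : Γ(Z, W)), IsUnit (gs c) ∧ t * gs c = gs b := by
    intro t
    obtain ⟨V', hxV', s, rfl⟩ := TopCat.Presheaf.exists_germ_eq (g.base _* Z.presheaf) t
    obtain ⟨a, haV', hxa⟩ := hV.exists_basicOpen_le (⟨x, hxV'⟩ : (V' : X.Opens)) hxV
    let c : Γ(Z, W) := algebraMap Γ(X, V) Γ(Z, W) a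
    have hE : Z.basicOpen c = g ⁻¹ᵁ X.basicOpen a := (g.preimage_basicOpen a).symm
    haveI := hW.isLocalization_basicOpen c
    obtain ⟨n, b, hb⟩ := IsLocalization.Away.surj c
      (Z.presheaf.map (homOfLE (show Z.basicOpen c ≤ g ⁻¹ᵁ V' from hE.le.trans fun _ h => haV' h)).op s)
    refine ⟨b, c ^ n, ?_, ?_⟩
    · rw [map_pow]
      exact (hunit a hxa).pow n
    have hb' : Z.presheaf.map (homOfLE (show g ⁻¹ᵁ X.basicOpen a ≤ g ⁻¹ᵁ V' from fun _ h => haV' h)).op s *
        Z.presheaf.map (homOfLE (show g ⁻¹ᵁ X.basicOpen a ≤ W from fun _ h => X.basicOpen_le a h)).op (c ^ n) =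
        Z.presheaf.map (homOfLE (show g ⁻¹ᵁ X.basicOpen a ≤ W from fun _ h => X.basicOpen_le a h)).op b := by
      have h := congrArg (Z.presheaf.map (homOfLE hE.ge).op) hb
      simp only [RingHom.algebraMap_toAlgebra, map_mul, map_pow] at h ⊢
      simpa only [← CommRingCat.comp_apply, ← Functor.map_comp, ← op_comp, homOfLE_comp] using h
    have h := congrArg ((g.base _* Z.presheaf).germ (X.basicOpen a) x hxa) hb'
    rw [map_mul] at h
    have key : ∀ {U : X.Opens} (hU : X.basicOpen a ≤ U) (r : Γ(Z, g ⁻¹ᵁ U)),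
        (g.base _* Z.presheaf).germ (X.basicOpen a) x hxa
          (Z.presheaf.map (homOfLE (show g ⁻¹ᵁ X.basicOpen a ≤ g ⁻¹ᵁ U from fun _ h => hU h)).op r) =
        (g.base _* Z.presheaf).germ U x (hU hxa) r := fun hU r =>
      TopCat.Presheaf.germ_res_apply (g.base _* Z.presheaf) (homOfLE hU) x hxa r
    rw [key haV', key (X.basicOpen_le a), key (X.basicOpen_le a)] at h
    exact h
  have hrec : ∀ J J' : Ideal T, J.comap gs ≤ J'.comap gs → J ≤ J' := by
    intro J J' hle t ht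
    obtain ⟨b, c, hc, h⟩ := hdec t
    have hb : gs b ∈ J := h ▸ Ideal.mul_mem_right _ _ ht
    exact (Ideal.mul_unit_mem_iff_mem J' hc).1 (h ▸ hle hb)
  have hinj : ∀ z z', (I z).comap gs = (I z').comap gs → z = z' := by
    intro z z' h
    rw [hI, hI] at h
    refine Subtype.ext ?_
    exact (hW.fromSpec_primeIdealOf ⟨z.1, hzW z⟩).symm.trans
      ((congrArg hW.fromSpec (PrimeSpectrum.ext h)).trans (hW.fromSpec_primeIdealOf ⟨z'.1, hzW z'⟩))
  have hprime : ∀ z, (I z).IsPrime := fun z => Ideal.IsPrime.comap _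
  have hex : ∀ J : Ideal T, J.IsPrime → ∃ z, J ≤ I z := by
    intro J hJ
    haveI : (J.comap gs).IsPrime := Ideal.IsPrime.comap _
    have hle : (J.comap gs).comap (algebraMap Γ(X, V) Γ(Z, W)) ≤ P.asIdeal := by
      intro a ha
      rw [mem_primeIdealOf_iff hV hxV]
      exact fun hxa => hJ.ne_top (Ideal.eq_top_of_isUnit_mem _ ha (hunit a hxa))
    obtain ⟨q, hq, hqp, hqc⟩ := Ideal.exists_ideal_over_prime_of_isIntegral P.asIdeal (J.comap gs) hle
    let z : Z := hW.fromSpec ⟨q, hqp⟩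
    have hzW' : z ∈ W := by
      have : z ∈ Set.range hW.fromSpec := ⟨_, rfl⟩
      rwa [hW.range_fromSpec] at this
    have hzq : hW.primeIdealOf ⟨z, hzW'⟩ = ⟨q, hqp⟩ :=
      hW.fromSpec.isOpenEmbedding.injective (hW.fromSpec_primeIdealOf ⟨_, hzW'⟩)
    have hgz : g.base z = x := by
      refine eq_of_basicOpen_iff hV hzW' hxV fun a => not_iff_not.1 ?_
      change z ∉ g ⁻¹ᵁ X.basicOpen a ↔ _
      rw [show g ⁻¹ᵁ X.basicOpen a = Z.basicOpen (algebraMap Γ(X, V) Γ(Z, W) a) from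
        g.preimage_basicOpen a, ← mem_primeIdealOf_iff hW hzW', ← mem_primeIdealOf_iff hV hxV, hzq]
      change algebraMap _ _ a ∈ q ↔ _
      rw [← Ideal.mem_comap, hqc]
    refine ⟨⟨z, hgz⟩, hrec _ _ ?_⟩
    rw [hI]
    change _ ≤ (hW.primeIdealOf ⟨z, hzW'⟩).asIdeal
    rw [hzq]
    exact hq
  refine ⟨fun z _ => ?_, fun z _ z' _ h => hinj z z' (congrArg (Ideal.comap gs) h), fun J hJ => ?_⟩
  · obtain ⟨J, hJ, hle⟩ := Ideal.exists_le_maximal (I z) (hprime z).ne_top
    obtain ⟨z', hz'⟩ := hex J hJ.isPrime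
    have hJ' : J = I z' := hJ.eq_of_le (hprime z').ne_top hz'
    have hle' : (I z).comap gs ≤ (I z').comap gs := Ideal.comap_mono (hJ' ▸ hle)
    have : z = z' := hinj z z' (hle'.antisymm (by
      by_contra hne
      haveI : ((I z).comap gs).IsPrime := Ideal.IsPrime.comap _
      have hlt := Ideal.IsIntegral.comap_lt_comap (R := Γ(X, V)) (lt_of_le_not_ge hle' hne)
      rw [hover, hover] at hlt
      exact lt_irrefl _ hlt))
    subst this
    change (I z).IsMaximal
    rw [← hJ']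
    exact hJ
  · obtain ⟨z, hz⟩ := hex J (Ideal.IsMaximal.isPrime hJ)
    exact ⟨z, trivial, ((Set.mem_setOf.1 hJ).eq_of_le (hprime z).ne_top hz).symm⟩

end BlowRegLib
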