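import Groth.Agent.S13734
import Groth.Agent.S2562
import Groth.Agent.AlgSpLib.Fpqc
import Mathlib.AlgebraicGeometry.Morphisms.LocalFlatDescent
import Mathlib.RingTheory.Flat.TorsionFree

/-!
# Flatness descends along universally submersive morphisms over a reduced base
-/

set_option autoImplicit false
set_option linter.style.haveILetI false

universe u

open CategoryTheory CategoryTheory.Limits AlgebraicGeometry

namespace BlowRegLib.FlatSubm

theorem flat_of_surjective_dvr {R R' : Type u} [CommRing R] [IsDomain R] [IsDiscreteValuationRing R]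
    [CommRing R'] [IsDomain R'] (φ : Spec (CommRingCat.of R') ⟶ Spec (CommRingCat.of R)) [Surjective φ] :
    Flat φ := by
  obtain ⟨ψ, rfl⟩ := Spec.map_surjective φ
  rw [HasRingHomProperty.Spec_iff (P := @Flat)]
  algebraize [ψ.hom]
  have hinj : Function.Injective (algebraMap R R') := by
    rw [injective_iff_map_eq_zero]
    intro a ha
    have hmem : ∀ p : PrimeSpectrum R, a ∈ p.asIdeal := fun p => by
      obtain ⟨q, hq⟩ := (Spec.map ψ).surjective p
      rw [← hq]
      show algebraMap R R' a ∈ (q : PrimeSpectrum R').asIdeal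
      rw [ha]; exact zero_mem _
    simpa using hmem ⟨⊥, Ideal.isPrime_bot⟩
  haveI : FaithfulSMul R R' := (faithfulSMul_iff_algebraMap_injective R R').mpr hinj
  show Module.Flat R R'
  infer_instance

theorem flat_of_flat_baseChange {X S S' : Scheme.{u}} [IsNoetherian S] [IsReduced S] [S.IsSeparated]
    (f : X ⟶ S) [LocallyOfFiniteType f] (g : S' ⟶ S) [LocallyOfFiniteType g] [QuasiCompact g]
    [IsSeparated g] (hg : SGA1.UnivSubmersive g) (hflat : Flat (pullback.snd f g)) : Flat f := by
  haveI : LocallyOfFinitePresentation f := inferInstance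
  rw [Flat.iff_flat_stalkMap]
  intro x
  rw [Groth.Agent.S2562.result f x]
  intro A _ _ _ φ _ x' _ _
  let g₀ := Spec.map (CommRingCat.ofHom φ) ≫ S.fromSpecStalk (f.base x)
  obtain ⟨R', _, _, _, φ', h, _, hh⟩ := (Groth.Agent.S13734.result g).1 hg A g₀
  haveI := flat_of_surjective_dvr φ'
  haveI : Flat (pullback.snd (pullback.snd f g) h) := inferInstance
  have sq : IsPullback (pullback.fst (pullback.snd f g) h ≫ pullback.fst f g)
      (pullback.snd (pullback.snd f g) h) f (h ≫ g) :=
    (IsPullback.of_hasPullback (pullback.snd f g) h).paste_horiz (IsPullback.of_hasPullback f g)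
  rw [hh] at sq
  have sq2 : IsPullback (pullback.fst (pullback.snd f g₀) φ' ≫ pullback.fst f g₀)
      (pullback.snd (pullback.snd f g₀) φ') f (φ' ≫ g₀) :=
    (IsPullback.of_hasPullback (pullback.snd f g₀) φ').paste_horiz (IsPullback.of_hasPullback f g₀)
  have hf' : Flat (pullback.snd (pullback.snd f g₀) φ') := by
    rw [← sq2.isoIsPullback_hom_snd X _ sq]
    infer_instance
  have hQ : (@Surjective ⊓ @Flat ⊓ @QuasiCompact : MorphismProperty Scheme.{u}) φ' :=
    ⟨⟨inferInstance, inferInstance⟩, inferInstance⟩
  haveI : Flat (pullback.snd f g₀) := MorphismProperty.of_pullback_snd_of_descendsAlong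
    (P := @Flat) (Q := @Surjective ⊓ @Flat ⊓ @QuasiCompact) hQ hf'
  exact Flat.stalkMap (pullback.snd f g₀) x'

end BlowRegLib.FlatSubm
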