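import Groth.Prelude.Def_CGrpSh
import Groth.Prelude.Def_W4c1extbt15Mult
import Mathlib.CategoryTheory.Sites.LocallySurjective
import Mathlib.CategoryTheory.Sites.Abelian
import Mathlib.CategoryTheory.Sites.EpiMono
import Mathlib.CategoryTheory.Sites.Limits
import Mathlib.Algebra.Homology.ShortComplex.Ab
import Mathlib.Algebra.Homology.ShortComplex.ExactFunctor
import Mathlib.Algebra.Category.Grp.Limits
import Mathlib.Algebra.Category.Grp.Abelian

/-!
# Multilinear morphisms out of a quotient of fppf sheaves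
-/

set_option backward.isDefEq.respectTransparency false
set_option backward.isDefEq.respectTransparency.types false

set_option autoImplicit false
universe w u
open CategoryTheory CategoryTheory.Limits MonoidalCategory CartesianMonoidalCategory MonObj AlgebraicGeometry
open Opposite

noncomputable section

namespace BlowRegLib.FppfQuot

variable {S : Scheme.{u}}

local notation "JJ" => QuotSh.J Scheme.fppfPrecoverage S

/-- Two points with values in a scheme which agree on a cover are equal. -/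
theorem ext_cover {T N : Over S} {R : Sieve T} (hR : R ∈ JJ T) {a b : T ⟶ N}
    (h : ∀ (V : Over S) (g : V ⟶ T), R g → g ≫ a = g ≫ b) : a = b :=
  ((GrothendieckTopology.Subcanonical.isSheaf_of_isRepresentable (J := JJ) (yoneda.obj N))
    R hR).isSeparatedFor.ext fun V g hg => h V g hg

/-- Descent of a functional relation along covers. -/
theorem desc {U N : Over S} (Rel : ∀ V : Over S, (V ⟶ U) → (V ⟶ N) → Prop)
    (hstab : ∀ (V W : Over S) (h : W ⟶ V) (g : V ⟶ U) (b : V ⟶ N), Rel V g b → Rel W (h ≫ g) (h ≫ b))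
    (huniq : ∀ (V : Over S) (g : V ⟶ U) (b b' : V ⟶ N), Rel V g b → Rel V g b' → b = b')
    (hex : ∃ R ∈ JJ U, ∀ (V : Over S) (g : V ⟶ U), R g → ∃ b, Rel V g b) :
    ∃ a : U ⟶ N, ∀ (V : Over S) (g : V ⟶ U) (b : V ⟶ N), Rel V g b → g ≫ a = b := by
  obtain ⟨R, hR, hex⟩ := hex
  choose f hf using hex
  let x : Presieve.FamilyOfElements (yoneda.obj N) R.arrows := fun V g hg => f V g hg
  have hx : x.Compatible := by
    rw [Presieve.compatible_iff_sieveCompatible]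
    intro V W g h hg
    exact huniq _ _ _ _ (hf _ _ _) (hstab _ _ _ _ _ (hf _ _ hg))
  obtain ⟨a, ha, -⟩ := (GrothendieckTopology.Subcanonical.isSheaf_of_isRepresentable (J := JJ) (yoneda.obj N)) R hR x hx
  refine ⟨a, fun V g b hb => ext_cover (GrothendieckTopology.pullback_stable _ g hR) fun W h hh => ?_⟩
  rw [← Category.assoc]
  exact (ha (h ≫ g) hh).trans (huniq _ _ _ _ (hf _ _ hh) (hstab _ _ _ _ _ hb))

variable {M₁ M₂ M₃ : Over S}
  [GrpObj M₁] [IsCommMonObj M₁] [GrpObj M₂] [IsCommMonObj M₂] [GrpObj M₃] [IsCommMonObj M₃]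
  (j : M₁ ⟶ M₂) (π : M₂ ⟶ M₃) [IsMonHom j] [IsMonHom π] (w : j ≫ π = 1)

/-- Local lifting of points along an epimorphism of sheaves. -/
theorem lift_loc (hepi : Epi (CGrpSh.ptsMap Scheme.fppfPrecoverage π)) {T : Over S} (x : T ⟶ M₃) :
    ∃ R ∈ JJ T, ∀ (V : Over S) (g : V ⟶ T), R g → ∃ z : V ⟶ M₂, z ≫ π = g ≫ x := by
  haveI : Presheaf.IsLocallySurjective JJ (CGrpSh.ptsMap Scheme.fppfPrecoverage π).hom :=
    (Sheaf.isLocallySurjective_iff_epi' (A := AddCommGrpCat.{u + 1}) (J := JJ) (CGrpSh.ptsMap Scheme.fppfPrecoverage π)).2 hepi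
  refine ⟨Presheaf.imageSieve (CGrpSh.ptsMap Scheme.fppfPrecoverage π).hom (U := T) (ULift.up (Additive.ofMul x)),
    Presheaf.imageSieve_mem JJ (CGrpSh.ptsMap Scheme.fppfPrecoverage π).hom (U := op T) _, fun V g ⟨y, hy⟩ => ?_⟩
  exact ⟨y.down.toMul, congrArg Additive.toMul (congrArg ULift.down hy)⟩

/-- Local lifting of points of a family. -/
theorem lift_loc_fin (hepi : Epi (CGrpSh.ptsMap Scheme.fppfPrecoverage π)) {T : Over S} {n : ℕ} (x : Fin n → (T ⟶ M₃)) :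
    ∃ R ∈ JJ T, ∀ (V : Over S) (g : V ⟶ T), R g → ∀ i, ∃ z : V ⟶ M₂, z ≫ π = g ≫ x i := by
  choose R hR hlift using fun i => lift_loc π hepi (x i)
  refine ⟨Finset.univ.inf R, ?_, fun V g hg i =>
    hlift i V g ((Finset.inf_le (Finset.mem_univ i) : Finset.univ.inf R ≤ R i) _ hg)⟩
  induction (Finset.univ : Finset (Fin n)) using Finset.induction_on with
  | empty => exact GrothendieckTopology.top_mem _ T
  | insert a t _ ih =>
    rw [Finset.inf_insert]
    exact GrothendieckTopology.intersection_covering _ (hR a) ih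

/-- Points killed by the second map come locally from the first. -/
theorem exact_loc (hex : (CGrpSh.seq Scheme.fppfPrecoverage j π w).Exact) {T : Over S} (x : T ⟶ M₂) (hx : x ≫ π = 1) :
    ∃ R ∈ JJ T, ∀ (V : Over S) (g : V ⟶ T), R g → ∃ y : V ⟶ M₁, y ≫ j = g ≫ x := by
  set sc := CGrpSh.seq Scheme.fppfPrecoverage j π w
  let Φ : BigSite.Ab Scheme.fppfPrecoverage S ⥤ AddCommGrpCat.{u + 1} :=
    sheafToPresheaf _ _ ⋙ (evaluation _ _).obj (op T)
  let k : ShortComplex (BigSite.Ab Scheme.fppfPrecoverage S) := ShortComplex.mk (kernel.ι sc.g) sc.g (kernel.condition _)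
  have hk : k.Exact := ShortComplex.exact_of_f_is_kernel _ (kernelIsKernel sc.g)
  haveI : PreservesFiniteLimits Φ := inferInstance
  haveI : Φ.PreservesZeroMorphisms := inferInstance
  haveI : Mono k.f := inferInstanceAs (Mono (kernel.ι sc.g))
  have hk' : (k.map Φ).Exact := hk.map_of_mono_of_preservesKernel Φ inferInstance inferInstance
  rw [ShortComplex.ab_exact_iff] at hk'
  obtain ⟨y, hy⟩ := hk' (ULift.up (Additive.ofMul x)) (ULift.ext _ _ (congrArg Additive.ofMul hx))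
  haveI : Epi (kernel.lift sc.g sc.f sc.zero) := (ShortComplex.exact_iff_epi_kernel_lift sc).1 hex
  haveI : Presheaf.IsLocallySurjective JJ (kernel.lift sc.g sc.f sc.zero).hom :=
    (Sheaf.isLocallySurjective_iff_epi' (A := AddCommGrpCat.{u + 1}) (J := JJ) (kernel.lift sc.g sc.f sc.zero)).2 inferInstance
  refine ⟨Presheaf.imageSieve (kernel.lift sc.g sc.f sc.zero).hom (U := T) y,
    Presheaf.imageSieve_mem JJ (kernel.lift sc.g sc.f sc.zero).hom (U := op T) y, fun V g ⟨z, hz⟩ => ?_⟩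
  have h1 := congrArg ((kernel.ι sc.g).hom.app (op V)) hz
  have h3 : (kernel.ι sc.g).hom.app (op V) ((kernel.lift sc.g sc.f sc.zero).hom.app (op V) z) = sc.f.hom.app (op V) z :=
    congrArg (fun m => m.hom.app (op V) z) (kernel.lift_ι sc.g sc.f sc.zero)
  rw [h3, NatTrans.naturality_apply] at h1
  have h2 : (kernel.ι sc.g).hom.app (op T) y = ULift.up (Additive.ofMul x) := hy
  rw [h2] at h1
  exact ⟨z.down.toMul, congrArg Additive.toMul (congrArg ULift.down h1)⟩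

section One

variable {P Q N : Over S} [GrpObj N] (ψ : P ⊗ (M₂ ⊗ Q) ⟶ N)
  (hadd : ∀ (T : Over S) (p : T ⟶ P) (q : T ⟶ Q) (y z : T ⟶ M₂),
    lift p (lift (y * z) q) ≫ ψ = (lift p (lift y q) ≫ ψ) * (lift p (lift z q) ≫ ψ))
  (hvan : ∀ (T : Over S) (p : T ⟶ P) (q : T ⟶ Q) (y' : T ⟶ M₁), lift p (lift (y' ≫ j) q) ≫ ψ = 1)

include w hadd hvan in
theorem indep (hex : (CGrpSh.seq Scheme.fppfPrecoverage j π w).Exact) {T : Over S} (p : T ⟶ P) (q : T ⟶ Q)
    (z z' : T ⟶ M₂) (h : z ≫ π = z' ≫ π) : lift p (lift z q) ≫ ψ = lift p (lift z' q) ≫ ψ := by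
  obtain ⟨R, hR, hy⟩ := exact_loc j π w hex (z * z'⁻¹) (by rw [MonObj.mul_comp, GrpObj.inv_comp, h, mul_inv_cancel])
  refine ext_cover hR fun V g hg => ?_
  obtain ⟨y, hy⟩ := hy V g hg
  have h1 : g ≫ z = (y ≫ j) * (g ≫ z') := by
    rw [hy, ← MonObj.comp_mul, inv_mul_cancel_right]
  rw [← Category.assoc, ← Category.assoc, comp_lift, comp_lift, comp_lift, comp_lift, h1, hadd, hvan, _root_.one_mul]

include w hadd hvan in
theorem exists_factor {R : Type w} (act : R → (M₂ ⟶ M₂)) (act'' : R → (M₃ ⟶ M₃)) (actN : R → (N ⟶ N))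
    (hπ : ∀ a : R, π ≫ act'' a = act a ≫ π) (hex : (CGrpSh.seq Scheme.fppfPrecoverage j π w).Exact)
    (hepi : Epi (CGrpSh.ptsMap Scheme.fppfPrecoverage π))
    (hlin : ∀ (T : Over S) (p : T ⟶ P) (q : T ⟶ Q) (y : T ⟶ M₂) (a : R),
      lift p (lift (y ≫ act a) q) ≫ ψ = (lift p (lift y q) ≫ ψ) ≫ actN a) :
    ∃ ψ' : P ⊗ (M₃ ⊗ Q) ⟶ N,
      (P ◁ (π ▷ Q)) ≫ ψ' = ψ ∧
      (∀ (T : Over S) (p : T ⟶ P) (q : T ⟶ Q) (y z : T ⟶ M₃),
        lift p (lift (y * z) q) ≫ ψ' = (lift p (lift y q) ≫ ψ') * (lift p (lift z q) ≫ ψ')) ∧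
      (∀ (T : Over S) (p : T ⟶ P) (q : T ⟶ Q) (y : T ⟶ M₃) (a : R),
        lift p (lift (y ≫ act'' a) q) ≫ ψ' = (lift p (lift y q) ≫ ψ') ≫ actN a) ∧
      ∀ ψ'' : P ⊗ (M₃ ⊗ Q) ⟶ N, (P ◁ (π ▷ Q)) ≫ ψ'' = ψ → ψ'' = ψ' := by
  obtain ⟨a, ha⟩ := desc (U := P ⊗ (M₃ ⊗ Q)) (N := N)
    (fun V g b => ∃ z : V ⟶ M₂, z ≫ π = g ≫ snd _ _ ≫ fst _ _ ∧
      b = lift (g ≫ fst _ _) (lift z (g ≫ snd _ _ ≫ snd _ _)) ≫ ψ)
    (by
      rintro V W h g b ⟨z, hz, rfl⟩
      refine ⟨h ≫ z, by rw [Category.assoc, hz, Category.assoc], ?_⟩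
      rw [← Category.assoc, comp_lift, comp_lift, Category.assoc, Category.assoc])
    (by
      rintro V g b b' ⟨z, hz, rfl⟩ ⟨z', hz', rfl⟩
      exact indep j π w ψ hadd hvan hex _ _ _ _ (hz.trans hz'.symm))
    (by
      obtain ⟨R, hR, hl⟩ := lift_loc π hepi (snd P (M₃ ⊗ Q) ≫ fst M₃ Q)
      exact ⟨R, hR, fun V g hg => ⟨_, _, (hl V g hg).choose_spec, rfl⟩⟩)
  have key : ∀ (T : Over S) (p : T ⟶ P) (q : T ⟶ Q) (x : T ⟶ M₂),
      lift p (lift (x ≫ π) q) ≫ a = lift p (lift x q) ≫ ψ := fun T p q x =>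
    ha T _ _ ⟨x, by simp, by simp⟩
  refine ⟨a, ?_, ?_, ?_, ?_⟩
  · have h1 : (P ◁ (π ▷ Q)) = lift (fst P (M₂ ⊗ Q)) (lift ((snd P (M₂ ⊗ Q) ≫ fst M₂ Q) ≫ π) (snd P (M₂ ⊗ Q) ≫ snd M₂ Q)) := by
      refine CartesianMonoidalCategory.hom_ext _ _ (by simp) (CartesianMonoidalCategory.hom_ext _ _ ?_ ?_) <;> simp
    rw [h1, key]
    have h2 : lift (fst P (M₂ ⊗ Q)) (lift (snd P (M₂ ⊗ Q) ≫ fst M₂ Q) (snd P (M₂ ⊗ Q) ≫ snd M₂ Q)) = 𝟙 _ := by
      refine CartesianMonoidalCategory.hom_ext _ _ (by simp) (CartesianMonoidalCategory.hom_ext _ _ ?_ ?_) <;> simp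
    rw [h2, Category.id_comp]
  · intro T p q y z
    obtain ⟨R, hR, hl⟩ := lift_loc_fin π hepi ![y, z]
    refine ext_cover hR fun V g hg => ?_
    obtain ⟨y', hy⟩ := hl V g hg 0
    obtain ⟨z', hz⟩ := hl V g hg 1
    simp only [Matrix.cons_val_zero, Matrix.cons_val_one] at hy hz
    rw [MonObj.comp_mul, ← Category.assoc, ← Category.assoc, ← Category.assoc, comp_lift, comp_lift, comp_lift,
      comp_lift, comp_lift, comp_lift, MonObj.comp_mul, ← hy, ← hz, key, key, ← MonObj.mul_comp, key, hadd]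
  · intro T p q y c
    obtain ⟨R, hR, hl⟩ := lift_loc π hepi y
    refine ext_cover hR fun V g hg => ?_
    obtain ⟨y', hy⟩ := hl V g hg
    rw [← Category.assoc, ← Category.assoc, ← Category.assoc, comp_lift, comp_lift, comp_lift, comp_lift,
      ← Category.assoc, ← hy, Category.assoc, hπ, ← Category.assoc, key, key, hlin]
  · intro a' ha'
    obtain ⟨R, hR, hl⟩ := lift_loc π hepi (snd P (M₃ ⊗ Q) ≫ fst M₃ Q)
    refine ext_cover hR fun V g hg => ?_
    obtain ⟨z, hz⟩ := hl V g hg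
    rw [ha V g _ ⟨z, hz, rfl⟩, ← ha', ← Category.assoc]
    congr 1
    refine CartesianMonoidalCategory.hom_ext _ _ ?_ (CartesianMonoidalCategory.hom_ext _ _ ?_ ?_) <;> simp [hz]

end One

end BlowRegLib.FppfQuot
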