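import Groth.Agent.BlowRegLib.FppfQuot

/-!
# Alternating morphisms out of a power of a quotient of fppf sheaves
-/

set_option backward.isDefEq.respectTransparency false
set_option backward.isDefEq.respectTransparency.types false

set_option autoImplicit false
universe w u
open CategoryTheory CategoryTheory.Limits MonoidalCategory CartesianMonoidalCategory MonObj AlgebraicGeometry

noncomputable section

namespace BlowRegLib.FppfQuot

section Tuples

variable {C : Type*} [Category C] [CartesianMonoidalCategory C] {M : C}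

/-- The projections of a power. -/
def proj : {n : ℕ} → Fin n → (MultSch.pow M n ⟶ M)
  | 0, i => i.elim0
  | n + 1, i => Fin.cases (fst M (MultSch.pow M n)) (fun l => snd M (MultSch.pow M n) ≫ proj l) i

theorem tuple_proj {T : C} : ∀ {n : ℕ} (x : Fin n → (T ⟶ M)) (i : Fin n), MultSch.tuple x ≫ proj i = x i
  | 0, _, i => i.elim0
  | n + 1, x, i => by
    induction i using Fin.cases with
    | zero => exact lift_fst _ _
    | succ l =>
      refine ((Category.assoc _ _ _).symm.trans ?_).trans (tuple_proj (fun l => x l.succ) l)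
      exact congrArg (· ≫ proj l) (lift_snd (x 0) (MultSch.tuple fun l => x l.succ))

theorem eq_tuple_proj {T : C} : ∀ {n : ℕ} (g : T ⟶ MultSch.pow M n), g = MultSch.tuple fun i => g ≫ proj i
  | 0, _ => toUnit_unique _ _
  | n + 1, g => by
    refine CartesianMonoidalCategory.hom_ext _ _ (lift_fst _ _).symm ?_
    refine Eq.trans ?_ (lift_snd _ _).symm
    exact (eq_tuple_proj (g ≫ snd M (MultSch.pow M n))).trans
      (congrArg MultSch.tuple (funext fun l => Category.assoc _ _ _))

theorem comp_tuple {T T' : C} (f : T' ⟶ T) :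
    ∀ {n : ℕ} (x : Fin n → (T ⟶ M)), f ≫ MultSch.tuple x = MultSch.tuple fun l => f ≫ x l
  | 0, _ => toUnit_unique _ _
  | n + 1, x => by
    show f ≫ lift (x 0) (MultSch.tuple fun i => x i.succ) = lift (f ≫ x 0) (MultSch.tuple fun i => f ≫ x i.succ)
    rw [comp_lift, comp_tuple f]

end Tuples

theorem comp_update {C : Type*} [Category C] {M T T' : C} {n : ℕ} (g : T' ⟶ T) (x : Fin n → (T ⟶ M)) (i : Fin n)
    (v : T ⟶ M) : (fun l => g ≫ Function.update x i v l) = Function.update (fun l => g ≫ x l) i (g ≫ v) :=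
  Function.comp_update (fun a => g ≫ a) x i v

variable {S : Scheme.{u}} {M₁ M₂ M₃ N : Over S}
  [GrpObj M₁] [IsCommMonObj M₁] [GrpObj M₂] [IsCommMonObj M₂] [GrpObj M₃] [IsCommMonObj M₃]
  [GrpObj N] [IsCommMonObj N]
  (j : M₁ ⟶ M₂) (π : M₂ ⟶ M₃) [IsMonHom j] [IsMonHom π] (w : j ≫ π = 1)
  {n : ℕ} (hn : 1 ≤ n) (φ : MultSch.pow M₂ n ⟶ N)
  (hmult : MultSch.IsMultilinear φ) (halt : MultSch.IsAlternating φ)
  (hvan : ∀ (T : Over S) (y : T ⟶ M₁) (x : Fin n → (T ⟶ M₂)), x ⟨0, hn⟩ = y ≫ j →
    MultSch.tuple x ≫ φ = 1)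

include hmult halt hvan in
theorem vanish (T : Over S) (y : T ⟶ M₁) (x : Fin n → (T ⟶ M₂)) (i : Fin n) (hi : x i = y ≫ j) :
    MultSch.tuple x ≫ φ = 1 := by
  rcases eq_or_ne i ⟨0, hn⟩ with rfl | hne
  · exact hvan T y x hi
  set o : Fin n := ⟨0, hn⟩
  let F : (T ⟶ M₂) → (T ⟶ M₂) → (T ⟶ N) := fun a b => MultSch.tuple (Function.update (Function.update x o a) i b) ≫ φ
  have hd : ∀ a, F a a = 1 := fun a => halt T _ i o hne (by simp [Function.update_of_ne hne.symm])
  have h1 : ∀ a b c, F (a * b) c = F a c * F b c := fun a b c => by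
    simp only [F, Function.update_comm hne.symm]
    exact hmult T _ o a b
  have h2 : ∀ a b c, F a (b * c) = F a b * F a c := fun a b c => hmult T _ i b c
  have h3 : ∀ a b, F a b * F b a = 1 := fun a b => by
    have := hd (a * b)
    rwa [h1, h2, h2, hd, hd, _root_.one_mul, _root_.mul_one] at this
  have h4 : MultSch.tuple x ≫ φ = F (x o) (x i) := by simp [F]
  have h5 : F (x i) (x o) = 1 := hvan T y _ (by simp [Function.update_of_ne hne.symm, o, hi])
  have := h3 (x o) (x i)
  rw [h5, _root_.mul_one] at this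
  rw [h4, this]

include w hmult halt hvan in
theorem indep_slot (hex : (CGrpSh.seq Scheme.fppfPrecoverage j π w).Exact) {T : Over S} (x : Fin n → (T ⟶ M₂)) (l : Fin n)
    (z z' : T ⟶ M₂) (h : z ≫ π = z' ≫ π) :
    MultSch.tuple (Function.update x l z) ≫ φ = MultSch.tuple (Function.update x l z') ≫ φ := by
  obtain ⟨R, hR, hy⟩ := exact_loc j π w hex (z * z'⁻¹) (by rw [MonObj.mul_comp, GrpObj.inv_comp, h, mul_inv_cancel])
  refine ext_cover hR fun V g hg => ?_
  obtain ⟨y, hy⟩ := hy V g hg
  have h1 : g ≫ z = (y ≫ j) * (g ≫ z') := by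
    rw [hy, ← MonObj.comp_mul, inv_mul_cancel_right]
  rw [← Category.assoc, ← Category.assoc, comp_tuple, comp_tuple, comp_update, comp_update, h1, hmult,
    vanish j hn φ hmult halt hvan V y (Function.update (fun m => g ≫ x m) l (y ≫ j)) l (Function.update_self _ _ _),
    _root_.one_mul]

include w hmult halt hvan in
theorem indep_tuple (hex : (CGrpSh.seq Scheme.fppfPrecoverage j π w).Exact) {T : Over S} (x x' : Fin n → (T ⟶ M₂))
    (h : ∀ l, x l ≫ π = x' l ≫ π) : MultSch.tuple x ≫ φ = MultSch.tuple x' ≫ φ := by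
  classical
  have key : ∀ s : Finset (Fin n), MultSch.tuple (s.piecewise x' x) ≫ φ = MultSch.tuple x ≫ φ := fun s => by
    induction s using Finset.induction_on with
    | empty => simp
    | insert a t ha ih =>
      rw [Finset.piecewise_insert, ← ih]
      refine (indep_slot j π w hn φ hmult halt hvan hex (t.piecewise x' x) a (x' a) (x a) (h a).symm).trans ?_
      congr 2
      rw [← Finset.piecewise_eq_of_notMem t x' x ha, Function.update_eq_self]
  rw [← key Finset.univ, Finset.piecewise_univ]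

include w hmult halt hvan in
theorem exists_factor_alt {R : Type w} [CommRing R] (ρ₂ : MultSch.RMod R M₂) (ρ₃ : MultSch.RMod R M₃) (ρN : MultSch.RMod R N)
    (hπ : ∀ a : R, π ≫ ρ₃.act a = ρ₂.act a ≫ π) (hlin : MultSch.IsRLinear ρ₂ ρN φ)
    (hex : (CGrpSh.seq Scheme.fppfPrecoverage j π w).Exact) (hepi : Epi (CGrpSh.ptsMap Scheme.fppfPrecoverage π)) :
    ∃ φ' : MultSch.pow M₃ n ⟶ N,
      (∀ (T : Over S) (x : Fin n → (T ⟶ M₂)), MultSch.tuple x ≫ φ = MultSch.tuple (fun l => x l ≫ π) ≫ φ') ∧
      MultSch.IsMultilinear φ' ∧ MultSch.IsRLinear ρ₃ ρN φ' ∧ MultSch.IsAlternating φ' ∧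
      ∀ φ'' : MultSch.pow M₃ n ⟶ N,
        (∀ (T : Over S) (x : Fin n → (T ⟶ M₂)), MultSch.tuple x ≫ φ = MultSch.tuple (fun l => x l ≫ π) ≫ φ'') →
          φ'' = φ' := by
  classical
  obtain ⟨a, ha⟩ := desc (U := MultSch.pow M₃ n) (N := N)
    (fun V g b => ∃ z : Fin n → (V ⟶ M₂), (∀ l, z l ≫ π = g ≫ proj l) ∧ b = MultSch.tuple z ≫ φ)
    (by
      rintro V W h g b ⟨z, hz, rfl⟩
      exact ⟨fun l => h ≫ z l, fun l => by rw [Category.assoc, hz, Category.assoc],
        by rw [← comp_tuple, Category.assoc]⟩)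
    (by
      rintro V g b b' ⟨z, hz, rfl⟩ ⟨z', hz', rfl⟩
      exact indep_tuple j π w hn φ hmult halt hvan hex z z' fun l => (hz l).trans (hz' l).symm)
    (by
      obtain ⟨R, hR, hl⟩ := lift_loc_fin π hepi fun l => proj (M := M₃) l
      exact ⟨R, hR, fun V g hg => ⟨_, _, fun l => (hl V g hg l).choose_spec, rfl⟩⟩)
  have key : ∀ (T : Over S) (x : Fin n → (T ⟶ M₂)),
      MultSch.tuple x ≫ φ = MultSch.tuple (fun l => x l ≫ π) ≫ a := fun T x =>
    (ha T _ _ ⟨x, fun l => (tuple_proj (fun l => x l ≫ π) l).symm, rfl⟩).symm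
  refine ⟨a, key, ?_, ?_, ?_, ?_⟩
  · intro T x i y z
    obtain ⟨R, hR, hl⟩ := lift_loc_fin π hepi x
    obtain ⟨R', hR', hl'⟩ := lift_loc_fin π hepi ![y, z]
    refine ext_cover (GrothendieckTopology.intersection_covering _ hR hR') fun V g hg => ?_
    choose x' hx using fun l => hl V g hg.1 l
    obtain ⟨y', hy⟩ := hl' V g hg.2 0
    obtain ⟨z', hz⟩ := hl' V g hg.2 1
    simp only [Matrix.cons_val_zero, Matrix.cons_val_one] at hy hz
    have e : ∀ v : V ⟶ M₂, Function.update (fun l => g ≫ x l) i (v ≫ π) = fun l => Function.update x' i v l ≫ π :=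
      fun v => by
        rw [← funext hx]
        exact (Function.comp_update (fun t => t ≫ π) x' i v).symm
    rw [MonObj.comp_mul, ← Category.assoc, ← Category.assoc, ← Category.assoc, comp_tuple, comp_tuple, comp_tuple,
      comp_update, comp_update, comp_update, MonObj.comp_mul, ← hy, ← hz, ← MonObj.mul_comp, e, e, e, ← key, ← key, ← key]
    exact hmult V x' i y' z'
  · intro T x i c
    obtain ⟨R, hR, hl⟩ := lift_loc_fin π hepi x
    refine ext_cover hR fun V g hg => ?_
    choose x' hx using fun l => hl V g hg l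
    rw [← Category.assoc, ← Category.assoc, ← Category.assoc, comp_tuple, comp_tuple, comp_update, ← Category.assoc,
      ← funext hx, ← hx i]
    have e : Function.update (fun l => x' l ≫ π) i (((x' i) ≫ π) ≫ ρ₃.act c) =
        fun l => Function.update x' i (x' i ≫ ρ₂.act c) l ≫ π := by
      rw [Category.assoc, hπ, ← Category.assoc]
      exact (Function.comp_update (fun t => t ≫ π) x' i _).symm
    rw [e, ← key, ← key]
    exact hlin V x' i c
  · intro T x i l hil hx
    obtain ⟨R, hR, hl⟩ := lift_loc_fin π hepi x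
    refine ext_cover hR fun V g hg => ?_
    choose x' hx' using fun m => hl V g hg m
    let z := Function.update x' l (x' i)
    have hz : ∀ m, z m ≫ π = g ≫ x m := fun m => by
      by_cases h : m = l
      · subst h
        simp only [z, Function.update_self]
        rw [hx', hx]
      · simp only [z, Function.update_of_ne h]
        exact hx' m
    rw [← Category.assoc, comp_tuple, ← funext hz, ← key, MonObj.comp_one]
    exact halt V z i l hil (by simp [z, Function.update_of_ne hil])
  · intro a' ha'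
    obtain ⟨R, hR, hl⟩ := lift_loc_fin π hepi fun l => proj (M := M₃) l
    refine ext_cover hR fun V g hg => ?_
    choose z hz using fun l => hl V g hg l
    rw [ha V g _ ⟨z, hz, rfl⟩, ha']
    congr 1
    rw [eq_tuple_proj g]
    exact congrArg MultSch.tuple (funext fun l => (hz l).symm)

end BlowRegLib.FppfQuot
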