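import Groth.Agent.AlgSpLib.ReducedStalk
import Mathlib.AlgebraicGeometry.PullbackCarrier
import Mathlib.AlgebraicGeometry.ResidueField
import Mathlib.AlgebraicGeometry.Morphisms.ClosedImmersion

/-!
# Closed integral subschemes in fibres over generic points
-/

set_option autoImplicit false
universe u

open CategoryTheory CategoryTheory.Limits AlgebraicGeometry TopologicalSpace

noncomputable section

namespace BlowRegLib

theorem eq_of_specializes_generic {S : Scheme.{u}} {s x : S} (hs : closure ({s} : Set S) ∈ irreducibleComponents S)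
    (h : x ⤳ s) : x = s := by
  have h1 : closure ({s} : Set S) ⊆ closure {x} := h.closure_subset
  have h2 : closure ({x} : Set S) ⊆ closure {s} := hs.2 isIrreducible_singleton.closure h1
  exact (h.antisymm (specializes_iff_mem_closure.2 (h2 (subset_closure rfl)))).eq

theorem isReduced_of_flat_preimmersion {P Q : Scheme.{u}} (g : P ⟶ Q) [Flat g] [IsPreimmersion g] [IsReduced Q] :
    IsReduced P := by
  haveI : ∀ p : P, _root_.IsReduced (P.presheaf.stalk p) := fun p => by
    have h := Flat.stalkMap g p
    have hb : Function.Bijective (g.stalkMap p) := by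
      refine ⟨?_, g.stalkMap_surjective p⟩
      algebraize [(g.stalkMap p).hom]
      have : Module.FaithfullyFlat (Q.presheaf.stalk (g p)) (P.presheaf.stalk p) :=
        @Module.FaithfullyFlat.of_flat_of_isLocalHom _ _ _ _ _ _ _ h (g.toLRSHom.prop p)
      exact RingHom.FaithfullyFlat.injective (f := (g.stalkMap p).hom) ‹_›
    exact isReduced_of_injective (RingEquiv.ofBijective (g.stalkMap p).hom hb).symm.toRingHom
      (RingEquiv.ofBijective (g.stalkMap p).hom hb).symm.injective
  exact isReduced_of_isReduced_stalk P

set_option maxHeartbeats 800000 in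
theorem isReduced_generic_fibre {Z S : Scheme.{u}} [IsReduced Z] (g : Z ⟶ S) (s : S)
    (hs : closure ({s} : Set S) ∈ irreducibleComponents S) :
    IsReduced (pullback g (S.fromSpecResidueField s)) := by
  haveI := AlgSpLib.flat_fromSpecStalk s
  let a : Spec (S.residueField s) ⟶ Spec (S.presheaf.stalk s) := Spec.map (S.residue s)
  haveI : IsClosedImmersion a := IsClosedImmersion.spec_of_surjective _ IsLocalRing.residue_surjective
  have e : a ≫ S.fromSpecStalk s = S.fromSpecResidueField s := rfl
  haveI : Surjective a := ⟨fun q => by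
    refine ⟨Nonempty.some inferInstance, (S.fromSpecStalk s).isEmbedding.injective ?_⟩
    have h1 : S.fromSpecStalk s q ∈ Set.range (S.fromSpecStalk s) := ⟨q, rfl⟩
    rw [Scheme.range_fromSpecStalk] at h1
    rw [eq_of_specializes_generic hs h1]
    rw [← Scheme.Hom.comp_apply, e]
    exact Scheme.fromSpecResidueField_apply s _⟩
  haveI : IsReduced (pullback g (S.fromSpecStalk s)) :=
    isReduced_of_flat_preimmersion (pullback.fst g (S.fromSpecStalk s))
  let b := pullback.fst (pullback.snd g (S.fromSpecStalk s)) a
  haveI : IsIso b := isIso_of_isClosedImmersion_of_surjective b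
  haveI : IsReduced (pullback (pullback.snd g (S.fromSpecStalk s)) a) := isReduced_of_isOpenImmersion b
  have h : IsReduced (pullback g (a ≫ S.fromSpecStalk s)) :=
    isReduced_of_isOpenImmersion (pullbackLeftPullbackSndIso g (S.fromSpecStalk s) a).inv
  exact e ▸ h

theorem isIntegral_closure_in_fibre {X S Z : Scheme.{u}} (f : X ⟶ S) (z : X)
    (hz : closure {f z} ∈ irreducibleComponents S) (ι : Z ⟶ X) [IsClosedImmersion ι] [IsReduced Z]
    (hZ : Set.range ι = closure {z}) :
    IsIntegral (pullback (ι ≫ f) (S.fromSpecResidueField (f z))) ∧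
      ∃ w : ↥(pullback f (S.fromSpecResidueField (f z))), pullback.fst f (S.fromSpecResidueField (f z)) w = z ∧
        Set.range (pullback.map (ι ≫ f) (S.fromSpecResidueField (f z)) f (S.fromSpecResidueField (f z)) ι (𝟙 _) (𝟙 S)
          (Category.comp_id _) ((Category.comp_id _).trans (Category.id_comp _).symm)) = closure {w} := by
  set q := S.fromSpecResidueField (f z) with hq
  obtain ⟨zz, hzz⟩ : z ∈ Set.range ι := hZ ▸ subset_closure rfl
  have hspec : ∀ z' : Z, zz ⤳ z' := fun z' => by
    rw [← ι.isEmbedding.isInducing.specializes_iff, hzz, specializes_iff_mem_closure]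
    exact hZ ▸ Set.mem_range_self z'
  obtain ⟨p₀, hp₀⟩ : zz ∈ Set.range (pullback.fst (ι ≫ f) q) := by
    rw [Scheme.Pullback.range_fst, Set.mem_preimage, hq, Scheme.range_fromSpecResidueField, Scheme.Hom.comp_apply, hzz]
    rfl
  have hall : ∀ p, p₀ ⤳ p := fun p => by
    rw [← (pullback.fst (ι ≫ f) q).isEmbedding.isInducing.specializes_iff, hp₀]
    exact hspec _
  have hcl : closure ({p₀} : Set ↥(pullback (ι ≫ f) q)) = Set.univ :=
    Set.eq_univ_of_forall fun p => specializes_iff_mem_closure.1 (hall p)
  haveI : IrreducibleSpace ↥(pullback (ι ≫ f) q) := by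
    rw [irreducibleSpace_def, Set.top_eq_univ, ← hcl]
    exact isIrreducible_singleton.closure
  haveI : IsReduced (pullback (ι ≫ f) q) := isReduced_generic_fibre (ι ≫ f) _ hz
  refine ⟨isIntegral_of_irreducibleSpace_of_isReduced _, ?_⟩
  set m := pullback.map (ι ≫ f) q f q ι (𝟙 _) (𝟙 S)
    (Category.comp_id _) ((Category.comp_id _).trans (Category.id_comp _).symm)
  have hm : m = (pullbackRightPullbackFstIso f q ι).inv ≫ pullback.snd ι (pullback.fst f q) := by
    apply pullback.hom_ext
    · rw [Category.assoc, show m ≫ pullback.fst f q = pullback.fst (ι ≫ f) q ≫ ι from pullback.lift_fst _ _ _,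
        ← pullback.condition, pullbackRightPullbackFstIso_inv_fst_assoc]
    · rw [Category.assoc, show m ≫ pullback.snd f q = pullback.snd (ι ≫ f) q ≫ 𝟙 _ from pullback.lift_snd _ _ _,
        Category.comp_id, pullbackRightPullbackFstIso_inv_snd_snd]
  haveI : IsClosedImmersion m := hm ▸ inferInstance
  refine ⟨m p₀, ?_, ?_⟩
  · rw [← Scheme.Hom.comp_apply, pullback.lift_fst, Scheme.Hom.comp_apply, hp₀, hzz]
  · rw [← Set.image_univ, ← hcl, ← m.isClosedEmbedding.isClosedMap.closure_image_eq_of_continuous m.continuous]
    rw [Set.image_singleton]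

end BlowRegLib
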