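import Groth.Agent.DecShLib.Basic
import Groth.Agent.DevissLib.Filtration
import Groth.Prelude.Def_TorSh

/-!
# Germs of sections of torsion free coherent modules on reduced schemes
-/

set_option autoImplicit false
set_option linter.style.haveILetI false
universe u

open CategoryTheory CategoryTheory.Limits AlgebraicGeometry TopologicalSpace Opposite
open DevissLib

noncomputable section

namespace BlowRegLib

variable {X : Scheme.{u}}

/-- An associated point of a torsion free module has a field as its local ring. -/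
theorem isField_stalk_of_asso [IsLocallyNoetherian X] [AlgebraicGeometry.IsReduced X] {E : X.Modules}
    (htf : TorSh.IsTorsionFree E) {η : X} (h : DevissLib.Asso E η) :
    IsField (X.presheaf.stalk η) := by
  rw [← PrimeSpectrum.subsingleton_iff_isField_of_isReduced]
  refine ⟨fun a b => ?_⟩
  have key : ∀ w : PrimeSpectrum (X.presheaf.stalk η), X.fromSpecStalk η w = η := fun w => by
    refine DecShLib.eq_of_specializes_asso htf h ?_
    have : X.fromSpecStalk η w ∈ Set.range (X.fromSpecStalk η) := ⟨w, rfl⟩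
    rwa [Scheme.range_fromSpecStalk] at this
  exact (X.fromSpecStalk η).isEmbedding.injective ((key a).trans (key b).symm)

/-- The germ map at a point to which every generic point of `U` specializes is injective. -/
theorem germ_injective_of_tf [IsLocallyNoetherian X] [AlgebraicGeometry.IsReduced X] {F : X.Modules}
    (hF : Coh.IsCoh F) (htF : TorSh.IsTorsionFree F) {x : X} {U : X.Opens} (hxU : x ∈ U)
    (hU : ∀ y : X, y ∈ U → IsField (X.presheaf.stalk y) → x ∈ closure ({y} : Set X)) :
    Function.Injective (F.presheaf.germ U x hxU) := by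
  haveI : Coh.IsQCoh F := hF.1
  refine (injective_iff_map_eq_zero (F.presheaf.germ U x hxU).hom).2 fun s hs => ?_
  change gm F x hxU s = 0 at hs
  refine TopCat.Presheaf.section_ext
    ((QCohLib.toAbF X).obj F : TopCat.Sheaf AddCommGrpCat _) U s 0 fun y hy => ?_
  change gm F y hy s = gm F y hy 0
  rw [gm_zero]
  by_contra hne
  obtain ⟨V, hV, hyV, hVU⟩ := exists_isAffineOpen_mem_and_subset (U := U) hy
  haveI : IsNoetherianRing Γ(X, V) := IsLocallyNoetherian.component_noetherian ⟨V, hV⟩
  set t : Γ(F, V) := F.presheaf.map (homOfLE hVU).op s with ht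
  have hty : gm F y hyV t ≠ 0 := fun h => hne ((gm_map F hVU y hyV s).symm.trans h)
  set N : Submodule Γ(X, V) Γ(F, V) := Submodule.span Γ(X, V) {t} with hN
  haveI : Module.Finite Γ(X, V) N := Module.Finite.span_singleton _ _
  have hle : Module.annihilator Γ(X, V) N ≤ (hV.primeIdealOf ⟨y, hyV⟩).asIdeal := fun r hr => by
    by_contra hr'
    refine hty ((gm_eq_zero_iff hV y hyV t).2 ⟨r, hr', ?_⟩)
    have h1 := Module.mem_annihilator.1 hr ⟨t, Submodule.mem_span_singleton_self t⟩
    exact congr_arg Subtype.val h1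
  obtain ⟨q, hq, hqy⟩ := Ideal.exists_minimalPrimes_le hle
  obtain ⟨hprime, n, hn⟩ := isAssociatedPrime_iff.mp
    (Module.associatedPrimes.minimalPrimes_annihilator_subset_associatedPrimes Γ(X, V) N hq)
  obtain ⟨a, ha⟩ := Submodule.mem_span_singleton.1 n.2
  have hs' : ∀ r, r ∈ q ↔ r • (n : Γ(F, V)) = 0 := fun r => by
    rw [hn, Submodule.mem_colon_singleton, Submodule.mem_bot, Subtype.ext_iff]
    rfl
  let q' : PrimeSpectrum Γ(X, V) := ⟨q, hprime⟩
  set η : X := hV.fromSpec q' with hη
  have hηV : η ∈ V := by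
    have : hV.fromSpec q' ∈ Set.range hV.fromSpec := ⟨q', rfl⟩
    rwa [hV.range_fromSpec] at this
  have hqη : hV.primeIdealOf ⟨η, hηV⟩ = q' :=
    hV.fromSpec.isOpenEmbedding.injective (hV.fromSpec_primeIdealOf ⟨_, hηV⟩)
  have hn0 : gm F η hηV (n : Γ(F, V)) ≠ 0 := fun h => by
    obtain ⟨r, hr, hrs⟩ := (gm_eq_zero_iff hV η hηV _).mp h
    rw [hqη] at hr
    exact hr ((hs' r).mpr hrs)
  have hA : Asso F η := ⟨_, hn0, maximalIdeal_smul_gm hV η hηV _ fun b hb => by
    rw [hqη] at hb
    rw [(hs' b).mp hb, gm_zero]⟩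
  have hηx : η ⤳ x :=
    specializes_iff_mem_closure.2 (hU η (hVU hηV) (isField_stalk_of_asso htF hA))
  refine hn0 ?_
  rw [← ha, gm_smul]
  have h1 : gm F η (hVU hηV) s = 0 := by
    have h2 := congr_arg (F.presheaf.stalkSpecializes hηx) hs
    refine Eq.trans ?_ (h2.trans (map_zero (F.presheaf.stalkSpecializes hηx).hom))
    exact (ConcreteCategory.congr_hom
      (TopCat.Presheaf.germ_stalkSpecializes F.presheaf hxU hηx) s).symm
  exact (congr_arg _ ((gm_map F hVU η hηV s).trans h1)).trans (smul_zero _)

end BlowRegLib
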