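import Mathlib.Algebra.Module.Torsion.Basic
import Mathlib.LinearAlgebra.Matrix.Symmetric
import Mathlib.LinearAlgebra.Matrix.ToLin
import Mathlib.LinearAlgebra.FiniteDimensional.Lemmas
import Mathlib.FieldTheory.Finiteness
import Mathlib.Data.ZMod.Basic
import Mathlib.Algebra.Field.ZMod
import Mathlib.Tactic.FieldSimp
import Mathlib.Tactic.LinearCombination

/-!
# Torsion in the cokernel of an intersection matrix
-/

set_option autoImplicit false

open Matrix Finset Module

noncomputable section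

namespace BlowRegLib.GraphTorsion

variable {n : ℕ} {F : Type} [Field F] (B : Matrix (Fin n) (Fin n) F) (m : Fin n → F)
  (E : Finset (Fin n × Fin n))

/-- The differences along edges. -/
def D : (Fin n → F) →ₗ[F] (E → F) where
  toFun x e := m e.1.1 * x e.1.2 - m e.1.2 * x e.1.1
  map_add' x y := by ext e; simp only [Pi.add_apply]; ring
  map_smul' c x := by ext e; simp only [Pi.smul_apply, smul_eq_mul, RingHom.id_apply]; ring

/-- The weighted divergence. -/
def G : (E → F) →ₗ[F] (Fin n → F) where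
  toFun z a := ∑ e : E, B e.1.1 e.1.2 * z e *
    ((if a = e.1.1 then (m a)⁻¹ else 0) - (if a = e.1.2 then (m a)⁻¹ else 0))
  map_add' x y := by ext a; simp only [Pi.add_apply, mul_add, add_mul, Finset.sum_add_distrib]
  map_smul' c x := by
    ext a
    simp only [Pi.smul_apply, smul_eq_mul, RingHom.id_apply, Finset.mul_sum]
    exact Finset.sum_congr rfl fun e _ => by ring

theorem G_D (hsymm : ∀ i j, B i j = B j i) (hm : ∀ i, m i ≠ 0) (hBm : B *ᵥ m = 0)
    (hE : ∀ e ∈ E, e.1 < e.2) (hE' : ∀ i j, i < j → B i j ≠ 0 → (i, j) ∈ E) (x : Fin n → F) :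
    G B m E (D m E x) = B *ᵥ x := by
  classical
  ext a
  let g : Fin n × Fin n → F := fun e => B e.1 e.2 * (m e.1 * x e.2 - m e.2 * x e.1) *
    ((if a = e.1 then (m a)⁻¹ else 0) - (if a = e.2 then (m a)⁻¹ else 0))
  have h0 : G B m E (D m E x) a = ∑ e ∈ E, g e := (Finset.sum_coe_sort E g)
  have h1 : ∑ e ∈ E, g e = ∑ e ∈ (univ : Finset (Fin n × Fin n)).filter (fun e => e.1 < e.2), g e := by
    refine Finset.sum_subset (fun e he => by simp [hE e he]) fun e he hne => ?_
    have hB : B e.1 e.2 = 0 := by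
      by_contra h
      exact hne (hE' e.1 e.2 (by simpa using he) h)
    simp [g, hB]
  have h2 : ∑ e ∈ (univ : Finset (Fin n × Fin n)).filter (fun e => e.1 < e.2), g e =
      ∑ b, (if a < b then g (a, b) else 0) + ∑ b, (if b < a then g (b, a) else 0) := by
    rw [Finset.sum_filter, Fintype.sum_prod_type]
    have hterm : ∀ i j : Fin n, (if i < j then g (i, j) else 0) =
        (if i = a then (if a < j then g (a, j) else 0) else 0) +
          (if j = a then (if i < a then g (i, a) else 0) else 0) := by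
      intro i j
      by_cases hi : i = a
      · subst hi
        by_cases hj : j = i
        · subst hj; simp
        · simp [hj]
      · by_cases hj : j = a
        · subst hj; simp [hi]
        · simp [hi, hj, g, Ne.symm hi, Ne.symm hj]
    rw [Finset.sum_congr rfl fun i _ => Finset.sum_congr rfl fun j _ => hterm i j]
    simp only [Finset.sum_add_distrib]
    refine congrArg₂ (· + ·) ?_ ?_
    · rw [Finset.sum_eq_single a (fun i _ hi => by simp [hi]) (by simp)]
      simp
    · simp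
  have h3 : ∀ b, (if a < b then g (a, b) else 0) + (if b < a then g (b, a) else 0) =
      B a b * x b - x a * (m a)⁻¹ * (B a b * m b) := by
    intro b
    rcases lt_trichotomy a b with h | h | h
    · simp only [h, h.not_gt, if_true, if_false, add_zero, g, h.ne]
      field_simp [hm a]
      ring
    · subst h
      simp only [lt_irrefl, if_false, add_zero]
      field_simp [hm a]
      ring
    · have hs := hsymm b a
      simp only [h, h.not_gt, if_true, if_false, zero_add, g, h.ne']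
      rw [hs]
      field_simp [hm a]
      ring
  rw [h0, h1, h2, ← Finset.sum_add_distrib, Finset.sum_congr rfl fun b _ => h3 b, Finset.sum_sub_distrib,
    ← Finset.mul_sum]
  have h4 : ∑ b, B a b * m b = 0 := congrFun hBm a
  rw [h4, mul_zero, sub_zero]
  rfl

theorem forall_of_connected (hconn : ∀ I : Finset (Fin n), I.Nonempty → I ≠ univ → ∃ i ∈ I, ∃ j ∉ I, (i, j) ∈ E ∨ (j, i) ∈ E)
    (P : Fin n → Prop) (a : Fin n) (ha : P a) (hP : ∀ i j, P i → (i, j) ∈ E ∨ (j, i) ∈ E → P j) (b : Fin n) : P b := by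
  classical
  by_contra hb
  obtain ⟨i, hi, j, hj, hij⟩ := hconn (univ.filter P) ⟨a, by simp [ha]⟩ fun h => hb (by
    have := h ▸ Finset.mem_univ b
    simpa using this)
  exact hj (by simpa using hP i j (by simpa using hi) hij)

variable (hm : ∀ i, m i ≠ 0)
  (hconn : ∀ I : Finset (Fin n), I.Nonempty → I ≠ univ → ∃ i ∈ I, ∃ j ∉ I, (i, j) ∈ E ∨ (j, i) ∈ E)

include hm hconn in
theorem ker_D_le : LinearMap.ker (D m E) ≤ Submodule.span F {m} := by
  intro x hx
  rcases Nat.eq_zero_or_pos n with hn | hn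
  · subst hn
    rw [Subsingleton.elim x 0]
    exact zero_mem _
  let a : Fin n := ⟨0, hn⟩
  refine Submodule.mem_span_singleton.2 ⟨x a * (m a)⁻¹, funext fun b => ?_⟩
  refine forall_of_connected E hconn (fun b => x a * (m a)⁻¹ * m b = x b) a (by field_simp [hm a]) ?_ b
  intro i j hi hij
  rcases hij with h | h
  · have h1 : m i * x j - m j * x i = 0 := congrFun (LinearMap.mem_ker.1 hx) ⟨_, h⟩
    refine mul_left_cancel₀ (hm i) ?_
    linear_combination (m j) * hi - h1
  · have h1 : m j * x i - m i * x j = 0 := congrFun (LinearMap.mem_ker.1 hx) ⟨_, h⟩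
    refine mul_left_cancel₀ (hm i) ?_
    linear_combination (m j) * hi + h1

include hm hconn in
theorem le_finrank_range_G (hE : ∀ e ∈ E, e.1 < e.2) (hB : ∀ e ∈ E, B e.1 e.2 ≠ 0) :
    n ≤ finrank F (LinearMap.range (G B m E)) + 1 := by
  classical
  rcases Nat.eq_zero_or_pos n with hn | hn
  · omega
  let a : Fin n := ⟨0, hn⟩
  let w : Fin n → (Fin n → F) := fun i => Pi.single i (m i)⁻¹
  let R := LinearMap.range (G B m E)
  have hedge : ∀ i j, (i, j) ∈ E → w i - w j ∈ R := by
    intro i j h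
    refine ⟨Pi.single ⟨(i, j), h⟩ (B i j)⁻¹, funext fun c => ?_⟩
    have hne : i ≠ j := (hE _ h).ne
    change ∑ e : E, _ = _
    rw [Finset.sum_eq_single ⟨(i, j), h⟩ (fun e _ he => by simp [Pi.single_eq_of_ne he]) (by simp)]
    simp only [Pi.single_eq_same, Pi.sub_apply, w, Pi.single_apply, mul_inv_cancel₀ (hB _ h), one_mul]
    split_ifs <;> simp_all
  have hall : ∀ b, w a - w b ∈ R := forall_of_connected E hconn (fun b => w a - w b ∈ R) a (by simp)
    fun i j hi hij => by
      rcases hij with h | h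
      · simpa using R.add_mem hi (hedge i j h)
      · simpa using R.sub_mem hi (hedge j i h)
  have htop : (⊤ : Submodule F (Fin n → F)) ≤ R ⊔ Submodule.span F {w a} := by
    intro x _
    rw [pi_eq_sum_univ' x]
    refine Submodule.sum_mem _ fun b _ => Submodule.smul_mem _ _ ?_
    have hb : (Pi.single b (1 : F) : Fin n → F) = m b • (w a - (w a - w b)) := by
      ext c
      simp only [sub_sub_cancel, w, Pi.smul_apply, Pi.single_apply, smul_eq_mul]
      split_ifs <;> simp [hm b]
    rw [hb]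
    refine Submodule.smul_mem _ _ (Submodule.sub_mem _ (Submodule.mem_sup_right (Submodule.mem_span_singleton_self _))
      (Submodule.mem_sup_left (hall b)))
  have h1 := (Submodule.finrank_mono htop).trans (Submodule.finrank_add_le_finrank_add_finrank _ _)
  have h2 : finrank F (Submodule.span F {w a}) ≤ 1 := (finrank_span_le_card _).trans (by simp)
  rw [finrank_top, finrank_fin_fun] at h1
  change n ≤ finrank F R + 1
  omega

include hm hconn in
theorem finrank_ker_le (hE : ∀ e ∈ E, e.1 < e.2) (hB : ∀ e ∈ E, B e.1 e.2 ≠ 0) :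
    finrank F (LinearMap.ker (G B m E ∘ₗ D m E)) + n ≤ E.card + 2 := by
  set K := LinearMap.ker (G B m E ∘ₗ D m E)
  have h1 := LinearMap.finrank_range_add_finrank_ker ((D m E).domRestrict K)
  have h2 : finrank F (LinearMap.range ((D m E).domRestrict K)) ≤ finrank F (LinearMap.ker (G B m E)) := by
    refine Submodule.finrank_mono ?_
    rintro _ ⟨⟨x, hx⟩, rfl⟩
    exact hx
  have h3 : finrank F (LinearMap.ker ((D m E).domRestrict K)) ≤ 1 := by
    rw [LinearMap.ker_domRestrict]
    refine (Submodule.finrank_map_subtype_eq K _).symm.trans_le ?_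
    refine (Submodule.finrank_mono ?_).trans ((finrank_span_le_card ({m} : Set (Fin n → F))).trans (by simp))
    rintro _ ⟨x, hx, rfl⟩
    exact ker_D_le m E hm hconn hx
  have h4 := LinearMap.finrank_range_add_finrank_ker (G B m E)
  rw [finrank_fintype_fun_eq_card, Fintype.card_coe] at h4
  have h5 := le_finrank_range_G B m E hm hconn hE hB
  omega

theorem card_torsion_le {n : ℕ} (A : Matrix (Fin n) (Fin n) ℤ)
    (m : Fin n → ℤ) (hsymm : A.IsSymm) (hA : ∀ i j, i ≠ j → 0 ≤ A i j)
    (hAm : A.mulVec m = 0)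
    (hconn : ∀ I : Finset (Fin n), I.Nonempty → I ≠ univ → ∃ i ∈ I, ∃ j ∉ I, A i j ≠ 0)
    (ℓ : ℕ) (hℓ : ℓ.Prime) (hℓA : ∀ i j, A i j ≠ 0 → ¬ ((ℓ : ℤ) ∣ A i j))
    (hℓm : ∀ i, ¬ ((ℓ : ℤ) ∣ m i)) :
    Nat.card (Submodule.torsionBy ℤ ((Fin n → ℤ) ⧸ LinearMap.range (Matrix.mulVecLin A)) (ℓ : ℤ))
      ≤ ℓ ^ ((univ.filter fun p : Fin n × Fin n => p.1 < p.2 ∧ 0 < A p.1 p.2).card + 1 - n) := by
  classical
  haveI : Fact ℓ.Prime := ⟨hℓ⟩
  rcases Nat.eq_zero_or_pos n with hn | hn
  · subst hn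
    haveI : Subsingleton ((Fin 0 → ℤ) ⧸ LinearMap.range (Matrix.mulVecLin A)) :=
      (Submodule.mkQ_surjective (LinearMap.range (Matrix.mulVecLin A))).subsingleton
    rw [Nat.card_of_subsingleton (0 : Submodule.torsionBy ℤ _ (ℓ : ℤ))]
    exact Nat.one_le_pow _ _ hℓ.pos
  set E := univ.filter fun p : Fin n × Fin n => p.1 < p.2 ∧ 0 < A p.1 p.2 with hEdef
  let c : ℤ →+* ZMod ℓ := Int.castRingHom _
  let B := A.map c
  let mb : Fin n → ZMod ℓ := c ∘ m
  have hcne : ∀ z : ℤ, ¬ (ℓ : ℤ) ∣ z → c z ≠ 0 := fun z hz h => hz ((ZMod.intCast_zmod_eq_zero_iff_dvd z ℓ).1 h)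
  have hm : ∀ i, mb i ≠ 0 := fun i => hcne _ (hℓm i)
  have hmap : ∀ y : Fin n → ℤ, B *ᵥ (c ∘ y) = c ∘ (A *ᵥ y) := fun y => funext fun i => (RingHom.map_mulVec c A y i).symm
  have hBm : B *ᵥ mb = 0 := by
    refine (hmap m).trans ?_
    rw [hAm]
    ext i
    simp
  have hE : ∀ e ∈ E, e.1 < e.2 := fun e he => ((Finset.mem_filter.1 he).2).1
  have hB : ∀ e ∈ E, B e.1 e.2 ≠ 0 := fun e he => hcne _ (hℓA _ _ (Finset.mem_filter.1 he).2.2.ne')
  have hE' : ∀ i j, i < j → B i j ≠ 0 → (i, j) ∈ E := fun i j hij h => by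
    refine Finset.mem_filter.2 ⟨Finset.mem_univ _, hij, lt_of_le_of_ne (hA i j hij.ne) fun h0 => h ?_⟩
    change c (A i j) = 0
    rw [← h0, map_zero]
  have hconn' : ∀ I : Finset (Fin n), I.Nonempty → I ≠ univ → ∃ i ∈ I, ∃ j ∉ I, (i, j) ∈ E ∨ (j, i) ∈ E := by
    intro I h1 h2
    obtain ⟨i, hi, j, hj, h⟩ := hconn I h1 h2
    have hne : i ≠ j := fun e => hj (e ▸ hi)
    refine ⟨i, hi, j, hj, (lt_or_gt_of_ne hne).imp (fun hl => hE' i j hl (hcne _ (hℓA _ _ h))) fun hl => hE' j i hl ?_⟩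
    change c (A j i) ≠ 0
    rw [hsymm.apply i j]
    exact hcne _ (hℓA _ _ h)
  have hker : finrank (ZMod ℓ) (LinearMap.ker B.mulVecLin) + n ≤ E.card + 2 := by
    have := finrank_ker_le B mb E hm hconn' hE hB
    have he : G B mb E ∘ₗ D mb E = B.mulVecLin := LinearMap.ext fun x =>
      G_D B mb E (fun i j => congrArg c (hsymm.apply j i)) hm hBm hE hE' x
    rwa [he] at this
  let K := LinearMap.ker B.mulVecLin
  let mK : K := ⟨mb, hBm⟩
  have hspan : finrank (ZMod ℓ) (Submodule.span (ZMod ℓ) {mK}) = 1 :=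
    finrank_span_singleton fun h => hm ⟨0, hn⟩ (congrFun (congrArg Subtype.val h) _)
  have hq := Submodule.finrank_quotient_add_finrank (Submodule.span (ZMod ℓ) {mK})
  rw [hspan] at hq
  haveI : Finite (K ⧸ Submodule.span (ZMod ℓ) {mK}) := Module.finite_of_finite (ZMod ℓ)
  let T := Submodule.torsionBy ℤ ((Fin n → ℤ) ⧸ LinearMap.range (Matrix.mulVecLin A)) (ℓ : ℤ)
  have hxy : ∀ t : T, ∃ x y : Fin n → ℤ, Submodule.Quotient.mk x = t.1 ∧ A *ᵥ y = (ℓ : ℤ) • x := by
    intro t
    obtain ⟨x, hx⟩ := Submodule.Quotient.mk_surjective _ t.1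
    have h := t.2
    rw [Submodule.mem_torsionBy_iff, ← hx, ← Submodule.Quotient.mk_smul, Submodule.Quotient.mk_eq_zero] at h
    obtain ⟨y, hy⟩ := h
    exact ⟨x, y, hx, hy⟩
  choose xf yf hx hy using hxy
  have hyK : ∀ t, c ∘ yf t ∈ K := fun t => by
    change B *ᵥ (c ∘ yf t) = 0
    rw [hmap, hy]
    ext i
    simp [c]
  refine (Nat.card_le_card_of_injective (fun t => Submodule.Quotient.mk (p := Submodule.span (ZMod ℓ) {mK})
    (⟨c ∘ yf t, hyK t⟩ : K)) ?_).trans ?_
  · intro s t h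
    rw [Submodule.Quotient.eq, Submodule.mem_span_singleton] at h
    obtain ⟨r, hr⟩ := h
    obtain ⟨r, rfl⟩ := ZMod.intCast_surjective r
    have hd : ∀ i, (ℓ : ℤ) ∣ yf s i - yf t i - r * m i := fun i => by
      rw [← ZMod.intCast_zmod_eq_zero_iff_dvd]
      have := congrFun (congrArg Subtype.val hr) i
      simp only [Submodule.coe_smul, Pi.smul_apply, smul_eq_mul, mK, mb, Function.comp_apply,
        AddSubgroupClass.coe_sub, Pi.sub_apply, c, eq_intCast] at this
      push_cast
      linear_combination (-1 : ZMod ℓ) * this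
    choose z hz using hd
    refine Subtype.ext ?_
    rw [← hx s, ← hx t, Submodule.Quotient.eq]
    refine ⟨z, ?_⟩
    have hz' : yf s - yf t - r • m = (ℓ : ℤ) • z := funext hz
    have hA' : (ℓ : ℤ) • (A *ᵥ z) = (ℓ : ℤ) • (xf s - xf t) := by
      rw [← Matrix.mulVec_smul, ← hz', Matrix.mulVec_sub, Matrix.mulVec_sub, Matrix.mulVec_smul, hAm, smul_zero,
        sub_zero, hy, hy, smul_sub]
    exact smul_right_injective (Fin n → ℤ) (Int.natCast_ne_zero.2 hℓ.ne_zero) hA'
  · rw [Module.natCard_eq_pow_finrank (K := ZMod ℓ), Nat.card_zmod]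
    have h1 : 1 ≤ ℓ := hℓ.one_le
    refine Nat.pow_le_pow_right h1 ?_
    have hq' : finrank (ZMod ℓ) (K ⧸ Submodule.span (ZMod ℓ) {mK}) + 1 = finrank (ZMod ℓ) K := hq
    have hker' : finrank (ZMod ℓ) K + n ≤ E.card + 2 := hker
    omega

end BlowRegLib.GraphTorsion
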