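import Groth.Agent.EtShLib.SplitFinite
import Mathlib.AlgebraicGeometry.ResidueField
import Mathlib.FieldTheory.IsAlgClosed.AlgebraicClosure

/-!
# The graphs of the translates cover the fibre product
-/

set_option autoImplicit false
universe u

open CategoryTheory CategoryTheory.Limits AlgebraicGeometry

noncomputable section

namespace BlowRegLib

theorem isFinite_surjective_graph_translates {X S Y : Scheme.{u}} (q : X ⟶ S) [IsFinite q]
    {G : Type u} [Finite G] (a : G → (X ⟶ X))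
    (htrans : ∀ (Ω : Type u) [Field Ω] [IsAlgClosed Ω] (τ₁ τ₂ : Spec (CommRingCat.of Ω) ⟶ X),
      τ₁ ≫ q = τ₂ ≫ q → ∃ g : G, τ₁ ≫ a g = τ₂) (r : Y ⟶ X)
    (υ : (∐ fun _ : G => Y) ⟶ pullback (r ≫ q) q)
    (hυ₁ : ∀ σ : G, Sigma.ι (fun _ : G => Y) σ ≫ υ ≫ pullback.fst (r ≫ q) q = 𝟙 Y)
    (hυ₂ : ∀ σ : G, Sigma.ι (fun _ : G => Y) σ ≫ υ ≫ pullback.snd (r ≫ q) q = r ≫ a σ) :
    IsFinite υ ∧ Surjective υ := by
  have hfold : υ ≫ pullback.fst (r ≫ q) q = Sigma.desc fun _ : G => 𝟙 Y :=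
    Sigma.hom_ext _ _ fun σ => by rw [Sigma.ι_desc]; exact hυ₁ σ
  refine ⟨?_, ⟨fun z => ?_⟩⟩
  · haveI : IsFinite (υ ≫ pullback.fst (r ≫ q) q) := hfold ▸ Groth.Agent.EtShLib.isFinite_fold Y
    exact IsFinite.of_comp υ (pullback.fst (r ≫ q) q)
  · let P := pullback (r ≫ q) q
    let Ω := AlgebraicClosure (P.residueField z)
    let g : Spec (CommRingCat.of Ω) ⟶ P :=
      Spec.map (CommRingCat.ofHom (algebraMap (P.residueField z) Ω)) ≫ P.fromSpecResidueField z
    obtain ⟨σ, hσ⟩ := htrans Ω ((g ≫ pullback.fst _ _) ≫ r) (g ≫ pullback.snd _ _) (by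
      simp only [Category.assoc, pullback.condition])
    have hg : ((g ≫ pullback.fst (r ≫ q) q) ≫ Sigma.ι (fun _ : G => Y) σ) ≫ υ = g := by
      apply pullback.hom_ext
      · simp only [Category.assoc, hυ₁, Category.comp_id]
      · simp only [Category.assoc, hυ₂]
        simpa only [Category.assoc] using hσ
    let pt : Spec (CommRingCat.of Ω) := (Nonempty.some inferInstance)
    refine ⟨((g ≫ pullback.fst (r ≫ q) q) ≫ Sigma.ι (fun _ : G => Y) σ) pt, ?_⟩
    rw [← Scheme.Hom.comp_apply, hg]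
    simp only [g, Scheme.Hom.comp_apply]
    exact Scheme.fromSpecResidueField_apply _ _

end BlowRegLib
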