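import Groth.Agent.EtProperH0Lib.Main
import Groth.Agent.EtDescentLib.Fppf
import Groth.Agent.VCovLib.Fpqc
import Groth.Agent.RzLib.HTop
import Groth.Prelude.Def_HTop

/-!
# Étale sheaves are sheaves for the h and ph topologies
-/

set_option autoImplicit false
set_option linter.style.haveILetI false
set_option linter.unusedSectionVars false
set_option backward.isDefEq.respectTransparency false
set_option backward.isDefEq.respectTransparency.types false
universe u v w

open CategoryTheory CategoryTheory.Limits AlgebraicGeometry Opposite Topology EtDescentLib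

namespace BlowRegLib.HTopGerms

/-- V coverings are jointly surjective. -/
theorem exists_eq_of_isVCover {T : Scheme.{u}} {E : PreZeroHypercover.{w} T} (hE : HTop.IsVCover E) (z : T) :
    ∃ (i : E.I₀) (x : E.X i), E.f i x = z := by
  obtain ⟨O, hO, hz, -⟩ := exists_isAffineOpen_mem_and_subset (x := z) (U := ⊤) trivial
  obtain ⟨F, hF, hFE⟩ := hE ⟨O, hO⟩
  obtain ⟨V, _, _, l, -, hlb⟩ := VCovLib.exists_val (O : Scheme.{u}) (specializes_refl (⟨z, hz⟩ : (O : Scheme.{u})))
  obtain ⟨W, _, _, φ, hφ, j, m, hm⟩ := hF.lift V l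
  obtain ⟨i, q, hq⟩ := hFE j
  refine ⟨i, q (m (IsLocalRing.closedPoint W)), ?_⟩
  have h1 : F.f j (m (VCovLib.closed W)) = ⟨z, hz⟩ := by
    rw [← Scheme.Hom.comp_apply, hm, Scheme.Hom.comp_apply, VCovLib.closed_map hφ.2, hlb]
  exact (congrArg (fun k : F.X j ⟶ T => k (m (VCovLib.closed W))) hq).trans (congrArg Subtype.val h1)

/-- V coverings detect open subsets. -/
theorem isOpen_of_isVCover {T : Scheme.{u}} {E : PreZeroHypercover.{w} T} (hE : HTop.IsVCover E) (A : Set T)
    (hA : ∀ i, IsOpen ((E.f i).base ⁻¹' A)) : IsOpen A := by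
  rw [isOpen_iff_forall_mem_open]
  intro y hy
  obtain ⟨O, hO, hyO, -⟩ := exists_isAffineOpen_mem_and_subset (x := y) (U := ⊤) trivial
  obtain ⟨F, hF, hFE⟩ := hE ⟨O, hO⟩
  choose i q hq using hFE
  haveI := hF.finite_index
  haveI := hF.isAffine_obj
  haveI : IsAffine (O : Scheme.{u}) := hO
  let p := Sigma.desc F.f
  have hsurj : ∀ a b : (O : Scheme.{u}), a ⤳ b → ∃ c' c : ↑(∐ F.X), c' ⤳ c ∧ p c' = a ∧ p c = b := by
    intro a b hab
    obtain ⟨V, _, _, l, hla, hlb⟩ := VCovLib.exists_val (O : Scheme.{u}) hab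
    obtain ⟨W, h₁, h₂, φ, hφ, j, m, hm⟩ := hF.lift V l
    have hm' : (m ≫ Sigma.ι F.X j) ≫ p = Spec.map φ ≫ l := by rw [Category.assoc, Sigma.ι_desc, hm]
    refine ⟨(m ≫ Sigma.ι F.X j) (VCovLib.gen W), (m ≫ Sigma.ι F.X j) (VCovLib.closed W),
      (VCovLib.gen_specializes_closed W).map (Scheme.Hom.continuous _), ?_, ?_⟩
    · rw [← Scheme.Hom.comp_apply, hm', Scheme.Hom.comp_apply, VCovLib.gen_map hφ.1, hla]
    · rw [← Scheme.Hom.comp_apply, hm', Scheme.Hom.comp_apply, VCovLib.closed_map hφ.2, hlb]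
  have hopen : IsOpen (p ⁻¹' (O.ι ⁻¹' A)) := by
    rw [isOpen_iff_forall_mem_open]
    intro c hc
    obtain ⟨j, d, rfl⟩ := (sigmaOpenCover F.X).exists_eq c
    have hset : (Sigma.ι F.X j).base ⁻¹' (p ⁻¹' (O.ι ⁻¹' A)) = (q j).base ⁻¹' ((E.f (i j)).base ⁻¹' A) := by
      ext e
      show O.ι (p (Sigma.ι F.X j e)) ∈ A ↔ E.f (i j) (q j e) ∈ A
      rw [← Scheme.Hom.comp_apply (Sigma.ι F.X j) p, Sigma.ι_desc, ← Scheme.Hom.comp_apply (F.f j),
        ← Scheme.Hom.comp_apply (q j), hq]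
    refine ⟨(Sigma.ι F.X j).base '' ((Sigma.ι F.X j).base ⁻¹' (p ⁻¹' (O.ι ⁻¹' A))), Set.image_preimage_subset _ _,
      (Sigma.ι F.X j).isOpenEmbedding.isOpenMap _ ?_, ⟨d, hc, rfl⟩⟩
    rw [hset]
    exact (hA _).preimage (q j).continuous
  have hsur : Function.Surjective p := fun a => by
    obtain ⟨-, c, -, -, hc⟩ := hsurj a a specializes_rfl
    exact ⟨c, hc⟩
  have him : p '' (p ⁻¹' (O.ι ⁻¹' A)ᶜ) = (O.ι ⁻¹' A)ᶜ := Set.image_preimage_eq _ hsur
  have hcl : IsClosed (O.ι ⁻¹' A)ᶜ := by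
    rw [← him]
    have hc0 : IsClosed (p ⁻¹' (O.ι ⁻¹' A)ᶜ) := hopen.isClosed_compl
    refine VCovLib.isClosed_image_of_stable p hc0 ?_
    rw [him]
    intro a b hab ha
    obtain ⟨c', c, hc, rfl, rfl⟩ := hsurj a b hab
    exact hc.mem_closed hc0 ha
  exact ⟨O.ι '' (O.ι ⁻¹' A), Set.image_preimage_subset _ _,
    O.ι.isOpenEmbedding.isOpenMap _ (isClosed_compl_iff.1 hcl), ⟨⟨y, hyO⟩, hy, rfl⟩⟩

instance isStableUnderBaseChange_v : (HTop.vPrecoverage : Precoverage Scheme.{u}).IsStableUnderBaseChange where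
  mem_coverings_of_isPullback {ι} T X f hR {Y} g {Q} p₁ p₂ h := by
    have hR' : HTop.IsVCover (PreZeroHypercover.mk ι X f) :=
      (HTop.presieve₀_mem_vPrecoverage_iff _).1 (show (PreZeroHypercover.mk ι X f).presieve₀ ∈ _ from hR)
    refine (HTop.presieve₀_mem_vPrecoverage_iff (PreZeroHypercover.mk ι Q p₁)).2 ?_
    refine VCovLib.isVCover_of_refines (VCovLib.isVCover_pullback₁ g hR')
      ⟨id, fun j => (h j).isoPullback.inv, fun j => (h j).isoPullback_inv_fst⟩

theorem vCover_of_mem {T : Scheme.{u}} (R : Presieve T) (hR : R ∈ HTop.vPrecoverage T) :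
    ∃ E : PreZeroHypercover.{u + 1} T, E.presieve₀ = R ∧ HTop.IsVCover E := by
  refine ⟨R.preZeroHypercover, R.presieve₀_preZeroHypercover, ?_⟩
  rw [← R.presieve₀_preZeroHypercover] at hR
  exact (HTop.presieve₀_mem_vPrecoverage_iff _).1 hR

variable {S : Scheme.{u}} {P : (Over S)ᵒᵖ ⥤ Type v}

/-- Presheaves with germs are sheaves for every pretopology by V coverings. -/
theorem isSheaf_of_hasGerms (hP : HasGerms P) :
    Presieve.IsSheaf ((HTop.vPrecoverage : Precoverage Scheme.{u}).toGrothendieck.over S) P := by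
  rw [over_toGrothendieck_eq_toGrothendieck_comap_forget, Precoverage.isSheaf_toGrothendieck_iff]
  intro X Y f R hR
  rw [Precoverage.mem_comap_iff] at hR
  obtain ⟨E, hE, hV⟩ := vCover_of_mem _ hR
  let Z : (Σ W, {g : W ⟶ X // R g}) → Over S := fun i =>
    Over.mk (pullback.fst f.left i.2.1.left ≫ Y.hom)
  let g : ∀ i, Z i ⟶ Y := fun i => Over.homMk (pullback.fst f.left i.2.1.left) rfl
  let π : ∀ i, Z i ⟶ i.1 := fun i => Over.homMk (pullback.snd f.left i.2.1.left) (by
    show pullback.snd f.left i.2.1.left ≫ i.1.hom = pullback.fst f.left i.2.1.left ≫ Y.hom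
    rw [← Over.w i.2.1, ← pullback.condition_assoc, Over.w f])
  have hπ : ∀ i, g i ≫ f = π i ≫ i.2.1 := fun i => Over.OverMorphism.ext pullback.condition
  have hmem : ∀ i, ((Sieve.generate R).pullback f).arrows (g i) := fun i =>
    ⟨i.1, π i, i.2.1, i.2.2, (hπ i).symm⟩
  have key : ∀ (j : E.I₀), ∃ (i : Σ W, {g : W ⟶ X // R g}) (e : E.X j ⟶ i.1.left), e ≫ i.2.1.left = E.f j := by
    intro j
    have hj : (Presieve.map (Over.forget S) R) (E.f j) := hE ▸ ⟨j⟩
    suffices ∀ {W : Scheme.{u}} {k : W ⟶ X.left}, Presieve.map (Over.forget S) R k →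
        ∃ (i : Σ W, {g : W ⟶ X // R g}) (e : W ⟶ i.1.left), e ≫ i.2.1.left = k from this hj
    rintro _ _ ⟨h⟩
    exact ⟨⟨_, _, h⟩, 𝟙 _, Category.id_comp _⟩
  have hVf := VCovLib.isVCover_pullback₁ f.left hV
  intro x hx
  have hsurj : ∀ z : Y.left, ∃ i y, (g i).left y = z := fun z => by
    obtain ⟨j, y, hy⟩ := exists_eq_of_isVCover hVf z
    obtain ⟨i, e, he⟩ := key j
    refine ⟨i, pullback.map f.left (E.f j) f.left i.2.1.left (𝟙 _) e (𝟙 _) (by simp) (by rw [he, Category.comp_id]) y, ?_⟩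
    show (pullback.map _ _ _ _ _ _ _ _ _ ≫ pullback.fst f.left i.2.1.left) y = z
    rw [pullback.lift_fst, Category.comp_id]
    exact hy
  obtain ⟨s, hs, huniq⟩ := hP.descend g hsurj
    (fun V v _ A hA => by
      refine isOpen_of_isVCover (VCovLib.isVCover_pullback₁ v.left hVf) A fun j => ?_
      obtain ⟨i, e, he⟩ := key j
      let M : pullback f.left (E.f j) ⟶ (Z i).left :=
        pullback.map f.left (E.f j) f.left i.2.1.left (𝟙 _) e (𝟙 _) (by simp) (by rw [he, Category.comp_id])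
      have hM : M ≫ (g i).left = pullback.fst f.left (E.f j) := (pullback.lift_fst _ _ _).trans (Category.comp_id _)
      let t : pullback v.left (pullback.fst f.left (E.f j)) ⟶ pullback (g i).left v.left :=
        pullback.lift (pullback.snd v.left (pullback.fst f.left (E.f j)) ≫ M) (pullback.fst _ _) (by
          rw [Category.assoc, hM, pullback.condition])
      have ht : t ≫ pullback.snd (g i).left v.left = pullback.fst v.left (pullback.fst f.left (E.f j)) :=
        pullback.lift_snd _ _ _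
      show IsOpen ((pullback.fst v.left (pullback.fst f.left (E.f j))).base ⁻¹' A)
      rw [← ht, Scheme.Hom.comp_base, TopCat.coe_comp, Set.preimage_comp]
      exact (hA i).preimage t.continuous)
    (fun i => x (g i) (hmem i)) (fun i j G a b _ hab => hx a b (hmem i) (hmem j) hab)
  refine ⟨s, fun W h hh => ?_, fun s' hs' => huniq s' fun i => hs' (g i) (hmem i)⟩
  obtain ⟨W', k, r, hr, hkr⟩ := hh
  let i : Σ W, {g : W ⟶ X // R g} := ⟨W', r, hr⟩
  let m : W ⟶ Z i := Over.homMk (pullback.lift h.left k.left (congrArg CommaMorphism.left hkr).symm) (by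
    show pullback.lift h.left k.left _ ≫ pullback.fst f.left r.left ≫ Y.hom = W.hom
    rw [pullback.lift_fst_assoc, Over.w h])
  have hm : m ≫ g i = h := Over.OverMorphism.ext (pullback.lift_fst _ _ _)
  suffices gen : ∀ (h' : W ⟶ Y) (hh' : ((Sieve.generate R).pullback f).arrows h'), h' = m ≫ g i →
      P.map h'.op s = x h' hh' from gen h _ hm.symm
  rintro _ hh' rfl
  rw [map_comp_apply', hs i]
  have := hx m (𝟙 W) (hmem i) hh' (Category.id_comp _).symm
  simpa using this

theorem h_le_v : (HTop.hPrecoverage : Precoverage Scheme.{u}) ≤ HTop.vPrecoverage := fun T R hR => by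
  rw [← R.presieve₀_preZeroHypercover] at hR ⊢
  exact (HTop.presieve₀_mem_vPrecoverage_iff _).2 ((HTop.presieve₀_mem_hPrecoverage_iff _).1 hR).2

theorem ph_le_v : (HTop.phPrecoverage : Precoverage Scheme.{u}) ≤ HTop.vPrecoverage := fun T R hR => by
  rw [← R.presieve₀_preZeroHypercover] at hR ⊢
  refine (HTop.presieve₀_mem_vPrecoverage_iff _).2 fun U => ?_
  obtain ⟨F, hF, hFE⟩ := ((HTop.presieve₀_mem_phPrecoverage_iff _).1 hR).2 U
  exact ⟨F, VCovLib.isStandardPh_isStandardV hF, hFE⟩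

theorem Jh_le (S : Scheme.{u}) :
    HTop.Jh S ≤ (HTop.vPrecoverage : Precoverage Scheme.{u}).toGrothendieck.over S :=
  fun _ _ hR => Precoverage.toGrothendieck_mono h_le_v _ hR

theorem Jph_le (S : Scheme.{u}) :
    HTop.Jph S ≤ (HTop.vPrecoverage : Precoverage Scheme.{u}).toGrothendieck.over S :=
  fun _ _ hR => Precoverage.toGrothendieck_mono ph_le_v _ hR

theorem etale_le_h : Scheme.etalePrecoverage ≤ (HTop.hPrecoverage : Precoverage Scheme.{u}) := fun T R hR => by
  have hfp : R ∈ Scheme.fpqcPrecoverage T :=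
    Scheme.fppfPrecoverage_le_fpqcPrecoverage _ (BigSite.etalePrecoverage_le_fppfPrecoverage _ hR)
  rw [← R.presieve₀_preZeroHypercover] at hR hfp ⊢
  refine (HTop.presieve₀_mem_hPrecoverage_iff _).2
    ⟨fun i => ?_, VCovLib.isVCover_fpqc ⟨R.preZeroHypercover, hfp⟩⟩
  haveI : Etale (R.preZeroHypercover.f i) := ((Scheme.presieve₀_mem_precoverage_iff _).mp hR).2 i
  infer_instance

theorem etale_le_ph : Scheme.etalePrecoverage ≤ (HTop.phPrecoverage : Precoverage Scheme.{u}) := fun T R hR => by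
  have h := etale_le_h _ hR
  rw [← R.presieve₀_preZeroHypercover] at h ⊢
  obtain ⟨h1, h2⟩ := (HTop.presieve₀_mem_hPrecoverage_iff _).1 h
  exact (HTop.presieve₀_mem_phPrecoverage_iff _).2 (RzLib.isPhCover_of_isVCover _ h1 h2)

variable (S : Scheme.{u})

theorem etJ_le_Jh : QuotSh.J Scheme.etalePrecoverage S ≤ HTop.Jh S :=
  fun _ _ hR => Precoverage.toGrothendieck_mono etale_le_h _ hR

theorem etJ_le_Jph : QuotSh.J Scheme.etalePrecoverage S ≤ HTop.Jph S :=
  fun _ _ hR => Precoverage.toGrothendieck_mono etale_le_ph _ hR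

theorem isSheaf_piEtPull (F : EtCoh.Ab S) (J : GrothendieckTopology (Over S))
    (hJ : J ≤ (HTop.vPrecoverage : Precoverage Scheme.{u}).toGrothendieck.over S) :
    Presheaf.IsSheaf J ((BigSite.piEtPull Scheme.etalePrecoverage S).obj F).obj := by
  refine EtDescentLib.isSheaf_of_le' hJ ?_
  rw [Presheaf.isSheaf_iff_isSheaf_forget _ _ (forget AddCommGrpCat.{u + 1}), isSheaf_iff_isSheaf_of_type]
  exact isSheaf_of_hasGerms (hasGerms_piEtPull S F)

/-- The pullback to the big étale site, viewed as an h sheaf. -/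
noncomputable def piH : EtCoh.Ab S ⥤ HTop.AbH S :=
  ObjectProperty.lift _ (BigSite.piEtPull Scheme.etalePrecoverage S ⋙ sheafToPresheaf _ _)
    fun F => isSheaf_piEtPull S F _ (Jh_le S)

/-- The pullback to the big étale site, viewed as a ph sheaf. -/
noncomputable def piPh : EtCoh.Ab S ⥤ HTop.AbPh S :=
  ObjectProperty.lift _ (BigSite.piEtPull Scheme.etalePrecoverage S ⋙ sheafToPresheaf _ _)
    fun F => isSheaf_piEtPull S F _ (Jph_le S)

/-- An h sheaf is a sheaf on the big étale site. -/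
noncomputable def hIncl : HTop.AbH S ⥤ BigSite.Ab Scheme.etalePrecoverage S :=
  ObjectProperty.ιOfLE fun _ h => EtDescentLib.isSheaf_of_le' (etJ_le_Jh S) h

/-- A ph sheaf is a sheaf on the big étale site. -/
noncomputable def phIncl : HTop.AbPh S ⥤ BigSite.Ab Scheme.etalePrecoverage S :=
  ObjectProperty.ιOfLE fun _ h => EtDescentLib.isSheaf_of_le' (etJ_le_Jph S) h

/-- The pullback to the big h site is the pullback to the big étale site. -/
noncomputable def aHPullIso [HTop.AHCont S] : HTop.aHPull S ≅ piH S :=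
  Adjunction.leftAdjointUniq (HTop.aHAdj S)
    ((BigSite.piEtAdj Scheme.etalePrecoverage S).restrictFullyFaithful (iC := 𝟭 (EtCoh.Ab S)) (iD := hIncl S)
      (Functor.FullyFaithful.id _) (ObjectProperty.fullyFaithfulιOfLE _)
      (Iso.refl _) (Iso.refl _))

/-- The pullback to the big ph site is the pullback to the big étale site. -/
noncomputable def aPhPullIso [HTop.APhCont S] : HTop.aPhPull S ≅ piPh S :=
  Adjunction.leftAdjointUniq (HTop.aPhAdj S)
    ((BigSite.piEtAdj Scheme.etalePrecoverage S).restrictFullyFaithful (iC := 𝟭 (EtCoh.Ab S)) (iD := phIncl S)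
      (Functor.FullyFaithful.id _) (ObjectProperty.fullyFaithfulιOfLE _)
      (Iso.refl _) (Iso.refl _))

theorem aH_sections [HTop.AHCont S] (F : EtCoh.Ab S) {X : Scheme.{u}} (f : X ⟶ S) :
    Nonempty (((HTop.aHPull S).obj F).obj.obj (op (Over.mk f)) ≅
      ((EtCoh.pull f).obj F).obj.obj (op (EtCoh.top X))) := by
  obtain ⟨i⟩ := EtDescentLib.nonempty_sectionsIso S (Over.mk f) F
  exact ⟨((sheafToPresheaf _ _).mapIso ((aHPullIso S).app F)).app (op (Over.mk f)) ≪≫ i⟩

theorem aPh_sections [HTop.APhCont S] (F : EtCoh.Ab S) {X : Scheme.{u}} (f : X ⟶ S) :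
    Nonempty (((HTop.aPhPull S).obj F).obj.obj (op (Over.mk f)) ≅
      ((EtCoh.pull f).obj F).obj.obj (op (EtCoh.top X))) := by
  obtain ⟨i⟩ := EtDescentLib.nonempty_sectionsIso S (Over.mk f) F
  exact ⟨((sheafToPresheaf _ _).mapIso ((aPhPullIso S).app F)).app (op (Over.mk f)) ≪≫ i⟩

theorem aH_push {X Y : Scheme.{u}} (f : X ⟶ Y) [IsProper f] [HTop.AHCont X]
    [HTop.AHCont Y] [HTop.PullHCont f] (F : EtCoh.Ab X) :
    Nonempty ((HTop.aHPull Y).obj ((EtCoh.push f).obj F) ≅
      (HTop.pushBigH f).obj ((HTop.aHPull X).obj F)) := by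
  haveI := EtProperH0Lib.isIso_phi EtProperH0Lib.hasGerms_ab f F
  let e₀ := asIso (EtProperH0Lib.phi (A := AddCommGrpCat.{u + 1}) f F)
  let i : (piH Y).obj ((EtCoh.push f).obj F) ≅ (HTop.pushBigH f).obj ((piH X).obj F) :=
    (fullyFaithfulSheafToPresheaf _ _).preimageIso
      ((sheafToPresheaf (QuotSh.J Scheme.etalePrecoverage Y) _).mapIso e₀)
  exact ⟨(aHPullIso Y).app _ ≪≫ i ≪≫ (HTop.pushBigH f).mapIso ((aHPullIso X).app F).symm⟩

theorem aPh_push {X Y : Scheme.{u}} (f : X ⟶ Y) [IsProper f] [HTop.APhCont X]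
    [HTop.APhCont Y] [HTop.PullPhCont f] (F : EtCoh.Ab X) :
    Nonempty ((HTop.aPhPull Y).obj ((EtCoh.push f).obj F) ≅
      (HTop.pushBigPh f).obj ((HTop.aPhPull X).obj F)) := by
  haveI := EtProperH0Lib.isIso_phi EtProperH0Lib.hasGerms_ab f F
  let e₀ := asIso (EtProperH0Lib.phi (A := AddCommGrpCat.{u + 1}) f F)
  let i : (piPh Y).obj ((EtCoh.push f).obj F) ≅ (HTop.pushBigPh f).obj ((piPh X).obj F) :=
    (fullyFaithfulSheafToPresheaf _ _).preimageIso
      ((sheafToPresheaf (QuotSh.J Scheme.etalePrecoverage Y) _).mapIso e₀)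
  exact ⟨(aPhPullIso Y).app _ ≪≫ i ≪≫ (HTop.pushBigPh f).mapIso ((aPhPullIso X).app F).symm⟩

end BlowRegLib.HTopGerms
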