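import Groth.Agent.RefHullLib.Hartogs
import Groth.Agent.RefHullLib.BigOpen
import Groth.Agent.RefHullLib.Generic
import Groth.Agent.RefHullLib.Reflexive
import Groth.Agent.DevissLib.ClosedImm
import Mathlib.RingTheory.Localization.AtPrime.Basic
import Mathlib.RingTheory.Ideal.Height

/-! # Restriction of homomorphisms into the structure sheaf -/

set_option autoImplicit false
set_option linter.style.haveILetI false
universe u

open CategoryTheory CategoryTheory.Limits AlgebraicGeometry TopologicalSpace Opposite

noncomputable section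

namespace BlowRegLib.HomRestrict

variable {R : Type u} [CommRing R]

theorem app_eq_of_restrict {X : Scheme.{u}} (U : X.Opens) {F G : X.Modules} {φ ψ : F ⟶ G}
    (h : Function.Injective (G.presheaf.map (homOfLE (le_top : U ≤ ⊤)).op))
    (e : (Scheme.Modules.restrictFunctor U.ι).map φ = (Scheme.Modules.restrictFunctor U.ι).map ψ)
    (s : Γ(F, ⊤)) : φ.app ⊤ s = ψ.app ⊤ s := by
  have hU : U.ι ''ᵁ ⊤ = U := Scheme.Opens.ι_image_top U
  have e' : φ.app (U.ι ''ᵁ ⊤) = ψ.app (U.ι ''ᵁ ⊤) := congrArg (fun θ => Scheme.Modules.Hom.app θ ⊤) e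
  rw [hU] at e'
  apply h
  have n1 := NatTrans.naturality_apply φ.mapPresheaf (homOfLE (le_top : U ≤ ⊤)).op s
  have n2 := NatTrans.naturality_apply ψ.mapPresheaf (homOfLE (le_top : U ≤ ⊤)).op s
  exact n1.symm.trans ((ConcreteCategory.congr_hom e' _).trans n2)

theorem injective_restrict {A : CommRingCat.{u}} (M : ModuleCat.{u} A) (G : (Spec A).Modules)
    (U : (Spec A).Opens)
    (h : Function.Injective (G.presheaf.map (homOfLE (le_top : U ≤ ⊤)).op)) :
    Function.Injective (fun φ : AlgebraicGeometry.tilde M ⟶ G => (Scheme.Modules.restrictFunctor U.ι).map φ) := by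
  intro φ ψ e
  have key : (moduleSpecΓFunctor (R := A)).map φ = (moduleSpecΓFunctor (R := A)).map ψ :=
    ModuleCat.hom_ext (LinearMap.ext fun s => app_eq_of_restrict U h e s)
  refine ((tilde.adjunction (R := A)).homEquiv M G).injective ?_
  exact ((tilde.adjunction (R := A)).homEquiv_unit M G φ).trans ((congrArg ((tilde.adjunction (R := A)).unit.app M ≫ ·) key).trans ((tilde.adjunction (R := A)).homEquiv_unit M G ψ).symm)

theorem bijective_restrict_of_isIso {X : Scheme.{u}} (U : X.Opens) (F G : X.Modules)
    (h : IsIso ((Scheme.Modules.restrictAdjunction U.ι).unit.app G)) :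
    Function.Bijective (fun φ : F ⟶ G => (Scheme.Modules.restrictFunctor U.ι).map φ) := by
  let adj := Scheme.Modules.restrictAdjunction U.ι
  have e : (fun φ : F ⟶ G => (Scheme.Modules.restrictFunctor U.ι).map φ) =
      fun φ => (adj.homEquiv _ _).symm (φ ≫ adj.unit.app G) := by
    funext φ
    refine (Equiv.eq_symm_apply _).2 ?_
    exact (adj.homEquiv_unit _ _ _).trans (adj.unit.naturality φ).symm
  rw [e]
  haveI := h
  exact (adj.homEquiv _ _).symm.bijective.comp ((asIso (adj.unit.app G)).homToEquiv).bijective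

theorem two_le_depth [IsNoetherianRing R] [IsDomain R] [IsIntegrallyClosed R] (x : Spec (CommRingCat.of R))
    (h : (2 : ℕ∞) ≤ (x : PrimeSpectrum R).asIdeal.height) :
    (2 : ℕ∞) ≤ LocCoh.depth ((Spec (CommRingCat.of R)).presheaf.stalk x)
      ((Coh.structureModule (Spec (CommRingCat.of R))).presheaf.stalk x) := by
  let p : Ideal R := (x : PrimeSpectrum R).asIdeal
  haveI : p.IsPrime := (x : PrimeSpectrum R).2
  letI : Algebra R ((Spec (CommRingCat.of R)).presheaf.stalk x) := StructureSheaf.stalkAlgebra R x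
  haveI : IsLocalization.AtPrime ((Spec (CommRingCat.of R)).presheaf.stalk x) p :=
    StructureSheaf.IsLocalization.to_stalk R x
  haveI : IsDomain ((Spec (CommRingCat.of R)).presheaf.stalk x) :=
    IsLocalization.isDomain_of_le_nonZeroDivisors (R := R) ((Spec (CommRingCat.of R)).presheaf.stalk x) p.primeCompl_le_nonZeroDivisors
  haveI : IsIntegrallyClosed ((Spec (CommRingCat.of R)).presheaf.stalk x) :=
    isIntegrallyClosed_of_isLocalization (R := R) ((Spec (CommRingCat.of R)).presheaf.stalk x) p.primeCompl p.primeCompl_le_nonZeroDivisors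
  haveI : IsNoetherianRing ((Spec (CommRingCat.of R)).presheaf.stalk x) :=
    IsLocalization.isNoetherianRing p.primeCompl _ ‹_›
  obtain ⟨e⟩ := RefHullLib.nonempty_stalk_unit (Spec (CommRingCat.of R)) x
  rw [← CommAlgDim.depth_congr e]
  refine RefHullLib.two_le_depth_normal ?_
  rw [IsLocalization.AtPrime.ringKrullDim_eq_height p]
  exact WithBot.coe_le_coe.2 h

/-- S17476 -/
theorem restrict_hom [IsNoetherianRing R]
    (M : ModuleCat.{u} (CommRingCat.of R)) (U : (Spec (CommRingCat.of R)).Opens) :
    (Function.Injective ((Spec (CommRingCat.of R)).presheaf.map (homOfLE (le_top : U ≤ ⊤)).op) →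
      Function.Injective (fun φ : AlgebraicGeometry.tilde M ⟶ Coh.structureModule (Spec (CommRingCat.of R)) =>
        (Scheme.Modules.restrictFunctor U.ι).map φ)) ∧
    (IsDomain R → IsIntegrallyClosed R → (∀ p : PrimeSpectrum R, p ∉ U → (2 : ℕ∞) ≤ p.asIdeal.height) →
      Function.Bijective (fun φ : AlgebraicGeometry.tilde M ⟶ Coh.structureModule (Spec (CommRingCat.of R)) =>
        (Scheme.Modules.restrictFunctor U.ι).map φ)) := by
  refine ⟨fun h => injective_restrict M _ U h, fun _ _ hht => bijective_restrict_of_isIso U _ _ ?_⟩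
  exact RefHullLib.isIso_unit_of_depth U (DevissLib.isCoh_structureModule _) fun x hx => two_le_depth x (hht x hx)

end BlowRegLib.HomRestrict
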