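import Groth.Agent.BlowRegLib.IntegralGerms
import Groth.Agent.EtProperH0Lib.Restrict
import Groth.Agent.EtProperH0Lib.Compat
import Groth.Agent.BigEtLib.Compare
import Groth.Agent.EtDescentLib.Fpqc
import Groth.Agent.EpsLib.SingleCech
import Groth.Agent.SpSeqLib.EOne
import Groth.Agent.S6634
import Groth.Agent.AnLib.FlatPullback
import Groth.Prelude.Def_EtCore

/-!
# Descent along integral surjective morphisms
-/

set_option autoImplicit false
set_option linter.style.haveILetI false
set_option linter.unusedSectionVars false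
set_option backward.isDefEq.respectTransparency false
set_option backward.isDefEq.respectTransparency.types false
universe u

open CategoryTheory CategoryTheory.Limits AlgebraicGeometry Opposite CategoryTheory.Abelian Groth.Agent.EpsLib
  EtDescentLib

namespace BlowRegLib.IntegralDesc

noncomputable section

theorem map_map {C : Type (u + 1)} [Category.{u} C] (M : Cᵒᵖ ⥤ AddCommGrpCat.{u + 1}) {U V W : C} (a : U ⟶ V)
    (b : V ⟶ W) (c : U ⟶ W) (h : a ≫ b = c) (x : M.obj (op W)) : M.map a.op (M.map b.op x) = M.map c.op x := by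
  rw [← h, op_comp, Functor.map_comp_apply]

theorem secF_spec {C : Type (u + 1)} [Category.{u} C] {W' W : C} {π : W' ⟶ W} (sec : W ⟶ W') (hsec : sec ≫ π = 𝟙 W)
    {V : C} (a : V ⟶ W') : ((a ≫ π) ≫ sec) ≫ π = a ≫ π := by
  rw [Category.assoc, hsec, Category.comp_id]

instance additive_gsec (Y : Scheme.{u}) : (EtCore.gsec Y).Additive := { }

/-- A section over an algebraically closed field. -/
theorem exists_section {Z : Scheme.{u}} {Ω : Type u} [Field Ω] [IsAlgClosed Ω]
    (q : Z ⟶ Spec (CommRingCat.of Ω)) [IsIntegralHom q] (z : Z) :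
    ∃ s : Spec (CommRingCat.of Ω) ⟶ Z, s ≫ q = 𝟙 _ := by
  haveI : IsAffine Z := isAffine_of_isAffineHom q
  obtain ⟨φ, hφ⟩ := Spec.map_surjective (Z.isoSpec.inv ≫ q)
  have hint : φ.hom.IsIntegral := by
    rw [← IsIntegralHom.SpecMap_iff, hφ]
    infer_instance
  have hne : Nontrivial Γ(Z, ⊤) := by
    by_contra h
    rw [not_nontrivial_iff_subsingleton] at h
    exact (PrimeSpectrum.isEmpty_iff_subsingleton.mpr h).false (Z.isoSpec.hom z)
  letI : Algebra Ω Γ(Z, ⊤) := φ.hom.toAlgebra
  haveI : Algebra.IsIntegral Ω Γ(Z, ⊤) := ⟨hint⟩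
  obtain ⟨m, hm⟩ := Ideal.exists_maximal Γ(Z, ⊤)
  haveI := hm
  letI : Field (Γ(Z, ⊤) ⧸ m) := Ideal.Quotient.field m
  haveI : Algebra.IsIntegral Ω (Γ(Z, ⊤) ⧸ m) :=
    ⟨fun x => by
      obtain ⟨y, rfl⟩ := Ideal.Quotient.mkₐ_surjective Ω m x
      exact (Algebra.IsIntegral.isIntegral y).map _⟩
  let e := RingEquiv.ofBijective (algebraMap Ω (Γ(Z, ⊤) ⧸ m)) IsAlgClosed.algebraMap_bijective_of_isIntegral
  let ψ : Γ(Z, ⊤) →+* Ω := e.symm.toRingHom.comp (Ideal.Quotient.mk m)
  have hψ : φ ≫ CommRingCat.ofHom ψ = 𝟙 _ := by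
    ext x
    exact e.symm_apply_apply x
  refine ⟨Spec.map (CommRingCat.ofHom ψ) ≫ Z.isoSpec.inv, ?_⟩
  rw [Category.assoc, ← hφ, ← Spec.map_comp, hψ, Spec.map_id]

section Nerve

variable {X Y : Scheme.{u}} (f : X ⟶ Y)

/-- The fibre powers. -/
abbrev P (n : ℕ) : Scheme.{u} := widePullback Y (fun _ : Fin (n + 1) => X) (fun _ => f)

/-- Their structure morphisms. -/
abbrev base (n : ℕ) : P f n ⟶ Y := WidePullback.base (fun _ : Fin (n + 1) => f)

theorem isIntegral_widePullback_base {S : Scheme.{u}} :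
    ∀ {m : ℕ} (X : Fin m → Scheme.{u}) (g : ∀ i, X i ⟶ S) [∀ i, IsIntegralHom (g i)],
      IsIntegralHom (WidePullback.base g) := by
  intro m
  induction m with
  | zero =>
    intro X g _
    haveI : IsIso (WidePullback.base g) := by
      refine ⟨WidePullback.lift (𝟙 S) (fun i => i.elim0) (fun i => i.elim0), ?_, WidePullback.lift_base ..⟩
      exact WidePullback.hom_ext _ _ _ (fun i => i.elim0)
        (by rw [Category.assoc, WidePullback.lift_base, Category.comp_id, Category.id_comp])
    infer_instance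
  | succ m ih =>
    intro X g _
    haveI := ih (fun i => X i.castSucc) (fun i => g i.castSucc)
    let r : widePullback S X g ⟶ widePullback S (fun i : Fin m => X i.castSucc) (fun i => g i.castSucc) :=
      WidePullback.lift (WidePullback.base g) (fun i => WidePullback.π g i.castSucc) (fun i => WidePullback.π_arrow g _)
    let e : widePullback S X g ⟶ pullback (WidePullback.base (fun i : Fin m => g i.castSucc)) (g (Fin.last m)) :=
      pullback.lift r (WidePullback.π g (Fin.last m))
        (by simp only [r, WidePullback.lift_base, WidePullback.π_arrow])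
    let e' : pullback (WidePullback.base (fun i : Fin m => g i.castSucc)) (g (Fin.last m)) ⟶ widePullback S X g :=
      WidePullback.lift (pullback.fst _ _ ≫ WidePullback.base _)
        (fun i => Fin.lastCases (pullback.snd _ _) (fun j => pullback.fst _ _ ≫ WidePullback.π _ j) i)
        (fun i => by
          refine Fin.lastCases ?_ (fun j => ?_) i
          · rw [Fin.lastCases_last, ← pullback.condition]
          · rw [Fin.lastCases_castSucc, Category.assoc, WidePullback.π_arrow])
    haveI : IsIso e := by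
      refine ⟨e', WidePullback.hom_ext _ _ _ (fun i => ?_) ?_, pullback.hom_ext ?_ ?_⟩
      · refine Fin.lastCases ?_ (fun j => ?_) i
        · rw [Category.assoc, WidePullback.lift_π, Fin.lastCases_last, pullback.lift_snd, Category.id_comp]
        · rw [Category.assoc, WidePullback.lift_π, Fin.lastCases_castSucc, pullback.lift_fst_assoc,
            WidePullback.lift_π, Category.id_comp]
      · rw [Category.assoc, WidePullback.lift_base, pullback.lift_fst_assoc, WidePullback.lift_base, Category.id_comp]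
      · rw [Category.assoc, pullback.lift_fst, Category.id_comp]
        refine WidePullback.hom_ext _ _ _ (fun i => ?_) ?_
        · rw [Category.assoc, WidePullback.lift_π, WidePullback.lift_π, Fin.lastCases_castSucc]
        · rw [Category.assoc, WidePullback.lift_base, WidePullback.lift_base]
      · rw [Category.assoc, pullback.lift_snd, WidePullback.lift_π, Fin.lastCases_last, Category.id_comp]
    rw [show WidePullback.base g = e ≫ pullback.fst _ _ ≫ WidePullback.base (fun i : Fin m => g i.castSucc) by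
      rw [pullback.lift_fst_assoc, WidePullback.lift_base]]
    haveI : IsIntegralHom (pullback.fst (WidePullback.base (fun i : Fin m => g i.castSucc)) (g (Fin.last m))) :=
      MorphismProperty.pullback_fst (P := @IsIntegralHom) _ _ inferInstance
    infer_instance

variable [IsIntegralHom f]

instance isIntegral_base (n : ℕ) : IsIntegralHom (base f n) :=
  isIntegral_widePullback_base (fun _ : Fin (n + 1) => X) (fun _ => f)

/-- The fibre power over an object. -/
abbrev Φ (n : ℕ) (W : Over Y) : Over Y := (Over.map (base f n)).obj ((Over.pullback (base f n)).obj W)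

/-- The covering of an object. -/
def cov (W : Over Y) : (Over.map f).obj ((Over.pullback f).obj W) ⟶ W :=
  Over.homMk (pullback.fst W.hom f) pullback.condition

/-- The projections. -/
def prj (n : ℕ) (k : Fin (n + 1)) (W : Over Y) : Φ f n W ⟶ (Over.map f).obj ((Over.pullback f).obj W) :=
  Over.homMk (pullback.lift (pullback.fst W.hom (base f n))
      (pullback.snd W.hom (base f n) ≫ WidePullback.π (fun _ : Fin (n + 1) => f) k) (by
        rw [Category.assoc, WidePullback.π_arrow, pullback.condition]))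
    (show pullback.lift _ _ _ ≫ pullback.snd W.hom f ≫ f = pullback.snd W.hom (base f n) ≫ base f n by
      rw [pullback.lift_snd_assoc, Category.assoc, WidePullback.π_arrow])

/-- The nerve over an object. -/
def nerveAt (W : Over Y) : Nerve (cov f W) where
  obj n := Φ f n W
  pr n k := prj f n k W
  w n k := Over.OverMorphism.ext (by
    show pullback.lift _ _ _ ≫ pullback.fst W.hom f = pullback.lift _ _ _ ≫ pullback.fst W.hom f
    rw [pullback.lift_fst, pullback.lift_fst])
  lift n T t _ := Over.homMk (pullback.lift ((t 0).left ≫ pullback.fst W.hom f)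
      (WidePullback.lift T.hom (fun k => (t k).left ≫ pullback.snd W.hom f)
        (fun k => (Category.assoc _ _ _).trans (Over.w (t k)))) (by
        rw [Category.assoc, pullback.condition, WidePullback.lift_base]
        exact Over.w (t 0)))
    (show pullback.lift _ _ _ ≫ pullback.snd W.hom (base f n) ≫ base f n = T.hom by
      rw [pullback.lift_snd_assoc, WidePullback.lift_base])
  fac n T t h k := Over.OverMorphism.ext (pullback.hom_ext
    (show (pullback.lift _ _ _ ≫ pullback.lift _ _ _) ≫ pullback.fst W.hom f = (t k).left ≫ pullback.fst W.hom f by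
      rw [Category.assoc, pullback.lift_fst, pullback.lift_fst]
      exact (congrArg (fun c => c.left) (h k)).symm)
    (show (pullback.lift _ _ _ ≫ pullback.lift _ _ _) ≫ pullback.snd W.hom f = (t k).left ≫ pullback.snd W.hom f by
      rw [Category.assoc, pullback.lift_snd, pullback.lift_snd_assoc, WidePullback.lift_π]))
  ext n T a b h := Over.OverMorphism.ext (by
    have h' : ∀ k, a.left ≫ (prj f n k W).left = b.left ≫ (prj f n k W).left := fun k =>
      congrArg (fun c => c.left) (h k)
    refine pullback.hom_ext ?_ (WidePullback.hom_ext _ _ _ (fun k => ?_) ?_)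
    · have := congrArg (· ≫ pullback.fst W.hom f) (h' 0)
      simpa [prj, Category.assoc] using this
    · have := congrArg (· ≫ pullback.snd W.hom f) (h' k)
      simpa [prj, Category.assoc] using this
    · exact ((Category.assoc _ _ _).trans (Over.w a)).trans ((Category.assoc _ _ _).trans (Over.w b)).symm)

theorem map_prj {W' W : Over Y} (a : W' ⟶ W) (n : ℕ) (k : Fin (n + 1)) :
    (Over.map (base f n)).map ((Over.pullback (base f n)).map a) ≫ prj f n k W =
      prj f n k W' ≫ (Over.map f).map ((Over.pullback f).map a) := by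
  refine Over.OverMorphism.ext (pullback.hom_ext ?_ ?_) <;> simp [prj]

theorem map_face {W' W : Over Y} (a : W' ⟶ W) (n : ℕ) (i : Fin (n + 2)) :
    (nerveAt f W').face n i ≫ (Over.map (base f n)).map ((Over.pullback (base f n)).map a) =
      (Over.map (base f (n + 1))).map ((Over.pullback (base f (n + 1))).map a) ≫ (nerveAt f W).face n i := by
  refine (nerveAt f W).ext n _ _ fun k => ?_
  rw [Category.assoc, Category.assoc, Nerve.face_pr]
  show (nerveAt f W').face n i ≫ _ ≫ prj f n k W = _ ≫ prj f (n + 1) (i.succAbove k) W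
  rw [map_prj, map_prj, ← Category.assoc]
  exact congrArg (· ≫ _) ((nerveAt f W').face_pr n i k)

variable (G : BigSite.Ab Scheme.etalePrecoverage Y)

/-- The terms. -/
abbrev Cn (n : ℕ) : BigSite.Ab Scheme.etalePrecoverage Y :=
  (BigSite.pushBig Scheme.etalePrecoverage (base f n) AddCommGrpCat.{u + 1}).obj
    ((BigSite.pullBig Scheme.etalePrecoverage (base f n) AddCommGrpCat.{u + 1}).obj G)

/-- The differentials. -/
def dCn (n : ℕ) : Cn f G n ⟶ Cn f G (n + 1) :=
  ⟨{ app := fun W => AddCommGrpCat.ofHom (cechD (nerveAt f W.unop) G.obj n)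
     naturality := fun W W' a => AddCommGrpCat.ext fun x => by
      show cechD (nerveAt f W'.unop) G.obj n
          (G.obj.map ((Over.map (base f n)).map ((Over.pullback (base f n)).map a.unop)).op x) =
        G.obj.map ((Over.map (base f (n + 1))).map ((Over.pullback (base f (n + 1))).map a.unop)).op
          (cechD (nerveAt f W.unop) G.obj n x)
      rw [cechD_apply, cechD_apply, map_sum]
      refine Finset.sum_congr rfl fun i _ => ?_
      rw [map_zsmul]
      refine congrArg (_ • ·) ?_
      exact (map_map G.obj _ _ _ (map_face f a.unop n i) x).trans (map_map G.obj _ _ _ rfl x).symm }⟩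

theorem dCn_dCn (n : ℕ) : dCn f G n ≫ dCn f G (n + 1) = 0 :=
  Sheaf.hom_ext (NatTrans.ext (funext fun W => AddCommGrpCat.ext fun x => cechD_cechD (nerveAt f W.unop) G.obj n x))

/-- The complex on the big site. -/
def cxBig : CochainComplex (BigSite.Ab Scheme.etalePrecoverage Y) ℕ :=
  CochainComplex.of (Cn f G) (dCn f G) (dCn_dCn f G)

theorem cxBig_d (n : ℕ) : (cxBig f G).d n (n + 1) = dCn f G n := by
  simp [cxBig, CochainComplex.of, CochainComplex.of.d]

/-- The augmentation. -/
def aug₀ : G ⟶ Cn f G 0 :=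
  ⟨{ app := fun W => G.obj.map (prj f 0 0 W.unop ≫ cov f W.unop).op
     naturality := fun W W' a => by
      show G.obj.map a ≫ G.obj.map _ = G.obj.map _ ≫ G.obj.map _
      rw [← Functor.map_comp, ← Functor.map_comp]
      refine congrArg G.obj.map (Quiver.Hom.unop_inj ?_)
      show (prj f 0 0 W'.unop ≫ cov f W'.unop) ≫ a.unop =
        (Over.map (base f 0)).map ((Over.pullback (base f 0)).map a.unop) ≫ prj f 0 0 W.unop ≫ cov f W.unop
      rw [← Category.assoc, map_prj, Category.assoc, Category.assoc]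
      refine congrArg (prj f 0 0 W'.unop ≫ ·) (Over.OverMorphism.ext ?_)
      simp [cov] }⟩

theorem aug₀_dCn : aug₀ f G ≫ dCn f G 0 = 0 := by
  refine Sheaf.hom_ext (NatTrans.ext (funext fun W => AddCommGrpCat.ext fun x => ?_))
  show cechD (nerveAt f W.unop) G.obj 0 (G.obj.map (prj f 0 0 W.unop ≫ cov f W.unop).op x) = 0
  rw [cechD_apply, Fin.sum_univ_two]
  have : ∀ i, G.obj.map ((nerveAt f W.unop).face 0 i).op (G.obj.map (prj f 0 0 W.unop ≫ cov f W.unop).op x) =
      G.obj.map ((nerveAt f W.unop).pr 1 0 ≫ cov f W.unop).op x := fun i => by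
    refine map_map G.obj _ _ _ ?_ x
    exact ((Category.assoc _ _ _).symm.trans (congrArg (· ≫ cov f W.unop) ((nerveAt f W.unop).face_pr 0 i 0))).trans
      ((nerveAt f W.unop).w 1 _)
  rw [this 0, this 1]
  simp

/-- Prepending commutes with composition. -/
theorem prep_id {C : Type (u + 1)} [Category.{u} C] {W' W : C} {π : W' ⟶ W} (N : Nerve π)
    (sec : W ⟶ W') (hsec : sec ≫ π = 𝟙 W) (n : ℕ) {V : C} (x : V ⟶ N.obj n) :
    prep N (fun b => b ≫ sec) (secF_spec sec hsec) n x =
      x ≫ prep N (fun b => b ≫ sec) (secF_spec sec hsec) n (𝟙 _) := by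
  refine N.ext _ _ _ fun k => ?_
  rw [Category.assoc, prep, prep, N.fac, N.fac]
  induction k using Fin.cases with
  | zero => simp
  | succ k => simp

/-- Čech complexes of morphisms with sections are exact. -/
theorem hExact_of_section {C : Type (u + 1)} [Category.{u} C] {W' W : C} {π : W' ⟶ W} (N : Nerve π)
    (sec : W ⟶ W') (hsec : sec ≫ π = 𝟙 W) (M : Cᵒᵖ ⥤ AddCommGrpCat.{u + 1}) (n : ℕ)
    (x : M.obj (op (N.obj (n + 1)))) (hx : cechD N M (n + 1) x = 0) : ∃ y, cechD N M n y = x := by
  let σ := fun m => prep N (fun b => b ≫ sec) (secF_spec sec hsec) m (𝟙 (N.obj m))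
  refine ⟨M.map (σ n).op x, ?_⟩
  have h := congrArg (M.map (σ (n + 1)).op) hx
  rw [map_zero, cechD_apply, map_sum, Fin.sum_univ_succ] at h
  have h0 : σ (n + 1) ≫ N.face (n + 1) 0 = 𝟙 _ := prep_face_zero N _ _ _ _
  have hi : ∀ i : Fin (n + 2), σ (n + 1) ≫ N.face (n + 1) i.succ = N.face n i ≫ σ n := fun i =>
    (prep_face_succ N _ _ n (𝟙 _) i).trans ((congrArg _ (Category.id_comp _)).trans (prep_id N sec hsec n _))
  simp only [map_zsmul, ← Functor.map_comp_apply, ← op_comp, h0, hi, Fin.val_succ, pow_succ, mul_neg_one,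
    neg_smul, Fin.val_zero, pow_zero, one_smul, op_id, M.map_id, ConcreteCategory.id_apply, map_neg,
    Finset.sum_neg_distrib] at h
  rw [cechD_apply]
  simp only [← Functor.map_comp_apply, ← op_comp]
  exact (eq_of_sub_eq_zero (by rw [sub_eq_add_neg]; exact h)).symm

/-- Čech complexes of morphisms with sections are exact in degree zero. -/
theorem exact_zero_of_section {C : Type (u + 1)} [Category.{u} C] {W' W : C} {π : W' ⟶ W} (N : Nerve π)
    (sec : W ⟶ W') (hsec : sec ≫ π = 𝟙 W) (M : Cᵒᵖ ⥤ AddCommGrpCat.{u + 1})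
    (x : M.obj (op (N.obj 0))) (hx : cechD N M 0 x = 0) : ∃ y, M.map (N.pr 0 0 ≫ π).op y = x := by
  let σ := prep N (fun b => b ≫ sec) (secF_spec sec hsec) 0 (𝟙 (N.obj 0))
  refine ⟨M.map (sec ≫ N.lift 0 (fun _ : Fin 1 => 𝟙 W') fun _ => rfl).op x, ?_⟩
  have h := congrArg (M.map σ.op) hx
  rw [map_zero, cechD_apply, map_sum, Fin.sum_univ_two] at h
  have h0 : σ ≫ N.face 0 0 = 𝟙 _ := prep_face_zero N _ _ _ _
  have h1 : σ ≫ N.face 0 1 = (N.pr 0 0 ≫ π) ≫ sec ≫ N.lift 0 (fun _ : Fin 1 => 𝟙 W') fun _ => rfl :=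
    N.ext 0 _ _ fun k => by
      obtain rfl : k = 0 := Fin.eq_zero k
      simp only [Category.assoc, N.fac, Nerve.face_pr]
      show prep N _ _ 0 _ ≫ N.pr 1 0 = _
      rw [prep, N.fac, Fin.cons_zero]
      simp
  simp only [map_zsmul, ← Functor.map_comp_apply, ← op_comp, h0, h1, Fin.val_zero, pow_zero, one_smul,
    Fin.val_one, pow_one, neg_smul, op_id, M.map_id, ConcreteCategory.id_apply, map_neg] at h
  rw [← Functor.map_comp_apply, ← op_comp]
  exact (eq_of_sub_eq_zero (by rw [sub_eq_add_neg]; exact h)).symm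

variable [Surjective f]

/-- Sections over geometric points. -/
theorem exists_sec (W : Over Y) (hW : IsGeo W.left) :
    ∃ sec : W ⟶ (Over.map f).obj ((Over.pullback f).obj W), sec ≫ cov f W = 𝟙 W := by
  obtain ⟨Ω, _, _, ⟨e⟩⟩ := id hW
  obtain ⟨y₀⟩ := hW.nonempty
  obtain ⟨z, -⟩ := (pullback.fst W.hom f).surjective y₀
  obtain ⟨s, hs⟩ := exists_section (pullback.fst W.hom f ≫ e.hom) z
  have h1 : (e.hom ≫ s) ≫ pullback.fst W.hom f = 𝟙 _ := by
    rw [← cancel_mono e.hom, Category.assoc, Category.assoc, hs, Category.comp_id, Category.id_comp]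
  refine ⟨Over.homMk (e.hom ≫ s) ?_, Over.OverMorphism.ext h1⟩
  show (e.hom ≫ s) ≫ pullback.snd W.hom f ≫ f = W.hom
  rw [← pullback.condition, ← Category.assoc, h1, Category.id_comp]

variable (hG : HasGerms (G.obj ⋙ forget AddCommGrpCat.{u + 1}))

include hG

theorem hasGerms_Cn (n : ℕ) : HasGerms ((Cn f G n).obj ⋙ forget AddCommGrpCat.{u + 1}) :=
  IntegralGerms.hasGerms_push (base f n) (EtProperH0Lib.hasGerms_restrict hG (base f n))

theorem exists_preimage (n : ℕ) (W : Over Y) (x : (Cn f G (n + 1)).obj.obj (op W))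
    (hx : (dCn f G (n + 1)).hom.app (op W) x = 0) (z : W.left) :
    ∃ (E : Over Y) (e : E ⟶ W) (_ : Etale e.left) (t : (Cn f G n).obj.obj (op E)),
      z ∈ Set.range e.left.base ∧ (dCn f G n).hom.app (op E) t = (Cn f G (n + 1)).obj.map e.op x := by
  obtain ⟨H, c, hH, hc⟩ := exists_geo_at W z
  obtain ⟨sec, hsec⟩ := exists_sec f H hH
  obtain ⟨y₀, hy₀⟩ := hExact_of_section (nerveAt f H) sec hsec G.obj n ((Cn f G (n + 1)).obj.map c.op x) (by
    refine (NatTrans.naturality_apply (dCn f G (n + 1)).hom c.op x).trans ?_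
    rw [hx, map_zero])
  obtain ⟨W₁, h₁, hh₁, b, t, hb, ht⟩ := (hasGerms_Cn f G hG n).exists_germ c hH y₀
  obtain ⟨W₂, h₂, hh₂, b', hb', he⟩ := (hasGerms_Cn f G hG (n + 1)).exists_eq b hH
    ((dCn f G n).hom.app (op W₁) t) ((Cn f G (n + 1)).obj.map h₁.op x) (by
      show (Cn f G (n + 1)).obj.map b.op _ = (Cn f G (n + 1)).obj.map b.op _
      rw [← Functor.map_comp_apply, ← op_comp, hb, ← NatTrans.naturality_apply]
      exact (congrArg ((dCn f G n).hom.app (op H)) ht).trans hy₀)
  haveI := hh₁; haveI := hh₂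
  obtain ⟨h⟩ := hH.nonempty
  refine ⟨W₂, h₂ ≫ h₁, by rw [Over.comp_left]; infer_instance, (Cn f G n).obj.map h₂.op t,
    ⟨b'.left h, ?_⟩, ?_⟩
  · show (b' ≫ h₂ ≫ h₁).left h = z
    rw [← Category.assoc, hb', hb]
    exact hc h
  · rw [NatTrans.naturality_apply, op_comp, Functor.map_comp_apply]
    exact he

theorem exists_preimage_zero (W : Over Y) (x : (Cn f G 0).obj.obj (op W))
    (hx : (dCn f G 0).hom.app (op W) x = 0) (z : W.left) :
    ∃ (E : Over Y) (e : E ⟶ W) (_ : Etale e.left) (t : G.obj.obj (op E)),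
      z ∈ Set.range e.left.base ∧ (aug₀ f G).hom.app (op E) t = (Cn f G 0).obj.map e.op x := by
  obtain ⟨H, c, hH, hc⟩ := exists_geo_at W z
  obtain ⟨sec, hsec⟩ := exists_sec f H hH
  obtain ⟨y₀, hy₀⟩ := exact_zero_of_section (nerveAt f H) sec hsec G.obj ((Cn f G 0).obj.map c.op x) (by
    refine (NatTrans.naturality_apply (dCn f G 0).hom c.op x).trans ?_
    rw [hx, map_zero])
  obtain ⟨W₁, h₁, hh₁, b, t, hb, ht⟩ := hG.exists_germ c hH y₀
  obtain ⟨W₂, h₂, hh₂, b', hb', he⟩ := (hasGerms_Cn f G hG 0).exists_eq b hH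
    ((aug₀ f G).hom.app (op W₁) t) ((Cn f G 0).obj.map h₁.op x) (by
      show (Cn f G 0).obj.map b.op _ = (Cn f G 0).obj.map b.op _
      rw [← Functor.map_comp_apply, ← op_comp, hb, ← NatTrans.naturality_apply]
      exact (congrArg ((aug₀ f G).hom.app (op H)) ht).trans hy₀)
  haveI := hh₁; haveI := hh₂
  obtain ⟨h⟩ := hH.nonempty
  refine ⟨W₂, h₂ ≫ h₁, by rw [Over.comp_left]; infer_instance, G.obj.map h₂.op t, ⟨b'.left h, ?_⟩, ?_⟩
  · show (b' ≫ h₂ ≫ h₁).left h = z
    rw [← Category.assoc, hb', hb]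
    exact hc h
  · rw [NatTrans.naturality_apply, op_comp, Functor.map_comp_apply]
    exact he

theorem mono_aug₀ : Mono (aug₀ f G) := by
  haveI : ∀ W, Mono ((aug₀ f G).hom.app W) := fun W => by
    rw [AddCommGrpCat.mono_iff_injective]
    intro s t hst
    refine hG.ext fun H c hH => ?_
    obtain ⟨sec, hsec⟩ := exists_sec f H hH
    let l := sec ≫ (nerveAt f H).lift 0 (fun _ : Fin 1 => 𝟙 _) fun _ => rfl
    have hl : l ≫ (Over.map (base f 0)).map ((Over.pullback (base f 0)).map c) ≫ prj f 0 0 W.unop ≫ cov f W.unop = c := by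
      rw [← Category.assoc ((Over.map (base f 0)).map _), map_prj, Category.assoc, Category.assoc]
      rw [show (Over.map f).map ((Over.pullback f).map c) ≫ cov f W.unop = cov f H ≫ c from
        Over.OverMorphism.ext (by simp [cov])]
      show (sec ≫ _) ≫ (nerveAt f H).pr 0 0 ≫ cov f H ≫ c = c
      rw [Category.assoc, ← Category.assoc _ ((nerveAt f H).pr 0 0), (nerveAt f H).fac, Category.id_comp, ← Category.assoc,
        hsec, Category.id_comp]
    have := congrArg (G.obj.map (l ≫ (Over.map (base f 0)).map ((Over.pullback (base f 0)).map c)).op) hst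
    change G.obj.map _ (G.obj.map (prj f 0 0 W.unop ≫ cov f W.unop).op s) =
      G.obj.map _ (G.obj.map (prj f 0 0 W.unop ≫ cov f W.unop).op t) at this
    rw [← Functor.map_comp_apply, ← Functor.map_comp_apply, ← op_comp, Category.assoc, hl] at this
    exact this
  haveI : Mono (aug₀ f G).hom := NatTrans.mono_of_mono_app _
  haveI : Mono ((sheafToPresheaf _ _).map (aug₀ f G)) := ‹Mono (aug₀ f G).hom›
  exact (sheafToPresheaf _ _).mono_of_mono_map (f := aug₀ f G) ‹_›

omit hG in
/-- Exactness from local preimages. -/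
theorem exact_of_local (S : ShortComplex (BigSite.Ab Scheme.etalePrecoverage Y))
    (h : ∀ (W : Over Y) (s : S.X₂.obj.obj (op W)), S.g.hom.app (op W) s = 0 → ∀ z : W.left,
      ∃ (E : Over Y) (e : E ⟶ W) (_ : Etale e.left) (t : S.X₁.obj.obj (op E)),
        z ∈ Set.range e.left.base ∧ S.f.hom.app (op E) t = S.X₂.obj.map e.op s) : S.Exact := by
  rw [S.exact_iff_epi_toCycles]
  refine (Sheaf.isLocallySurjective_iff_epi' (J := QuotSh.J Scheme.etalePrecoverage Y) (A := AddCommGrpCat.{u + 1})
    _).1 ⟨fun {W} s => ?_⟩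
  let ev := fun V : Over Y => sheafToPresheaf (QuotSh.J Scheme.etalePrecoverage Y) AddCommGrpCat.{u + 1} ⋙
    (evaluation _ _).obj (op V)
  have h0 : S.g.hom.app (op W) (S.iCycles.hom.app (op W) s) = 0 :=
    ConcreteCategory.congr_hom (congrArg (fun k => k.hom.app (op W)) S.iCycles_g) s
  choose E e he t hz ht using h W (S.iCycles.hom.app (op W) s) h0
  refine GrothendieckTopology.superset_covering _ ?_
    (EtDescentLib.ofArrows_mem E e he fun z => ⟨z, hz z⟩)
  rw [Sieve.generate_le_iff]
  rintro _ _ ⟨z⟩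
  refine ⟨t z, ?_⟩
  haveI : PreservesFiniteLimits (ev (E z)) := comp_preservesFiniteLimits _ _
  haveI : Mono ((ev (E z)).map S.iCycles) := inferInstance
  apply (AddCommGrpCat.mono_iff_injective ((ev (E z)).map S.iCycles)).1 inferInstance
  show S.iCycles.hom.app (op (E z)) (S.toCycles.hom.app (op (E z)) (t z)) =
    S.iCycles.hom.app (op (E z)) (S.cycles.obj.map (e z).op s)
  rw [NatTrans.naturality_apply, ← ht z]
  exact ConcreteCategory.congr_hom (congrArg (fun k => k.hom.app (op (E z))) S.toCycles_i) (t z)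

omit hG in
/-- The augmented complex. -/
def augC : (CochainComplex.single₀ (BigSite.Ab Scheme.etalePrecoverage Y)).obj G ⟶ cxBig f G :=
  (CochainComplex.fromSingle₀Equiv _ _).symm ⟨aug₀ f G,
    (congrArg (aug₀ f G ≫ ·) (cxBig_d f G 0)).trans (aug₀_dCn f G)⟩

omit hG in
theorem augC_f_zero : (augC f G).f 0 = aug₀ f G :=
  CochainComplex.fromSingle₀Equiv_symm_apply_f_zero _ _

theorem quasiIso_augC : QuasiIso (augC f G) := ⟨fun n => by
  cases n with
  | zero =>
    haveI := mono_aug₀ f G hG
    rw [quasiIsoAt_iff' _ 0 0 1 (by simp) (by simp)]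
    refine (ShortComplex.quasiIso_iff_of_zeros _ ?_ ?_ ?_).2 ⟨?_, ?_⟩
    · show ((CochainComplex.single₀ (BigSite.Ab Scheme.etalePrecoverage Y)).obj G).d 0 0 = 0
      simp
    · show ((CochainComplex.single₀ (BigSite.Ab Scheme.etalePrecoverage Y)).obj G).d 0 1 = 0
      simp
    · show (cxBig f G).d 0 0 = 0
      exact HomologicalComplex.shape _ _ _ (by simp)
    · refine ShortComplex.exact_of_iso
        (ShortComplex.isoMk (Iso.refl _) (Iso.refl _) (Iso.refl _) ?_ ?_)
        (exact_of_local (ShortComplex.mk (aug₀ f G) (dCn f G 0) (aug₀_dCn f G)) fun W s hs z =>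
          exists_preimage_zero f G hG W s hs z)
      · exact ((Category.id_comp _).trans (augC_f_zero f G)).trans (Category.comp_id _).symm
      · exact ((Category.id_comp _).trans (cxBig_d f G 0)).trans (Category.comp_id _).symm
    · simp only [HomologicalComplex.shortComplexFunctor'_map_τ₂, augC_f_zero]
      infer_instance
  | succ n =>
    rw [quasiIsoAt_iff_exactAt']
    · exact CochainComplex.exactAt_succ_single_obj _ _
    · rw [HomologicalComplex.exactAt_iff' _ n (n + 1) (n + 1 + 1) (by simp) (by simp)]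
      refine ShortComplex.exact_of_iso (S₁ := ShortComplex.mk (dCn f G n) (dCn f G (n + 1)) (dCn_dCn f G n))
        (ShortComplex.isoMk (Iso.refl _) (Iso.refl _) (Iso.refl _) ?_ ?_)
        (exact_of_local (ShortComplex.mk (dCn f G n) (dCn f G (n + 1)) (dCn_dCn f G n)) fun W s hs z =>
          exists_preimage f G hG n W s hs z)
      · exact ((Category.id_comp _).trans (cxBig_d f G n)).trans (Category.comp_id _).symm
      · exact ((Category.id_comp _).trans (cxBig_d f G (n + 1))).trans (Category.comp_id _).symm⟩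

end Nerve

/-- Cohomology as derived global sections. -/
theorem nonempty_rightDerived_gsec (Y : Scheme.{u}) (G : EtCoh.Ab Y) (q : ℕ) :
    Nonempty (((EtCore.gsec Y).rightDerived q).obj G ≅ AddCommGrpCat.of (EtCoh.H Y G q)) := by
  haveI : (EtCore.gsec Y).Additive := { }
  let I : InjectiveResolution G := injectiveResolution G
  let eS := fun (M : EtCoh.Ab Y) => BigEtLib.homEquivTop Y.smallEtaleTopology (EtCore.topIsTerminal Y) M
  obtain ⟨e⟩ := CohLib.nonempty_homology_iso_ext_of_injective I
    (((EtCore.gsec Y).mapHomologicalComplex _).obj I.cocomplex)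
    (X := (constantSheaf Y.smallEtaleTopology AddCommGrpCat.{u + 1}).obj (AddCommGrpCat.of (ULift.{u + 1} ℤ)))
    (fun m => (eS (I.cocomplex.X m)).symm) (fun m x => by
      apply (eS (I.cocomplex.X (m + 1))).injective
      refine ((eS _).apply_symm_apply _).trans ?_
      refine Eq.trans ?_ (BigEtLib.homEquivTop_comp Y.smallEtaleTopology (EtCore.topIsTerminal Y)
        (I.cocomplex.d m (m + 1)) ((eS (I.cocomplex.X m)).symm x)).symm
      exact (congrArg ((I.cocomplex.d m (m + 1)).hom.app (op (EtCoh.top Y)))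
        ((eS _).apply_symm_apply x)).symm) q
  exact ⟨I.isoRightDerivedObj (EtCore.gsec Y) q ≪≫ e⟩

/-- The constant sheaf of integers. -/
abbrev Zc (X : Scheme.{u}) : EtCoh.Ab X :=
  (constantSheaf X.smallEtaleTopology AddCommGrpCat.{u + 1}).obj (AddCommGrpCat.of (ULift.{u + 1} ℤ))

/-- Global sections as maps out of the constant sheaf. -/
def eTop (X : Scheme.{u}) (M : EtCoh.Ab X) : (Zc X ⟶ M) ≃+ (EtCore.gsec X).obj M :=
  BigEtLib.homEquivTop X.smallEtaleTopology (EtCore.topIsTerminal X) M

theorem eTop_comp (X : Scheme.{u}) {M M' : EtCoh.Ab X} (g : M ⟶ M') (x : Zc X ⟶ M) :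
    eTop X M' (x ≫ g) = (EtCore.gsec X).map g (eTop X M x) :=
  BigEtLib.homEquivTop_comp X.smallEtaleTopology (EtCore.topIsTerminal X) g x

/-- Global sections of direct images. -/
def eGsec {X Y : Scheme.{u}} (p : X ⟶ Y) (M : EtCoh.Ab X) :
    (EtCore.gsec X).obj M ≃+ (EtCore.gsec Y).obj ((EtCoh.push p).obj M) :=
  ((EtCore.pushGsecIso p).app M).symm.addCommGroupIsoToAddEquiv

theorem eGsec_comp {X Y : Scheme.{u}} (p : X ⟶ Y) {M M' : EtCoh.Ab X} (g : M ⟶ M') (y : (EtCore.gsec X).obj M) :
    eGsec p M' ((EtCore.gsec X).map g y) = (EtCore.gsec Y).map ((EtCoh.push p).map g) (eGsec p M y) :=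
  ConcreteCategory.congr_hom ((EtCore.pushGsecIso p).inv.naturality g) y

/-- Maps out of the constant sheaves and direct images. -/
def ePush {X Y : Scheme.{u}} (p : X ⟶ Y) (M : EtCoh.Ab X) : (Zc X ⟶ M) ≃+ (Zc Y ⟶ (EtCoh.push p).obj M) :=
  ((eTop X M).trans (eGsec p M)).trans (eTop Y ((EtCoh.push p).obj M)).symm

theorem ePush_comp {X Y : Scheme.{u}} (p : X ⟶ Y) {M M' : EtCoh.Ab X} (g : M ⟶ M') (x : Zc X ⟶ M) :
    ePush p M' (x ≫ g) = ePush p M x ≫ (EtCoh.push p).map g := by
  apply (eTop Y _).injective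
  rw [eTop_comp]
  simp only [ePush, AddEquiv.trans_apply, AddEquiv.apply_symm_apply, eTop_comp, eGsec_comp]

/-- Cohomology of integral direct images. -/
theorem nonempty_H_push {X Y : Scheme.{u}} (p : X ⟶ Y) [IsIntegralHom p] (G : EtCoh.Ab X) (n : ℕ) :
    Nonempty (EtCoh.H X G n ≃+ EtCoh.H Y ((EtCoh.push p).obj G) n) := by
  haveI : (EtCoh.push p).PreservesEpimorphisms := Groth.Agent.S6634.result p
  haveI : (EtCoh.push p).Additive := (EtCoh.pullPushAdj p).right_adjoint_additive
  haveI : PreservesLimitsOfSize.{0, 0} (EtCoh.push p) := (EtCoh.pullPushAdj p).rightAdjoint_preservesLimits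
  haveI : PreservesFiniteLimits (EtCoh.push p) := PreservesLimitsOfSize.preservesFiniteLimits _
  haveI : (EtCoh.push p).PreservesHomology := Functor.preservesHomology_of_preservesEpis_and_kernels _
  haveI : PreservesFiniteLimits (EtCoh.pull p) := AnLib.sheafPullback_preservesFiniteLimits.{u + 1} (EtCoh.bc p) _ _
  haveI : (EtCoh.push p).PreservesInjectiveObjects :=
    Functor.preservesInjectiveObjects_of_adjunction_of_preservesMonomorphisms (EtCoh.pullPushAdj p)
  exact BigEtLib.nonempty_ext_equiv (EtCoh.push p) (P := Zc X) (Q := Zc Y) (ePush p) (ePush_comp p) G n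

/-- The terms on the small site. -/
theorem nonempty_term_iso {X Y : Scheme.{u}} (p : X ⟶ Y) (F : EtCoh.Ab Y) :
    Nonempty ((BigSite.resEt Scheme.etalePrecoverage Y).obj
      ((BigSite.pushBig Scheme.etalePrecoverage p AddCommGrpCat.{u + 1}).obj
        ((BigSite.pullBig Scheme.etalePrecoverage p AddCommGrpCat.{u + 1}).obj
          ((BigSite.piEtPull Scheme.etalePrecoverage Y).obj F))) ≅
      (EtCoh.push p).obj ((EtCoh.pull p).obj F)) := by
  obtain ⟨i⟩ := BigEtLib.nonempty_resEtAlong_piEtPull p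
  exact ⟨(EtProperH0Lib.sigmaIso AddCommGrpCat.{u + 1} p).app _ ≪≫ (EtCoh.push p).mapIso (i.app F)⟩

/-- **The descent spectral sequence of an integral surjective morphism.** -/
theorem main {X Y : Scheme.{u}} (f : X ⟶ Y) [IsIntegralHom f] [Surjective f] (F : EtCoh.Ab Y) :
    ∃ (E : CohomologicalSpectralSequence AddCommGrpCat.{u + 1} 1)
      (a : SpSeq.Abutment E (fun n : ℤ =>
        if 0 ≤ n then AddCommGrpCat.of (EtCoh.H Y F n.toNat) else AddCommGrpCat.of PUnit.{u + 2})),
      (∀ n, a.IsFinite n) ∧ SpSeq.IsBounded E ∧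
      ∀ p q : ℤ, Nonempty ((E.page 1 le_rfl).X (p, q) ≅
        (if 0 ≤ p ∧ 0 ≤ q then
          AddCommGrpCat.of (EtCoh.H (widePullback Y (fun _ : Fin (p.toNat + 1) => X) (fun _ => f))
            ((EtCoh.pull (WidePullback.base (fun _ : Fin (p.toNat + 1) => f) :
              widePullback Y (fun _ : Fin (p.toNat + 1) => X) (fun _ => f) ⟶ Y)).obj F) q.toNat)
         else AddCommGrpCat.of PUnit.{u + 2})) := by
  letI : HasDerivedCategory.{u + 2} (EtCoh.Ab Y) := HasDerivedCategory.standard _
  haveI : (EtCore.gsec Y).Additive := { }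
  have hPU : IsZero (AddCommGrpCat.of PUnit.{u + 2}) := AddCommGrpCat.isZero_of_subsingleton _
  let R := BigSite.resEt Scheme.etalePrecoverage Y
  haveI : R.PreservesHomology := BigEtLib.preservesHomology_resEt Y Scheme.etalePrecoverage
  haveI : IsIso (BigSite.piEtAdj Scheme.etalePrecoverage Y).unit := BigEtLib.isIso_piEtAdj_unit Y
  let G := (BigSite.piEtPull Scheme.etalePrecoverage Y).obj F
  haveI : QuasiIso (augC f G) := quasiIso_augC f G (EtDescentLib.hasGerms_piEtPull Y F)
  haveI : QuasiIso ((R.mapHomologicalComplex (ComplexShape.up ℕ)).map (augC f G)) := inferInstance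
  let a : (CochainComplex.single₀ (EtCoh.Ab Y)).obj F ⟶ (R.mapHomologicalComplex _).obj (cxBig f G) :=
    (CochainComplex.single₀ (EtCoh.Ab Y)).map ((BigSite.piEtAdj Scheme.etalePrecoverage Y).unit.app F) ≫
      ((HomologicalComplex.singleMapHomologicalComplex R (ComplexShape.up ℕ) 0).app G).inv ≫
        (R.mapHomologicalComplex _).map (augC f G)
  haveI : QuasiIso a := by dsimp only [a]; infer_instance
  obtain ⟨E, ab, h1, h2, h3, h4⟩ := SpSeqLib.EOne.exists_spectralSequence_of_resolution (EtCore.gsec Y) F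
    ((R.mapHomologicalComplex _).obj (cxBig f G)) a
    (fun n : ℤ => if 0 ≤ n then AddCommGrpCat.of (EtCoh.H Y F n.toNat) else AddCommGrpCat.of PUnit.{u + 2})
    (fun n => by
      obtain ⟨e⟩ := nonempty_rightDerived_gsec Y F n
      exact ⟨eqToIso (by simp [EtCoh.H]) ≪≫ e.symm⟩)
    (fun n hn => by
      simp only [if_neg (not_le.mpr hn)]
      exact hPU)
  refine ⟨E, ab, h1, h2, fun p q => ?_⟩
  by_cases hpq : 0 ≤ p ∧ 0 ≤ q
  · rw [if_pos hpq]
    obtain ⟨a, rfl⟩ := Int.eq_ofNat_of_zero_le hpq.1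
    obtain ⟨b, rfl⟩ := Int.eq_ofNat_of_zero_le hpq.2
    obtain ⟨e₀⟩ := h3 a b
    obtain ⟨e₁⟩ := nonempty_term_iso (base f a) F
    obtain ⟨e₂⟩ := nonempty_rightDerived_gsec Y ((EtCoh.push (base f a)).obj ((EtCoh.pull (base f a)).obj F)) b
    obtain ⟨e₃⟩ := nonempty_H_push (base f a) ((EtCoh.pull (base f a)).obj F) b
    exact ⟨e₀ ≪≫ ((EtCore.gsec Y).rightDerived b).mapIso e₁ ≪≫ e₂ ≪≫
      (AddEquiv.toAddCommGrpIso (X := AddCommGrpCat.of (EtCoh.H (P f a) ((EtCoh.pull (base f a)).obj F) b))
        (Y := AddCommGrpCat.of (EtCoh.H Y ((EtCoh.push (base f a)).obj ((EtCoh.pull (base f a)).obj F)) b)) e₃).symm⟩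
  · rw [if_neg hpq]
    exact ⟨(h4 p q (by omega)).iso hPU⟩

end

end BlowRegLib.IntegralDesc
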