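import Groth.Agent.EtProperH0Lib.LimitSec
import Groth.Agent.EtProperH0Lib.Fibre
import Groth.Agent.EtProperH0Lib.Henselian
import Groth.Agent.EtProperH0Lib.ShSystem

/-!
# Direct images along integral morphisms of sheaves with étale germs
-/

set_option autoImplicit false
set_option linter.style.haveILetI false
set_option backward.isDefEq.respectTransparency false
set_option backward.isDefEq.respectTransparency.types false
universe u v

open CategoryTheory CategoryTheory.Limits AlgebraicGeometry Opposite EtDescentLib AlgSpRegLib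

namespace BlowRegLib.IntegralGerms

open EtProperH0Lib

noncomputable section

variable {T S : Scheme.{u}} (f : T ⟶ S) [IsIntegralHom f]

/-- Equality on a fibre of a integral morphism spreads out to an étale neighbourhood. -/
theorem exists_eq_integral {P : (Over T)ᵒᵖ ⥤ Type v} (hP : HasGerms P) {W G : Over S} (a : G ⟶ W)
    (hG : IsGeo G.left) (s t : P.obj (op ((Over.pullback f).obj W)))
    (h : P.map ((Over.pullback f).map a).op s = P.map ((Over.pullback f).map a).op t) :
    ∃ (W₁ : Over S) (h₁ : W₁ ⟶ W) (_ : Etale h₁.left) (b : G ⟶ W₁), b ≫ h₁ = a ∧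
      P.map ((Over.pullback f).map h₁).op s = P.map ((Over.pullback f).map h₁).op t := by
  obtain ⟨Ω, _, _, ⟨e⟩⟩ := id hG
  obtain ⟨y₀⟩ := hG.nonempty
  let M := (Over.pullback f).obj W
  let q : M.left ⟶ W.left := pullback.fst W.hom f
  haveI : IsIntegralHom q := MorphismProperty.pullback_fst (P := @IsIntegralHom) _ _ ‹_›
  have hfib : ∀ m : M.left, q m = a.left y₀ → m ∈ eqLocus M s t := by
    intro m hm
    obtain ⟨z, -, hz⟩ := Scheme.Pullback.exists_preimage_pullback (f := a.left) (g := q) y₀ m hm.symm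
    let G' : Over T := Over.mk (pullback.snd a.left q ≫ M.hom)
    let d : G' ⟶ (Over.pullback f).obj G := Over.homMk
      (pullback.lift (pullback.fst a.left q) (pullback.snd a.left q ≫ pullback.snd W.hom f) (by
        rw [Category.assoc, ← pullback.condition, ← Over.w a, ← Category.assoc, pullback.condition, Category.assoc]))
      (pullback.lift_snd _ _ _)
    let k : G' ⟶ M := Over.homMk (pullback.snd a.left q) rfl
    have hd : d ≫ (Over.pullback f).map a = k := by
      refine Over.OverMorphism.ext (pullback.hom_ext ?_ ?_)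
      · show (d.left ≫ pullback.lift (pullback.fst G.hom f ≫ a.left) (pullback.snd G.hom f) _) ≫
          pullback.fst W.hom f = pullback.snd a.left q ≫ pullback.fst W.hom f
        rw [Category.assoc, pullback.lift_fst]
        exact (pullback.lift_fst_assoc _ _ _ _).trans pullback.condition
      · show (d.left ≫ pullback.lift (pullback.fst G.hom f ≫ a.left) (pullback.snd G.hom f) _) ≫
          pullback.snd W.hom f = pullback.snd a.left q ≫ pullback.snd W.hom f
        rw [Category.assoc, pullback.lift_snd]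
        exact pullback.lift_snd _ _ _
    obtain ⟨H, c, hH, hc⟩ := exists_geo_at G' z
    obtain ⟨y⟩ := hH.nonempty
    have := hP.mem_eqLocus (c ≫ k) hH (s := s) (t := t) (by
      rw [← hd, map_comp_apply', map_comp_apply', map_comp_apply', map_comp_apply', h]) y
    rwa [show (c ≫ k).left y = m from (congrArg (pullback.snd a.left q) (hc y)).trans hz] at this
  let O : W.left.Opens := ⟨(q '' (eqLocus M s t)ᶜ)ᶜ,
    (q.isClosedMap _ (isOpen_eqLocus _ _ _).isClosed_compl).isOpen_compl⟩
  have hO : a.left y₀ ∈ O := fun ⟨m, hm, hm'⟩ => hm (hfib m hm')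
  let W₁ : Over S := Over.mk (O.ι ≫ W.hom)
  let h₁ : W₁ ⟶ W := Over.homMk O.ι rfl
  haveI : Etale h₁.left := inferInstanceAs (Etale O.ι)
  obtain ⟨b, hb, -⟩ := exists_lift h₁ a hG ⟨a.left y₀, hO⟩ fun y => congrArg a.left (hG.subsingleton y y₀)
  refine ⟨W₁, h₁, inferInstance, b, hb, hP.ext fun H c hH => ?_⟩
  obtain ⟨y⟩ := hH.nonempty
  rw [← map_comp_apply', ← map_comp_apply']
  have hmem : (c ≫ (Over.pullback f).map h₁).left y ∈ eqLocus M s t := by
    have h2 : q ((c ≫ (Over.pullback f).map h₁).left y) ∈ O := by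
      have e1 : (c ≫ (Over.pullback f).map h₁).left ≫ q = (c.left ≫ pullback.fst W₁.hom f) ≫ O.ι := by
        show (c.left ≫ pullback.lift (pullback.fst W₁.hom f ≫ O.ι) (pullback.snd W₁.hom f) _) ≫ pullback.fst W.hom f = _
        rw [Category.assoc, pullback.lift_fst, Category.assoc]
      rw [← Scheme.Hom.comp_apply, e1]
      exact ((c.left ≫ pullback.fst W₁.hom f) y).2
    by_contra hn
    exact h2 ⟨_, hn, rfl⟩
  exact eq_of_mem_eqLocus hmem _ hH fun y' => by rw [hH.subsingleton y' y]

variable {P : (Over T)ᵒᵖ ⥤ Type (u + 1)}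

/-- Sections over a integral scheme over a strictly henselian ring surject onto those of the geometric fibre. -/
theorem surjective_fibre (hP : HasGerms P) {R : Type u} [CommRing R] [HenselianLocalRing R]
    [IsSepClosed (IsLocalRing.ResidueField R)] {Ω : Type u} [Field Ω] [IsAlgClosed Ω] (φ : R →+* Ω) [IsLocalHom φ]
    (g : Spec (CommRingCat.of R) ⟶ S) {G : Over S} (e : G.left ≅ Spec (CommRingCat.of Ω)) (aR : G ⟶ Over.mk g)
    (haR : aR.left = e.hom ≫ Spec.map (CommRingCat.ofHom φ)) :
    Function.Surjective (P.map ((Over.pullback f).map aR).op) := by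
  intro x
  letI : Algebra (IsLocalRing.ResidueField R) Ω := (IsLocalRing.ResidueField.lift φ).toAlgebra
  let j := Spec.map (CommRingCat.ofHom (IsLocalRing.residue R))
  let jK := Spec.map (CommRingCat.ofHom (algebraMap (IsLocalRing.ResidueField R) Ω))
  have hjK : jK ≫ j = Spec.map (CommRingCat.ofHom φ) := by
    rw [← Spec.map_comp]; rfl
  have hjs : jK ≫ j ≫ g = e.inv ≫ G.hom := by
    rw [reassoc_of% hjK, ← Over.w aR, haR, Category.assoc, e.inv_hom_id_assoc]
    rfl
  let MR : Over T := (Over.pullback f).obj (Over.mk g)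
  let q : MR.left ⟶ Spec (CommRingCat.of R) := pullback.fst g f
  haveI : IsIntegralHom q := MorphismProperty.pullback_fst (P := @IsIntegralHom) _ _ ‹_›
  let i := pullback.fst q j
  let qk := pullback.snd q j
  let i' := pullback.fst qk jK
  let XK : Over T := Over.mk (i' ≫ i ≫ MR.hom)
  have hcond : q ≫ g = MR.hom ≫ f := pullback.condition
  let θ : XK ⟶ (Over.pullback f).obj G := Over.homMk
    (pullback.lift (pullback.snd qk jK ≫ e.inv) (i' ≫ i ≫ MR.hom) (by
      rw [Category.assoc, ← hjs, ← pullback.condition_assoc, ← pullback.condition_assoc, Category.assoc,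
        Category.assoc, hcond]))
    (pullback.lift_snd _ _ _)
  have hθ₁ : θ.left ≫ pullback.fst G.hom f = pullback.snd qk jK ≫ e.inv := pullback.lift_fst _ _ _
  have hθ₂ : θ.left ≫ pullback.snd G.hom f = i' ≫ i ≫ MR.hom := pullback.lift_snd _ _ _
  have hm₁ : ((Over.pullback f).map aR).left ≫ q = pullback.fst G.hom f ≫ aR.left := pullback.lift_fst _ _ _
  have hm₂ : ((Over.pullback f).map aR).left ≫ pullback.snd g f = pullback.snd G.hom f := pullback.lift_snd _ _ _
  let iK : XK ⟶ Over.mk (i ≫ MR.hom) := Over.homMk i' rfl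
  let i₀ : Over.mk (i ≫ MR.hom) ⟶ MR := Over.homMk i rfl
  have hθ : θ ≫ (Over.pullback f).map aR = iK ≫ i₀ := by
    refine Over.OverMorphism.ext (pullback.hom_ext ?_ ?_)
    · show (θ.left ≫ ((Over.pullback f).map aR).left) ≫ q = (i' ≫ i) ≫ q
      rw [Category.assoc, hm₁, reassoc_of% hθ₁, haR, e.inv_hom_id_assoc, ← hjK, ← pullback.condition_assoc,
        Category.assoc, pullback.condition]
    · show (θ.left ≫ ((Over.pullback f).map aR).left) ≫ pullback.snd g f = (i' ≫ i) ≫ MR.hom
      rw [Category.assoc, hm₂, hθ₂, Category.assoc]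
  let Gl := (Over.pullback f).obj G
  let v : Gl.left ⟶ pullback q j := pullback.lift ((Over.pullback f).map aR).left
    (pullback.fst G.hom f ≫ e.hom ≫ jK) (by
      rw [hm₁, Category.assoc, Category.assoc, hjK, haR])
  let θ' : Gl ⟶ XK := Over.homMk (pullback.lift v (pullback.fst G.hom f ≫ e.hom)
      (by rw [pullback.lift_snd, Category.assoc])) (by
      show pullback.lift v (pullback.fst G.hom f ≫ e.hom) _ ≫ pullback.fst qk jK ≫ i ≫ MR.hom = Gl.hom
      rw [pullback.lift_fst_assoc, pullback.lift_fst_assoc]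
      exact hm₂)
  have hθ'₂ : θ'.left ≫ pullback.snd qk jK = pullback.fst G.hom f ≫ e.hom := pullback.lift_snd _ _ _
  have hθ' : θ' ≫ θ = 𝟙 Gl := by
    refine Over.OverMorphism.ext (pullback.hom_ext ?_ ?_)
    · show (θ'.left ≫ θ.left) ≫ pullback.fst G.hom f = 𝟙 Gl.left ≫ pullback.fst G.hom f
      rw [Category.id_comp, Category.assoc, hθ₁, reassoc_of% hθ'₂, e.hom_inv_id, Category.comp_id]
    · show (θ'.left ≫ θ.left) ≫ pullback.snd G.hom f = 𝟙 Gl.left ≫ Gl.hom
      rw [Category.id_comp, Category.assoc, hθ₂]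
      exact Over.w θ'
  obtain ⟨z, hz⟩ := (bijective_sepClosed_ext hP (K := Ω) (i ≫ MR.hom) qk).2 (P.map θ.op x)
  obtain ⟨y, hy⟩ := (bijective_closedFibre_integral hP MR.hom q).2 z
  refine ⟨y, ?_⟩
  have h1 : P.map θ.op (P.map ((Over.pullback f).map aR).op y) = P.map θ.op x := by
    rw [← map_comp_apply', hθ, map_comp_apply']
    exact (congrArg (P.map iK.op) hy).trans hz
  have h3 : ∀ w : P.obj (op Gl), P.map θ'.op (P.map θ.op w) = w := fun w => by
    rw [← map_comp_apply', hθ', op_id, P.map_id, types_id_apply]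
  exact (h3 _).symm.trans ((congrArg (P.map θ'.op) h1).trans (h3 x))

theorem exists_germ_system (hP : HasGerms P) {A : CommRingCat.{u}} (g : Spec A ⟶ S) {R : Type u} [CommRing R]
    (s : Spec (CommRingCat.of R) ⟶ Spec A) {I : Type u} [SmallCategory I] [IsCofiltered I] (DS : I ⥤ Over (Spec A))
    (cπ : (Functor.const I).obj (Over.mk s) ⟶ DS)
    (hlim : IsLimit ((Over.forget (Spec A)).mapCone ⟨_, cπ⟩))
    (hDS : ∀ i, IsAffine (DS.obj i).left ∧ Etale (DS.obj i).hom)
    {G : Over S} (a : G ⟶ Over.mk g) (aR : G ⟶ Over.mk (s ≫ g)) (ha : aR.left ≫ s = a.left)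
    (y : P.obj (op ((Over.pullback f).obj (Over.mk (s ≫ g))))) :
    ∃ (W₁ : Over S) (h₁ : W₁ ⟶ Over.mk g) (_ : Etale h₁.left) (b : G ⟶ W₁)
      (t : P.obj (op ((Over.pullback f).obj W₁))),
      b ≫ h₁ = a ∧ P.map ((Over.pullback f).map b).op t = P.map ((Over.pullback f).map aR).op y := by
  let DT : I ⥤ Over T := (DS ⋙ Over.map g) ⋙ Over.pullback f
  let cT : Cone DT := (Over.pullback f).mapCone ((Over.map g).mapCone ⟨_, cπ⟩)
  haveI : IsConnected I := IsCofiltered.isConnected I
  haveI : ∀ i, IsAffine (DS.obj i).left := fun i => (hDS i).1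
  haveI : ∀ {k l : I} (m : k ⟶ l), IsAffineHom (DT.map m).left := fun {k l} m =>
    MorphismProperty.overPullbackMap (P := @IsAffineHom) f ((DS ⋙ Over.map g).map m)
      (inferInstanceAs (IsAffineHom (DS.map m).left))
  haveI : ∀ i, CompactSpace (DT.obj i).left := fun i => by
    haveI : IsIntegralHom (pullback.fst ((DS ⋙ Over.map g).obj i).hom f) :=
      MorphismProperty.pullback_fst (P := @IsIntegralHom) _ _ ‹_›
    haveI : CompactSpace ((DS ⋙ Over.map g).obj i).left := inferInstanceAs (CompactSpace (DS.obj i).left)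
    exact QuasiCompact.compactSpace_of_compactSpace (pullback.fst ((DS ⋙ Over.map g).obj i).hom f)
  haveI : ∀ i, QuasiSeparatedSpace (DT.obj i).left := fun i => by
    haveI : IsIntegralHom (pullback.fst ((DS ⋙ Over.map g).obj i).hom f) :=
      MorphismProperty.pullback_fst (P := @IsIntegralHom) _ _ ‹_›
    haveI : QuasiSeparatedSpace ((DS ⋙ Over.map g).obj i).left :=
      inferInstanceAs (QuasiSeparatedSpace (DS.obj i).left)
    exact quasiSeparatedSpace_of_quasiSeparated (pullback.fst ((DS ⋙ Over.map g).obj i).hom f)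
  have hl₁ : IsLimit ((Over.map g).mapCone ⟨_, cπ⟩ : Cone (DS ⋙ Over.map g)) :=
    isLimitOfReflects (Over.forget S)
      (IsLimit.ofIsoLimit hlim (Cone.ext (Iso.refl _) fun k => (Category.id_comp _).symm))
  obtain ⟨i₁, t, ht⟩ := exists_stage_section DT cT
    (isLimitOfPreserves (Over.forget T) (isLimitOfPreserves (Over.pullback f) hl₁)) hP y
  let π₁ : Over.mk (s ≫ g) ⟶ (Over.map g).obj (DS.obj i₁) := (Over.map g).map (cπ.app i₁)
  refine ⟨(Over.map g).obj (DS.obj i₁), Over.homMk (DS.obj i₁).hom rfl, (hDS i₁).2, aR ≫ π₁, t, ?_, ?_⟩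
  · refine Over.OverMorphism.ext ?_
    show (aR.left ≫ (cπ.app i₁).left) ≫ (DS.obj i₁).hom = a.left
    rw [Category.assoc, Over.w (cπ.app i₁)]
    exact ha
  · rw [Functor.map_comp, map_comp_apply']
    exact congrArg (P.map ((Over.pullback f).map aR).op) ht

theorem exists_germ_affine (hP : HasGerms P) {A : CommRingCat.{u}} (g : Spec A ⟶ S) {G : Over S} (a : G ⟶ Over.mk g)
    (hG : IsGeo G.left) (x : P.obj (op ((Over.pullback f).obj G))) :
    ∃ (W₁ : Over S) (h₁ : W₁ ⟶ Over.mk g) (_ : Etale h₁.left) (b : G ⟶ W₁)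
      (t : P.obj (op ((Over.pullback f).obj W₁))), b ≫ h₁ = a ∧ P.map ((Over.pullback f).map b).op t = x := by
  obtain ⟨Ω, _, _, ⟨e⟩⟩ := id hG
  obtain ⟨ε, hε⟩ := Spec.map_surjective (e.inv ≫ a.left)
  let p : Ideal A := RingHom.ker ε.hom
  haveI : p.IsPrime := RingHom.ker_isPrime _
  obtain ⟨φ, hφ, hker, -⟩ := exists_shPoint p (ε := ε.hom) rfl
  haveI : HenselianLocalRing (ShAt p) := Hensel.IsStrictHenselization.henselian (R := Localization.AtPrime p)
  haveI : IsSepClosed (IsLocalRing.ResidueField (ShAt p)) :=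
    (Hensel.IsStrictHenselization.isSepClosure (R := Localization.AtPrime p) (S := ShAt p)).sep_closed
  haveI : IsLocalHom φ :=
    ⟨fun x hx => IsLocalRing.notMem_maximalIdeal.1 fun hm => hx.ne_zero (hker.ge hm)⟩
  have hφsh : Spec.map (CommRingCat.ofHom φ) ≫ Spec.map (CommRingCat.ofHom (shι p)) = e.inv ≫ a.left := by
    rw [← Spec.map_comp, ← hε, ← CommRingCat.ofHom_comp, hφ]; rfl
  let aR : G ⟶ Over.mk (Spec.map (CommRingCat.ofHom (shι p)) ≫ g) :=
    Over.homMk (e.hom ≫ Spec.map (CommRingCat.ofHom φ)) (by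
      show (e.hom ≫ Spec.map (CommRingCat.ofHom φ)) ≫ Spec.map (CommRingCat.ofHom (shι p)) ≫ g = G.hom
      rw [Category.assoc, reassoc_of% hφsh, e.hom_inv_id_assoc]
      exact Over.w a)
  obtain ⟨y, rfl⟩ := surjective_fibre f hP φ _ e aR rfl x
  obtain ⟨I, _, _, DS, cS, hpt, ⟨hlim⟩, hDS⟩ := exists_sh_system p
  obtain ⟨cpt, cπ⟩ := cS
  subst hpt
  exact exists_germ_system f hP g _ DS cπ hlim hDS a aR (by
    show (e.hom ≫ Spec.map (CommRingCat.ofHom φ)) ≫ _ = _
    rw [Category.assoc, hφsh, e.hom_inv_id_assoc]) y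

/-- Sections over a geometric fibre of a integral morphism extend to an étale neighbourhood. -/
theorem exists_germ_integral (hP : HasGerms P) {W G : Over S} (a : G ⟶ W) (hG : IsGeo G.left)
    (x : P.obj (op ((Over.pullback f).obj G))) :
    ∃ (W₁ : Over S) (h₁ : W₁ ⟶ W) (_ : Etale h₁.left) (b : G ⟶ W₁)
      (t : P.obj (op ((Over.pullback f).obj W₁))), b ≫ h₁ = a ∧ P.map ((Over.pullback f).map b).op t = x := by
  obtain ⟨y₀⟩ := hG.nonempty
  obtain ⟨O, hO, hy, -⟩ := exists_isAffineOpen_mem_and_subset (X := W.left) (U := ⊤) (x := a.left y₀) trivial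
  let h₀ : Over.mk (hO.fromSpec ≫ W.hom) ⟶ W := Over.homMk hO.fromSpec rfl
  haveI : Etale h₀.left := inferInstanceAs (Etale hO.fromSpec)
  obtain ⟨w, hw⟩ := hO.range_fromSpec.ge hy
  obtain ⟨a', ha', -⟩ := exists_lift h₀ a hG w fun y => (congrArg a.left (hG.subsingleton y y₀)).trans hw.symm
  obtain ⟨W₁, h₁, hh₁, b, t, hb, ht⟩ := exists_germ_affine f hP (hO.fromSpec ≫ W.hom) a' hG x
  refine ⟨W₁, h₁ ≫ h₀, ?_, b, t, by rw [← Category.assoc, hb, ha'], ht⟩
  rw [Over.comp_left]
  infer_instance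

/-- Direct images along integral morphisms have étale germs. -/
theorem hasGerms_push (hP : HasGerms P) : HasGerms ((Over.pullback f).op ⋙ P) where
  sheaf := (Over.pullback f).op_comp_isSheaf_of_isSheaf_type (J := QuotSh.J Scheme.etalePrecoverage S)
    (K := QuotSh.J Scheme.etalePrecoverage T) hP.sheaf
  exists_germ a hG x := exists_germ_integral f hP a hG x
  exists_eq a hG s t h := exists_eq_integral f hP a hG s t h

end

end BlowRegLib.IntegralGerms
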