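import Groth.Prelude.Def_W4bk4grossh111Obs
import Groth.Agent.HurwitzLib.SmoothCurve
import Groth.Agent.LocFFLib.Basic
import Groth.Agent.SquareLib.Curve
import Groth.Agent.AlgSpLib.ReducedSmooth
import Mathlib.AlgebraicGeometry.Morphisms.UniversallyOpen

/-! # Invariant functions form a normal ring -/

set_option autoImplicit false
set_option linter.style.haveILetI false
universe u

open CategoryTheory CategoryTheory.Limits AlgebraicGeometry TopologicalSpace Opposite
open MonoidalCategory CartesianMonoidalCategory MonObj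

noncomputable section

namespace BlowRegLib.InvNormal

theorem regular_appTop {Y X : Scheme.{u}} [IsReduced Y] [IsIntegral X] (g : Y ⟶ X) (hg : IsOpenMap g)
    {b : Γ(X, ⊤)} (hb : b ≠ 0) {z : Γ(Y, ⊤)} (hz : z * g.appTop b = 0) : z = 0 := by
  refine eq_zero_of_basicOpen_eq_bot z (eq_bot_iff.2 fun y hy => ?_)
  have hne : ((X.basicOpen b : X.Opens) : Set X).Nonempty := by
    by_contra h
    exact hb (eq_zero_of_basicOpen_eq_bot b (Opens.ext (Set.not_nonempty_iff_eq_empty.1 h)))
  have hd : Dense ((X.basicOpen b : X.Opens) : Set X) := (X.basicOpen b).isOpen.dense hne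
  obtain ⟨w, hw1, hw2⟩ := (hd.preimage hg).inter_open_nonempty _ (Y.basicOpen z).isOpen ⟨y, hy⟩
  have h2 : w ∈ Y.basicOpen (z * g.appTop b) := by
    rw [Scheme.basicOpen_mul]
    exact ⟨hw1, (Scheme.preimage_basicOpen_top g b).le hw2⟩
  rw [hz, Scheme.basicOpen_zero] at h2
  exact h2.elim

theorem isIntegrallyClosed_eqLocus {A B : Type u} [CommRing A] [IsDomain A] [IsIntegrallyClosed A] [CommRing B]
    (φ ψ : A →+* B) (hreg : ∀ b : A, b ≠ 0 → ∀ z : B, z * ψ b = 0 → z = 0) :
    IsIntegrallyClosed ↥(RingHom.eqLocus φ ψ) := by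
  let S := RingHom.eqLocus φ ψ
  have hi : Function.Injective (algebraMap S (FractionRing A)) := by
    rw [IsScalarTower.algebraMap_eq S A (FractionRing A)]
    exact (IsFractionRing.injective A (FractionRing A)).comp Subtype.val_injective
  rw [isIntegrallyClosed_iff (FractionRing S)]
  intro q hq
  let j : FractionRing S →ₐ[S] FractionRing A :=
    IsFractionRing.liftAlgHom (g := Algebra.ofId S (FractionRing A)) hi
  obtain ⟨a, ha⟩ := IsIntegrallyClosed.isIntegral_iff.1 ((hq.map j).tower_top (A := A))
  obtain ⟨u, v, hv, rfl⟩ := IsFractionRing.div_surjective (A := S) q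
  have hv0 : (v : A) ≠ 0 := fun h => nonZeroDivisors.ne_zero hv (Subtype.ext h)
  have hrel : a * (v : A) = (u : A) := by
    apply IsFractionRing.injective A (FractionRing A)
    have e : algebraMap A (FractionRing A) a =
        algebraMap A (FractionRing A) u / algebraMap A (FractionRing A) v := by
      rw [ha, map_div₀, AlgHom.commutes, AlgHom.commutes]; rfl
    rw [map_mul, e, div_mul_cancel₀]
    exact fun h => hv0 (IsFractionRing.injective A (FractionRing A) (h.trans (map_zero _).symm))
  have haS : a ∈ S := by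
    show φ a = ψ a
    refine sub_eq_zero.1 (hreg v hv0 _ ?_)
    have h1 : φ (u : A) = ψ u := u.2
    have h2 : φ (v : A) = ψ v := v.2
    rw [← hrel, map_mul, map_mul, h2] at h1
    rw [sub_mul, h1, sub_self]
  refine ⟨⟨a, haS⟩, j.toRingHom.injective ?_⟩
  exact (j.commutes ⟨a, haS⟩).trans ha

/-- S11192 -/
theorem isIntegrallyClosed_inv (k : Type u) [Field k] [IsAlgClosed k]
    (G : Over (Spec (CommRingCat.of k))) [GrpObj G] [IsAffine G.left] [Smooth G.hom]
    (H : Over (Spec (CommRingCat.of k))) [Smooth H.hom] (i : H ⟶ G) [ConnectedSpace G.left] :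
    IsIntegrallyClosed ↥(AGF.rTransInv i) := by
  haveI : QuasiCompact G.hom := inferInstance
  haveI : GeometricallyIntegral G.hom := SquareLib.geometricallyIntegral_of_connected G.hom
  haveI : IsIntegral G.left := GeometricallyIntegral.isIntegral_of_subsingleton G.hom
  letI : G.left.Over (Spec (CommRingCat.of k)) := ⟨G.hom⟩
  haveI : Smooth (G.left ↘ Spec (CommRingCat.of k)) := ‹Smooth G.hom›
  haveI : Nonempty (⊤ : G.left.Opens) := ⟨⟨genericPoint G.left, trivial⟩⟩
  haveI : IsIntegrallyClosed Γ(G.left, ⊤) :=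
    LocFFLib.isIntegrallyClosed_sections (HurwitzLib.isNormalScheme_of_smooth (k := k)) ⊤
  haveI : UniversallyOpen H.hom := inferInstance
  haveI hs : Smooth (G ⊗ H).hom := by
    change Smooth (pullback.fst G.hom H.hom ≫ G.hom)
    infer_instance
  haveI : IsReduced (G ⊗ H).left := AlgSpLib.isReduced_of_smooth (G ⊗ H).hom
  haveI : UniversallyOpen (fst G H).left := inferInstanceAs (UniversallyOpen (pullback.fst G.hom H.hom))
  exact isIntegrallyClosed_eqLocus _ _ fun b hb z hz =>
    regular_appTop (fst G H).left (fst G H).left.isOpenMap hb hz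

end BlowRegLib.InvNormal
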