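import Groth.Agent.GeomIrrLib.Basic
import Groth.Prelude.Def_Pi1
import Mathlib.AlgebraicGeometry.FunctionField

/-!
# A reducible base change of a normal variety comes from constants
-/

set_option autoImplicit false
set_option linter.style.haveILetI false
universe u

open CategoryTheory CategoryTheory.Limits AlgebraicGeometry TopologicalSpace Opposite TensorProduct Polynomial

noncomputable section

namespace BlowRegLib.IrredFactor

/-- If no nontrivial subextension embeds into `K`, the tensor product is a field. -/
theorem irreducibleSpace_tensor (k K L : Type u) [Field k] [Field K] [Algebra k K] [Field L] [Algebra k L]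
    [FiniteDimensional k L] [IsGalois k L]
    (h : ∀ F : IntermediateField k L, Nonempty (F →ₐ[k] K) → F = ⊥) :
    IrreducibleSpace (PrimeSpectrum (K ⊗[k] L)) := by
  obtain ⟨α, hα⟩ := Field.exists_primitive_element k L
  let Om := AlgebraicClosure K
  have hint : IsIntegral k α := Algebra.IsIntegral.isIntegral α
  have hirr : Irreducible ((minpoly k α).map (algebraMap k K)) := by
    obtain ⟨q, hqm, hqi, hqd⟩ : ∃ q : K[X], q.Monic ∧ Irreducible q ∧ q ∣ (minpoly k α).map (algebraMap k K) :=
      Polynomial.exists_monic_irreducible_factor _ fun hu =>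
        (minpoly.irreducible hint).not_isUnit (Polynomial.isUnit_map _ |>.1 hu)
    let φ : L →ₐ[k] Om := IsAlgClosed.lift
    let ι : K →ₐ[k] Om := IsScalarTower.toAlgHom k K Om
    let F : IntermediateField k L := ι.fieldRange.comap φ
    have hF : F = ⊥ := h F ⟨(AlgEquiv.ofInjectiveField ι).symm.toAlgHom.comp
      ((φ.comp F.val).codRestrict ι.fieldRange.toSubalgebra fun x => x.2)⟩
    have hroot : ∀ r ∈ (q.map (algebraMap K Om)).roots, r ∈ φ.range := by
      intro r hr
      have h1 : r ∈ ((minpoly k α).map (algebraMap k Om)).roots := by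
        refine Multiset.mem_of_le (Polynomial.roots.le_of_dvd
          ((Polynomial.map_ne_zero_iff (algebraMap k Om).injective).2 (minpoly.ne_zero hint)) ?_) hr
        rw [IsScalarTower.algebraMap_eq k K Om, ← Polynomial.map_map]
        exact Polynomial.map_dvd _ hqd
      have hs : ((minpoly k α).map (algebraMap k L)).Splits := Normal.splits inferInstance α
      have h2 : ((minpoly k α).map (algebraMap k Om)).roots = ((minpoly k α).map (algebraMap k L)).roots.map φ := by
        refine Eq.trans ?_ (hs.roots_map φ.toRingHom)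
        rw [Polynomial.map_map]
        congr 2
        exact φ.comp_algebraMap.symm
      rw [h2, Multiset.mem_map] at h1
      obtain ⟨a, -, rfl⟩ := h1
      exact ⟨a, rfl⟩
    have hcoeff : ∀ n, q.coeff n ∈ Set.range (algebraMap k K) := by
      intro n
      have hl : q.map (algebraMap K Om) ∈ Polynomial.lifts φ.toRingHom := by
        rw [(IsAlgClosed.splits (q.map (algebraMap K Om))).eq_prod_roots_of_monic (hqm.map _)]
        refine Submonoid.multiset_prod_mem (Polynomial.lifts φ.toRingHom).toSubmonoid _ fun c hc => ?_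
        obtain ⟨r, hr, rfl⟩ := Multiset.mem_map.1 hc
        obtain ⟨a, ha⟩ := hroot r hr
        refine (Polynomial.mem_lifts _).2 ⟨X - C a, ?_⟩
        rw [Polynomial.map_sub, map_X, map_C, show φ.toRingHom a = r from ha]
      obtain ⟨g, hg⟩ := (Polynomial.mem_lifts _).1 hl
      have e : φ (g.coeff n) = ι (q.coeff n) := by
        have := congrArg (fun p : Om[X] => p.coeff n) hg
        rwa [Polynomial.coeff_map, Polynomial.coeff_map] at this
      have hmem : g.coeff n ∈ F := ⟨q.coeff n, e.symm⟩
      rw [hF] at hmem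
      obtain ⟨c, hc⟩ := IntermediateField.mem_bot.1 hmem
      refine ⟨c, ι.injective ?_⟩
      refine Eq.trans ?_ e
      rw [← hc, AlgHom.commutes]
      exact ι.commutes c
    obtain ⟨q₀, hq₀, -, hq₀m⟩ := Polynomial.lifts_and_degree_eq_and_monic
      ((Polynomial.lifts_iff_coeff_lifts _).2 hcoeff) hqm
    have hd : q₀ ∣ minpoly k α := by
      rw [← hq₀] at hqd
      exact (Polynomial.map_dvd_map _ (algebraMap k K).injective hq₀m).1 hqd
    have hu : ¬ IsUnit q₀ := fun hu => hqi.not_isUnit (hq₀ ▸ hu.map (Polynomial.mapRingHom (algebraMap k K)))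
    have hass : q₀ = minpoly k α := Polynomial.eq_of_monic_of_associated hq₀m (minpoly.monic hint)
      (((minpoly.irreducible hint).dvd_iff.1 hd).resolve_left hu).symm
    rw [← hass, hq₀]
    exact hqi
  let ev : K[X] →ₐ[K] K ⊗[k] L := Polynomial.aeval (1 ⊗ₜ α)
  have hsurj : Function.Surjective ev := by
    intro z
    induction z with
    | zero => exact ⟨0, map_zero _⟩
    | add a b ha hb =>
      obtain ⟨a, rfl⟩ := ha
      obtain ⟨b, rfl⟩ := hb
      exact ⟨a + b, map_add _ _ _⟩
    | tmul c l =>
      obtain ⟨r, rfl⟩ : ∃ r : k[X], aeval α r = l := by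
        have h1 : l ∈ IntermediateField.adjoin k {α} := hα ▸ IntermediateField.mem_top
        rw [← IntermediateField.mem_toSubalgebra, IntermediateField.adjoin_simple_toSubalgebra_of_isAlgebraic hint.isAlgebraic,
          Algebra.adjoin_singleton_eq_range_aeval] at h1
        exact h1
      refine ⟨c • r.map (algebraMap k K), ?_⟩
      rw [map_smul, show ev = aeval (1 ⊗ₜ α : K ⊗[k] L) from rfl, aeval_map_algebraMap,
        show (1 ⊗ₜ α : K ⊗[k] L) = Algebra.TensorProduct.includeRight α from rfl, aeval_algHom_apply,
        Algebra.TensorProduct.includeRight_apply, TensorProduct.smul_tmul', smul_eq_mul, mul_one]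
  have hker : RingHom.ker ev.toRingHom = Ideal.span {(minpoly k α).map (algebraMap k K)} := by
    haveI : Nontrivial (K ⊗[k] L) :=
      Algebra.TensorProduct.nontrivial_of_algebraMap_injective_of_flat_left (R := k) (A := K) (B := L) (algebraMap k L).injective
    refine ((PrincipalIdealRing.isMaximal_of_irreducible hirr).eq_of_le (RingHom.ker_ne_top _) ?_).symm
    rw [Ideal.span_singleton_le_iff_mem, RingHom.mem_ker]
    show aeval (1 ⊗ₜ α : K ⊗[k] L) _ = 0
    rw [aeval_map_algebraMap,
      show (1 ⊗ₜ α : K ⊗[k] L) = Algebra.TensorProduct.includeRight α from rfl, aeval_algHom_apply,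
      minpoly.aeval, map_zero]
  have hfield : IsField (K ⊗[k] L) := by
    haveI : (RingHom.ker ev.toRingHom).IsMaximal := hker ▸ PrincipalIdealRing.isMaximal_of_irreducible hirr
    letI := Ideal.Quotient.field (RingHom.ker ev.toRingHom)
    exact (RingHom.quotientKerEquivOfSurjective (f := ev.toRingHom) hsurj).toMulEquiv.symm.isField
      (Field.toIsField _)
  letI := hfield.toField
  infer_instance

variable {k : Type u} [Field k] {X : Scheme.{u}}

/-- Elements of the function field in all local rings are global functions. -/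
theorem exists_global [IsIntegral X] (a : X.functionField)
    (h : ∀ x : X, a ∈ Set.range (algebraMap (X.presheaf.stalk x) X.functionField)) :
    ∃ s : Γ(X, ⊤), X.presheaf.germ ⊤ (genericPoint X) trivial s = a := by
  have hloc : ∀ x : X, ∃ (U : X.Opens) (_ : x ∈ U) (hη : genericPoint X ∈ U) (s : Γ(X, U)),
      X.presheaf.germ U (genericPoint X) hη s = a := by
    intro x
    obtain ⟨b, hb⟩ := h x
    obtain ⟨U, hxU, s, rfl⟩ := TopCat.Presheaf.germ_exist X.presheaf b
    haveI : Nonempty U := ⟨⟨x, hxU⟩⟩
    refine ⟨U, hxU, (genericPoint_specializes x).mem_open U.isOpen hxU, s, ?_⟩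
    rw [← hb]
    exact (Scheme.algebraMap_germ_eq_germToFunctionField (X := X) hxU s).symm
  choose U hxU hη s hs using hloc
  obtain ⟨gl, hgl, -⟩ := X.sheaf.existsUnique_gluing' U ⊤ (fun _ => homOfLE le_top)
    (fun x _ => Opens.mem_iSup.2 ⟨x, hxU x⟩) s fun i j => by
      apply germ_injective_of_isIntegral X (genericPoint X) (show genericPoint X ∈ U i ⊓ U j from ⟨hη i, hη j⟩)
      exact (TopCat.Presheaf.germ_res_apply X.presheaf _ _ _ _).trans
        ((hs i).trans ((hs j).symm.trans (TopCat.Presheaf.germ_res_apply X.presheaf _ _ _ _).symm))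
  obtain ⟨x⟩ := (inferInstance : Nonempty X)
  refine ⟨gl, ?_⟩
  rw [← hs x, ← hgl x]
  exact (TopCat.Presheaf.germ_res_apply X.presheaf _ _ _ _).symm

set_option maxHeartbeats 1000000 in
theorem main [X.Over (Spec (CommRingCat.of k))]
    [IrreducibleSpace X] (hX : Pi1.IsNormalScheme X)
    (L : Type u) [Field L] [Algebra k L] [FiniteDimensional k L] [IsGalois k L]
    (hred : ¬ IrreducibleSpace ↥(Curv2.bc k X L)) :
    ∃ F : IntermediateField k L, F ≠ ⊥ ∧
      ∃ g : X ⟶ Spec (CommRingCat.of F),
        g ≫ Spec.map (CommRingCat.ofHom (algebraMap k F)) = X ↘ Spec (CommRingCat.of k) := by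
  haveI : ∀ x : X, IsReduced (X.presheaf.stalk x) := fun x => haveI := (hX x).1; inferInstance
  haveI : AlgebraicGeometry.IsReduced X := isReduced_of_isReduced_stalk X
  haveI : IsIntegral X := isIntegral_of_irreducibleSpace_of_isReduced X
  letI := Curv2.resAlgebra k X (genericPoint X)
  let f := X ↘ Spec (CommRingCat.of k)
  let a₀ : k →+* Γ(X, ⊤) := ((Scheme.ΓSpecIso (CommRingCat.of k)).inv ≫ f.appTop).hom
  by_contra hcon
  push Not at hcon
  apply hred
  have hr : Set.range (X.fromSpecResidueField (genericPoint X)) = {genericPoint X} :=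
    X.range_fromSpecResidueField _
  have hk : Spec.map (CommRingCat.ofHom (algebraMap k (X.residueField (genericPoint X)))) =
      X.fromSpecResidueField (genericPoint X) ≫ f := GeomIrrLib.specMap_resMap (genericPoint X)
  have hgen := @GeomIrrLib.irreducibleSpace_bc_iff_generic k _ X f L _ _ _ (X.residueField (genericPoint X)) _ _
    (X.fromSpecResidueField (genericPoint X)) _ hr hk
  refine hgen.mpr ?_
  refine irreducibleSpace_tensor k _ L fun F ⟨ψ⟩ => ?_
  by_contra hne
  -- the residue field at the generic point is the function field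
  have hb : Function.Bijective (X.residue (genericPoint X)).hom :=
    ⟨RingHom.injective (X.residue (genericPoint X)).hom, X.residue_surjective (genericPoint X)⟩
  let e : X.functionField ≃+* X.residueField (genericPoint X) := RingEquiv.ofBijective _ hb
  let θ : F →+* X.functionField := e.symm.toRingHom.comp ψ.toRingHom
  have hθk : ∀ c : k, θ (algebraMap k F c) = X.presheaf.germ ⊤ (genericPoint X) trivial (a₀ c) := fun c => by
    apply e.injective
    show e (e.symm (ψ (algebraMap k F c))) = _
    rw [RingEquiv.apply_symm_apply, ψ.commutes]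
    rfl
  have hglob : ∀ z : F, ∃ s : Γ(X, ⊤), X.presheaf.germ ⊤ (genericPoint X) trivial s = θ z := by
    intro z
    refine exists_global _ fun x => ?_
    haveI := (hX x).1; haveI := (hX x).2
    refine IsIntegrallyClosed.isIntegral_iff.1 ?_
    obtain ⟨p, hpm, hp⟩ := Algebra.IsIntegral.isIntegral (R := k) z
    let κx : k →+* X.presheaf.stalk x := (X.presheaf.germ ⊤ x trivial).hom.comp a₀
    refine ⟨p.map κx, hpm.map _, ?_⟩
    rw [Polynomial.eval₂_map]
    haveI : Nonempty ↥(⊤ : X.Opens) := ⟨⟨x, trivial⟩⟩
    haveI : Nonempty (Scheme.Opens.toScheme (⊤ : X.Opens)) := ⟨⟨x, trivial⟩⟩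
    have hc : (algebraMap (X.presheaf.stalk x) X.functionField).comp κx = θ.comp (algebraMap k F) :=
      RingHom.ext fun c => (Scheme.algebraMap_germ_eq_germToFunctionField (X := X) (U := ⊤) trivial (a₀ c)).trans (hθk c).symm
    rw [hc, ← Polynomial.hom_eval₂, hp, map_zero]
  choose σ hσ using hglob
  have hinj : Function.Injective (X.presheaf.germ ⊤ (genericPoint X) trivial) :=
    germ_injective_of_isIntegral X (genericPoint X) (show genericPoint X ∈ (⊤ : X.Opens) from trivial)
  let σ' : F →+* Γ(X, ⊤) :=
    { toFun := σ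
      map_one' := hinj (by rw [hσ, map_one, map_one])
      map_mul' := fun a b => hinj (by rw [hσ, map_mul, map_mul, hσ, hσ])
      map_zero' := hinj (by rw [hσ, map_zero, map_zero])
      map_add' := fun a b => hinj (by rw [hσ, map_add, map_add, hσ, hσ]) }
  refine hcon F hne (X.toSpecΓ ≫ Spec.map (CommRingCat.ofHom σ')) ?_
  have hc : σ'.comp (algebraMap k F) = a₀ := RingHom.ext fun c => hinj (by
    rw [RingHom.comp_apply, show σ' (algebraMap k F c) = σ (algebraMap k F c) from rfl, hσ, hθk])
  rw [Category.assoc, ← Spec.map_comp, ← CommRingCat.ofHom_comp, hc]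
  show X.toSpecΓ ≫ Spec.map ((Scheme.ΓSpecIso (CommRingCat.of k)).inv ≫ f.appTop) = f
  rw [Spec.map_comp, ← Scheme.toSpecΓ_naturality_assoc, toSpecΓ_SpecMap_ΓSpecIso_inv, Category.comp_id]

end BlowRegLib.IrredFactor
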