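import Mathlib.AlgebraicGeometry.Morphisms.FinitePresentation
import Mathlib.AlgebraicGeometry.Morphisms.Finite
import Mathlib.AlgebraicGeometry.Noetherian

/-!
Irreducibility from irreducible general fibres.
-/

set_option autoImplicit false
set_option linter.style.haveILetI false

noncomputable section

universe u

open CategoryTheory AlgebraicGeometry TopologicalSpace

namespace BlowRegLib

theorem exists_open_subset_of_dense' {X : Type*} [TopologicalSpace X] [IrreducibleSpace X] {s : Set X}
    (hs : Topology.IsConstructible s) (hd : Dense s) :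
    ∃ U : Set X, IsOpen U ∧ U.Nonempty ∧ U ⊆ s := by
  have key : (∃ U : Set X, IsOpen U ∧ U.Nonempty ∧ U ⊆ s) ∨ ∃ U : Set X, IsOpen U ∧ U.Nonempty ∧ U ⊆ sᶜ := by
    clear hd
    induction hs using Topology.IsConstructible.empty_union_induction with
    | open_retrocompact U hU hUc =>
      rcases U.eq_empty_or_nonempty with h | h
      · right; exact ⟨Set.univ, isOpen_univ, Set.univ_nonempty, by rw [h]; simp⟩
      · left; exact ⟨U, hU, h, subset_rfl⟩
    | union s hs t ht ihs iht =>
      rcases ihs with ⟨U, hU, hne, hsub⟩ | ⟨U, hU, hne, hsub⟩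
      · left; exact ⟨U, hU, hne, hsub.trans Set.subset_union_left⟩
      · rcases iht with ⟨V, hV, hVne, hVsub⟩ | ⟨V, hV, hVne, hVsub⟩
        · left; exact ⟨V, hV, hVne, hVsub.trans Set.subset_union_right⟩
        · right
          refine ⟨U ∩ V, hU.inter hV, nonempty_preirreducible_inter hU hV hne hVne, ?_⟩
          rw [Set.compl_union]
          exact Set.inter_subset_inter hsub hVsub
    | compl s hs ih =>
      rcases ih with h | h
      · right; simpa using h
      · left; exact h
  rcases key with h | ⟨U, hU, hne, hsub⟩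
  · exact h
  · obtain ⟨x, hxU, hxs⟩ := hd.inter_open_nonempty U hU hne
    exact absurd hxs (hsub hxU)

theorem irreducibleSpace_of_fibres {Y Z : Scheme.{u}} [JacobsonSpace Z] [AlgebraicGeometry.IsNoetherian Y] [AlgebraicGeometry.IsNoetherian Z]
    (f : Y ⟶ Z) [LocallyOfFinitePresentation f] [QuasiCompact f] [IrreducibleSpace Z]
    (hgen : ∃ V : Z.Opens, (V : Set Z).Nonempty ∧
      ∀ z ∈ V, IsClosed ({z} : Set Z) → IsIrreducible (f.base ⁻¹' {z}))
    (hdom : ∀ W ∈ irreducibleComponents Y, Dense (f.base '' W)) : IrreducibleSpace Y := by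
  obtain ⟨V, hV, hVfib⟩ := hgen
  obtain ⟨z₀, hz₀V, hz₀⟩ := nonempty_inter_closedPoints hV V.2.isLocallyClosed
  obtain ⟨y₀, -⟩ := (hVfib z₀ hz₀V hz₀).nonempty
  have hfin := NoetherianSpace.finite_irreducibleComponents (α := Y)
  have key : ∀ W ∈ irreducibleComponents Y, ∃ O : Set Y, O ⊆ W ∧
      (∀ W' ∈ irreducibleComponents Y, (O ∩ W').Nonempty → W' = W) ∧
      ∃ U : Set Z, IsOpen U ∧ U.Nonempty ∧ U ⊆ f.base '' O := fun W hW => by
    obtain ⟨O, hO, hOne, hOW, hO'⟩ : ∃ O : Set Y, IsOpen O ∧ O.Nonempty ∧ O ⊆ W ∧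
        ∀ W' ∈ irreducibleComponents Y, (O ∩ W').Nonempty → W' = W := by
      let O := (⋃₀ (irreducibleComponents Y \ {W}))ᶜ
      refine ⟨O, (Set.sUnion_eq_biUnion ▸ (hfin.diff).isClosed_biUnion fun t ht => isClosed_of_mem_irreducibleComponents t ht.1).isOpen_compl,
        ?_, fun y hy => ?_, fun W' hW' ⟨y, hy, hyW'⟩ => ?_⟩
      · by_contra hne
        rw [Set.not_nonempty_iff_eq_empty, Set.compl_empty_iff] at hne
        obtain ⟨t, ht, hWt⟩ := isIrreducible_iff_sUnion_isClosed.1 hW.1 (hfin.diff).toFinset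
          (fun t ht => isClosed_of_mem_irreducibleComponents t ((hfin.diff).mem_toFinset.1 ht).1)
          (by rw [Set.Finite.coe_toFinset, hne]; exact Set.subset_univ W)
        have htc := (hfin.diff).mem_toFinset.1 ht
        exact htc.2 (le_antisymm (hW.2 htc.1.1 hWt) hWt)
      · by_contra hyW
        exact hy ⟨irreducibleComponent y, ⟨irreducibleComponent_mem_irreducibleComponents y,
          fun h => hyW ((Set.mem_singleton_iff.1 h) ▸ mem_irreducibleComponent)⟩, mem_irreducibleComponent⟩
      · by_contra hne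
        exact hy ⟨W', ⟨hW', hne⟩, hyW'⟩
    haveI : NoetherianSpace Y := inferInstance
    have hc : Topology.IsConstructible (f.base '' O) :=
      f.isConstructible_image (IsRetrocompact.isConstructible hO (fun _ _ _ => NoetherianSpace.isCompact _))
    have hcl : W ⊆ closure O := by
      have h1 := subset_closure_inter_of_isPreirreducible_of_isOpen hW.1.isPreirreducible hO (hOne.mono fun y hy => ⟨hOW hy, hy⟩)
      exact h1.trans (closure_mono Set.inter_subset_right)
    have hd : Dense (f.base '' O) := fun z => closure_minimal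
      ((Set.image_mono hcl).trans (image_closure_subset_closure_image f.continuous)) isClosed_closure (hdom W hW z)
    exact ⟨O, hOW, hO', exists_open_subset_of_dense' hc hd⟩
  have huniq : ∀ W ∈ irreducibleComponents Y, ∀ W' ∈ irreducibleComponents Y, W = W' := fun W hW W' hW' => by
    obtain ⟨O, hOW, hO, U, hU, hUne, hUO⟩ := key W hW
    obtain ⟨O', hOW', hO', U', hU', hU'ne, hUO'⟩ := key W' hW'
    obtain ⟨z, ⟨⟨hzU, hzU'⟩, hzV⟩, hz⟩ := nonempty_inter_closedPoints
      (nonempty_preirreducible_inter (hU.inter hU') V.2 (nonempty_preirreducible_inter hU hU' hUne hU'ne) hV)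
      ((hU.inter hU').inter V.2).isLocallyClosed
    obtain ⟨t, ht, hft⟩ := isIrreducible_iff_sUnion_isClosed.1 (hVfib z hzV hz) hfin.toFinset
      (fun t ht => isClosed_of_mem_irreducibleComponents t (hfin.mem_toFinset.1 ht))
      (fun y _ => ⟨irreducibleComponent y, hfin.mem_toFinset.2 (irreducibleComponent_mem_irreducibleComponents y),
        mem_irreducibleComponent⟩)
    obtain ⟨y, hy, hyz⟩ := hUO hzU
    obtain ⟨y', hy', hyz'⟩ := hUO' hzU'
    exact ((hO t (hfin.mem_toFinset.1 ht) ⟨y, hy, hft hyz⟩).symm).trans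
      (hO' t (hfin.mem_toFinset.1 ht) ⟨y', hy', hft hyz'⟩)
  haveI : PreirreducibleSpace Y := ⟨by
    have h : irreducibleComponent y₀ = Set.univ := Set.eq_univ_of_forall fun y =>
      huniq _ (irreducibleComponent_mem_irreducibleComponents y₀) _ (irreducibleComponent_mem_irreducibleComponents y) ▸
        mem_irreducibleComponent
    exact h ▸ isIrreducible_irreducibleComponent.isPreirreducible⟩
  exact { toNonempty := ⟨y₀⟩ }

end BlowRegLib
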