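import Groth.Agent.CohCmpLib.SectionPair
import Groth.Agent.IntMultLib.Cartier
import Groth.Agent.ProperClopenLib.Henselian
import Groth.Agent.ChowLib.Embed
import Mathlib.RingTheory.Artinian.Algebra
import Groth.Prelude.Def_Neron

/-!
Nested linearly equivalent divisors are equal.
-/

set_option autoImplicit false
set_option linter.style.haveILetI false

noncomputable section

universe u

open CategoryTheory CategoryTheory.Limits AlgebraicGeometry Opposite

namespace BlowRegLib

variable {X : Scheme.{u}}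

theorem exists_incl (D₁ D₂ : X.IdealSheafData) (hle : D₂ ≤ D₁) :
    ∃ j : ClSub.idealMod D₂ ⟶ ClSub.idealMod D₁, Mono j ∧ j ≫ ClSub.idealModι D₁ = ClSub.idealModι D₂ := by
  have hz : ClSub.idealModι D₂ ≫ ClSub.toSubscheme D₁ = 0 := by
    apply Scheme.Modules.hom_ext
    intro U
    refine ConcreteCategory.hom_ext _ _ fun s => ?_
    have h := Scheme.Hom.congr_app (Scheme.IdealSheafData.inclusion_subschemeι hle).symm U
    have h0 : D₂.subschemeι.app U ((ClSub.idealModι D₂).app U s) = 0 :=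
      ConcreteCategory.congr_hom (congrArg (fun ψ : ClSub.idealMod D₂ ⟶ ClSub.quotMod D₂ => ψ.app U)
        (kernel.condition (ClSub.toSubscheme D₂))) s
    show D₁.subschemeι.app U ((ClSub.idealModι D₂).app U s) = 0
    refine (ConcreteCategory.congr_hom h _).trans ?_
    rw [Scheme.Hom.comp_app]
    show (D₁.subscheme.presheaf.map _) ((Scheme.IdealSheafData.inclusion hle).app _ (D₂.subschemeι.app U ((ClSub.idealModι D₂).app U s))) = 0
    rw [h0, map_zero, map_zero]
  refine ⟨kernel.lift (ClSub.toSubscheme D₁) (ClSub.idealModι D₂) hz, ?_, kernel.lift_ι _ _ _⟩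
  haveI : Mono (ClSub.idealModι D₂) := inferInstanceAs (Mono (kernel.ι (ClSub.toSubscheme D₂)))
  haveI : Mono (kernel.lift (ClSub.toSubscheme D₁) (ClSub.idealModι D₂) hz ≫ ClSub.idealModι D₁) := by
    rw [show kernel.lift (ClSub.toSubscheme D₁) (ClSub.idealModι D₂) hz ≫ ClSub.idealModι D₁ = ClSub.idealModι D₂
      from kernel.lift_ι _ _ _]
    infer_instance
  exact mono_of_mono _ (ClSub.idealModι D₁)

/-- A monomorphic endomorphism of `O` on a proper scheme over a field is an isomorphism. -/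
theorem isIso_mono_endo_unit (k : Type u) [Field k] [X.Over (Spec (CommRingCat.of k))]
    [IsProper (X ↘ Spec (CommRingCat.of k))] (φ : Coh.structureModule X ⟶ Coh.structureModule X) [Mono φ] :
    IsIso φ := by
  have hfin := ProperClopenLib.finite_toGlobal (A := k) (X := X)
  let g : k →+* Γ(X, ⊤) := Coh.toGlobal (X ↘ Spec (CommRingCat.of k))
  letI := g.toAlgebra
  haveI : Module.Finite k Γ(X, ⊤) := hfin
  haveI : IsArtinianRing Γ(X, ⊤) := IsArtinianRing.of_finite k Γ(X, ⊤)
  have hc : CohCmpLib.endVal φ ∈ nonZeroDivisors Γ(X, ⊤) := mem_nonZeroDivisors_iff_right.mpr fun r hr => by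
    have h1 : CohCmpLib.endVal.symm r ≫ φ = 0 := CohCmpLib.endVal.injective (by
      rw [CohCmpLib.endVal_comp, Equiv.apply_symm_apply, CohCmpLib.endVal_zero, hr])
    have h2 := congrArg CohCmpLib.endVal (zero_of_comp_mono φ h1)
    rwa [Equiv.apply_symm_apply, CohCmpLib.endVal_zero] at h2
  obtain ⟨d, hd⟩ := (IsArtinianRing.isUnit_of_mem_nonZeroDivisors hc).exists_right_inv
  refine ⟨CohCmpLib.endVal.symm d, CohCmpLib.endVal.injective ?_, CohCmpLib.endVal.injective ?_⟩
  · rw [CohCmpLib.endVal_comp, Equiv.apply_symm_apply, hd, CohCmpLib.endVal_id]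
  · rw [CohCmpLib.endVal_comp, Equiv.apply_symm_apply, mul_comm, hd, CohCmpLib.endVal_id]

theorem isIso_mono_endo (k : Type u) [Field k] [X.Over (Spec (CommRingCat.of k))]
    [IsProper (X ↘ Spec (CommRingCat.of k))] {L : X.Modules} (hL : PicF.IsInvertible L)
    (φ : L ⟶ L) [Mono φ] : IsIso φ := by
  obtain ⟨ed⟩ := MiscFlat6.nonempty_dualIso hL
  let e : CohB1.tensorMod (MiscFlat6.dual L) L ≅ Coh.structureModule X := KFlatLib.tensSwap L (MiscFlat6.dual L) ≪≫ ed
  haveI := VBP1Lib.isEquivalence_tensor e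
  let T : X.Modules ⥤ X.Modules := CurvLib.tensorLeft' (MiscFlat6.dual L)
  let b : T.obj L ≅ Coh.structureModule X := e
  haveI : Mono (T.map φ) := inferInstance
  haveI := isIso_mono_endo_unit k (b.inv ≫ T.map φ ≫ b.hom)
  have : IsIso (T.map φ) := by
    have h : T.map φ = b.hom ≫ (b.inv ≫ T.map φ ≫ b.hom) ≫ b.inv := by simp
    rw [h]
    infer_instance
  exact isIso_of_reflects_iso φ T

theorem eq_of_le_of_iso (k : Type u) [Field k] (M : Scheme.{u}) (f : M ⟶ Spec (CommRingCat.of k))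
    (hproj : Neron.IsProjectiveOver k (Over.mk f))
    (D₁ D₂ : M.IdealSheafData) (h₂ : BlowUp.IsEffCartierIdeal D₂)
    (hle : D₂ ≤ D₁) (hiso : Nonempty (ClSub.idealMod D₁ ≅ ClSub.idealMod D₂)) : D₁ = D₂ := by
  letI : M.Over (Spec (CommRingCat.of k)) := ⟨f⟩
  haveI : IsProper (M ↘ Spec (CommRingCat.of k)) := by
    obtain ⟨n, i, hi, e⟩ := hproj
    haveI := hi
    show IsProper f
    rw [show f = i ≫ CohB1.ProjSpaceOver.toBase n (Spec (CommRingCat.of k)) from e.symm]
    haveI := ChowLib.isProper_toBase n (Spec (CommRingCat.of k))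
    infer_instance
  obtain ⟨e⟩ := hiso
  obtain ⟨j, hj, hjι⟩ := exists_incl D₁ D₂ hle
  haveI : IsIso (j ≫ e.hom) := isIso_mono_endo k (IntMultLib.isInvertible_idealMod _ h₂) _
  haveI : IsIso j := IsIso.of_isIso_comp_right j e.hom
  refine le_antisymm (Scheme.IdealSheafData.le_def.mpr fun W x hx => ?_) hle
  obtain ⟨σ, hσ⟩ := IntMultLib.exists_section D₁ W hx
  refine (IntMultLib.toSubscheme_app_eq_zero_iff D₂ W x).mp ?_
  have h1 : (inv j ≫ ClSub.idealModι D₂) = ClSub.idealModι D₁ := (IsIso.inv_comp_eq j).mpr hjι.symm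
  rw [← hσ, ← h1]
  exact ConcreteCategory.congr_hom (congrArg (fun ψ : ClSub.idealMod D₂ ⟶ ClSub.quotMod D₂ => ψ.app W.1)
    (kernel.condition (ClSub.toSubscheme D₂))) ((inv j).app W.1 σ)

end BlowRegLib
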