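import Groth.Agent.BlowRegLib.Embed
import Groth.Agent.BlowPtLib.Plane
import Groth.Agent.DetDegLib.Euler
import Groth.Agent.CurveVBLib.Abelian
import Groth.Agent.ProjFormLib.Proj
import Groth.Agent.IntMultLib.Components
import Groth.Agent.S7640
import Groth.Agent.S4466
import Groth.Agent.StratLib.Light
import Groth.Agent.CohCmpLib.CanonApps
import Groth.Agent.S0033

/-!
# The projective line over a finite algebra over the base field
-/

set_option autoImplicit false
set_option linter.style.haveILetI false
set_option linter.unusedSectionVars false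
set_option maxHeartbeats 1000000
set_option backward.isDefEq.respectTransparency false
set_option backward.isDefEq.respectTransparency.types false

universe u

open CategoryTheory CategoryTheory.Limits AlgebraicGeometry TopologicalSpace Opposite
open HilbPolyLib (congrLeft congrRight assocIso swapIso unitLeft)
open KFlatLib (pb)

noncomputable section

namespace BlowRegLib

/-- Projective spaces along a change of rings. -/
theorem exists_map_rings {A B : Type u} [CommRing A] [CommRing B] (g : A →+* B) (m : ℕ) :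
    ∃ j : CohB1.ProjSpace m B ⟶ CohB1.ProjSpace m A,
      IsPullback j (CohB1.ProjSpace.toSpec m B) (CohB1.ProjSpace.toSpec m A) (Spec.map (CommRingCat.ofHom g)) ∧
      ∀ d : ℤ, Nonempty ((Scheme.Modules.pullback j).obj (Twist.twistProjSpace m A d) ≅ Twist.twistProjSpace m B d) := by
  obtain ⟨j', hj', ht'⟩ := PicPnLib.exists_square m B (Spec.map (CommRingCat.ofHom g))
  obtain ⟨i, hi, ht⟩ := PicPnLib.exists_square m A (𝟙 (Spec (CommRingCat.of A)))
  haveI : IsIso i := hi.isIso_fst_of_isIso
  refine ⟨j' ≫ inv i, IsPullback.of_right (h₁₁ := j' ≫ inv i) (h₁₂ := i) (h₂₂ := 𝟙 (Spec (CommRingCat.of A))) ?_ ?_ hi,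
    fun d => ?_⟩
  · rw [Category.assoc, IsIso.inv_hom_id, Category.comp_id, Category.comp_id]
    exact hj'
  · rw [Category.assoc, show inv i ≫ CohB1.ProjSpace.toSpec m A = CohB1.ProjSpaceOver.toBase m _ from by
      rw [IsIso.inv_comp_eq, hi.w, Category.comp_id], hj'.w]
  · obtain ⟨e'⟩ := ht' d
    obtain ⟨e⟩ := ht d
    exact ⟨(Scheme.Modules.pullback (j' ≫ inv i)).mapIso e.symm ≪≫ (Scheme.Modules.pullbackComp _ _).app _ ≪≫
      (Scheme.Modules.pullbackCongr (by simp : (j' ≫ inv i) ≫ i = j')).app _ ≪≫ e'⟩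

variable {k : Type u} [Field k] (R : Type u) [CommRing R] [Algebra k R] [Module.Finite k R]

/-- Euler characteristic of a module times a free module. -/
theorem euler_tensor_freeMod {X : Scheme.{u}} [X.Over (Spec (CommRingCat.of k))] [IsProper (X ↘ Spec (CommRingCat.of k))]
    {M : X.Modules} (hM : Coh.IsCoh M) : ∀ r : ℕ,
    Curv2.euler k X (CohB1.tensorMod M (FlatMod.freeMod X r)) = r * Curv2.euler k X M
  | 0 => by
    rw [Nat.cast_zero, zero_mul]
    refine HilbPolyLib.euler_zero ?_
    refine Functor.map_isZero ((DCoh.tensorBi (X := X)).obj M) ((IsZero.iff_id_eq_zero _).2 ?_)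
    exact Sigma.hom_ext _ _ fun i => i.elim0
  | n + 1 => by
    haveI := CurvLib.isNoetherian k (X := X)
    haveI : Limits.PreservesBinaryBiproduct (Coh.structureModule X) (FlatMod.freeMod X n)
        ((DCoh.tensorBi (X := X)).obj M) :=
      preservesBinaryBiproduct_of_preservesBinaryProduct _
    let e : CohB1.tensorMod M (FlatMod.freeMod X (n + 1)) ≅ M ⊞ CohB1.tensorMod M (FlatMod.freeMod X n) :=
      ((DCoh.tensorBi (X := X)).obj M).mapIso (CurvLib.freeModSucc X n) ≪≫
      (((DCoh.tensorBi (X := X)).obj M).mapBiprod _ _) ≪≫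
      biprod.mapIso (KFlatLib.tensSwap (Coh.structureModule X) M) (Iso.refl _) ≪≫
      biprod.mapIso (KFlatLib.tensUnitIso M) (Iso.refl _)
    rw [CurvLib.euler_congr (k := k) e,
      DetDegLib.euler_zero_or_biprod k hM (IntMultLib.isCoh_tensor_freeMod M hM n), euler_tensor_freeMod hM n]
    push_cast
    ring

/-- The projection formula for Euler characteristics. -/
theorem euler_pb_finite {X Y : Scheme.{u}} [X.Over (Spec (CommRingCat.of k))] [Y.Over (Spec (CommRingCat.of k))]
    [IsProper (Y ↘ Spec (CommRingCat.of k))] (f : X ⟶ Y) [IsFinite f]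
    (hf : f ≫ (Y ↘ Spec (CommRingCat.of k)) = X ↘ Spec (CommRingCat.of k)) {F : Y.Modules}
    (hF : PicF.IsInvertible F) :
    Curv2.euler k X (pb f F) =
      Curv2.euler k Y (CohB1.tensorMod F ((Coh.push f).obj (Coh.structureModule X))) := by
  haveI := CurvLib.isNoetherian k (X := Y)
  haveI : IsLocallyNoetherian X := LocallyOfFiniteType.isLocallyNoetherian f
  haveI := (CurvLib.isCoh_of_isInvertible (AmpleDevLib.isInvertible_pb f hF)).1
  rw [(PushLinLib.euler_push k f hf (pb f F)).2]
  let p := @asIso _ _ _ _ (ProjFormLib.projApp f F (Coh.structureModule X))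
    (ProjFormLib.isIso_projApp f (AmpleDevLib.isFinLocFree_of_isInvertible hF) _)
  exact (CurvLib.euler_congr (p ≪≫ (Coh.push f).mapIso (swapIso _ _ ≪≫ unitLeft _))).symm

/-- The structure morphism of the spectrum. -/
abbrev specStr : Spec (CommRingCat.of R) ⟶ Spec (CommRingCat.of k) :=
  Spec.map (CommRingCat.ofHom (algebraMap k R))

/-- Euler characteristic of a finite algebra. -/
theorem euler_spec_finite :
    @Curv2.euler k _ (Spec (CommRingCat.of R)) ⟨specStr (k := k) R⟩ (Coh.structureModule (Spec (CommRingCat.of R))) =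
      (Module.finrank k R : ℤ) := by
  let N := Spec (CommRingCat.of R)
  letI : N.Over (Spec (CommRingCat.of k)) := ⟨specStr (k := k) R⟩
  haveI : IsFinite (specStr (k := k) R) := by
    rw [IsFinite.SpecMap_iff]
    exact RingHom.finite_algebraMap.2 inferInstance
  haveI : IsProper (N ↘ Spec (CommRingCat.of k)) := inferInstanceAs (IsProper (specStr (k := k) R))
  haveI : Coh.IsQCoh (Coh.structureModule N) := QCohLib.isQCoh_unit
  rw [CurvLib.euler_eq_finrank (k := k) fun n hn => QCohLib.subsingleton_HH_affine _ n hn]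
  letI := CurvLib.secModule (k := k) (Coh.structureModule N)
  let c : R ≃+* Γ(N, ⊤) := (Scheme.ΓSpecIso (CommRingCat.of R)).symm.commRingCatIsoToRingEquiv
  have hc : ∀ a : k, Coh.toGlobal (N ↘ Spec (CommRingCat.of k)) a = c (algebraMap k R a) := fun a => by
    exact (congr($(Scheme.ΓSpecIso_inv_naturality (CommRingCat.ofHom (algebraMap k R))) a)).symm
  let l : R ≃ₗ[k] Γ(Coh.structureModule N, ⊤) :=
    { c.toAddEquiv with
      map_smul' := fun a r => by
        show c (a • r) = _
        rw [Algebra.smul_def, map_mul, ← hc]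
        rfl }
  rw [((CurvLib.hhZeroEquiv (k := k) (Coh.structureModule N)).trans l.symm).finrank_eq]

/-- The Euler characteristic of the base point. -/
theorem euler_base_point :
    @Curv2.euler k _ (Spec (CommRingCat.of k)) ⟨𝟙 _⟩ (Coh.structureModule (Spec (CommRingCat.of k))) = 1 := by
  have h := euler_spec_finite (k := k) k
  rw [show specStr (k := k) k = 𝟙 _ from by simp [specStr, Algebra.algebraMap_self], Module.finrank_self,
    Nat.cast_one] at h
  exact h

/-- The twists of the projective line over a field. -/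
theorem euler_line_field (n : ℤ) :
    @Curv2.euler k _ (CohB1.ProjSpace 1 k) ⟨CohB1.ProjSpace.toSpec 1 k⟩ (Twist.twistProjSpace 1 k n) = n + 1 := by
  letI : (CohB1.ProjSpace 1 k).Over (Spec (CommRingCat.of k)) := ⟨CohB1.ProjSpace.toSpec 1 k⟩
  rw [CurvLib.euler_eq_sum (k := k) (d := 2) fun q hq =>
    PnCohLib.subsingleton_HH_twist (n := 1) (R := k) n q (by omega) (by omega),
    Groth.Agent.S4466.result k 1 one_pos n, Ring.choose_one_right]
  norm_num

/-- Euler characteristics of the twists on a projective line over a finite algebra. -/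
theorem euler_line_ext (n : ℤ) :
    @Curv2.euler k _ (CohB1.ProjSpace 1 R) ⟨CohB1.ProjSpace.toSpec 1 R ≫ specStr (k := k) R⟩
        (Twist.twistProjSpace 1 R n) = (Module.finrank k R : ℤ) * (n + 1) := by
  let S := Spec (CommRingCat.of k)
  let N := Spec (CommRingCat.of R)
  let sN : N ⟶ S := specStr (k := k) R
  haveI : IsFinite sN := by
    rw [IsFinite.SpecMap_iff]
    exact RingHom.finite_algebraMap.2 inferInstance
  let sZ := CohB1.ProjSpace.toSpec 1 k
  haveI : IsProper sZ := StratLib.isProper_toSpec 1 k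
  obtain ⟨j, hj, ht⟩ := exists_map_rings (algebraMap k R) 1
  haveI : IsFinite j := MorphismProperty.of_isPullback hj.flip ‹IsFinite sN›
  letI : (CohB1.ProjSpace 1 k).Over S := ⟨sZ⟩
  letI : (CohB1.ProjSpace 1 R).Over S := ⟨CohB1.ProjSpace.toSpec 1 R ≫ sN⟩
  haveI : IsProper (CohB1.ProjSpace 1 k ↘ S) := ‹IsProper sZ›
  letI : N.Over S := ⟨sN⟩
  letI : S.Over S := ⟨𝟙 _⟩
  haveI : IsProper (S ↘ S) := inferInstanceAs (IsProper (𝟙 S))
  haveI : HasInjectiveResolutions N.Modules := inferInstance
  haveI : HasInjectiveResolutions (CohB1.ProjSpace 1 R).Modules := inferInstance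
  haveI : Coh.IsQCoh (Coh.structureModule N) := QCohLib.isQCoh_unit
  haveI : IsLocallyNoetherian N := LocallyOfFiniteType.isLocallyNoetherian sN
  have hcN := QCohLib.isCoh_push_finite sN _ (DevissLib.isCoh_structureModule N)
  haveI := hcN.1
  obtain ⟨d, ⟨en⟩⟩ := CohCmpLib.exists_freeMod_iso_of_field k _ hcN.2
  have hd : (d : ℤ) = Module.finrank k R := by
    rw [← euler_spec_finite (k := k) R,
      (PushLinLib.euler_push k sN (Category.comp_id _) (Coh.structureModule N)).2,
      CurvLib.euler_congr (k := k) en, DetDegLib.euler_freeMod k, euler_base_point, mul_one]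
  obtain ⟨e⟩ := Groth.Agent.S0033.result sN sZ (CohB1.ProjSpace.toSpec 1 R) j hj.flip (Coh.structureModule N) 0
  haveI : PreservesFiniteLimits (Scheme.Modules.pushforward sN) := CohCmpLib.preservesFiniteLimits_push
  haveI : PreservesFiniteLimits (Scheme.Modules.pushforward j) := CohCmpLib.preservesFiniteLimits_push
  let ep : (Coh.push j).obj (Coh.structureModule (CohB1.ProjSpace 1 R)) ≅ FlatMod.freeMod _ d :=
    (Coh.push j).mapIso (KFlatLib.pullUnitIso _).symm ≪≫
    ((Scheme.Modules.pushforward j).rightDerivedZeroIsoSelf.app _).symm ≪≫ e.symm ≪≫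
    (Scheme.Modules.pullback sZ).mapIso (((Scheme.Modules.pushforward sN).rightDerivedZeroIsoSelf.app _) ≪≫ en) ≪≫
    KFlatLib.pullFreeIso sZ d
  rw [← CurvLib.euler_congr (k := k) (ht n).some,
    euler_pb_finite j (show j ≫ sZ = _ from hj.w) (PicPnLib.twist_inv 1 k n),
    CurvLib.euler_congr (k := k) (congrRight (Twist.twistProjSpace 1 k n) ep),
    euler_tensor_freeMod (CurvLib.isCoh_of_isInvertible (PicPnLib.twist_inv 1 k n)) d,
    euler_line_field, hd]

end BlowRegLib
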