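import Mathlib.Algebra.MvPolynomial.CommRing
import Mathlib.LinearAlgebra.Matrix.Adjugate
import Mathlib.LinearAlgebra.Matrix.Determinant.Basic
import Mathlib.LinearAlgebra.Finsupp.LinearCombination
import Mathlib.RingTheory.Ideal.Maps
import Mathlib.RingTheory.Ideal.Quotient.Operations
import Mathlib.Algebra.Module.Projective
import Mathlib.Tactic.Ring

/-!
# The ideal of a linear subspace by minors
-/

set_option autoImplicit false
universe u

open MvPolynomial BigOperators Matrix

noncomputable section

namespace BlowRegLib.LinearKer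

variable {A : Type u} [CommRing A] {N s : ℕ} (m : Fin s → (Fin (N + 1) → A))

/-- The column of the matrix attached to an index. -/
def col (k : Fin (N + 1)) : Fin (s + 1) → MvPolynomial (Fin (N + 1)) A :=
  Fin.snoc (α := fun _ => MvPolynomial (Fin (N + 1)) A) (fun i => C (m i k)) (X k)

/-- The ideal of the maximal minors. -/
def minorIdeal : Ideal (MvPolynomial (Fin (N + 1)) A) :=
  Ideal.span (Set.range fun c : Fin (s + 1) → Fin (N + 1) =>
    (Matrix.of fun (i j : Fin (s + 1)) => col m (c j) i).det)

/-- The substitution. -/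
def φ : MvPolynomial (Fin (N + 1)) A →ₐ[A] MvPolynomial (Fin s) A :=
  aeval fun j => ∑ i, C (m i j) * X i

theorem minorIdeal_le : minorIdeal m ≤ RingHom.ker (φ m) := by
  refine Ideal.span_le.2 ?_
  rintro _ ⟨c, rfl⟩
  change φ m _ = 0
  rw [← AlgHom.coe_toRingHom, RingHom.map_det]
  set M : Matrix (Fin (s + 1)) (Fin (s + 1)) (MvPolynomial (Fin s) A) :=
    ((φ m : MvPolynomial (Fin (N + 1)) A →+* MvPolynomial (Fin s) A).mapMatrix (Matrix.of fun (i j : Fin (s + 1)) => col m (c j) i))ᵀ with hM
  rw [← Matrix.det_transpose, ← hM]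
  let v : Fin (s + 1) → MvPolynomial (Fin s) A :=
    Fin.snoc (α := fun _ => MvPolynomial (Fin s) A) (fun i => X i) (-1)
  have hv : M *ᵥ v = 0 := by
    ext1 j
    rw [Matrix.mulVec, dotProduct, Fin.sum_univ_castSucc]
    simp [M, v, col, φ, mul_comm]
  have h := congrArg (fun w => Matrix.adjugate M *ᵥ w) hv
  simp only [Matrix.mulVec_mulVec, Matrix.adjugate_mul, Matrix.mulVec_zero, Matrix.smul_mulVec, Matrix.one_mulVec] at h
  simpa [v] using congrFun h (Fin.last s)

theorem det_snoc (f : Fin s → Fin (N + 1)) (w : Fin (N + 1) → A) (hw : ∀ i, ∑ k, w k * m i k = 0) :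
    ∑ k, (C (w k) : MvPolynomial (Fin (N + 1)) A) * (Matrix.of fun (i j : Fin (s + 1)) => col m ((Fin.snoc f k : Fin (s + 1) → Fin (N + 1)) j) i).det =
      (∑ k, C (w k) * X k) * C (Matrix.of fun l i => m i (f l)).det := by
  let base : Fin (s + 1) → Fin (s + 1) → MvPolynomial (Fin (N + 1)) A := fun j => col m ((Fin.snoc f 0 : Fin (s + 1) → Fin (N + 1)) j)
  let D := (Matrix.detRowAlternating : (Fin (s + 1) → MvPolynomial (Fin (N + 1)) A) [⋀^Fin (s + 1)]→ₗ[MvPolynomial (Fin (N + 1)) A] MvPolynomial (Fin (N + 1)) A)
  have hk : ∀ k, (Matrix.of fun (i j : Fin (s + 1)) => col m ((Fin.snoc f k : Fin (s + 1) → Fin (N + 1)) j) i).det =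
      D (Function.update base (Fin.last s) (col m k)) := fun k => by
    rw [← Matrix.det_transpose]
    change D (fun j => col m ((Fin.snoc f k : Fin (s + 1) → Fin (N + 1)) j)) = _
    congr 1
    ext1 j
    refine Fin.lastCases ?_ (fun j => ?_) j
    · simp [base]
    · simp [base, (Fin.castSucc_lt_last j).ne]
  calc _ = ∑ k, D (Function.update base (Fin.last s) ((C (w k) : MvPolynomial (Fin (N + 1)) A) • col m k)) :=
        Finset.sum_congr rfl fun k _ => by rw [hk, D.map_update_smul, smul_eq_mul]
    _ = D (Function.update base (Fin.last s) (∑ k, (C (w k) : MvPolynomial (Fin (N + 1)) A) • col m k)) :=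
        (D.map_update_sum _ _ _ _).symm
    _ = _ := by
        have hsum : ∑ k, (C (w k) : MvPolynomial (Fin (N + 1)) A) • col m k = Fin.snoc (α := fun _ => MvPolynomial (Fin (N + 1)) A) 0 (∑ k, C (w k) * X k) := by
          ext1 i
          refine Fin.lastCases ?_ (fun i => ?_) i
          · simp [col, Finset.sum_apply]
          · simp only [col, Finset.sum_apply, Pi.smul_apply, Fin.snoc_castSucc, smul_eq_mul, Pi.zero_apply]
            rw [← map_zero C, ← hw i, map_sum]
            simp
        rw [hsum]
        change Matrix.det (Matrix.of (Function.update base (Fin.last s) (Fin.snoc (α := fun _ => MvPolynomial (Fin (N + 1)) A) 0 (∑ k, C (w k) * X k)))) = _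
        rw [Matrix.det_succ_row _ (Fin.last s), Fin.sum_univ_castSucc]
        simp only [Matrix.of_apply, Function.update_self, Fin.snoc_castSucc, Fin.snoc_last, Pi.zero_apply, mul_zero, zero_mul,
          Finset.sum_const_zero, zero_add]
        rw [RingHom.map_det]
        have hdet : (-1 : MvPolynomial (Fin (N + 1)) A) ^ ((Fin.last s : ℕ) + (Fin.last s : ℕ)) = 1 :=
          Even.neg_one_pow ⟨_, rfl⟩
        rw [hdet, one_mul]
        congr 1
        congr 1
        ext l i
        simp [base, col, Fin.succAbove_last, (Fin.castSucc_lt_last l).ne]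

theorem lin_mem_minorIdeal (L : (Fin (N + 1) → A) →ₗ[A] (Fin s → A)) (hL : ∀ i, L (m i) = Pi.single i 1)
    (w : Fin (N + 1) → A) (hw : ∀ i, ∑ k, w k * m i k = 0) :
    ∑ k, C (w k) * X k ∈ minorIdeal m := by
  classical
  let T : Ideal A := Ideal.comap C (
    { carrier := {p | (∑ k, C (w k) * X k) * p ∈ minorIdeal m}
      add_mem' := fun {a b} ha hb => by simpa [mul_add] using add_mem ha hb
      zero_mem' := by simp
      smul_mem' := fun r a ha => by
        simpa [mul_left_comm] using (minorIdeal m).mul_mem_left r ha })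
  suffices h1 : (1 : A) ∈ T by simpa [T] using h1
  -- the maximal minors generate the unit ideal
  let B : Fin (N + 1) → Fin s → A := fun k l => L (Pi.single k 1) l
  have hB : (fun l : Fin s => ∑ k, B k l • fun i => m i k) = (1 : Matrix (Fin s) (Fin s) A) := by
    funext l i
    have h := congrFun (hL i) l
    conv_lhs at h => rw [pi_eq_sum_univ' (m i), map_sum]
    simp only [map_smul, Finset.sum_apply, Pi.smul_apply, smul_eq_mul] at h ⊢
    rw [Matrix.one_apply, ← Pi.single_apply, ← h]
    exact Finset.sum_congr rfl fun k _ => mul_comm _ _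
  have hdet := congrArg Matrix.det hB
  rw [Matrix.det_one] at hdet
  rw [← hdet]
  change Matrix.detRowAlternating.toMultilinearMap (fun l => ∑ k, B k l • fun i => m i k) ∈ T
  rw [MultilinearMap.map_sum]
  refine Submodule.sum_mem _ fun f _ => ?_
  rw [MultilinearMap.map_smul_univ, smul_eq_mul]
  refine Ideal.mul_mem_left _ _ ?_
  change (∑ k, C (w k) * X k) * C _ ∈ minorIdeal m
  rw [show (Matrix.detRowAlternating.toMultilinearMap fun l => fun i => m i (f l)) = (Matrix.of fun l i => m i (f l)).det from rfl,
    ← det_snoc m f w hw]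
  exact Submodule.sum_mem _ fun k _ => Ideal.mul_mem_left _ _ (Ideal.subset_span ⟨_, rfl⟩)

theorem ker_eq (hli : LinearIndependent A m)
    (hproj : Module.Projective A ((Fin (N + 1) → A) ⧸ Submodule.span A (Set.range m))) :
    RingHom.ker (φ m) = minorIdeal m := by
  classical
  refine le_antisymm (fun p hp => ?_) (minorIdeal_le m)
  obtain ⟨t, ht⟩ := Module.projective_lifting_property (Submodule.span A (Set.range m)).mkQ LinearMap.id
    (Submodule.mkQ_surjective _)
  let e := LinearEquiv.ofInjective (Fintype.linearCombination A m) (linearIndependent_iff_injective_fintypeLinearCombination.1 hli)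
  have hrange : LinearMap.range (Fintype.linearCombination A m) = Submodule.span A (Set.range m) :=
    Fintype.range_linearCombination A m
  let π : (Fin (N + 1) → A) →ₗ[A] LinearMap.range (Fintype.linearCombination A m) :=
    (LinearMap.id - t ∘ₗ (Submodule.span A (Set.range m)).mkQ).codRestrict _ fun x => by
      rw [hrange, ← Submodule.Quotient.mk_eq_zero, ← Submodule.mkQ_apply, LinearMap.sub_apply, map_sub]
      have := LinearMap.congr_fun ht ((Submodule.span A (Set.range m)).mkQ x)
      simp only [LinearMap.comp_apply, LinearMap.id_apply] at this ⊢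
      rw [this, sub_self]
  let L := e.symm.toLinearMap ∘ₗ π
  have hL : ∀ i, L (m i) = Pi.single i 1 := fun i => by
    apply e.injective
    rw [LinearMap.comp_apply, LinearEquiv.coe_coe, LinearEquiv.apply_symm_apply]
    refine Subtype.ext ?_
    have h0 : (Submodule.span A (Set.range m)).mkQ (m i) = 0 :=
      (Submodule.Quotient.mk_eq_zero _).2 (Submodule.subset_span ⟨i, rfl⟩)
    simp [π, e, h0, Fintype.linearCombination_apply_single]
  let σ : MvPolynomial (Fin s) A →ₐ[A] MvPolynomial (Fin (N + 1)) A :=
    aeval fun i => ∑ k, C (L (Pi.single k 1) i) * X k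
  have hcong : ∀ q, q - σ (φ m q) ∈ minorIdeal m := by
    have key : (Ideal.Quotient.mkₐ A (minorIdeal m)).comp (σ.comp (φ m)) = Ideal.Quotient.mkₐ A (minorIdeal m) := by
      refine MvPolynomial.algHom_ext fun j => ?_
      simp only [AlgHom.comp_apply, φ, σ, aeval_X, Ideal.Quotient.mkₐ_eq_mk, map_sum, map_mul, aeval_C]
      simp only [← map_sum, ← map_mul]
      refine Ideal.Quotient.eq.2 ?_
      have hlin := lin_mem_minorIdeal m L hL (fun k => (∑ i, m i j * L (Pi.single k 1) i) - (if j = k then 1 else 0))
        fun i => by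
          have h := congrArg (fun v => ∑ l, v l * m l j) (hL i)
          simp only [Pi.single_apply, ite_mul, one_mul, zero_mul, Finset.sum_ite_eq', Finset.mem_univ, if_true] at h
          conv_lhs at h => rw [pi_eq_sum_univ' (m i), map_sum]
          simp only [map_smul, Finset.sum_apply, Pi.smul_apply, smul_eq_mul, Finset.sum_mul] at h
          rw [Finset.sum_comm] at h
          simp only [sub_mul, ite_mul, one_mul, zero_mul, Finset.sum_sub_distrib, Finset.sum_ite_eq, Finset.mem_univ,
            if_true, Finset.sum_mul]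
          rw [sub_eq_zero, ← h]
          exact Finset.sum_congr rfl fun k _ => Finset.sum_congr rfl fun l _ => by ring
      convert hlin using 1
      simp only [map_sub, map_sum, map_mul, sub_mul, Finset.sum_mul, Finset.sum_sub_distrib, Finset.mul_sum,
        algebraMap_eq, mul_assoc]
      rw [Finset.sum_comm]
      congr 1
      simp [apply_ite C]
    intro q
    have h := AlgHom.congr_fun key q
    exact Ideal.Quotient.eq.1 h.symm
  have := hcong p
  rwa [show φ m p = 0 from hp, map_zero, sub_zero] at this

end BlowRegLib.LinearKer
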