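import Groth.Agent.FinPicLib.Main
import Groth.Agent.CubeLib.Glue
import Mathlib.RingTheory.Spectrum.Prime.Topology

/-!
# Invertible modules on schemes finite over a local ring are trivial
-/

set_option autoImplicit false
universe u

open CategoryTheory CategoryTheory.Limits AlgebraicGeometry TopologicalSpace

noncomputable section

namespace BlowRegLib

theorem trivial_of_finite_over_local {R : Type u} [CommRing R] [IsLocalRing R] {Z : Scheme.{u}}
    (f : Z ⟶ Spec (CommRingCat.of R)) [IsFinite f] {L : Z.Modules} (hL : PicF.IsInvertible L) :
    Nonempty (L ≅ Coh.structureModule Z) := by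
  obtain ⟨P, t, hP, ht⟩ := FinPicLib.exists_trivial_near f hL (IsLocalRing.closedPoint R)
  obtain rfl : P = ⊤ := by
    refine eq_top_iff.2 fun x _ => ?_
    exact (IsLocalRing.specializes_closedPoint (x : PrimeSpectrum R)).mem_open P.2 hP
  exact CubeLib.trivial_of_genOn_top (s := t) ht

end BlowRegLib
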