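import Mathlib.CategoryTheory.Adjunction.Basic
import Mathlib.CategoryTheory.EpiMono
import Groth.Agent.DualFMLib.FlatHom.Paste

/-!
# Units and counits under base change
-/

set_option autoImplicit false

open CategoryTheory

noncomputable section

namespace BlowRegLib

open Groth.Agent.DualFMLib

variable {CX CY CX' CY' : Type*} [Category* CX] [Category* CY] [Category* CX'] [Category* CY']
  {F : CX ⥤ CY} {a : CY ⥤ CX} {F' : CX' ⥤ CY'} {a' : CY' ⥤ CX'} {G : CY ⥤ CY'} {Gr : CY' ⥤ CY}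
  {G' : CX ⥤ CX'} {Gr' : CX' ⥤ CX}
  (adj : F ⊣ a) (adj' : F' ⊣ a') (e : Gr' ⋙ F ≅ F' ⋙ Gr) (adjg : G ⊣ Gr) (adjg' : G' ⊣ Gr')

theorem homEquiv_betaAbs_comp {T : CX} {M : CY'} (p : F'.obj (G'.obj T) ⟶ M) :
    adj.homEquiv _ _ (adjg.homEquiv _ _ (betaAbs e adjg adjg' T ≫ p)) =
      adjg'.homEquiv _ _ (adj'.homEquiv _ _ p) ≫ xiAbs adj adj' e M := by
  unfold betaAbs xiAbs
  rw [Adjunction.homEquiv_naturality_right, Equiv.apply_symm_apply, ← Adjunction.homEquiv_naturality_left]
  congr 1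
  rw [Adjunction.homEquiv_unit, Functor.map_comp, Category.assoc, Category.assoc]
  congr 1
  have h := e.hom.naturality (adj'.homEquiv _ _ p)
  simp only [Functor.comp_map] at h
  erw [reassoc_of% h]
  rw [← Functor.map_comp]
  congr 2
  exact ((adj'.homEquiv_counit _ _ _).symm.trans ((adj'.homEquiv _ _).symm_apply_apply p)).symm

theorem epi_betaAbs (hξ : ∀ M, IsIso (xiAbs adj adj' e M)) (T : CX) : Epi (betaAbs e adjg adjg' T) := by
  refine ⟨fun p q h => ?_⟩
  haveI := hξ
  have h' := congrArg (fun z => adj.homEquiv _ _ (adjg.homEquiv _ _ z)) h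
  simp only [homEquiv_betaAbs_comp adj adj'] at h'
  exact (adj'.homEquiv _ _).injective ((adjg'.homEquiv _ _).injective ((cancel_mono _).1 h'))

theorem unit_eq_bcAbs (hξ : ∀ M, IsIso (xiAbs adj adj' e M)) (T : CX) :
    haveI := hξ (G.obj (F.obj T))
    adj'.unit.app (G'.obj T) = G'.map (adj.unit.app T) ≫ bcAbs adj adj' e adjg adjg' (F.obj T) ≫
      a'.map (betaAbs e adjg adjg' T) := by
  haveI := hξ (G.obj (F.obj T))
  haveI := epi_betaAbs adj adj' e adjg adjg' hξ T
  apply (adj'.homEquiv _ _).symm.injective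
  rw [← Category.assoc, Adjunction.homEquiv_naturality_right_symm]
  have h := betaAbs_bcAbs adj adj' e adjg adjg' (F.obj T) (adj.unit.app T)
  have h1 : (adj.homEquiv _ _).symm (adj.unit.app T) = 𝟙 (F.obj T) := by simp [Adjunction.homEquiv_counit]
  have h2 : (adj'.homEquiv _ _).symm (adj'.unit.app (G'.obj T)) = 𝟙 (F'.obj (G'.obj T)) := by
    simp [Adjunction.homEquiv_counit]
  erw [h1, G.map_id] at h
  refine h2.trans ?_
  rw [← cancel_epi (betaAbs e adjg adjg' T)]
  refine (Category.comp_id _).trans ?_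
  erw [reassoc_of% h]

end BlowRegLib
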