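import Groth.Prelude.Def_ModSt
import Groth.Agent.StkTopLib.Sub
import Groth.Agent.RGFlatLib.EtaleFlat
import Groth.Agent.RichLib.ModFlatGlobal
import Groth.Agent.HilbLCLib.Basic
import Groth.Agent.PerfLib.FiniteType
import Groth.Agent.RelFlatLib.Basic

/-! # The category of modules on base changes is fibred in groupoids -/

set_option autoImplicit false
set_option linter.style.haveILetI false
universe u

open CategoryTheory CategoryTheory.Limits AlgebraicGeometry Opposite ModSt FibCat

noncomputable section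

namespace BlowRegLib.ModFibGrpd

variable {X S : Scheme.{u}} {f : X ⟶ S}

theorem isCart_unit {Y Z : Scheme.{u}} (h : Y ⟶ Z) (N : Z.Modules) :
    IsCart h ((Scheme.Modules.pullbackPushforwardAdjunction h).unit.app N) := by
  intro M'
  have heq : (fun v : (Scheme.Modules.pullback h).obj N ⟶ M' =>
      (Scheme.Modules.pullbackPushforwardAdjunction h).unit.app N ≫ (Scheme.Modules.pushforward h).map v) =
      (Scheme.Modules.pullbackPushforwardAdjunction h).homEquiv N M' := by
    funext v; exact ((Scheme.Modules.pullbackPushforwardAdjunction h).homEquiv_unit N M' v).symm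
  rw [heq]; exact Equiv.bijective _

theorem iso_of_isCart {Y Z : Scheme.{u}} (h : Y ⟶ Z) {N : Z.Modules} {M : Y.Modules}
    {c : N ⟶ (Scheme.Modules.pushforward h).obj M} (hc : IsCart h c) :
    Nonempty ((Scheme.Modules.pullback h).obj N ≅ M) := by
  let η := (Scheme.Modules.pullbackPushforwardAdjunction h).unit.app N
  obtain ⟨v, hv⟩ := (isCart_unit h N M).2 c
  obtain ⟨w, hw⟩ := (hc _).2 η
  dsimp only at hv hw
  refine ⟨⟨v, w, (isCart_unit h N _).1 ?_, (hc _).1 ?_⟩⟩ <;> dsimp only
  · rw [Functor.map_comp, CategoryTheory.Functor.map_id, Category.comp_id, ← Category.assoc]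
    exact (congrArg (· ≫ _) hv).trans hw
  · rw [Functor.map_comp, CategoryTheory.Functor.map_id, Category.comp_id, ← Category.assoc]
    exact (congrArg (· ≫ _) hw).trans hv

theorem isCart_cancel {Y Z W : Scheme.{u}} {h₁ : Y ⟶ Z} {h₂ : Z ⟶ W} {P : W.Modules} {N : Z.Modules} {M : Y.Modules}
    {c₁ : N ⟶ (Scheme.Modules.pushforward h₁).obj M} {c₂ : P ⟶ (Scheme.Modules.pushforward h₂).obj N}
    (hc₂ : IsCart h₂ c₂)
    (hc : IsCart (h₁ ≫ h₂) (c₂ ≫ (Scheme.Modules.pushforward h₂).map c₁ ≫
      (Scheme.Modules.pushforwardComp h₁ h₂).hom.app M)) : IsCart h₁ c₁ := by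
  intro M'
  have heq : (fun v : M ⟶ M' => (c₂ ≫ (Scheme.Modules.pushforward h₂).map c₁ ≫
      (Scheme.Modules.pushforwardComp h₁ h₂).hom.app M) ≫ (Scheme.Modules.pushforward (h₁ ≫ h₂)).map v) =
      ((Scheme.Modules.pushforwardComp h₁ h₂).app M').homToEquiv ∘
        (fun w : N ⟶ (Scheme.Modules.pushforward h₁).obj M' => c₂ ≫ (Scheme.Modules.pushforward h₂).map w) ∘
        (fun v : M ⟶ M' => c₁ ≫ (Scheme.Modules.pushforward h₁).map v) := by
    funext v
    simp only [Function.comp_apply, Iso.homToEquiv_apply, Iso.app_hom, Category.assoc, Functor.map_comp]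
    rw [← (Scheme.Modules.pushforwardComp h₁ h₂).hom.naturality v]
    rfl
  have h := hc M'
  rw [heq, ← Function.comp_assoc] at h
  exact (Function.Bijective.of_comp_iff' ((Equiv.bijective _).comp (hc₂ _)) _).1 h

theorem exists_lift {B : Obj f} {V : Over S} (g : V ⟶ B.base) :
    ∃ (A : Obj f) (φ : A ⟶ B), (Obj.forget f).IsHomLift g φ := by
  let A : Obj f :=
    { base := V
      XT := pullback B.q g.left
      p := pullback.fst B.q g.left ≫ B.p
      q := pullback.snd B.q g.left
      isPullback := by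
        rw [← Over.w g]
        exact (IsPullback.of_hasPullback B.q g.left).paste_horiz B.isPullback
      E := (Scheme.Modules.pullback (pullback.fst B.q g.left)).obj B.E }
  let φ : A ⟶ B :=
    { base := g
      top := pullback.fst B.q g.left
      w_p := rfl
      w_q := pullback.condition
      c := (Scheme.Modules.pullbackPushforwardAdjunction _).unit.app B.E
      cart := isCart_unit _ _ }
  exact ⟨A, φ, IsHomLift.map (p := Obj.forget f) φ⟩

theorem stronglyCart {A B : Obj f} (φ : A ⟶ B) :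
    (Obj.forget f).IsStronglyCartesian ((Obj.forget f).map φ) φ := by
  refine @Functor.IsStronglyCartesian.mk _ _ _ _ (Obj.forget f) _ _ _ _ _ φ (IsHomLift.map (Obj.forget f) φ) ?_
  intro Z g ψ hψ
  haveI := hψ
  have hb : ψ.base = g ≫ φ.base :=
    (IsHomLift.eq_of_isHomLift (Obj.forget f) (g ≫ (Obj.forget f).map φ) ψ).symm
  obtain ⟨b, t, wp, wq, c, hc⟩ := ψ
  dsimp only at hb
  subst hb
  have sq := φ.isPullback_top
  let χt : Z.XT ⟶ A.XT := sq.lift t (Z.q ≫ g.left) (by rw [wq]; exact (Category.assoc _ _ _).symm)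
  have ht : t = χt ≫ φ.top := (sq.lift_fst _ _ _).symm
  have hq : χt ≫ A.q = Z.q ≫ g.left := sq.lift_snd _ _ _
  clear_value χt
  subst ht
  have hp : χt ≫ A.p = Z.p := by rw [← φ.w_p, ← Category.assoc]; exact wp
  obtain ⟨w, hw⟩ := (φ.cart _).2 (c ≫ (Scheme.Modules.pushforwardComp χt φ.top).inv.app Z.E)
  dsimp only at hw
  have hc' : c = φ.c ≫ (Scheme.Modules.pushforward φ.top).map w ≫
      (Scheme.Modules.pushforwardComp χt φ.top).hom.app Z.E := by
    rw [← Category.assoc]
    refine ((congrArg (· ≫ _) hw).trans ?_).symm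
    rw [Category.assoc, ← NatTrans.comp_app, Iso.inv_hom_id, NatTrans.id_app, Category.comp_id]
  let χ : Z ⟶ A := { base := g, top := χt, w_p := hp, w_q := hq, c := w, cart := isCart_cancel φ.cart (hc' ▸ hc) }
  refine ⟨χ, ⟨IsHomLift.map (p := Obj.forget f) χ, ?_⟩, ?_⟩
  · refine Obj.Hom.ext' rfl rfl fun U x => heq_of_eq ?_
    show ((χ ≫ φ).c.app U x) = c.app U x
    rw [hc']; rfl
  · rintro χ' ⟨hl, he⟩
    obtain ⟨b', t', wp', wq', c', hcart'⟩ := χ'
    have hb' : b' = g := by
      haveI := hl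
      exact (IsHomLift.eq_of_isHomLift (Obj.forget f) g (⟨b', t', wp', wq', c', hcart'⟩ : Z ⟶ A)).symm
    subst hb'
    have ht' : t' = χt := sq.hom_ext (congrArg Obj.Hom.top he) (wq'.trans hq.symm)
    subst ht'
    have : c' = w := (φ.cart _).1 (by
      dsimp only
      rw [← cancel_mono ((Scheme.Modules.pushforwardComp t' φ.top).hom.app Z.E), Category.assoc, Category.assoc,
        ← hc']
      injection he)
    subst this
    rfl

instance fam_isFibGrpd : IsFibGrpd (Fam f).p where
  exists_lift g := exists_lift g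
  isStronglyCartesian φ := stronglyCart φ

/-- S17417 -/
theorem coh_isFibGrpd : IsFibGrpd (ModSt.Coh f).p := by
  refine @StkTopLib.isFibGrpd_sub (Over S) _ (Fam f) fam_isFibGrpd (IsCohObj (f := f)) ?_
  intro y x φ ⟨hflat, hfp⟩
  obtain ⟨e⟩ := iso_of_isCart φ.top φ.cart
  haveI : Coh.IsQCoh x.E := HilbLCLib.isQCoh_of_isFP hfp
  refine ⟨y, Iso.refl y, ⟨?_, ?_⟩, IsHomLift.map (p := (Fam f).p) (𝟙 y)⟩
  · exact Groth.Agent.RelFlatLib.isFlatOver_of_iso y.q e (RGFlatLib.isFlatOver_pullback_of_isPullback φ.isPullback_top x.E hflat)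
  · exact Groth.Agent.PerfLib.isFP_of_iso' e (RichLib.ModFlat.isFP_pullback φ.top hfp)

end BlowRegLib.ModFibGrpd
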