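import Groth.Agent.BlowRegLib.FibSurfFun
import Groth.Agent.VertIntLib.Matrix
import Groth.Agent.SteinLib.Conn
import Groth.Agent.SteinLib.App
import Groth.Agent.FibVALib.Curve

/-! # Regular models have geometrically connected fibres -/

set_option autoImplicit false
set_option linter.style.haveILetI false
universe u

open CategoryTheory CategoryTheory.Limits AlgebraicGeometry TopologicalSpace Opposite

noncomputable section

namespace BlowRegLib.ModelConn

/-- S18427 -/
theorem geometricallyConnected_model (R : Type u) [CommRing R] [IsDomain R]
    [IsDiscreteValuationRing R] (C X : Scheme.{u})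
    (f : C ⟶ Spec (CommRingCat.of (FractionRing R))) (p : X ⟶ Spec (CommRingCat.of R))
    (hC : Curve.IsSmoothProperCurve (FractionRing R) C f) [GeometricallyConnected f]
    (hX : Models.IsRegularProperModel R X p C f) :
    GeometricallyConnected p := by
  obtain ⟨hmod, hprop, hreg⟩ := hX
  haveI : IsIntegral X := VertIntLib.isIntegral_of_model hC hmod hreg
  obtain ⟨hflat, -, -, g, hg⟩ := hmod
  haveI := hflat
  haveI := hprop
  haveI := hC.1
  haveI := hC.2.1
  haveI : GeometricallyIntegral f := FibVALib.geometricallyIntegral_of_geometricallyConnected f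
  haveI : GeometricallyIntegral (pullback.snd p (Neron.genPt R)) := by
    haveI : MorphismProperty.RespectsIso @GeometricallyIntegral :=
      GeometricallyIntegral.eq_geometrically ▸ inferInstance
    rw [← hg.isoPullback_inv_snd]
    exact (MorphismProperty.cancel_left_of_respectsIso @GeometricallyIntegral _ f).2 ‹_›
  let XO : Over (Spec (CommRingCat.of R)) := Over.mk p
  haveI : IsIntegral XO.left := ‹IsIntegral X›
  haveI : Flat XO.hom := hflat
  haveI : IsProper XO.hom := hprop
  haveI : GeometricallyIntegral ((Neron.genericFibre R).obj XO).hom :=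
    ‹GeometricallyIntegral (pullback.snd p (Neron.genPt R))›
  have hb : Function.Bijective (Coh.toGlobal p) := FibSurfFun.bijective_toGlobal_of_proper XO
  have htop : IsIso (p.app ⊤) := by
    refine (ConcreteCategory.isIso_iff_bijective _).2 ?_
    exact (Function.Bijective.of_comp_iff _
      (ConcreteCategory.bijective_of_isIso (Scheme.ΓSpecIso (CommRingCat.of R)).inv)).1 hb
  exact SteinLib.geometricallyConnected_of_isIso_app p fun U _ =>
    SteinLib.isIso_app_of_cover p (fun _ : PUnit.{u + 1} => (⊤ : (Spec (CommRingCat.of R)).Opens))
      (fun _ => isAffineOpen_top _) (fun _ => ⟨⟨⟩, trivial⟩) (fun _ => htop) U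

end BlowRegLib.ModelConn
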