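import Groth.Prelude.Def_Magnet2
import Mathlib.AlgebraicGeometry.Morphisms.SchemeTheoreticallyDominant
import Mathlib.AlgebraicGeometry.Morphisms.ClosedImmersion
import Mathlib.AlgebraicGeometry.Morphisms.Flat

/-!
# Extending actions to stable closed subschemes along a schematically dense monoid morphism
-/

set_option autoImplicit false
set_option linter.style.haveILetI false
universe u

open CategoryTheory CategoryTheory.Limits MonoidalCategory CartesianMonoidalCategory MonObj AlgebraicGeometry

noncomputable section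

namespace BlowRegLib

variable {S : Scheme.{u}} {M G X Z : Over S}

theorem isPullback_whiskerRight (i : G ⟶ M) :
    IsPullback (i ▷ Z).left (fst G Z).left (fst M Z).left i.left := by
  have hr : IsPullback (snd M Z).left (fst M Z).left Z.hom M.hom :=
    (IsPullback.of_hasPullback M.hom Z.hom).flip
  have ho : IsPullback (snd G Z).left (fst G Z).left Z.hom G.hom :=
    (IsPullback.of_hasPullback G.hom Z.hom).flip
  refine IsPullback.of_right ?_ ?_ hr
  · have h1 : (i ▷ Z).left ≫ (snd M Z).left = (snd G Z).left := by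
      rw [← Over.comp_left, whiskerRight_snd]
    rw [h1, Over.w i]
    exact ho
  · rw [← Over.comp_left, ← Over.comp_left, whiskerRight_fst]

theorem dominant_whiskerRight (i : G ⟶ M) [IsSchemeTheoreticallyDominant i.left] [QuasiCompact i.left]
    [Flat Z.hom] : IsSchemeTheoreticallyDominant (i ▷ Z).left ∧ QuasiCompact (i ▷ Z).left := by
  haveI : Flat (fst M Z).left := (inferInstance : Flat (pullback.fst M.hom Z.hom))
  exact ⟨IsSchemeTheoreticallyDominant.of_isPullback (isPullback_whiskerRight i).flip,
    MorphismProperty.of_isPullback (isPullback_whiskerRight i).flip ‹QuasiCompact i.left›⟩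

theorem exists_extend [MonObj M] [GrpObj G] (i : G ⟶ M) [IsMonHom i] [QuasiCompact i.left]
    [IsSchemeTheoreticallyDominant i.left] [Flat Z.hom]
    (a : Magnet.MonAct M X) (b : AlgGrp.Action G Z) (j : Z ⟶ X) [IsClosedImmersion j.left]
    (hj : Magnet.MonAct.IsEquivariant (Magnet.MonAct.ofAction b) (a.restrict i) j) :
    ∃ c : Magnet.MonAct M Z, Magnet.MonAct.IsEquivariant c a j ∧ c.restrict i = Magnet.MonAct.ofAction b := by
  obtain ⟨hd, hq⟩ := dominant_whiskerRight (Z := Z) i
  let f : M ⊗ Z ⟶ X := (M ◁ j) ≫ a.act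
  have hcomp : (i ▷ Z) ≫ f = b.act ≫ j := by
    have h : b.act ≫ j = (G ◁ j) ≫ (i ▷ X) ≫ a.act := hj
    rw [h, ← whisker_exchange_assoc]
  have hker : j.left.ker ≤ f.left.ker := by
    have h1 : j.left.ker ≤ (b.act.left ≫ j.left).ker := Scheme.Hom.le_ker_comp b.act.left j.left
    rw [← Over.comp_left, ← hcomp, Over.comp_left, ← Scheme.IdealSheafData.map_ker,
      (i ▷ Z).left.ker_eq_bot, Scheme.IdealSheafData.map_bot] at h1
    exact h1
  let l : (M ⊗ Z).left ⟶ Z.left := IsClosedImmersion.lift j.left f.left hker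
  have hl : l ≫ j.left = f.left := IsClosedImmersion.lift_fac _ _ _
  let act : M ⊗ Z ⟶ Z := Over.homMk l (by rw [← Over.w j, ← Category.assoc, hl, Over.w f])
  have hact : act ≫ j = f := Over.OverMorphism.ext hl
  haveI : Mono j := Over.mono_of_mono_left j
  have h1 : ∀ (T : Over S) (z : T ⟶ Z), lift (1 : T ⟶ M) z ≫ act = z := fun T z => by
    rw [← cancel_mono j, Category.assoc, hact, lift_whiskerLeft_assoc, a.lift_one_act]
  have h2 : ∀ (T : Over S) (g h : T ⟶ M) (z : T ⟶ Z),
      lift (g * h) z ≫ act = lift g (lift h z ≫ act) ≫ act := fun T g h z => by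
    rw [← cancel_mono j, Category.assoc, hact, lift_whiskerLeft_assoc, a.lift_mul_act,
      Category.assoc, hact, lift_whiskerLeft_assoc, Category.assoc, hact, lift_whiskerLeft_assoc]
  refine ⟨Magnet.MonAct.mk' act h1 h2, hact, Magnet.MonAct.ext' ?_⟩
  rw [← cancel_mono j, Magnet.MonAct.restrict_act, Magnet.MonAct.mk'_act, Category.assoc, hact, hcomp]
  rfl

end BlowRegLib
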