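import Groth.Prelude.Def_W4c1hilbpnTgt
import Mathlib.LinearAlgebra.Dimension.Finite
import Mathlib.Data.Finsupp.Order
import Mathlib.Data.Fintype.Lattice

/-!
# Tangent directions from socle monomials
-/

set_option autoImplicit false
universe u

open MvPolynomial

noncomputable section

namespace BlowRegLib.MonoSocle

open W4c1hilbpn

variable {k : Type u} [Field k] {I : Ideal (MvPolynomial (Fin 3) k)}

theorem mem_of_le {β γ : Fin 3 →₀ ℕ} (h : β ∈ exps I) (hle : β ≤ γ) : γ ∈ exps I := by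
  change monomial γ (1 : k) ∈ I
  have := I.mul_mem_left (monomial (γ - β) (1 : k)) h
  rwa [monomial_mul, one_mul, tsub_add_cancel_of_le hle] at this

theorem finite_compl (hI : IsMonomial I) [Module.Finite k (MvPolynomial (Fin 3) k ⧸ I)] :
    {γ : Fin 3 →₀ ℕ | γ ∉ exps I}.Finite := by
  classical
  have hli : LinearIndependent k (fun γ : {γ : Fin 3 →₀ ℕ | γ ∉ exps I} =>
      (Ideal.Quotient.mk I (monomial γ.1 (1 : k)))) := by
    rw [linearIndependent_iff']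
    intro s c hc γ hγ
    by_contra hne
    let q : MvPolynomial (Fin 3) k := ∑ δ ∈ s, monomial δ.1 (c δ)
    have hq : q ∈ I := by
      rw [← Ideal.Quotient.eq_zero_iff_mem, map_sum, ← hc]
      refine Finset.sum_congr rfl fun δ _ => ?_
      rw [← mul_one (c δ), ← smul_eq_mul, ← smul_monomial, smul_eq_mul, mul_one]
      exact map_smul (Ideal.Quotient.mkₐ k I) (c δ) _
    refine γ.2 (hI q hq γ.1 ?_)
    rw [mem_support_iff, coeff_sum, Finset.sum_eq_single γ]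
    · rwa [coeff_monomial, if_pos rfl]
    · intro δ _ hδ
      rw [coeff_monomial, if_neg fun h => hδ (Subtype.ext h)]
    · exact fun h => absurd hγ h
  exact hli.finite

theorem exists_socle (hI : IsMonomial I) [Module.Finite k (MvPolynomial (Fin 3) k ⧸ I)]
    {u : Fin 3 →₀ ℕ} (hu : u ∉ exps I) :
    ∃ τ, u ≤ τ ∧ τ ∉ exps I ∧ ∀ i, τ + Finsupp.single i 1 ∈ exps I := by
  obtain ⟨τ, ⟨hτ, hle⟩, hmax⟩ := Set.exists_max_image {γ : Fin 3 →₀ ℕ | γ ∉ exps I ∧ u ≤ γ}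
    (fun γ => γ 0 + γ 1 + γ 2) ((finite_compl hI).subset fun γ h => h.1) ⟨u, hu, le_rfl⟩
  refine ⟨τ, hle, hτ, fun i => ?_⟩
  by_contra h
  have := hmax (τ + Finsupp.single i 1) ⟨h, hle.trans le_self_add⟩
  fin_cases i <;> simp at this

theorem sigPiece_ne_bot (hI : IsMonomial I) {β τ : Fin 3 →₀ ℕ} (hβ : β ∈ exps I)
    (hmin : ∀ i, 0 < β i → β - Finsupp.single i 1 ∉ exps I) (hτ : τ ∉ exps I)
    (hsoc : ∀ i, τ + Finsupp.single i 1 ∈ exps I) {Nset : Set (Fin 3)} (hN : ∀ i, τ i < β i ↔ i ∈ Nset) :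
    sigPiece I Nset ≠ ⊥ := by
  classical
  have hX : ∀ i, (X i : MvPolynomial (Fin 3) k) * monomial τ 1 ∈ I := fun i => by
    rw [X, monomial_mul, one_mul, add_comm]
    exact hsoc i
  have hcX : ∀ (i : Fin 3) (q : MvPolynomial (Fin 3) k), q ∈ I → coeff β (X i * q) = 0 := fun i q hq => by
    rw [mul_comm, coeff_mul_X']
    split_ifs with h
    · by_contra hne
      exact hmin i (Nat.pos_of_ne_zero (Finsupp.mem_support_iff.1 h)) (hI q hq _ (mem_support_iff.2 hne))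
    · rfl
  let f : I → MvPolynomial (Fin 3) k ⧸ I := fun q => coeff β (q : MvPolynomial (Fin 3) k) • Ideal.Quotient.mk I (monomial τ 1)
  have hf : ∀ (a : MvPolynomial (Fin 3) k) (q : I), f (a • q) = a • f q := fun a => by
    induction a using MvPolynomial.induction_on with
    | C c =>
      intro q
      simp only [f, Submodule.coe_smul, smul_eq_mul, coeff_C_mul]
      rw [← MvPolynomial.algebraMap_eq, algebraMap_smul, smul_smul]
    | add a b ha hb =>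
      intro q
      rw [add_smul, add_smul, ← ha, ← hb]
      simp only [f, Submodule.coe_add, coeff_add, add_smul]
    | mul_X a i ha =>
      intro q
      rw [mul_smul, mul_smul, ha]
      refine congrArg _ ?_
      simp only [f, Submodule.coe_smul, smul_eq_mul]
      have h0 : (X i : MvPolynomial (Fin 3) k) • Ideal.Quotient.mk I (monomial τ 1) = 0 :=
        Ideal.Quotient.eq_zero_iff_mem.2 (hX i)
      rw [hcX i _ q.2, zero_smul, smul_comm, h0, smul_zero]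
  let φ : Tgt I := { toFun := f, map_add' := fun a b => by simp [f, add_smul], map_smul' := hf }
  let α : Fin 3 → ℤ := fun i => (τ i : ℤ) - β i
  have hα : ∀ i, α i < 0 ↔ i ∈ Nset := fun i => by rw [← hN i]; simp [α]
  have hφβ : φ ⟨monomial β 1, hβ⟩ = Ideal.Quotient.mk I (monomial τ 1) := by
    show f ⟨monomial β 1, hβ⟩ = _
    simp [f, coeff_monomial]
  have hφ0 : ∀ (γ : Fin 3 →₀ ℕ) (hγ : monomial γ (1 : k) ∈ I), γ ≠ β → φ ⟨monomial γ 1, hγ⟩ = 0 := fun γ hγ hne => by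
    show f ⟨monomial γ 1, hγ⟩ = _
    simp [f, coeff_monomial, hne]
  have hmem : φ ∈ tPiece I α := by
    intro γ hγ
    refine ⟨fun _ => ?_, fun ⟨i, hi⟩ => ?_⟩
    · rcases eq_or_ne γ β with rfl | hne
      · rw [hφβ]
        have : shift γ α = τ := by ext i; simp [shift, α]
        rw [this]
        exact Submodule.mem_span_singleton_self _
      · rw [hφ0 γ hγ hne]; exact Submodule.zero_mem _
    · refine hφ0 γ hγ fun h => ?_
      subst h
      simp only [α] at hi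
      omega
  intro hbot
  have h1 : φ ∈ sigPiece I Nset :=
    le_iSup (fun a : {a : Fin 3 → ℤ // ∀ i, a i < 0 ↔ i ∈ Nset} => tPiece I a.1) ⟨α, hα⟩ hmem
  rw [hbot, Submodule.mem_bot] at h1
  rw [h1, LinearMap.zero_apply] at hφβ
  exact hτ (Ideal.Quotient.eq_zero_iff_mem.1 hφβ.symm)

theorem e3_apply (a b c : ℕ) : (e3 a b c) 0 = a ∧ (e3 a b c) 1 = b ∧ (e3 a b c) 2 = c := by
  simp [e3]

theorem e3_le {a b c : ℕ} {v : Fin 3 →₀ ℕ} : e3 a b c ≤ v ↔ a ≤ v 0 ∧ b ≤ v 1 ∧ c ≤ v 2 := by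
  rw [Finsupp.le_def]
  simp [Fin.forall_fin_succ, e3]

theorem le_e3 {a b c : ℕ} {v : Fin 3 →₀ ℕ} : v ≤ e3 a b c ↔ v 0 ≤ a ∧ v 1 ≤ b ∧ v 2 ≤ c := by
  rw [Finsupp.le_def]
  simp [Fin.forall_fin_succ, e3]

theorem sub_single_e3 (a b c : ℕ) :
    e3 a b c - Finsupp.single 0 1 = e3 (a - 1) b c ∧ e3 a b c - Finsupp.single 1 1 = e3 a (b - 1) c ∧
      e3 a b c - Finsupp.single 2 1 = e3 a b (c - 1) := by
  refine ⟨?_, ?_, ?_⟩ <;> ext i <;> fin_cases i <;> simp [e3]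

set_option maxHeartbeats 1600000 in
theorem main (hI : IsMonomial I) [Module.Finite k (MvPolynomial (Fin 3) k ⧸ I)]
    (a1 a2 b1 b3 c2 c3 : ℕ) (ha1 : 0 < a1) (ha2 : 0 < a2) (hb1 : 0 < b1) (hb3 : 0 < b3)
    (hc2 : 0 < c2) (hc3 : 0 < c3)
    (hA : e3 a1 a2 0 ∈ exps I ∧ e3 (a1 - 1) a2 0 ∉ exps I ∧ e3 a1 (a2 - 1) 0 ∉ exps I)
    (hB : e3 b1 0 b3 ∈ exps I ∧ e3 (b1 - 1) 0 b3 ∉ exps I ∧ e3 b1 0 (b3 - 1) ∉ exps I)
    (hC : e3 0 c2 c3 ∈ exps I ∧ e3 0 (c2 - 1) c3 ∉ exps I ∧ e3 0 c2 (c3 - 1) ∉ exps I)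
    (hcase : (b1 ≤ a1 ∧ c2 ≤ a2) ∨ (a1 ≤ b1 ∧ c3 ≤ b3) ∨ (a2 ≤ c2 ∧ b3 ≤ c3)) :
    sigPiece I ({0, 1} : Set (Fin 3)) ≠ ⊥ ∨ sigPiece I ({0, 2} : Set (Fin 3)) ≠ ⊥ ∨
      sigPiece I ({1, 2} : Set (Fin 3)) ≠ ⊥ := by
  rcases hcase with ⟨h1, h2⟩ | ⟨h1, h2⟩ | ⟨h1, h2⟩
  · left
    have hu : e3 0 0 (max b3 c3) ∉ exps I := fun h => by
      rcases max_cases b3 c3 with ⟨e, -⟩ | ⟨e, -⟩ <;> rw [e] at h
      · exact hB.2.1 (mem_of_le h (e3_le.2 (by simp [e3])))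
      · exact hC.2.1 (mem_of_le h (e3_le.2 (by simp [e3])))
    obtain ⟨τ, hle, hτ, hsoc⟩ := exists_socle hI hu
    obtain ⟨-, -, hz⟩ := e3_le.1 hle
    refine sigPiece_ne_bot hI hA.1 (fun i hi => ?_) hτ hsoc fun i => ?_
    · fin_cases i
      · exact (sub_single_e3 _ _ _).1 ▸ hA.2.1
      · exact (sub_single_e3 _ _ _).2.1 ▸ hA.2.2
      · simp [e3] at hi
    · have hx : τ 0 < a1 := lt_of_not_ge fun h => hτ (mem_of_le hB.1 (e3_le.2 ⟨h1.trans h, Nat.zero_le _, (le_max_left _ _).trans hz⟩))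
      have hy : τ 1 < a2 := lt_of_not_ge fun h => hτ (mem_of_le hC.1 (e3_le.2 ⟨Nat.zero_le _, h2.trans h, (le_max_right _ _).trans hz⟩))
      fin_cases i <;> simp [e3, hx, hy]
  · right; left
    have hu : e3 0 (max a2 c2) 0 ∉ exps I := fun h => by
      rcases max_cases a2 c2 with ⟨e, -⟩ | ⟨e, -⟩ <;> rw [e] at h
      · exact hA.2.1 (mem_of_le h (e3_le.2 (by simp [e3])))
      · exact hC.2.2 (mem_of_le h (e3_le.2 (by simp [e3])))
    obtain ⟨τ, hle, hτ, hsoc⟩ := exists_socle hI hu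
    obtain ⟨-, hy, -⟩ := e3_le.1 hle
    refine sigPiece_ne_bot hI hB.1 (fun i hi => ?_) hτ hsoc fun i => ?_
    · fin_cases i
      · exact (sub_single_e3 _ _ _).1 ▸ hB.2.1
      · simp [e3] at hi
      · exact (sub_single_e3 _ _ _).2.2 ▸ hB.2.2
    · have hx : τ 0 < b1 := lt_of_not_ge fun h => hτ (mem_of_le hA.1 (e3_le.2 ⟨h1.trans h, (le_max_left _ _).trans hy, Nat.zero_le _⟩))
      have hz : τ 2 < b3 := lt_of_not_ge fun h => hτ (mem_of_le hC.1 (e3_le.2 ⟨Nat.zero_le _, (le_max_right _ _).trans hy, h2.trans h⟩))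
      fin_cases i <;> simp [e3, hx, hz]
  · right; right
    have hu : e3 (max a1 b1) 0 0 ∉ exps I := fun h => by
      rcases max_cases a1 b1 with ⟨e, -⟩ | ⟨e, -⟩ <;> rw [e] at h
      · exact hA.2.2 (mem_of_le h (e3_le.2 (by simp [e3])))
      · exact hB.2.2 (mem_of_le h (e3_le.2 (by simp [e3])))
    obtain ⟨τ, hle, hτ, hsoc⟩ := exists_socle hI hu
    obtain ⟨hx, -, -⟩ := e3_le.1 hle
    refine sigPiece_ne_bot hI hC.1 (fun i hi => ?_) hτ hsoc fun i => ?_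
    · fin_cases i
      · simp [e3] at hi
      · exact (sub_single_e3 _ _ _).2.1 ▸ hC.2.1
      · exact (sub_single_e3 _ _ _).2.2 ▸ hC.2.2
    · have hy : τ 1 < c2 := lt_of_not_ge fun h => hτ (mem_of_le hA.1 (e3_le.2 ⟨(le_max_left _ _).trans hx, h1.trans h, Nat.zero_le _⟩))
      have hz : τ 2 < c3 := lt_of_not_ge fun h => hτ (mem_of_le hB.1 (e3_le.2 ⟨(le_max_right _ _).trans hx, Nat.zero_le _, h2.trans h⟩))
      fin_cases i <;> simp [e3, hy, hz]

end BlowRegLib.MonoSocle
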