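import Groth.Agent.BlowRegLib.Surface
import Groth.Agent.SurfAmpleLib.CurveH0
import Groth.Agent.SurfAmpleLib.Prod
import Groth.Agent.GrowthLib.Semiample
import Groth.Agent.BlowPtLib.Plane

/-!
# Sections and curves of negative self-intersection
-/

set_option autoImplicit false
set_option linter.style.haveILetI false
set_option linter.unusedSectionVars false
set_option maxHeartbeats 1000000

universe u

open CategoryTheory CategoryTheory.Limits AlgebraicGeometry TopologicalSpace Opposite
open HilbPolyLib DevissLib IntMultLib IntFunLib HodgeIdxLib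
open KFlatLib (pb)

noncomputable section

namespace BlowRegLib

variable {k : Type u} [Field k] {X : Scheme.{u}} [X.Over (Spec (CommRingCat.of k))]
  [IsProper (X ↘ Spec (CommRingCat.of k))] [IsIntegral X]

/-- A module with a section meets a globally generated one non-negatively. -/
theorem nonneg_of_section_gg (hX : topologicalKrullDim X = ((2 : ℕ) : WithBot ℕ∞)) {P A : X.Modules}
    (hP : PicF.IsInvertible P) (hA : PicF.IsInvertible A) (hgg : Curv2.IsGloballyGenerated A)
    {φ : Coh.structureModule X ⟶ P} (hφ : φ ≠ 0) : 0 ≤ pr k P A := by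
  obtain ⟨hc, hd⟩ := dim_cokernel_le k (n := 1) hX hP hφ
  rw [pr, ← N_cokernel hX hP hA hφ]
  exact N_nonneg (l := [A]) (by simpa using hA) hc hd fun ξ _ hξ => GrowthLib.N_gg_nonneg hA hgg hξ

/-- Negative against a globally generated module: no sections. -/
theorem subsingleton_h0_of_neg (hX : topologicalKrullDim X = ((2 : ℕ) : WithBot ℕ∞)) {P A : X.Modules}
    (hP : PicF.IsInvertible P) (hA : PicF.IsInvertible A) (hgg : Curv2.IsGloballyGenerated A)
    (h : pr k P A < 0) : Subsingleton (Coh.HH X P 0) := by
  refine subsingleton_of_forall_eq 0 fun x => ?_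
  by_contra hx
  let e := (QCohLib.hEquiv ((QCohLib.toAbF X).obj P) 0).trans (QCohLib.h0 (U := (⊤ : Opens X.toTopCat)))
  have hs : (show Γ(P, ⊤) from e x) ≠ 0 := fun h0 => hx (e.injective (h0.trans (map_zero e).symm))
  have := nonneg_of_section_gg (k := k) hX hP hA hgg (RRVanLib.unitHom_ne_zero hs)
  omega

omit [IsIntegral X] in
/-- The degree of a module on a divisor through the pairing. -/
theorem N_quot_eq (E : X.IdealSheafData) (hE : PicF.IsInvertible (ClSub.idealMod E)) {A : X.Modules}
    (hA : PicF.IsInvertible A) :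
    Curv2.euler k X (CohB1.tensorMod A (ClSub.quotMod E)) - Curv2.euler k X (ClSub.quotMod E) =
      -pr k A (ClSub.idealMod E) := by
  haveI := CurvLib.isNoetherian k (X := X)
  have h1 := CurvLib.euler_add_of_isCoh (k := k) (HilbPolyLib.shortExact_tensor hA (CurvLib.idealSeq_shortExact E))
    (CurvLib.isCoh_of_isInvertible (HilbPolyLib.isInvertible_tensor hA hE))
    (CurvLib.isCoh_of_isInvertible (HilbPolyLib.isInvertible_tensor hA CurvLib.isInvertible_structureModule))
    (HilbPolyLib.isCoh_tensor hA (CurvLib.isCoh_quotMod E))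
  change Curv2.euler k X (CohB1.tensorMod A (Coh.structureModule X)) =
    Curv2.euler k X (CohB1.tensorMod A (ClSub.idealMod E)) + Curv2.euler k X (CohB1.tensorMod A (ClSub.quotMod E)) at h1
  rw [CurvLib.euler_congr (k := k) (swapIso A (Coh.structureModule X) ≪≫ unitLeft A)] at h1
  have h2 := CurvLib.euler_add_of_isCoh (k := k) (CurvLib.idealSeq_shortExact E)
    (CurvLib.isCoh_of_isInvertible hE) (CurvLib.isCoh_of_isInvertible CurvLib.isInvertible_structureModule)
    (CurvLib.isCoh_quotMod E)
  change Curv2.euler k X (Coh.structureModule X) =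
    Curv2.euler k X (ClSub.idealMod E) + Curv2.euler k X (ClSub.quotMod E) at h2
  rw [pr_formula (k := k) A (ClSub.idealMod E)]
  omega

variable [IsAlgClosed k]

/-- **Sections vanish to order `s` along a curve of degree `-s`.** -/
theorem finrank_h0_negCurve (hX : topologicalKrullDim X ≤ (2 : ℕ)) (E : X.IdealSheafData)
    (hE : BlowUp.IsEffCartierIdeal E) (hEi : IsIntegral E.subscheme)
    (hE1 : topologicalKrullDim (E.support : Set X) = 1)
    (hEE : pr k (ClSub.idealMod E) (ClSub.idealMod E) = -1) {L : X.Modules} (hL : PicF.IsInvertible L) :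
    ∀ s : ℕ, (s : ℤ) ≤ pr k L (ClSub.idealMod E) →
      Module.finrank k (Coh.HH X (CohB1.tensorMod L (ClSub.idealMod (E ^ s))) 0) = Module.finrank k (Coh.HH X L 0) := by
  haveI := CurvLib.isNoetherian k (X := X)
  have hI : PicF.IsInvertible (ClSub.idealMod E) := IntMultLib.isInvertible_idealMod E hE
  have hIs : ∀ s : ℕ, PicF.IsInvertible (ClSub.idealMod (E ^ s)) :=
    fun s => IntMultLib.isInvertible_idealMod _ (SurfAmpleLib.isEffCartier_pow' hE s)
  intro s
  induction s with
  | zero =>
    intro _
    rw [pow_zero, Scheme.IdealSheafData.one_eq_top]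
    obtain ⟨e⟩ := BlowPtLib.nonempty_idealMod_top X
    exact ((CurvLib.hIso (k := k) (congrRight L e ≪≫ swapIso _ _ ≪≫ unitLeft L) 0).finrank_eq)
  | succ s ih =>
    intro hs
    push_cast at hs
    obtain ⟨f, -⟩ := SurfNumLib.exists_idealMod_mul (SurfAmpleLib.isEffCartier_pow' hE s) hE
    rw [← pow_succ] at f
    let M := CohB1.tensorMod L (ClSub.idealMod (E ^ s))
    have hM : PicF.IsInvertible M := HilbPolyLib.isInvertible_tensor hL (hIs s)
    have hdeg : ∀ j : ℕ, pr k (ClSub.idealMod (E ^ j)) (ClSub.idealMod E) = -(j : ℤ) := fun j => by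
      induction j with
      | zero =>
        rw [pow_zero, Scheme.IdealSheafData.one_eq_top]
        obtain ⟨e⟩ := BlowPtLib.nonempty_idealMod_top X
        rw [pr, N_congr_head (k := k) e, ← pr, pr_unit]
        simp
      | succ j ih' =>
        obtain ⟨g, -⟩ := SurfNumLib.exists_idealMod_mul (SurfAmpleLib.isEffCartier_pow' hE j) hE
        rw [← pow_succ] at g
        rw [pr, N_congr_head (k := k) g.symm, ← pr, pr_tensor hX (hIs j) hI hI, ih', hEE]
        push_cast
        ring
    have hMd : N k [M] (ClSub.quotMod E) < 0 := by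
      have h := N_quot_eq (k := k) E hI hM
      rw [pr_tensor hX hL (hIs s) hI, hdeg s] at h
      simp only [N]
      omega
    obtain ⟨-, hv⟩ := SurfAmpleLib.h0_quot_bound (k := k) hM E hE1 hMd.le
    haveI := CurvLib.finite_HH (k := k) (HilbPolyLib.isCoh_tensor hM (CurvLib.isCoh_quotMod E)) 0
    have h0 : Subsingleton (Coh.HH X (CohB1.tensorMod M (ClSub.quotMod E)) 0) :=
      Module.finrank_zero_iff.1 (hv hMd)
    rw [← ih (by omega)]
    refine ((CurvLib.hIso (k := k) (congrRight L f.symm ≪≫ (assocIso _ _ _).symm) 0).finrank_eq).trans ?_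
    refine (BlowPtLib.finrank_zero_eq (k := k)
      (HilbPolyLib.shortExact_tensor hM (CurvLib.idealSeq_shortExact E)) h0).trans ?_
    exact (CurvLib.hIso (k := k) (swapIso M (Coh.structureModule X) ≪≫ unitLeft M) 0).finrank_eq

end BlowRegLib
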