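import Groth.Agent.CohCmpLib.SectionPair
import Groth.Agent.IntMultLib.Asymp
import Groth.Agent.NumRLib.Big

/-!
Negative powers of a line bundle with many sections have no sections.
-/

set_option autoImplicit false

noncomputable section

universe u

open CategoryTheory CategoryTheory.Limits AlgebraicGeometry HilbPolyLib CohB1

namespace BlowRegLib

variable {X : Scheme.{u}}

theorem exists_hom_of_nontrivial_HH0 {F : X.Modules} (h : Nontrivial (Coh.HH X F 0)) :
    ∃ s : Coh.structureModule X ⟶ F, s ≠ 0 := by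
  have : Nontrivial Γ(F, ⊤) := ((DegPullLib.e0 F).toEquiv.nontrivial_congr).1 h
  obtain ⟨x, hx⟩ := exists_ne (0 : Γ(F, ⊤))
  refine ⟨(KFlatLib.unitSecEquiv _).symm x, fun h0 => hx ?_⟩
  rw [← (KFlatLib.unitSecEquiv F).apply_symm_apply x, h0]
  rfl

theorem isInvertible_pow' {L : X.Modules} (hL : PicF.IsInvertible L) : ∀ n, PicF.IsInvertible (tensorPow L n)
  | 0 => CurvLib.isInvertible_structureModule
  | n + 1 => HilbPolyLib.isInvertible_tensor (isInvertible_pow' hL n) hL

theorem nonempty_pow_cancel {L M : X.Modules} (e : tensorMod M L ≅ Coh.structureModule X) : ∀ n : ℕ,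
    Nonempty (tensorMod (tensorPow L n) (tensorPow M n) ≅ Coh.structureModule X)
  | 0 => ⟨unitLeft _⟩
  | n + 1 => by
    obtain ⟨u⟩ := nonempty_pow_cancel e n
    exact ⟨assocIso (tensorPow L n) L _ ≪≫ congrRight _ (swapIso L _ ≪≫ assocIso (tensorPow M n) M L ≪≫
      congrRight _ e ≪≫ PicPnLib.unitRight _) ≪≫ u⟩

theorem subsingleton_h0_negPow (k : Type u) [Field k] [X.Over (Spec (CommRingCat.of k))]
    [IsProper (X ↘ (Spec (CommRingCat.of k)))] [IsIntegral X]
    (L M : X.Modules) (hL : PicF.IsInvertible L) (hM : ClSub.IsInverseOf M L)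
    (hsec : ∀ j : ℕ, 4 ≤ j → Nontrivial (Coh.HH X (CohB1.tensorPow L j) 0))
    (hnt : ∀ j : ℕ, 1 ≤ j → IsEmpty (CohB1.tensorPow L j ≅ Coh.structureModule X))
    (i : ℕ) (hi : 1 ≤ i) :
    Subsingleton (Coh.HH X (CohB1.tensorPow M i) 0) := by
  rw [← not_nontrivial_iff_subsingleton]
  intro h
  obtain ⟨e⟩ := hM
  have hMi : PicF.IsInvertible M := CohCmpLib.isInvertible_of_inverse' hL (swapIso L M ≪≫ e)
  obtain ⟨s, hs⟩ := exists_hom_of_nontrivial_HH0 h
  haveI : Mono s := CurvLib.mono_of_ne_zero CurvLib.isInvertible_structureModule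
    (isInvertible_pow' hMi i) hs
  have step : ∀ m : ℕ, ∃ g : tensorPow L (i * m) ⟶ Coh.structureModule X, Mono g := fun m => by
    induction m with
    | zero => exact ⟨(eqToIso (by rw [Nat.mul_zero]; rfl)).hom, inferInstance⟩
    | succ m ih =>
      obtain ⟨g, hg⟩ := ih
      obtain ⟨ψ, hψ⟩ := NumRLib.mono_tensor (isInvertible_pow' hL (i * (m + 1))) s
      obtain ⟨c⟩ := nonempty_pow_cancel e i
      obtain ⟨a⟩ := IntMultLib.nonempty_tensorPow_add L (i * m) i
      let b : tensorPow L (i * (m + 1)) ≅ tensorMod (tensorPow L (i * m)) (tensorPow L i) :=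
        eqToIso (by rw [Nat.mul_succ]) ≪≫ a
      let tgt : tensorMod (tensorPow L (i * (m + 1))) (tensorPow M i) ≅ tensorPow L (i * m) :=
        congrLeft b _ ≪≫ assocIso _ _ _ ≪≫ congrRight _ c ≪≫ PicPnLib.unitRight _
      exact ⟨(PicPnLib.unitRight _).inv ≫ ψ ≫ tgt.hom ≫ g, inferInstance⟩
  obtain ⟨g, hg⟩ := step 4
  haveI := hg
  obtain ⟨t, ht⟩ := exists_hom_of_nontrivial_HH0 (hsec (i * 4) (by omega))
  have hg0 : g ≠ 0 := fun h0 => ht (zero_of_comp_mono g (by rw [h0, comp_zero]))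
  obtain ⟨φ⟩ := CohCmpLib.nonempty_iso_of_section_cosection
    (isField_of_universallyClosed k (X ↘ (Spec (CommRingCat.of k))))
    (isInvertible_pow' hL (i * 4)) t ht g hg0
  exact (hnt (i * 4) (by omega)).false φ

end BlowRegLib
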