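import Mathlib.Algebra.TrivSqZeroExt.Ideal
import Mathlib.Algebra.MvPolynomial.PDeriv
import Mathlib.Algebra.MvPolynomial.Division
import Mathlib.RingTheory.Polynomial.Basic
import Mathlib.RingTheory.Kaehler.Basic
import Mathlib.LinearAlgebra.TensorProduct.Quotient
import Mathlib.Tactic.LinearCombination

/-!
# The conormal sequence of a first order deformation of a node
-/

set_option autoImplicit false
universe u

open MvPolynomial TensorProduct

noncomputable section

namespace BlowRegLib.NodeConormal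

variable {A : Type u} [CommRing A]

theorem node_cancel (t : A) {g : MvPolynomial (Fin 2) A}
    (h : (X 0 * X 1 - C t) * g = 0) : g = 0 := by
  classical
  by_contra hne
  obtain ⟨d, hd, hmax⟩ := Finset.exists_max_image g.support (fun d => d 0 + d 1) (support_nonempty.2 hne)
  let o : Fin 2 →₀ ℕ := Finsupp.single 0 1 + Finsupp.single 1 1
  have hXX : (X 0 * X 1 : MvPolynomial (Fin 2) A) = monomial o 1 := by
    rw [X, X, monomial_mul, one_mul]
  have h1 := congrArg (coeff (o + d)) h
  rw [hXX, sub_mul, coeff_sub, coeff_monomial_mul, one_mul, coeff_C_mul, coeff_zero,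
    notMem_support_iff.1 (show o + d ∉ g.support from fun hm => by
      have := hmax _ hm
      have e0 : (o + d) 0 = 1 + d 0 := by simp [o]
      have e1 : (o + d) 1 = 1 + d 1 := by simp [o]
      omega), mul_zero, sub_zero] at h1
  exact mem_support_iff.1 hd h1

theorem dvd_of_mul_X (t : A) {f : MvPolynomial (Fin 2) A}
    (hx : (X 0 * X 1 - C t) ∣ X 0 * f) (hy : (X 0 * X 1 - C t) ∣ X 1 * f) : (X 0 * X 1 - C t) ∣ f := by
  classical
  obtain ⟨g, hg⟩ := hx
  obtain ⟨h, hh⟩ := hy
  have e : X 1 * g = X 0 * h := by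
    refine sub_eq_zero.1 (node_cancel t ?_)
    rw [mul_sub, mul_left_comm, ← hg, mul_left_comm _ (X 0) h, ← hh]
    ring
  have hdvd : (X 0 : MvPolynomial (Fin 2) A) ∣ g := by
    rw [X_dvd_iff_modMonomial_eq_zero]
    ext d
    rw [coeff_zero]
    by_cases hd : Finsupp.single 0 1 ≤ d
    · rw [coeff_modMonomial_of_le _ hd]
    · rw [coeff_modMonomial_of_not_le _ hd]
      have h0 : d 0 = 0 := by
        by_contra hne
        exact hd (Finsupp.single_le_iff.2 (Nat.one_le_iff_ne_zero.2 hne))
      have h1 := congrArg (coeff (d + Finsupp.single 1 1)) e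
      rw [coeff_X_mul', coeff_X_mul', if_pos (by simp), if_neg (by simp [h0]), add_tsub_cancel_right] at h1
      exact h1
  obtain ⟨g', rfl⟩ := hdvd
  refine ⟨g', ?_⟩
  have hX : Function.Injective (fun q : MvPolynomial (Fin 2) A => X 0 * q) := fun p q hpq => by
    ext d
    have := congrArg (coeff (Finsupp.single 0 1 + d)) hpq
    simpa [coeff_X_mul] using this
  exact hX (by change X 0 * f = X 0 * _; rw [hg]; ring)

variable {J : Type u} [AddCommGroup J] [Module A J] [Module Aᵐᵒᵖ J] [IsCentralScalar A J]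

variable (A J) in
/-- The first component. -/
def fs : MvPolynomial (Fin 2) (TrivSqZeroExt A J) →+* MvPolynomial (Fin 2) A :=
  MvPolynomial.map (TrivSqZeroExt.fstHom A A J).toRingHom

variable (A J) in
/-- The inclusion. -/
def inc : MvPolynomial (Fin 2) A →+* MvPolynomial (Fin 2) (TrivSqZeroExt A J) :=
  MvPolynomial.map (TrivSqZeroExt.inlHom A J)

theorem fs_inc (p : MvPolynomial (Fin 2) A) : fs A J (inc A J p) = p := by
  rw [fs, inc, MvPolynomial.map_map]
  exact MvPolynomial.map_id p

theorem ker_fs : RingHom.ker (fs A J) = (TrivSqZeroExt.kerIdeal A J).map C := MvPolynomial.ker_map _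

theorem mul_eq_zero_of_fs {p q : MvPolynomial (Fin 2) (TrivSqZeroExt A J)} (hp : fs A J p = 0) (hq : fs A J q = 0) :
    p * q = 0 := by
  have h := Ideal.mul_mem_mul (show p ∈ RingHom.ker (fs A J) from hp) (show q ∈ RingHom.ker (fs A J) from hq)
  rwa [ker_fs, ← Ideal.map_mul, ← pow_two, TrivSqZeroExt.kerIdeal_sq, Ideal.map_bot, Submodule.mem_bot] at h

theorem kerToTensor_injective (τ : TrivSqZeroExt A J)
    (B' : Type u) [CommRing B'] [Algebra (TrivSqZeroExt A J) B'] [Algebra A B']
    [IsScalarTower A (TrivSqZeroExt A J) B'] (x y : B')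
    (hsurj : Function.Surjective
      (MvPolynomial.aeval ![x, y] : MvPolynomial (Fin 2) (TrivSqZeroExt A J) →ₐ[TrivSqZeroExt A J] B'))
    (hker : RingHom.ker
      (MvPolynomial.aeval ![x, y] : MvPolynomial (Fin 2) (TrivSqZeroExt A J) →ₐ[TrivSqZeroExt A J] B') =
      Ideal.span {MvPolynomial.X 0 * MvPolynomial.X 1 - MvPolynomial.C τ}) :
    Function.Injective (KaehlerDifferential.kerToTensor A B'
      (B' ⧸ Ideal.map (algebraMap (TrivSqZeroExt A J) B') (TrivSqZeroExt.kerIdeal A J))) := by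
  classical
  set I : Ideal B' := Ideal.map (algebraMap (TrivSqZeroExt A J) B') (TrivSqZeroExt.kerIdeal A J) with hI
  set π : MvPolynomial (Fin 2) (TrivSqZeroExt A J) →ₐ[TrivSqZeroExt A J] B' := MvPolynomial.aeval ![x, y] with hπ
  set F : MvPolynomial (Fin 2) (TrivSqZeroExt A J) := X 0 * X 1 - C τ with hF
  have hπF : π F = 0 := by
    rw [← RingHom.mem_ker, hker]
    exact Ideal.mem_span_singleton_self _
  have hfF : fs A J F = X 0 * X 1 - C τ.fst := by simp [hF, fs]
  have hI' : I = (RingHom.ker (fs A J)).map π := by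
    rw [ker_fs, ← Ideal.map_coe π, Ideal.map_map, hI]
    congr 1
    ext a
    simp [hπ, algebraMap_eq]
  have hmem : ∀ p, π p ∈ I ↔ fs A J F ∣ fs A J p := fun p => by
    constructor
    · intro hp
      have h1 : p ∈ Ideal.comap π ((RingHom.ker (fs A J)).map π) := hI' ▸ hp
      rw [Ideal.comap_map_of_surjective' π hsurj, hker, Submodule.mem_sup] at h1
      obtain ⟨a, ha, b, hb, rfl⟩ := h1
      obtain ⟨c, rfl⟩ := Ideal.mem_span_singleton'.1 hb
      rw [map_add, show fs A J a = 0 from ha, zero_add, map_mul]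
      exact dvd_mul_left _ _
    · rintro ⟨g, hg⟩
      have hk : p - F * inc A J g ∈ RingHom.ker (fs A J) := by
        rw [RingHom.mem_ker, map_sub, map_mul, fs_inc, hg, sub_self]
      have h1 := Ideal.mem_map_of_mem π hk
      rw [← hI', map_sub, map_mul, hπF, zero_mul, sub_zero] at h1
      exact h1
  have hsq : ∀ a b, a ∈ I → b ∈ I → a * b = 0 := fun a b ha hb => by
    have h := Ideal.mul_mem_mul ha hb
    rwa [hI, ← Ideal.map_mul, ← pow_two, TrivSqZeroExt.kerIdeal_sq, Ideal.map_bot, Submodule.mem_bot] at h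
  -- the test derivation on polynomials
  let T := (B' ⧸ I) × (B' ⧸ I) × I
  let e : MvPolynomial (Fin 2) (TrivSqZeroExt A J) → MvPolynomial (Fin 2) (TrivSqZeroExt A J) :=
    fun p => p - inc A J (fs A J p)
  have hfe : ∀ p, fs A J (e p) = 0 := fun p => by simp [e, map_sub, fs_inc]
  have heI : ∀ p, π (e p) ∈ I := fun p => (hmem _).2 (by rw [hfe]; exact dvd_zero _)
  let dd : Fin 2 → MvPolynomial (Fin 2) (TrivSqZeroExt A J) → B' ⧸ I := fun i p =>
    Ideal.Quotient.mk I (π (inc A J (pderiv i (fs A J p))))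
  let δ₀ : MvPolynomial (Fin 2) (TrivSqZeroExt A J) → T := fun p => (dd 0 p, dd 1 p, ⟨π (e p), heI p⟩)
  have hrep : ∀ p, Ideal.Quotient.mk I (π (inc A J (fs A J p))) = Ideal.Quotient.mk I (π p) := fun p => by
    rw [Ideal.Quotient.eq, ← map_sub, ← neg_sub, map_neg, Ideal.neg_mem_iff]
    exact heI p
  have hadd : ∀ p q, δ₀ (p + q) = δ₀ p + δ₀ q := fun p q => by
    refine Prod.ext ?_ (Prod.ext ?_ (Subtype.ext ?_))
    · change dd 0 (p + q) = dd 0 p + dd 0 q
      simp [dd]
    · change dd 1 (p + q) = dd 1 p + dd 1 q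
      simp [dd]
    · change π (e (p + q)) = π (e p) + π (e q)
      rw [← map_add]
      congr 1
      simp [e]
      ring
  have hmul : ∀ p q, δ₀ (p * q) = π p • δ₀ q + π q • δ₀ p := fun p q => by
    have hdd : ∀ i, dd i (p * q) = π p • dd i q + π q • dd i p := fun i => by
      simp only [dd, map_mul, pderiv_mul, map_add, Algebra.smul_def, Ideal.Quotient.algebraMap_eq, hrep]
      ring
    refine Prod.ext (hdd 0) (Prod.ext (hdd 1) (Subtype.ext ?_))
    change π (e (p * q)) = π p * π (e q) + π q * π (e p)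
    rw [← map_mul, ← map_mul, ← map_add]
    congr 1
    have h0 := mul_eq_zero_of_fs (hfe p) (hfe q)
    simp only [e, map_mul] at h0 ⊢
    linear_combination (-1 : MvPolynomial (Fin 2) (TrivSqZeroExt A J)) * h0
  have hconst : ∀ a : A, δ₀ (C (algebraMap A (TrivSqZeroExt A J) a)) = 0 := fun a => by
    refine Prod.ext ?_ (Prod.ext ?_ (Subtype.ext ?_)) <;>
      simp [δ₀, dd, e, fs, inc, TrivSqZeroExt.algebraMap_eq_inl]
  let v : T := δ₀ F
  let N : Submodule B' T := Submodule.span B' {v}
  have hwd : ∀ p q, π p = π q → N.mkQ (δ₀ p) = N.mkQ (δ₀ q) := fun p q h => by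
    have h1 : p - q ∈ Ideal.span {F} := by
      rw [← hker, RingHom.mem_ker]
      simp [h]
    obtain ⟨c, hc⟩ := Ideal.mem_span_singleton'.1 h1
    rw [show p = q + c * F by rw [hc]; ring, hadd, hmul, hπF, zero_smul, add_zero, map_add, add_eq_left]
    exact (Submodule.Quotient.mk_eq_zero N).2 (Submodule.smul_mem _ _ (Submodule.mem_span_singleton_self _))
  let s := Function.surjInv hsurj
  have hs : ∀ b, π (s b) = b := Function.surjInv_eq hsurj
  have halg : ∀ a : A, algebraMap A B' a = π (C (algebraMap A (TrivSqZeroExt A J) a)) := fun a => by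
    rw [IsScalarTower.algebraMap_apply A (TrivSqZeroExt A J) B', hπ, aeval_C]
  let δl : B' →ₗ[A] T ⧸ N :=
    { toFun := fun b => N.mkQ (δ₀ (s b))
      map_add' := fun a b => by
        rw [hwd (s (a + b)) (s a + s b) (by simp [hs]), hadd, map_add]
      map_smul' := fun a b => by
        rw [hwd (s (a • b)) (C (algebraMap A (TrivSqZeroExt A J) a) * s b)
          (by rw [map_mul, ← halg, hs, hs, Algebra.smul_def]), hmul, hconst, smul_zero, add_zero, map_smul,
          ← halg, RingHom.id_apply, algebraMap_smul] }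
  let δ : Derivation A B' (T ⧸ N) := Derivation.mk' δl fun a b => by
    change N.mkQ (δ₀ (s (a * b))) = a • N.mkQ (δ₀ (s b)) + b • N.mkQ (δ₀ (s a))
    rw [hwd (s (a * b)) (s a * s b) (by simp [hs]), hmul, map_add, map_smul, map_smul, hs, hs]
  rw [injective_iff_map_eq_zero]
  rintro ⟨i, hi⟩ h
  have hiI : i ∈ I := by
    rw [RingHom.mem_ker, Ideal.Quotient.algebraMap_eq, Ideal.Quotient.eq_zero_iff_mem] at hi
    exact hi
  have hD : KaehlerDifferential.D A B' i ∈ I • (⊤ : Submodule B' (Ω[B'⁄A])) := by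
    have h1 : (TensorProduct.quotTensorEquivQuotSMul (Ω[B'⁄A]) I) (1 ⊗ₜ KaehlerDifferential.D A B' i) = 0 :=
      (congrArg _ h).trans (map_zero _)
    rw [← map_one (Ideal.Quotient.mk I), TensorProduct.quotTensorEquivQuotSMul_mk_tmul, one_smul] at h1
    exact (Submodule.Quotient.mk_eq_zero _).1 h1
  have hδ : δ i ∈ I • (⊤ : Submodule B' (T ⧸ N)) := by
    rw [← Derivation.liftKaehlerDifferential_comp_D δ i]
    exact Submodule.smul_top_le_comap_smul_top I δ.liftKaehlerDifferential hD
  have hITbot : ∀ m ∈ I • (⊤ : Submodule B' (T ⧸ N)), m = 0 := fun m hm => by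
    refine Submodule.smul_induction_on hm (fun c hc m _ => ?_) fun a b ha hb => by rw [ha, hb, add_zero]
    obtain ⟨w, rfl⟩ := Submodule.mkQ_surjective N m
    rw [← map_smul, show c • w = 0 from ?_, map_zero]
    refine Prod.ext ?_ (Prod.ext ?_ (Subtype.ext (hsq _ _ hc w.2.2.2)))
    · obtain ⟨r, hr⟩ := Ideal.Quotient.mk_surjective w.1
      rw [Prod.smul_fst, ← hr]
      exact Ideal.Quotient.eq_zero_iff_mem.2 (I.mul_mem_right _ hc)
    · obtain ⟨r, hr⟩ := Ideal.Quotient.mk_surjective w.2.1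
      rw [Prod.smul_snd, Prod.smul_fst, ← hr]
      exact Ideal.Quotient.eq_zero_iff_mem.2 (I.mul_mem_right _ hc)
  obtain ⟨p, hp, hpi⟩ : ∃ p, fs A J p = 0 ∧ π p = i := by
    obtain ⟨p, hp, hpi⟩ := (Ideal.mem_map_iff_of_surjective π hsurj).1 (hI' ▸ hiI)
    exact ⟨p, hp, hpi⟩
  have h2 : δ i = N.mkQ (δ₀ p) := hwd (s i) p (by rw [hs, hpi])
  have h3 := (Submodule.Quotient.mk_eq_zero N).1 (h2.symm.trans (hITbot _ hδ))
  obtain ⟨c, hc⟩ := Submodule.mem_span_singleton.1 h3
  have hd : ∀ j, fs A J F ∣ pderiv j (fs A J F) * fs A J (s c) := fun j => by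
    have h4 : c • dd j F = dd j p := by
      fin_cases j
      · exact congrArg Prod.fst hc
      · exact congrArg (fun w : T => w.2.1) hc
    have h5 : c * π (inc A J (pderiv j (fs A J F))) ∈ I := by
      rw [← Ideal.Quotient.eq_zero_iff_mem]
      refine Eq.trans ?_ (h4.trans (by simp [dd, hp]))
      rfl
    rw [← hs c, ← map_mul, hmem, map_mul, fs_inc] at h5
    rwa [mul_comm] at h5
  have hcI : c ∈ I := by
    rw [← hs c, hmem, hfF]
    refine dvd_of_mul_X τ.fst ?_ ?_
    · have := hd 1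
      rw [hfF] at this
      simpa [pderiv_mul] using this
    · have := hd 0
      rw [hfF] at this
      simpa [pderiv_mul] using this
  have h6 : (c • v).2.2.1 = π (e p) := congrArg (fun w : T => w.2.2.1) hc
  refine Subtype.ext ?_
  change i = 0
  rw [← hpi, show p = e p by simp [e, hp], ← h6]
  exact hsq _ _ hcI (heI F)

end BlowRegLib.NodeConormal
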