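import Mathlib.RingTheory.MvPowerSeries.Basic
import Mathlib.RingTheory.MvPowerSeries.Inverse
import Mathlib.RingTheory.Ideal.Quotient.Operations
import Mathlib.LinearAlgebra.Dimension.Finrank
import Mathlib.LinearAlgebra.FiniteDimensional.Basic
import Mathlib.Tactic.FieldSimp
import Mathlib.Tactic.Ring

/-!
# Ideals of finite colength of the node `k[[x,y]]/(xy)`
-/

set_option autoImplicit false
universe u

open MvPowerSeries

noncomputable section

namespace BlowRegLib.Node

variable {k : Type u} [Field k]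

local notation "R" => MvPowerSeries (Fin 2) k
local notation "x" => (MvPowerSeries.X 0 : MvPowerSeries (Fin 2) k)
local notation "y" => (MvPowerSeries.X 1 : MvPowerSeries (Fin 2) k)

/-- The coefficient of `x ^ i`. -/
def cx (i : ℕ) : R →ₗ[k] k := MvPowerSeries.coeff (Finsupp.single 0 i)

/-- The coefficient of `y ^ j`. -/
def cy (j : ℕ) : R →ₗ[k] k := MvPowerSeries.coeff (Finsupp.single 1 j)

theorem eq_single_zero {d : Fin 2 →₀ ℕ} (h : d 1 = 0) : d = Finsupp.single 0 (d 0) := by
  ext i; fin_cases i <;> simp [h]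

theorem eq_single_one {d : Fin 2 →₀ ℕ} (h : d 0 = 0) : d = Finsupp.single 1 (d 1) := by
  ext i; fin_cases i <;> simp [h]

theorem cx_zero_eq (f : R) : cx 0 f = cy 0 f := by simp [cx, cy]

theorem cx_X_pow (a i : ℕ) : cx i (x ^ a) = if i = a then 1 else 0 := by
  classical
  simp [cx, MvPowerSeries.coeff_X_pow, (Finsupp.single_injective (0 : Fin 2)).eq_iff]

theorem cy_X_pow (b j : ℕ) : cy j (y ^ b) = if j = b then 1 else 0 := by
  classical
  simp [cy, MvPowerSeries.coeff_X_pow, (Finsupp.single_injective (1 : Fin 2)).eq_iff]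

theorem cy_X_pow' {a : ℕ} (ha : 1 ≤ a) (j : ℕ) : cy j (x ^ a) = 0 := by
  classical
  rw [cy, MvPowerSeries.coeff_X_pow, if_neg]
  intro h
  have := congrArg (fun d => d 0) h
  simp at this
  omega

theorem cx_X_pow' {b : ℕ} (hb : 1 ≤ b) (i : ℕ) : cx i (y ^ b) = 0 := by
  classical
  rw [cx, MvPowerSeries.coeff_X_pow, if_neg]
  intro h
  have := congrArg (fun d => d 1) h
  simp at this
  omega

/-- Series without low terms on both axes. -/
theorem mem_span_of_low {a b : ℕ} (f : R) (hx : ∀ i < a, cx i f = 0) (hy : ∀ j < b, cy j f = 0) :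
    ∃ u v w : R, f = x * y * u + x ^ a * v + y ^ b * w := by
  classical
  let r₁ : R := fun d => if d 1 = 0 then f d else 0
  obtain ⟨v, hv⟩ : x ^ a ∣ r₁ := by
    rw [MvPowerSeries.X_pow_dvd_iff]
    intro d hd
    change (if d 1 = 0 then f d else 0) = 0
    split_ifs with h
    · rw [eq_single_zero h]; exact hx _ hd
    · rfl
  let r₂ : R := fun d => if d 0 = 0 ∧ d 1 ≠ 0 then f d else 0
  obtain ⟨w, hw⟩ : y ^ b ∣ r₂ := by
    rw [MvPowerSeries.X_pow_dvd_iff]
    intro d hd
    change (if d 0 = 0 ∧ d 1 ≠ 0 then f d else 0) = 0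
    split_ifs with h
    · rw [eq_single_one h.1]; exact hy _ hd
    · rfl
  obtain ⟨g, hg⟩ : x ∣ f - r₁ - r₂ := by
    rw [MvPowerSeries.X_dvd_iff]
    intro d hd
    change f d - (if d 1 = 0 then f d else 0) - (if d 0 = 0 ∧ d 1 ≠ 0 then f d else 0) = 0
    by_cases h : d 1 = 0 <;> simp [h, hd]
  obtain ⟨u, hu⟩ : y ∣ g := by
    rw [MvPowerSeries.X_dvd_iff]
    intro d hd
    have h := congrArg (MvPowerSeries.coeff (Finsupp.single 0 1 + d)) hg
    rw [show x = MvPowerSeries.monomial (Finsupp.single (0 : Fin 2) 1) 1 from rfl,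
      MvPowerSeries.coeff_add_monomial_mul, one_mul] at h
    rw [← h]
    generalize he : (Finsupp.single 0 1 + d : Fin 2 →₀ ℕ) = e
    have he0 : e 0 ≠ 0 := by rw [← he]; simp
    have he1 : e 1 = 0 := by rw [← he]; simp [hd]
    change f e - (if e 1 = 0 then f e else 0) - (if e 0 = 0 ∧ e 1 ≠ 0 then f e else 0) = 0
    simp [he0, he1]
  refine ⟨u, v, w, ?_⟩
  rw [mul_assoc, ← hu, ← hg, ← hv, ← hw]
  abel

/-- The exponents below `x ^ a` and `y ^ b` on the axes. -/
def lowExp (a b : ℕ) : Finset (Fin 2 →₀ ℕ) :=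
  (Finset.range a).image (Finsupp.single 0) ∪ (Finset.Ico 1 b).image (Finsupp.single 1)

theorem card_lowExp (a b : ℕ) : (lowExp a b).card = a + (b - 1) := by
  classical
  rw [lowExp, Finset.card_union_of_disjoint, Finset.card_image_of_injective _ (Finsupp.single_injective _),
    Finset.card_image_of_injective _ (Finsupp.single_injective _), Finset.card_range, Nat.card_Ico]
  rw [Finset.disjoint_left]
  intro d hd hd'
  obtain ⟨i, -, rfl⟩ := Finset.mem_image.1 hd
  obtain ⟨j, hj, h⟩ := Finset.mem_image.1 hd'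
  have := congrArg (fun d => d 1) h
  simp at this
  have := (Finset.mem_Ico.1 hj).1
  omega

/-- The low coefficients. -/
def lowMap (a b : ℕ) : R →ₗ[k] (lowExp a b → k) :=
  LinearMap.pi fun d => MvPowerSeries.coeff (d : Fin 2 →₀ ℕ)

theorem lowMap_eq_zero {a b : ℕ} (ha : 1 ≤ a) (f : R) :
    lowMap a b f = 0 ↔ (∀ i < a, cx i f = 0) ∧ ∀ j < b, cy j f = 0 := by
  classical
  constructor
  · intro h
    have h1 : ∀ i < a, cx i f = 0 := fun i hi => congrFun h ⟨Finsupp.single 0 i,
      Finset.mem_union_left _ (Finset.mem_image_of_mem _ (Finset.mem_range.2 hi))⟩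
    refine ⟨h1, fun j hj => ?_⟩
    rcases Nat.eq_zero_or_pos j with rfl | hj0
    · rw [← cx_zero_eq]; exact h1 0 ha
    · exact congrFun h ⟨Finsupp.single 1 j,
        Finset.mem_union_right _ (Finset.mem_image_of_mem _ (Finset.mem_Ico.2 ⟨hj0, hj⟩))⟩
  · rintro ⟨h1, h2⟩
    funext ⟨d, hd⟩
    rcases Finset.mem_union.1 hd with hd' | hd'
    · obtain ⟨i, hi, rfl⟩ := Finset.mem_image.1 hd'
      exact h1 i (Finset.mem_range.1 hi)
    · obtain ⟨j, hj, rfl⟩ := Finset.mem_image.1 hd'
      exact h2 j (Finset.mem_Ico.1 hj).2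

theorem lowMap_surjective (a b : ℕ) : Function.Surjective (lowMap (k := k) a b) := fun v => by
  classical
  exact ⟨fun d => if h : d ∈ lowExp a b then v ⟨d, h⟩ else 0, funext fun d => dif_pos d.2⟩

/-- A surjection with kernel `J` computes the colength. -/
theorem finrank_quot_eq {J : Ideal R} {V : Type u} [AddCommGroup V] [Module k V] (φ : R →ₗ[k] V)
    (hφ : Function.Surjective φ) (hker : ∀ f, φ f = 0 ↔ f ∈ J) :
    Module.finrank k (R ⧸ J) = Module.finrank k V := by
  let π : R →ₗ[k] R ⧸ J := (Ideal.Quotient.mkₐ k J).toLinearMap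
  have hπ : LinearMap.ker π = LinearMap.ker φ := by
    ext f
    rw [LinearMap.mem_ker, LinearMap.mem_ker, hker]
    exact Ideal.Quotient.eq_zero_iff_mem
  exact ((LinearMap.quotKerEquivOfSurjective π Ideal.Quotient.mk_surjective).symm.trans
    ((Submodule.quotEquivOfEq _ _ hπ).trans (LinearMap.quotKerEquivOfSurjective φ hφ))).finrank_eq

theorem finrank_le_of_surjective {J : Ideal R} [Module.Finite k (R ⧸ J)] {V : Type u} [AddCommGroup V] [Module k V]
    (φ : R →ₗ[k] V) (hφ : Function.Surjective φ) (hker : ∀ f ∈ J, φ f = 0) :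
    Module.finrank k V ≤ Module.finrank k (R ⧸ J) := by
  let ψ : (R ⧸ J) →ₗ[k] V := (Submodule.restrictScalars k J).liftQ φ hker
  exact LinearMap.finrank_le_finrank_of_surjective (f := ψ) fun v => by
    obtain ⟨f, rfl⟩ := hφ v
    exact ⟨Ideal.Quotient.mk J f, rfl⟩

theorem main (J : Ideal R) (hxy : x * y ∈ J) [Module.Finite k (R ⧸ J)] (n : ℕ)
    (hn : Module.finrank k (R ⧸ J) = n) (h2 : 2 ≤ n) :
    ∃ a b : ℕ, 1 ≤ a ∧ 1 ≤ b ∧
      ((a + b = n + 1 ∧ J = Ideal.span {x * y, x ^ a, y ^ b}) ∨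
       (a + b = n ∧ ∃ α : k, α ≠ 0 ∧ J = Ideal.span {x * y, x ^ a + MvPowerSeries.C α * y ^ b})) := by
  classical
  have hsmul : ∀ (c : k) {f : R}, f ∈ J → c • f ∈ J := fun c f hf => by
    rw [Algebra.smul_def]; exact J.mul_mem_left _ hf
  have hconst : ∀ f ∈ J, cx 0 f = 0 := fun f hf => by
    by_contra h
    have hu : IsUnit f := MvPowerSeries.isUnit_iff_constantCoeff.2 (by
      have : MvPowerSeries.constantCoeff f = cx 0 f := by simp [cx]
      rw [this]; exact Ne.isUnit h)
    have htop := Ideal.eq_top_of_isUnit_mem _ hf hu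
    haveI : Subsingleton (R ⧸ J) := Ideal.Quotient.subsingleton_iff.2 htop
    rw [Module.finrank_zero_of_subsingleton] at hn
    omega
  -- some element has a nonzero coefficient on each axis
  have hexx : ∃ i, ∃ f ∈ J, cx i f ≠ 0 := by
    by_contra h
    push Not at h
    have := finrank_le_of_surjective (J := J) (lowMap (n + 1) 1) (lowMap_surjective _ _) fun f hf =>
      (lowMap_eq_zero (by omega) f).2 ⟨fun i _ => h i f hf, fun j hj => by
        rw [Nat.lt_one_iff.1 hj, ← cx_zero_eq]; exact hconst f hf⟩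
    rw [hn, Module.finrank_fintype_fun_eq_card, Fintype.card_coe, card_lowExp] at this
    omega
  have hexy : ∃ j, ∃ f ∈ J, cy j f ≠ 0 := by
    by_contra h
    push Not at h
    have := finrank_le_of_surjective (J := J) (lowMap 1 (n + 1)) (lowMap_surjective _ _) fun f hf =>
      (lowMap_eq_zero le_rfl f).2 ⟨fun i hi => by rw [Nat.lt_one_iff.1 hi]; exact hconst f hf, fun j _ => h j f hf⟩
    rw [hn, Module.finrank_fintype_fun_eq_card, Fintype.card_coe, card_lowExp] at this
    omega
  let a := Nat.find hexx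
  let b := Nat.find hexy
  obtain ⟨f₀, hf₀, hf₀a⟩ := Nat.find_spec hexx
  obtain ⟨g₀, hg₀, hg₀b⟩ := Nat.find_spec hexy
  have hlx : ∀ f ∈ J, ∀ i < a, cx i f = 0 := fun f hf i hi => by
    have := Nat.find_min hexx hi
    push Not at this
    exact this f hf
  have hly : ∀ f ∈ J, ∀ j < b, cy j f = 0 := fun f hf j hj => by
    have := Nat.find_min hexy hj
    push Not at this
    exact this f hf
  have ha : 1 ≤ a := Nat.one_le_iff_ne_zero.2 fun h => hf₀a (by
    change cx a f₀ = 0
    rw [h]; exact hconst f₀ hf₀)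
  have hb : 1 ≤ b := Nat.one_le_iff_ne_zero.2 fun h => hg₀b (by
    change cy b g₀ = 0
    rw [h, ← cx_zero_eq]; exact hconst g₀ hg₀)
  change cx a f₀ ≠ 0 at hf₀a
  change cy b g₀ ≠ 0 at hg₀b
  have hxy' : y * x ∈ J := by rwa [mul_comm]
  -- the parts of higher order
  have hhighx : x ^ (a + 1) ∈ J := by
    obtain ⟨u, v, w, huvw⟩ := mem_span_of_low (a := a) (b := 1) f₀ (hlx f₀ hf₀) fun j hj => by
      rw [Nat.lt_one_iff.1 hj, ← cx_zero_eq]; exact hconst f₀ hf₀
    have hv : IsUnit v := MvPowerSeries.isUnit_iff_constantCoeff.2 (Ne.isUnit fun hv0 => hf₀a (by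
      rw [huvw, map_add, map_add]
      have e1 : cx a (x * y * u) = 0 := by
        rw [cx, show x * y * u = (y : R) ^ 1 * (x * u) by ring, MvPowerSeries.X_pow_eq,
          MvPowerSeries.coeff_monomial_mul, if_neg]
        intro h
        have := h 1
        simp at this
      have e2 : cx a (x ^ a * v) = 0 := by
        rw [cx, MvPowerSeries.X_pow_eq, MvPowerSeries.coeff_monomial_mul, if_pos le_rfl, one_mul, tsub_self,
          MvPowerSeries.coeff_zero_eq_constantCoeff_apply, hv0]
      have e3 : cx a (y ^ 1 * w) = 0 := by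
        rw [cx, MvPowerSeries.X_pow_eq, MvPowerSeries.coeff_monomial_mul, if_neg]
        intro h
        have := h 1
        simp at this
      rw [e1, e2, e3]; simp))
    have h1 : x ^ (a + 1) * v ∈ J := by
      rw [show x ^ (a + 1) * v = x * f₀ - (x * y) * (x * u + w) by rw [huvw]; ring]
      exact J.sub_mem (J.mul_mem_left _ hf₀) (J.mul_mem_right _ hxy)
    obtain ⟨v', hv'⟩ := hv.exists_right_inv
    have := J.mul_mem_right v' h1
    rwa [mul_assoc, hv', mul_one] at this
  have hhighy : y ^ (b + 1) ∈ J := by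
    obtain ⟨u, v, w, huvw⟩ := mem_span_of_low (a := 1) (b := b) g₀ (fun i hi => by
      rw [Nat.lt_one_iff.1 hi]; exact hconst g₀ hg₀) (hly g₀ hg₀)
    have hw : IsUnit w := MvPowerSeries.isUnit_iff_constantCoeff.2 (Ne.isUnit fun hw0 => hg₀b (by
      rw [huvw, map_add, map_add]
      have e1 : cy b (x * y * u) = 0 := by
        rw [cy, show x * y * u = (x : R) ^ 1 * (y * u) by ring, MvPowerSeries.X_pow_eq,
          MvPowerSeries.coeff_monomial_mul, if_neg]
        intro h
        have := h 0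
        simp at this
      have e2 : cy b (x ^ 1 * v) = 0 := by
        rw [cy, MvPowerSeries.X_pow_eq, MvPowerSeries.coeff_monomial_mul, if_neg]
        intro h
        have := h 0
        simp at this
      have e3 : cy b (y ^ b * w) = 0 := by
        rw [cy, MvPowerSeries.X_pow_eq, MvPowerSeries.coeff_monomial_mul, if_pos le_rfl, one_mul, tsub_self,
          MvPowerSeries.coeff_zero_eq_constantCoeff_apply, hw0]
      rw [e1, e2, e3]; simp))
    have h1 : y ^ (b + 1) * w ∈ J := by
      rw [show y ^ (b + 1) * w = y * g₀ - (x * y) * (y * u + v) by rw [huvw]; ring]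
      exact J.sub_mem (J.mul_mem_left _ hg₀) (J.mul_mem_right _ hxy)
    obtain ⟨w', hw'⟩ := hw.exists_right_inv
    have := J.mul_mem_right w' h1
    rwa [mul_assoc, hw', mul_one] at this
  -- reduction to the two leading monomials
  have hred : ∀ f : R, (∀ i < a, cx i f = 0) → (∀ j < b, cy j f = 0) →
      ∃ u v w : R, f - cx a f • x ^ a - cy b f • y ^ b = x * y * u + x ^ (a + 1) * v + y ^ (b + 1) * w := by
    intro f hfx hfy
    refine mem_span_of_low _ (fun i hi => ?_) fun j hj => ?_
    · rw [map_sub, map_sub, map_smul, map_smul, cx_X_pow, cx_X_pow' hb]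
      rcases Nat.lt_succ_iff_lt_or_eq.1 hi with h | rfl
      · simp [hfx i h, h.ne]
      · simp
    · rw [map_sub, map_sub, map_smul, map_smul, cy_X_pow, cy_X_pow' ha]
      rcases Nat.lt_succ_iff_lt_or_eq.1 hj with h | rfl
      · simp [hfy j h, h.ne]
      · simp
  have hmemJ : ∀ f : R, (∀ i < a, cx i f = 0) → (∀ j < b, cy j f = 0) →
      f - cx a f • x ^ a - cy b f • y ^ b ∈ J := fun f hfx hfy => by
    obtain ⟨u, v, w, h⟩ := hred f hfx hfy
    rw [h]
    exact J.add_mem (J.add_mem (J.mul_mem_right _ hxy) (J.mul_mem_right _ hhighx)) (J.mul_mem_right _ hhighy)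
  refine ⟨a, b, ha, hb, ?_⟩
  by_cases hyb : y ^ b ∈ J
  · left
    have hxa : x ^ a ∈ J := by
      have h1 : cx a f₀ • x ^ a ∈ J := by
        have := J.sub_mem (J.sub_mem hf₀ (hmemJ f₀ (hlx f₀ hf₀) (hly f₀ hf₀))) (hsmul (cy b f₀) hyb)
        simpa [sub_sub_cancel, sub_sub] using this
      have := hsmul (cx a f₀)⁻¹ h1
      rwa [smul_smul, inv_mul_cancel₀ hf₀a, one_smul] at this
    have hker : ∀ f, lowMap a b f = 0 ↔ f ∈ J := fun f => by
      rw [lowMap_eq_zero ha]
      refine ⟨fun ⟨h1, h2'⟩ => ?_, fun hf => ⟨hlx f hf, hly f hf⟩⟩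
      have := J.add_mem (J.add_mem (hmemJ f h1 h2') (hsmul (cy b f) hyb)) (hsmul (cx a f) hxa)
      simpa using this
    constructor
    · have := finrank_quot_eq (J := J) _ (lowMap_surjective a b) hker
      rw [hn, Module.finrank_fintype_fun_eq_card, Fintype.card_coe, card_lowExp] at this
      omega
    · refine le_antisymm (fun f hf => ?_) (Ideal.span_le.2 ?_)
      · obtain ⟨u, v, w, h⟩ := mem_span_of_low f (hlx f hf) (hly f hf)
        rw [h]
        exact Ideal.add_mem _ (Ideal.add_mem _ (Ideal.mul_mem_right _ _ (Ideal.subset_span (by simp)))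
          (Ideal.mul_mem_right _ _ (Ideal.subset_span (by simp)))) (Ideal.mul_mem_right _ _ (Ideal.subset_span (by simp)))
      · intro z hz
        rcases hz with rfl | rfl | rfl
        exacts [hxy, hxa, hyb]
  · right
    let α := cy b f₀ / cx a f₀
    have hlead : ∀ f ∈ J, cy b f = α * cx a f := fun f hf => by
      by_contra hne
      let g := f - (cx a f / cx a f₀) • f₀
      have hg : g ∈ J := J.sub_mem hf (hsmul _ hf₀)
      have h1 := J.sub_mem hg (hmemJ g (hlx g hg) (hly g hg))
      have hga : cx a g = 0 := by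
        simp only [g, map_sub, map_smul, smul_eq_mul]
        field_simp
        ring
      have hgb : cy b g ≠ 0 := by
        simp only [g, map_sub, map_smul, smul_eq_mul]
        intro h
        apply hne
        simp only [α]
        rw [sub_eq_zero.1 h]
        ring
      rw [hga, zero_smul, sub_zero] at h1
      apply hyb
      have := hsmul (cy b g)⁻¹ h1
      simpa [smul_smul, inv_mul_cancel₀ hgb] using this
    have hgen : x ^ a + MvPowerSeries.C α * y ^ b ∈ J := by
      have h1 := J.sub_mem hf₀ (hmemJ f₀ (hlx f₀ hf₀) (hly f₀ hf₀))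
      have h2' := hsmul (cx a f₀)⁻¹ h1
      rw [hlead f₀ hf₀] at h2'
      convert h2' using 1
      rw [← MvPowerSeries.smul_eq_C_mul]
      simp only [sub_sub_cancel, sub_sub, smul_add, smul_smul]
      rw [inv_mul_cancel₀ hf₀a, one_smul, mul_comm α, ← mul_assoc, inv_mul_cancel₀ hf₀a, one_mul]
    have hα : α ≠ 0 := fun h => by
      apply hyb
      have h1 := J.sub_mem hg₀ (hmemJ g₀ (hlx g₀ hg₀) (hly g₀ hg₀))
      rw [h, map_zero, zero_mul, add_zero] at hgen
      have := J.sub_mem h1 (hsmul (cx a g₀) hgen)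
      have h3 := hsmul (cy b g₀)⁻¹ (show cy b g₀ • y ^ b ∈ J by simpa [sub_sub_cancel, sub_sub] using this)
      rwa [smul_smul, inv_mul_cancel₀ hg₀b, one_smul] at h3
    let lam : R →ₗ[k] k := cy b - α • cx a
    have hker : ∀ f, (lowMap a b).prod lam f = 0 ↔ f ∈ J := fun f => by
      rw [LinearMap.prod_apply, Function.prod_apply, Prod.mk_eq_zero, lowMap_eq_zero ha]
      refine ⟨fun ⟨⟨h1, h2'⟩, h3⟩ => ?_, fun hf => ⟨⟨hlx f hf, hly f hf⟩, by simp [lam, hlead f hf]⟩⟩
      have h4 : cy b f = α * cx a f := by simpa [lam, sub_eq_zero] using h3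
      have := J.add_mem (hmemJ f h1 h2') (hsmul (cx a f) hgen)
      rw [h4, ← MvPowerSeries.smul_eq_C_mul, smul_add, smul_smul, mul_comm (cx a f) α] at this
      simpa [sub_sub] using this
    have hsurj : Function.Surjective ((lowMap a b).prod lam) := fun ⟨v, c⟩ => by
      obtain ⟨f, hf⟩ := lowMap_surjective a b v
      refine ⟨f + (c - lam f) • y ^ b, Prod.ext ?_ ?_⟩
      · change lowMap a b (f + (c - lam f) • y ^ b) = v
        rw [map_add, map_smul, (lowMap_eq_zero ha (y ^ b)).2 ⟨fun i _ => cx_X_pow' hb i,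
          fun j hj => by simp [cy_X_pow, hj.ne]⟩, smul_zero, add_zero, hf]
      · change lam (f + (c - lam f) • y ^ b) = c
        have : lam (y ^ b) = 1 := by simp [lam, cy_X_pow, cx_X_pow' hb]
        rw [map_add, map_smul, this, smul_eq_mul, mul_one]
        ring
    refine ⟨?_, α, hα, le_antisymm (fun f hf => ?_) (Ideal.span_le.2 ?_)⟩
    · have := finrank_quot_eq (J := J) _ hsurj hker
      rw [hn, Module.finrank_prod, Module.finrank_self, Module.finrank_fintype_fun_eq_card, Fintype.card_coe,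
        card_lowExp] at this
      omega
    · obtain ⟨u, v, w, h⟩ := hred f (hlx f hf) (hly f hf)
      rw [hlead f hf] at h
      set I := Ideal.span {x * y, x ^ a + MvPowerSeries.C α * y ^ b}
      have hI1 : x * y ∈ I := Ideal.subset_span (by simp)
      have hI2 : x ^ a + MvPowerSeries.C α * y ^ b ∈ I := Ideal.subset_span (by simp)
      have hIx : x ^ (a + 1) ∈ I := by
        obtain ⟨b', hb'⟩ := Nat.exists_eq_add_of_le hb
        rw [show x ^ (a + 1) = x * (x ^ a + MvPowerSeries.C α * y ^ b) -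
          (x * y) * (MvPowerSeries.C α * y ^ b') by rw [hb', pow_succ', pow_add, pow_one]; ring]
        exact I.sub_mem (I.mul_mem_left _ hI2) (I.mul_mem_right _ hI1)
      have hIy : y ^ (b + 1) ∈ I := by
        obtain ⟨a', ha'⟩ := Nat.exists_eq_add_of_le ha
        have h1 : MvPowerSeries.C α * y ^ (b + 1) ∈ I := by
          rw [show MvPowerSeries.C α * y ^ (b + 1) = y * (x ^ a + MvPowerSeries.C α * y ^ b) - (x * y) * x ^ a' by
            rw [ha', pow_succ', pow_add, pow_one]; ring]
          exact I.sub_mem (I.mul_mem_left _ hI2) (I.mul_mem_right _ hI1)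
        have := I.mul_mem_left (MvPowerSeries.C α⁻¹) h1
        rwa [← mul_assoc, ← map_mul, inv_mul_cancel₀ hα, map_one, one_mul] at this
      have hf' : f = cx a f • (x ^ a + MvPowerSeries.C α * y ^ b) +
          (x * y * u + x ^ (a + 1) * v + y ^ (b + 1) * w) := by
        rw [← h, ← MvPowerSeries.smul_eq_C_mul, smul_add, smul_smul, mul_comm (cx a f) α]
        abel
      rw [hf', MvPowerSeries.smul_eq_C_mul]
      exact I.add_mem (I.mul_mem_left _ hI2) (I.add_mem (I.add_mem (I.mul_mem_right _ hI1) (I.mul_mem_right _ hIx))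
        (I.mul_mem_right _ hIy))
    · intro z hz
      rcases hz with rfl | rfl
      exacts [hxy, hgen]

end BlowRegLib.Node
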