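import Groth.Agent.NormSectGlobLib.Basic
import Groth.Agent.NormalExtLib.Scheme
import Mathlib.AlgebraicGeometry.Morphisms.Proper

/-!
# Normality descends along morphisms with `O_X = f_* O`
-/

set_option autoImplicit false
set_option linter.style.haveILetI false
universe u

open CategoryTheory AlgebraicGeometry TopologicalSpace Opposite

noncomputable section

namespace BlowRegLib

theorem isNormal_of_openImm {X Y : Scheme.{u}} (j : X ⟶ Y) [IsOpenImmersion j] (h : Pi1.IsNormalScheme Y) :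
    Pi1.IsNormalScheme X := fun x => by
  let e := (asIso (j.stalkMap x)).commRingCatIsoToRingEquiv
  haveI := (h (j x)).1
  haveI := (h (j x)).2
  exact ⟨e.symm.toMulEquiv.isDomain (Y.presheaf.stalk (j x)), IsIntegrallyClosed.of_equiv e⟩

theorem isNormal_of_sections {X Xt : Scheme.{u}} [IsLocallyNoetherian Xt] (f : Xt ⟶ X)
    (hfib : ∀ V : X.Opens, IsIso (f.app V)) (hXt : Pi1.IsNormalScheme Xt) : Pi1.IsNormalScheme X := fun x => by
  obtain ⟨V, hV, hxV, -⟩ := exists_isAffineOpen_mem_and_subset (x := x) (U := ⊤) trivial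
  let W : Scheme.{u} := (f ⁻¹ᵁ V : Xt.Opens)
  have hW : Pi1.IsNormalScheme W := isNormal_of_openImm (f ⁻¹ᵁ V).ι hXt
  have hloc : ∀ w : W, ∃ O : W.Opens, w ∈ O ∧ IsIntegral (O : Scheme.{u}) := fun w => by
    haveI := (hW w).1
    exact NormalExtLib.exists_isIntegral_nhd w
  haveI := hfib V
  let φ : Γ(X, V) ⟶ Γ(W, ⊤) := f.app V ≫ (f ⁻¹ᵁ V).topIso.inv
  haveI : IsIso φ := inferInstance
  let j : Spec Γ(W, ⊤) ⟶ X := Spec.map φ ≫ hV.fromSpec
  haveI : IsOpenImmersion j := inferInstance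
  obtain ⟨y, hy⟩ : x ∈ Set.range j := by
    have h1 : x ∈ Set.range hV.fromSpec := by rw [hV.range_fromSpec]; exact hxV
    obtain ⟨q, hq⟩ := h1
    obtain ⟨y, rfl⟩ := (Spec.map φ).surjective q
    exact ⟨y, hq⟩
  subst hy
  let e := (asIso (j.stalkMap y)).commRingCatIsoToRingEquiv
  obtain ⟨hd, hc⟩ := NormSectGlobLib.isNormalScheme_spec_sections hW hloc y
  haveI := hd
  haveI := hc
  exact ⟨e.toMulEquiv.isDomain ((Spec Γ(W, ⊤)).presheaf.stalk y), IsIntegrallyClosed.of_equiv e.symm⟩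

end BlowRegLib
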