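import Groth.Agent.PushNormalLib.Main
import Groth.Agent.SteinLib.App
import Groth.Agent.MiscFlat6.ProperSections
import Groth.Agent.DvrProperLib.GeomConnApps
import Groth.Agent.S7803
import Groth.Agent.S5735
import Groth.Agent.BranchLib.One
import Mathlib.AlgebraicGeometry.Morphisms.Preimmersion
import Mathlib.AlgebraicGeometry.Morphisms.Flat
import Mathlib.AlgebraicGeometry.Stalk

/-!
# Direct image of the structure sheaf near a normal point
-/

set_option autoImplicit false
set_option backward.isDefEq.respectTransparency false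
set_option backward.isDefEq.respectTransparency.types false
universe u

open CategoryTheory CategoryTheory.Limits AlgebraicGeometry TopologicalSpace Opposite

noncomputable section

namespace BlowRegLib

variable {X Y : Scheme.{u}}

theorem isIso_stalkMap_of_flat_preimmersion (p : X ⟶ Y) [IsPreimmersion p] [Flat p] (x : X) :
    IsIso (p.stalkMap x) := by
  rw [ConcreteCategory.isIso_iff_bijective]
  refine ⟨?_, p.stalkMap_surjective x⟩
  letI := (p.stalkMap x).hom.toAlgebra
  haveI : IsLocalHom (algebraMap (Y.presheaf.stalk (p x)) (X.presheaf.stalk x)) :=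
    inferInstanceAs (IsLocalHom (p.stalkMap x).hom)
  haveI : Module.Flat (Y.presheaf.stalk (p x)) (X.presheaf.stalk x) := Flat.stalkMap p x
  haveI := Module.FaithfullyFlat.of_flat_of_isLocalHom (A := Y.presheaf.stalk (p x)) (B := X.presheaf.stalk x)
  exact RingHom.FaithfullyFlat.injective
    (RingHom.faithfullyFlat_algebraMap_iff.mpr (inferInstanceAs
      (Module.FaithfullyFlat (Y.presheaf.stalk (p x)) (X.presheaf.stalk x))))

theorem isIntegral_of_flat_preimmersion [IsIntegral X] {Z : Scheme.{u}} (p : Z ⟶ X) [IsPreimmersion p] [Flat p]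
    (h : genericPoint X ∈ Set.range p) : IsIntegral Z := by
  haveI : ∀ z : Z, _root_.IsReduced (Z.presheaf.stalk z) := fun z => by
    haveI := isIso_stalkMap_of_flat_preimmersion p z
    exact isReduced_of_injective (inv (p.stalkMap z)).hom (ConcreteCategory.bijective_of_isIso _).1
  haveI : AlgebraicGeometry.IsReduced Z := isReduced_of_isReduced_stalk Z
  obtain ⟨z₀, hz⟩ := h
  haveI : IrreducibleSpace Z := by
    have hd : closure ({z₀} : Set Z) = Set.univ := Set.eq_univ_of_forall fun z => by
      rw [← specializes_iff_mem_closure, ← p.isEmbedding.isInducing.specializes_iff, hz]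
      exact genericPoint_specializes _
    rw [irreducibleSpace_def, show (⊤ : Set Z) = closure ({z₀} : Set Z) from hd.symm]
    exact isIrreducible_singleton.closure
  exact isIntegral_of_irreducibleSpace_of_isReduced Z

variable [IsIntegral X] [IsIntegral Y] (f : X ⟶ Y) [IsProper f]
  (hdom : f.base (genericPoint X) ⤳ genericPoint Y)

include hdom in
/-- Fibres over normal points are geometrically connected. -/
theorem geometricallyConnected_fiber_of_normal_point
    (hgc : GeometricallyConnected (f.fiberToSpecResidueField (genericPoint Y)))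
    (y : Y) (hy : IsIntegrallyClosed (Y.presheaf.stalk y)) :
    GeometricallyConnected (f.fiberToSpecResidueField y) := by
  have hη : f (genericPoint X) = genericPoint Y :=
    (hdom.antisymm (genericPoint_specializes _)).eq
  let ι := Y.fromSpecStalk y
  let p := pullback.fst f ι
  let q := pullback.snd f ι
  have hηr : genericPoint Y ∈ Set.range ι := by
    rw [Scheme.range_fromSpecStalk]
    exact genericPoint_specializes y
  haveI : IsPreimmersion p := MorphismProperty.pullback_fst (P := @IsPreimmersion) f ι inferInstance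
  haveI : Flat ι := by
    obtain ⟨W, hW, hyW, -⟩ := exists_isAffineOpen_mem_and_subset (X := Y) (x := y) (U := ⊤) trivial
    letI : Algebra Γ(Y, W) (Y.presheaf.stalk y) := TopCat.Presheaf.algebra_section_stalk Y.presheaf ⟨y, hyW⟩
    haveI : IsLocalization.AtPrime (Y.presheaf.stalk y) (hW.primeIdealOf ⟨y, hyW⟩).asIdeal :=
      hW.isLocalization_stalk ⟨y, hyW⟩
    haveI : Flat hW.fromSpec := inferInstance
    show Flat (Y.fromSpecStalk y)
    rw [← hW.fromSpecStalk_eq_fromSpecStalk hyW, IsAffineOpen.fromSpecStalk]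
    haveI : Flat (Spec.map (Y.presheaf.germ W y hyW)) := (HasRingHomProperty.Spec_iff (P := @Flat)).2
      (show RingHom.Flat (Y.presheaf.germ W y hyW).hom from
        IsLocalization.flat (Y.presheaf.stalk y) (hW.primeIdealOf ⟨y, hyW⟩).asIdeal.primeCompl)
    infer_instance
  haveI : Flat p := MorphismProperty.pullback_fst (P := @Flat) f ι inferInstance
  haveI : IsIntegral (pullback f ι) := isIntegral_of_flat_preimmersion p (by
    rw [Scheme.Pullback.range_fst, Set.mem_preimage, hη]
    exact hηr)
  haveI : IsDomain (Y.presheaf.stalk y) := inferInstance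
  haveI : IsProper q := MorphismProperty.pullback_snd (P := @IsProper) f ι inferInstance
  obtain ⟨t, ht⟩ := hηr
  have hgen : genericPoint ↥(Spec (Y.presheaf.stalk y)) = t := by
    refine ((ι.isEmbedding.isInducing.specializes_iff).1 ?_).antisymm (genericPoint_specializes t) |>.eq.symm
    rw [ht]
    exact genericPoint_specializes _
  haveI : IsDominant q := ⟨by
    have hsp : q (genericPoint ↥(pullback f ι)) ⤳ t := by
      obtain ⟨z, hz1, hz2⟩ := Scheme.Pullback.exists_preimage_pullback (f := f) (g := ι) (genericPoint X) t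
        (hη.trans ht.symm)
      rw [← hz2]
      exact (genericPoint_specializes z).map q.continuous
    rw [DenseRange, dense_iff_closure_eq, Set.eq_univ_iff_forall]
    intro w
    refine closure_mono (Set.singleton_subset_iff.2 (Set.mem_range_self (genericPoint ↥(pullback f ι)))) ?_
    exact ((hgen ▸ genericPoint_specializes w : t ⤳ w) |> hsp.trans).mem_closure⟩
  have hS : ∀ s : ↥(Spec (Y.presheaf.stalk y)), CAlg2.IsGeomUnibranch ((Spec (Y.presheaf.stalk y)).presheaf.stalk s) := by
    rintro (s : PrimeSpectrum (Y.presheaf.stalk y))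
    haveI : IsLocalRing ((Spec.structureSheaf (Y.presheaf.stalk y)).presheaf.stalk s) :=
      IsLocalization.AtPrime.isLocalRing _ s.asIdeal
    change CAlg2.IsGeomUnibranch ((Spec.structureSheaf (Y.presheaf.stalk y)).presheaf.stalk s)
    haveI : IsDomain ((Spec.structureSheaf (Y.presheaf.stalk y)).presheaf.stalk s) :=
      IsLocalization.isDomain_of_le_nonZeroDivisors _ (s.asIdeal.primeCompl_le_nonZeroDivisors)
    haveI := hy
    haveI : IsIntegrallyClosed ((Spec.structureSheaf (Y.presheaf.stalk y)).presheaf.stalk s) :=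
      isIntegrallyClosed_of_isLocalization _ s.asIdeal.primeCompl s.asIdeal.primeCompl_le_nonZeroDivisors
    exact BranchLib.isGeomUnibranch_of_isIntegrallyClosed _
  have hq : GeometricallyConnected (q.fiberToSpecResidueField (genericPoint ↥(Spec (Y.presheaf.stalk y)))) :=
    DvrProperLib.geometricallyConnected_fiber q _ fun K _ z hz => by
      haveI : ConnectedSpace ↥(pullback f (z ≫ ι)) :=
        DvrProperLib.connectedSpace_pullback_of_fiber f K (z ≫ ι) (by
          have : (z ≫ ι) (IsLocalRing.closedPoint K) = genericPoint Y := by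
            show ι (z _) = _
            rw [hz, hgen, ht]
          rw [this]; exact hgc)
      exact (pullbackLeftPullbackSndIso f ι z).inv.surjective.connectedSpace
        (pullbackLeftPullbackSndIso f ι z).inv.continuous
  haveI := Groth.Agent.S7803.result q hS hq
  refine DvrProperLib.geometricallyConnected_fiber f y fun K _ z hz => ?_
  obtain ⟨z', hz'⟩ : ∃ z' : Spec (CommRingCat.of K) ⟶ Spec (Y.presheaf.stalk y), z' ≫ ι = z := by
    subst hz
    exact ⟨Spec.map (Scheme.stalkClosedPointTo z), Scheme.Spec_stalkClosedPointTo_fromSpecStalk z⟩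
  haveI : ConnectedSpace ↥(pullback q z') :=
    GeometricallyConnected.geometrically_connectedSpace (f := q) _ _ _ (IsPullback.of_hasPullback q z')
  subst hz'
  exact (pullbackLeftPullbackSndIso f ι z').hom.surjective.connectedSpace
    (pullbackLeftPullbackSndIso f ι z').hom.continuous

include hdom in
/-- The structure sheaf is pushed forward to itself near normal points. -/
theorem exists_nhd_isIso_app_of_normal_point [IsLocallyNoetherian Y]
    (halg : ∀ x : X.functionField, (CohIII.stalkToFunctionField f (genericPoint Y) hdom).IsIntegralElem x →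
      x ∈ Set.range (CohIII.stalkToFunctionField f (genericPoint Y) hdom))
    (y : Y) (hy : IsIntegrallyClosed (Y.presheaf.stalk y)) :
    ∃ U : Y.Opens, y ∈ U ∧ ∀ V : Y.Opens, V ≤ U → IsIso (f.app V) := by
  classical
  obtain ⟨W, hW, hyW, -⟩ := exists_isAffineOpen_mem_and_subset (X := Y) (x := y) (U := ⊤) trivial
  haveI : Nonempty W := ⟨⟨y, hyW⟩⟩
  haveI : IsAffine W.toScheme := hW
  have hηW : genericPoint Y ∈ W := PushNormalLib.mem_of_nonempty
  haveI := hy
  haveI : IsNoetherianRing Γ(Y, W) := IsLocallyNoetherian.component_noetherian ⟨W, hW⟩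
  letI := (f.app W).hom.toAlgebra
  have hint : ∀ s : Γ(X, f ⁻¹ᵁ W), IsIntegral Γ(Y, W) s := PushNormalLib.isIntegralElem_app f hW
  haveI : Module.Finite Γ(Y, W) Γ(X, f ⁻¹ᵁ W) := by
    haveI : IsNoetherianRing Γ(W.toScheme, ⊤) :=
      isNoetherianRing_of_ringEquiv _ W.topIso.commRingCatIsoToRingEquiv.symm
    let q := (f ∣_ W) ≫ W.toScheme.isoSpec.hom
    haveI : IsNoetherianRing (CommRingCat.of Γ(W.toScheme, ⊤)) := ‹_›
    have h : q.appTop.hom.Finite :=
      RingHom.Finite.of_comp_finite (f := (Scheme.ΓSpecIso Γ(W.toScheme, ⊤)).inv.hom)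
        (show (q.appTop.hom.comp (Scheme.ΓSpecIso Γ(W.toScheme, ⊤)).inv.hom).Finite from
          MiscFlat6.toGlobal_finite (A := Γ(W.toScheme, ⊤)) q)
    have h' : (f ∣_ W).appTop.hom.Finite := by
      have : q.appTop.hom = (f ∣_ W).appTop.hom.comp W.toScheme.isoSpec.hom.appTop.hom := rfl
      rw [this] at h
      exact RingHom.Finite.of_comp_finite h
    have e : f.app W = Y.presheaf.map (eqToHom (W.ι_image_top)).op ≫ (f ∣_ W).appTop ≫
        X.presheaf.map (eqToHom (show f ⁻¹ᵁ W = (f ⁻¹ᵁ W).ι ''ᵁ ⊤ from (f ⁻¹ᵁ W).ι_image_top.symm)).op := by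
      rw [morphismRestrict_appTop, f.app_eq_appLE, f.app_eq_appLE]
      erw [Category.assoc, ← X.presheaf.map_comp]
      rw [← Category.assoc, Scheme.Hom.map_appLE, Scheme.Hom.appLE_map]
    have h1 : (f.app W).hom.Finite := by
      rw [e, CommRingCat.hom_comp, CommRingCat.hom_comp]
      exact ((RingHom.Finite.of_surjective _ (ConcreteCategory.bijective_of_isIso _).2).comp h').comp
        (RingHom.Finite.of_surjective _ (ConcreteCategory.bijective_of_isIso _).2)
    exact h1
  obtain ⟨S, hS⟩ := Module.Finite.fg_top (R := Γ(Y, W)) (M := Γ(X, f ⁻¹ᵁ W))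
  let ι := CohIII.stalkToFunctionField f (genericPoint Y) hdom
  have hloc : ∀ s : Γ(X, f ⁻¹ᵁ W), ∃ V : Y.Opens, y ∈ V ∧ ∃ (hV : V ≤ W) (a : Γ(Y, V)),
      (f.app V).hom a = X.presheaf.map (homOfLE (f.preimage_mono hV)).op s := by
    intro s
    have hξ := PushNormalLib.gen_mem f hdom hηW
    obtain ⟨p, hp, hps⟩ := hint s
    let gY : Γ(Y, W) →+* Y.functionField := (Y.presheaf.germ W _ hηW).hom
    let gX : Γ(X, f ⁻¹ᵁ W) →+* X.functionField := (X.presheaf.germ (f ⁻¹ᵁ W) _ hξ).hom
    have h0 : Polynomial.eval₂ (gX.comp (f.app W).hom) (gX s) p = 0 := by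
      rw [← Polynomial.hom_eval₂]
      exact (congrArg gX hps).trans (map_zero _)
    have hc : gX.comp (f.app W).hom = ι.comp gY :=
      RingHom.ext fun a => (PushNormalLib.stalkToFF_germ f hdom hηW a).symm
    rw [hc] at h0
    obtain ⟨c, hc'⟩ := halg (gX s) ⟨p.map gY, hp.map gY, by rw [Polynomial.eval₂_map]; exact h0⟩
    rw [← hc', ← Polynomial.hom_eval₂] at h0
    have h1 : Polynomial.eval₂ gY c p = 0 := ι.injective (h0.trans (map_zero ι).symm)
    have hg : gY = (algebraMap (Y.presheaf.stalk y) Y.functionField).comp (Y.presheaf.germ W y hyW).hom :=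
      RingHom.ext fun a => (CDivCoreLib.algebraMap_germ hyW hηW a).symm
    rw [hg, ← Polynomial.eval₂_map] at h1
    obtain ⟨d, hd⟩ := IsIntegrallyClosed.isIntegral_iff.1
      (show IsIntegral (Y.presheaf.stalk y) c from ⟨p.map _, hp.map _, h1⟩)
    obtain ⟨V₀, hyV, a, rfl⟩ := Y.presheaf.exists_germ_eq d
    have hηV : genericPoint Y ∈ V₀ ⊓ W := ⟨(genericPoint_specializes y).mem_open V₀.2 hyV, hηW⟩
    refine ⟨V₀ ⊓ W, ⟨hyV, hyW⟩, inf_le_right, Y.presheaf.map (homOfLE inf_le_left).op a,
      germ_injective_of_isIntegral _ (genericPoint X) (PushNormalLib.gen_mem f hdom hηV) ?_⟩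
    rw [← PushNormalLib.stalkToFF_germ f hdom hηV, TopCat.Presheaf.germ_res_apply,
      TopCat.Presheaf.germ_res_apply, ← CDivCoreLib.algebraMap_germ hyV hηV.1, hd]
    exact hc'
  choose V hyV hVW a ha using hloc
  obtain ⟨b, hbV, hyb⟩ := hW.exists_basicOpen_le (V := S.inf V ⊓ W)
    ⟨y, by
      refine ⟨?_, hyW⟩
      suffices ∀ T : Finset Γ(X, f ⁻¹ᵁ W), y ∈ T.inf V from this S
      intro T
      induction T using Finset.induction with
      | empty => simp
      | insert s t _ ih => rw [Finset.inf_insert]; exact ⟨hyV s, ih⟩⟩ hyW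
  let U := Y.basicOpen b
  have hUW : U ≤ W := Y.basicOpen_le b
  haveI : Nonempty U := ⟨⟨y, hyb⟩⟩
  have hU : IsAffineOpen U := hW.basicOpen b
  have hbij : Function.Bijective (f.app U) := by
    refine ⟨PushNormalLib.app_injective f hdom U PushNormalLib.mem_of_nonempty, ?_⟩
    have hqc : IsCompact ((f ⁻¹ᵁ W : X.Opens) : Set X) :=
      QuasiCompact.isCompact_preimage _ W.2 hW.isCompact
    have hqs : IsQuasiSeparated ((f ⁻¹ᵁ W : X.Opens) : Set X) :=
      f.isQuasiSeparated_preimage hW.isQuasiSeparated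
    have hL := isLocalization_basicOpen_of_qcqs hqc hqs (f.app W b)
    let rS : Γ(X, f ⁻¹ᵁ W) →+* Γ(X, f ⁻¹ᵁ U) := (X.presheaf.map (homOfLE (f.preimage_mono hUW)).op).hom
    let rY : Γ(Y, W) →+* Γ(Y, U) := (Y.presheaf.map (homOfLE hUW).op).hom
    have hnat : ∀ r, rS (f.app W r) = f.app U (rY r) := fun r => (congr($(f.naturality (homOfLE hUW).op) r)).symm
    have himg : ∀ s : Γ(X, f ⁻¹ᵁ W), rS s ∈ (f.app U).hom.range := by
      intro s
      have hs : s ∈ Submodule.span Γ(Y, W) (S : Set Γ(X, f ⁻¹ᵁ W)) := hS ▸ trivial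
      induction hs using Submodule.span_induction with
      | mem s hs =>
        have hle : U ≤ V s := (hbV.trans inf_le_left).trans (Finset.inf_le hs)
        refine ⟨Y.presheaf.map (homOfLE hle).op (a s), ?_⟩
        refine (congr($(f.naturality (homOfLE hle).op) (a s))).trans ?_
        refine (congrArg _ (ha s)).trans ?_
        show (X.presheaf.map _ ≫ X.presheaf.map _) s = rS s
        rw [← Functor.map_comp]
        rfl
      | zero => simp
      | add s t _ _ ih ih' => simpa using add_mem ih ih'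
      | smul r s _ ih =>
        rw [Algebra.smul_def, map_mul]
        exact mul_mem ⟨rY r, (hnat r).symm⟩ ih
    intro t
    have hpre : f ⁻¹ᵁ U = X.basicOpen (f.app W b) := Scheme.preimage_basicOpen f b
    obtain ⟨⟨s, ⟨_, n, rfl⟩⟩, hs⟩ :
        ∃ x : Γ(X, f ⁻¹ᵁ W) × Submonoid.powers (f.app W b), t * rS x.2.1 = rS x.1 := by
      let e := X.presheaf.map (eqToHom hpre.symm).op
      letI := (X.presheaf.map (homOfLE (X.basicOpen_le (f.app W b))).op).hom.toAlgebra
      haveI := hL
      obtain ⟨x, hx⟩ := IsLocalization.surj (Submonoid.powers (f.app W b)) (e t)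
      refine ⟨x, ?_⟩
      apply (ConcreteCategory.bijective_of_isIso e).1
      rw [map_mul]
      have key : ∀ z, e (rS z) = X.presheaf.map (homOfLE (X.basicOpen_le (f.app W b))).op z := fun z => by
        show (X.presheaf.map _ ≫ X.presheaf.map _) z = _
        rw [← Functor.map_comp]
        rfl
      rw [key, key]
      exact hx
    obtain ⟨r, hr⟩ := himg s
    have hu : IsUnit (rY b) := RingedSpace.isUnit_res_basicOpen _ b
    refine ⟨r * ((hu.unit⁻¹ : _ˣ) : Γ(Y, U)) ^ n, ?_⟩
    rw [map_mul, map_pow, hr, ← hs, map_pow, hnat, mul_assoc, ← mul_pow, ← map_mul]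
    simp
  refine ⟨U, hyb, fun V' hV' => ?_⟩
  have h := SteinLib.isIso_app_of_cover (f ∣_ U) (fun _ : PUnit.{u + 1} => (⊤ : U.toScheme.Opens))
    (fun _ => haveI : IsAffine U.toScheme := hU; isAffineOpen_top U.toScheme) (fun _ => ⟨⟨⟩, trivial⟩) (fun _ => by
      haveI : IsIso (f.app U) := (ConcreteCategory.isIso_iff_bijective _).2 hbij
      rw [morphismRestrict_app]
      have e : U.ι ''ᵁ (⊤ : U.toScheme.Opens) = U := U.ι_image_top
      haveI : IsIso (f.app (U.ι ''ᵁ ⊤)) := by rw [e]; infer_instance
      infer_instance) (U.ι ⁻¹ᵁ V')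
  rw [morphismRestrict_app] at h
  have e : U.ι ''ᵁ (U.ι ⁻¹ᵁ V') = V' := by
    rw [Scheme.Hom.image_preimage_eq_opensRange_inf, Scheme.Opens.opensRange_ι, inf_eq_right.2 hV']
  haveI : IsIso (f.app (U.ι ''ᵁ (U.ι ⁻¹ᵁ V'))) := by
    exact IsIso.of_isIso_comp_right _ (X.presheaf.map (eqToHom (image_morphismRestrict_preimage f U (U.ι ⁻¹ᵁ V'))).op)
  exact e ▸ ‹IsIso (f.app (U.ι ''ᵁ (U.ι ⁻¹ᵁ V')))›

end BlowRegLib
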