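import Groth.Agent.BlowRegLib.ObsHull
import Mathlib.RingTheory.FiniteType
import Mathlib.AlgebraicGeometry.Morphisms.Smooth
import Mathlib.RingTheory.TensorProduct.MonoidAlgebra

/-!
# Finitely many invariant functions cut out the observable hull
-/

set_option autoImplicit false
set_option linter.style.haveILetI false
universe u

open CategoryTheory CategoryTheory.Limits MonoidalCategory CartesianMonoidalCategory MonObj AlgebraicGeometry
open TensorProduct

noncomputable section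

namespace BlowRegLib

attribute [-instance] CategoryTheory.Hom.commGroup

variable {k : Type u} [Field k] {G : Over (Spec (CommRingCat.of k))}

theorem ptMap_comp {B B' B'' : Type u} [CommRing B] [Algebra k B] [CommRing B'] [Algebra k B'] [CommRing B'']
    [Algebra k B''] (φ : B →ₐ[k] B') (ψ : B' →ₐ[k] B'') :
    VecGrp.ptMap ψ ≫ VecGrp.ptMap φ = VecGrp.ptMap (ψ.comp φ) := by
  refine Over.OverMorphism.ext ?_
  exact (Spec.map_comp (CommRingCat.ofHom φ.toRingHom) (CommRingCat.ofHom ψ.toRingHom)).symm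

theorem ptMap_id {B : Type u} [CommRing B] [Algebra k B] :
    VecGrp.ptMap (AlgHom.id k B) = 𝟙 (VecGrp.pt k B) :=
  Over.OverMorphism.ext (Spec.map_id (CommRingCat.of B))

theorem eq_ptMap_ofId {B : Type u} [CommRing B] [Algebra k B] (t : VecGrp.pt k B ⟶ VecGrp.pt k k) :
    t = VecGrp.ptMap (Algebra.ofId k B) := by
  refine Over.OverMorphism.ext ?_
  have h1 : t.left ≫ Spec.map (CommRingCat.ofHom (algebraMap k k)) =
      Spec.map (CommRingCat.ofHom (algebraMap k B)) := Over.w t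
  rw [show CommRingCat.ofHom (algebraMap k k) = 𝟙 (CommRingCat.of k) from rfl, Spec.map_id] at h1
  exact (Category.comp_id _).symm.trans h1

theorem evalPt_ptMap {B B' : Type u} [CommRing B] [Algebra k B] [CommRing B'] [Algebra k B'] (φ : B →ₐ[k] B')
    (x : VecGrp.pt k B ⟶ G) (f : Γ(G.left, ⊤)) : evalPt (VecGrp.ptMap φ ≫ x) f = φ (evalPt x f) := by
  change ((VecGrp.ptMap φ ≫ x).left.appTop ≫ (Scheme.ΓSpecIso (CommRingCat.of B')).hom) f =
    ((x.left.appTop ≫ (Scheme.ΓSpecIso (CommRingCat.of B)).hom) ≫ CommRingCat.ofHom φ.toRingHom) f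
  congr 2
  rw [Over.comp_left, Scheme.Hom.comp_appTop, Category.assoc, Category.assoc, VecGrp.ptMap_left]
  exact congrArg (fun q => x.left.appTop ≫ q)
    (Scheme.ΓSpecIso_naturality (CommRingCat.ofHom φ.toRingHom))

variable [IsAffine G.left] [GrpObj G]

attribute [local instance] algTop

/-- The first universal point of a pair. -/
abbrev fstPt : VecGrp.pt k (Γ(G.left, ⊤) ⊗[k] Γ(G.left, ⊤)) ⟶ G :=
  VecGrp.ptMap Algebra.TensorProduct.includeLeft ≫ univPt

/-- The second universal point of a pair. -/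
abbrev sndPt : VecGrp.pt k (Γ(G.left, ⊤) ⊗[k] Γ(G.left, ⊤)) ⟶ G :=
  VecGrp.ptMap Algebra.TensorProduct.includeRight ≫ univPt

/-- The translation defect of a function. -/
def defect (f : Γ(G.left, ⊤)) : Γ(G.left, ⊤) ⊗[k] Γ(G.left, ⊤) :=
  evalPt (fstPt * sndPt) f - evalPt fstPt f

/-- Specialisation of the second variable at a rational point. -/
def specAt (g : VecGrp.pt k k ⟶ G) : Γ(G.left, ⊤) ⊗[k] Γ(G.left, ⊤) →ₐ[k] Γ(G.left, ⊤) :=
  Algebra.TensorProduct.lift (AlgHom.id k _) ((Algebra.ofId k Γ(G.left, ⊤)).comp (evalPt g))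
    (fun _ _ => Commute.all _ _)

theorem isRTransInv_iff (g : VecGrp.pt k k ⟶ G) (f : Γ(G.left, ⊤)) :
    AGF.IsRTransInv g f ↔ specAt g (defect f) = 0 := by
  haveI : IsAffine (VecGrp.pt k k).left := inferInstanceAs (IsAffine (Spec (CommRingCat.of k)))
  haveI : IsAffine (G ⊗ VecGrp.pt k k).left :=
    inferInstanceAs (IsAffine (pullback G.hom (VecGrp.pt k k).hom))
  have hmul : (G ◁ g) ≫ μ[G] = fst G (VecGrp.pt k k) * (snd G (VecGrp.pt k k) ≫ g) := by
    rw [Hom.mul_def]
    congr 1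
  let c : VecGrp.pt k Γ(G.left, ⊤) ⟶ VecGrp.pt k k := VecGrp.ptMap (Algebra.ofId k _)
  have h1 : VecGrp.ptMap (specAt g) ≫ fstPt = univPt := by
    rw [← Category.assoc, ptMap_comp]
    unfold specAt
    rw [Algebra.TensorProduct.lift_comp_includeLeft, ptMap_id, Category.id_comp]
  have h2 : VecGrp.ptMap (specAt g) ≫ sndPt = c ≫ g := by
    have hR : (specAt g).comp Algebra.TensorProduct.includeRight =
        (Algebra.ofId k Γ(G.left, ⊤)).comp (evalPt g) := AlgHom.ext fun a => by simp [specAt]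
    rw [← Category.assoc, ptMap_comp, hR, ← ptMap_comp, Category.assoc, ptMap_evalPt]
  have hkey : specAt g (defect f) =
      evalPt (univPt * (c ≫ g)) f - evalPt univPt f := by
    rw [defect, map_sub, ← evalPt_ptMap, ← evalPt_ptMap, MonObj.comp_mul, h1, h2]
  rw [hkey, sub_eq_zero]
  constructor
  · intro h
    let p : VecGrp.pt k Γ(G.left, ⊤) ⟶ G ⊗ VecGrp.pt k k := lift univPt c
    have h' := congrArg (fun z => (Scheme.ΓSpecIso (CommRingCat.of Γ(G.left, ⊤))).hom (p.left.appTop z)) h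
    have hL : evalPt (p ≫ (G ◁ g) ≫ μ[G]) f = evalPt (p ≫ fst G _) f := h'
    rwa [hmul, MonObj.comp_mul, ← Category.assoc, lift_snd, lift_fst] at hL
  · intro h
    refine eq_of_evalPt _ _ f fun B _ _ e => ?_
    have e2 : e ≫ snd G _ = VecGrp.ptMap (evalPt (e ≫ fst G _)) ≫ c := by
      rw [eq_ptMap_ofId (e ≫ snd G _), eq_ptMap_ofId (VecGrp.ptMap (evalPt (e ≫ fst G _)) ≫ c)]
    have e1 := ptMap_evalPt (e ≫ fst G (VecGrp.pt k k))
    have e3 : e ≫ ((G ◁ g) ≫ μ[G]) =
        VecGrp.ptMap (evalPt (e ≫ fst G _)) ≫ (univPt * (c ≫ g)) := by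
      rw [hmul, MonObj.comp_mul, MonObj.comp_mul, e1, ← Category.assoc e, e2, Category.assoc]
    rw [e3, evalPt_ptMap, h]
    exact (evalPt_ptMap _ _ f).symm.trans (by rw [e1])

theorem exists_finset (hG : LocallyOfFiniteType G.hom) (S : Set Γ(G.left, ⊤)) :
    ∃ s : Finset Γ(G.left, ⊤), (↑s : Set _) ⊆ S ∧
      ∀ g : VecGrp.pt k k ⟶ G, (∀ f ∈ s, AGF.IsRTransInv g f) → ∀ f ∈ S, AGF.IsRTransInv g f := by
  classical
  haveI : Algebra.FiniteType k Γ(G.left, ⊤) := by
    have h := HasRingHomProperty.appTop (P := @LocallyOfFiniteType) G.hom hG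
    exact h.comp (RingHom.FiniteType.of_surjective _
      (Scheme.ΓSpecIso (CommRingCat.of k)).commRingCatIsoToRingEquiv.symm.surjective)
  haveI : Algebra.FiniteType k (Γ(G.left, ⊤) ⊗[k] Γ(G.left, ⊤)) :=
    Algebra.FiniteType.trans (S := Γ(G.left, ⊤)) inferInstance inferInstance
  haveI : IsNoetherianRing (Γ(G.left, ⊤) ⊗[k] Γ(G.left, ⊤)) := Algebra.FiniteType.isNoetherianRing k _
  obtain ⟨T, hTS, hT⟩ := Submodule.fg_span_iff_fg_span_finset_subset (defect '' S)
    |>.1 ((isNoetherianRing_iff_ideal_fg _).1 inferInstance (Ideal.span (defect '' S)))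
  choose pre hpre hpre' using fun t : T => hTS t.2
  refine ⟨Finset.univ.image pre, ?_, fun g hg f hf => ?_⟩
  · intro f hf
    obtain ⟨t, -, rfl⟩ := Finset.mem_image.1 hf
    exact hpre t
  · rw [isRTransInv_iff]
    have h1 : Ideal.span (defect '' S) ≤ RingHom.ker (specAt g) := by
      rw [show Ideal.span (defect '' S) = Ideal.span (T : Set _) from hT, Ideal.span_le]
      intro t ht
      have := (isRTransInv_iff g _).1 (hg _ (Finset.mem_image.2 ⟨⟨t, ht⟩, Finset.mem_univ _, rfl⟩))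
      rw [hpre' ⟨t, ht⟩] at this
      exact this
    exact h1 (Ideal.subset_span ⟨f, hf, rfl⟩)

end BlowRegLib
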