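import Groth.Prelude.Def_W4bk4grossh111Obs
import Groth.Prelude.Def_W4bk4grossh1223Act
import Mathlib.AlgebraicGeometry.AffineScheme
import Mathlib.AlgebraicGeometry.Morphisms.ClosedImmersion
import Mathlib.LinearAlgebra.Dual.Lemmas

/-!
# Invariant vectors are fixed by the observable hull
-/

set_option autoImplicit false
set_option linter.style.haveILetI false
universe u

open CategoryTheory CategoryTheory.Limits MonoidalCategory CartesianMonoidalCategory MonObj AlgebraicGeometry
open TensorProduct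

noncomputable section

namespace BlowRegLib

attribute [-instance] CategoryTheory.Hom.commGroup

variable {k : Type u} [Field k] {G : Over (Spec (CommRingCat.of k))}

/-- The constants in the global functions. -/
@[reducible] def algTop (G : Over (Spec (CommRingCat.of k))) : Algebra k Γ(G.left, ⊤) :=
  (G.hom.appTop.hom.comp (Scheme.ΓSpecIso (CommRingCat.of k)).inv.hom).toAlgebra

/-- The value of a function at a point. -/
def evalPt {B : Type u} [CommRing B] [Algebra k B] (x : VecGrp.pt k B ⟶ G) :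
    letI := algTop G; Γ(G.left, ⊤) →ₐ[k] B :=
  letI := algTop G
  { toRingHom := (x.left.appTop ≫ (Scheme.ΓSpecIso (CommRingCat.of B)).hom).hom
    commutes' := fun c => by
      have h : G.hom.appTop ≫ x.left.appTop = (Spec.map (CommRingCat.ofHom (algebraMap k B))).appTop := by
        rw [← Scheme.Hom.comp_appTop, Over.w x]
        rfl
      have h2 : ((Scheme.ΓSpecIso (CommRingCat.of k)).inv ≫ G.hom.appTop ≫ x.left.appTop) ≫
          (Scheme.ΓSpecIso (CommRingCat.of B)).hom = CommRingCat.ofHom (algebraMap k B) := by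
        rw [h, Category.assoc, Scheme.ΓSpecIso_naturality, Iso.inv_hom_id_assoc]
      exact ConcreteCategory.congr_hom h2 c }

variable [IsAffine G.left]

/-- The universal point. -/
def univPt : letI := algTop G; VecGrp.pt k Γ(G.left, ⊤) ⟶ G :=
  letI := algTop G
  Over.homMk G.left.isoSpec.inv (by
    change G.left.isoSpec.inv ≫ G.hom = Spec.map _
    rw [← Scheme.isoSpec_inv_naturality, Scheme.isoSpec_Spec_inv, ← Spec.map_comp]
    rfl)

theorem ptMap_evalPt {B : Type u} [CommRing B] [Algebra k B] (x : VecGrp.pt k B ⟶ G) :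
    letI := algTop G; VecGrp.ptMap (evalPt x) ≫ univPt = x := by
  letI := algTop G
  refine Over.OverMorphism.ext ?_
  change Spec.map (x.left.appTop ≫ (Scheme.ΓSpecIso (CommRingCat.of B)).hom) ≫ G.left.isoSpec.inv = x.left
  haveI : IsAffine (VecGrp.pt k B).left := inferInstanceAs (IsAffine (Spec (CommRingCat.of B)))
  rw [Spec.map_comp, Category.assoc, Scheme.isoSpec_inv_naturality]
  change Spec.map (Scheme.ΓSpecIso (CommRingCat.of B)).hom ≫ (Spec (CommRingCat.of B)).isoSpec.inv ≫ x.left = x.left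
  rw [Scheme.isoSpec_Spec_inv, ← Category.assoc, ← Spec.map_comp, Iso.inv_hom_id, Spec.map_id]
  exact Category.id_comp _

variable [GrpObj G] {M : Type u} [AddCommGroup M] [Module k M]

/-- The coefficient function of a vector and a functional. -/
def coefFn (ρ : VecGrp.GMod G M) (a : M) (ℓ : M →ₗ[k] k) : Γ(G.left, ⊤) :=
  letI := algTop G
  TensorProduct.rid k Γ(G.left, ⊤)
    (ℓ.lTensor Γ(G.left, ⊤) (ρ.ρ Γ(G.left, ⊤) univPt ((1 : Γ(G.left, ⊤)) ⊗ₜ[k] a)))

theorem evalPt_coefFn (ρ : VecGrp.GMod G M) (a : M) (ℓ : M →ₗ[k] k) {B : Type u} [CommRing B] [Algebra k B]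
    (x : VecGrp.pt k B ⟶ G) :
    evalPt x (coefFn ρ a ℓ) = TensorProduct.rid k B (ℓ.lTensor B (ρ.ρ B x ((1 : B) ⊗ₜ[k] a))) := by
  letI := algTop G
  have key : ∀ z : Γ(G.left, ⊤) ⊗[k] M, evalPt x (TensorProduct.rid k _ (ℓ.lTensor _ z)) =
      TensorProduct.rid k B (ℓ.lTensor B (VecGrp.Wmap (evalPt x) z)) := fun z => by
    induction z with
    | zero => simp
    | add p q hp hq => simp only [map_add, hp, hq]
    | tmul c m => simp
  refine (key _).trans ?_
  rw [ρ.naturality (evalPt x) univPt, ptMap_evalPt, VecGrp.Wmap_tmul, map_one]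

omit [GrpObj G] in
/-- Functions on an affine scheme which agree at all points are equal. -/
theorem eq_of_evalPt {P : Over (Spec (CommRingCat.of k))} [IsAffine P.left] (φ ψ : P ⟶ G) (f : Γ(G.left, ⊤))
    (h : ∀ (B : Type u) [CommRing B] [Algebra k B] (e : VecGrp.pt k B ⟶ P),
      evalPt (e ≫ φ) f = evalPt (e ≫ ψ) f) : φ.left.appTop f = ψ.left.appTop f := by
  letI := algTop P
  have h1 := h Γ(P.left, ⊤) univPt
  haveI hiso : IsIso (univPt (G := P)).left := show IsIso P.left.isoSpec.inv from inferInstance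
  let χ : Γ(P.left, ⊤) ⟶ CommRingCat.of Γ(P.left, ⊤) :=
    (univPt (G := P)).left.appTop ≫ (Scheme.ΓSpecIso (CommRingCat.of Γ(P.left, ⊤))).hom
  haveI : IsIso (univPt (G := P)).left.appTop := inferInstanceAs (IsIso ((univPt (G := P)).left.app ⊤))
  haveI : IsIso χ := IsIso.comp_isIso' inferInstance inferInstance
  exact (ConcreteCategory.bijective_of_isIso χ).1 h1

theorem isRTransInv_coefFn {H : Over (Spec (CommRingCat.of k))} [GrpObj H] (i : H ⟶ G) [IsMonHom i]
    [IsClosedImmersion i.left] (ρ : VecGrp.GMod G M) {a : M} (ha : a ∈ ρ.fixedUnder i) (ℓ : M →ₗ[k] k) :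
    AGF.IsRTransInv i (coefFn ρ a ℓ) := by
  haveI : IsAffine H.left := isAffine_of_isAffineHom i.left
  haveI : IsAffine (G ⊗ H).left := inferInstanceAs (IsAffine (pullback G.hom H.hom))
  have hmul : (G ◁ i) ≫ μ[G] = fst G H * (snd G H ≫ i) := by
    rw [Hom.mul_def]
    congr 1
  refine eq_of_evalPt _ _ _ fun B _ _ e => ?_
  rw [evalPt_coefFn, evalPt_coefFn, hmul, MonObj.comp_mul, map_mul, LinearEquiv.mul_apply,
    ← Category.assoc, ha]

theorem fixed_of_isRTransInv {H : Over (Spec (CommRingCat.of k))} [GrpObj H] (i : H ⟶ G) [IsMonHom i]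
    [IsClosedImmersion i.left] (ρ : VecGrp.GMod G M) (g : VecGrp.pt k k ⟶ G)
    (hg : ∀ f : Γ(G.left, ⊤), AGF.IsRTransInv i f → AGF.IsRTransInv g f) {a : M} (ha : a ∈ ρ.fixedUnder i) :
    ρ.ρ k g ((1 : k) ⊗ₜ[k] a) = (1 : k) ⊗ₜ[k] a := by
  apply (TensorProduct.lid k M).injective
  rw [← sub_eq_zero]
  refine (Module.forall_dual_apply_eq_zero_iff k _).1 fun ℓ => ?_
  have h := hg _ (isRTransInv_coefFn i ρ ha ℓ)
  let p : VecGrp.pt k k ⟶ G ⊗ VecGrp.pt k k := lift 1 (𝟙 _)
  have h' := congrArg (fun f => (Scheme.ΓSpecIso (CommRingCat.of k)).hom (p.left.appTop f)) h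
  have hL : evalPt (p ≫ (G ◁ g) ≫ μ[G]) (coefFn ρ a ℓ) = evalPt (p ≫ fst G _) (coefFn ρ a ℓ) := h'
  have e1 : p ≫ (G ◁ g) ≫ μ[G] = g := by
    rw [lift_whiskerLeft_assoc, ← Hom.mul_def, _root_.one_mul, Category.id_comp]
  have e2 : p ≫ fst G (VecGrp.pt k k) = 1 := lift_fst _ _
  rw [e1, e2, evalPt_coefFn, evalPt_coefFn, map_one] at hL
  have key : ∀ z : k ⊗[k] M, TensorProduct.rid k k (ℓ.lTensor k z) = ℓ (TensorProduct.lid k M z) := fun z => by
    induction z with
    | zero => simp
    | add p q hp hq => simp only [map_add, hp, hq]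
    | tmul c m => simp [mul_comm]
  rw [key, key] at hL
  rw [map_sub]
  exact sub_eq_zero.2 hL

end BlowRegLib
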