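import Groth.Agent.HurwitzLib.OmegaLength
import Groth.Agent.HilbPtsLib.SmoothCurve
import Groth.Prelude.Def_CurvBase

/-!
# The differential of a uniformiser on a smooth curve
-/

set_option autoImplicit false
set_option linter.style.haveILetI false
universe u

open CategoryTheory CategoryTheory.Limits AlgebraicGeometry TopologicalSpace
open IsLocalRing KaehlerDifferential TensorProduct

noncomputable section

attribute [local instance] Curv2.resAlgebra Curv2.stalkAlgebra

namespace BlowRegLib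

variable {k : Type u} [Field k] {X : Scheme.{u}} [X.Over (Spec (CommRingCat.of k))]

theorem principal_stalk {x : X} {U : X.Opens} (hxU : x ∈ U)
    [SmoothOfRelativeDimension 1 (U.ι ≫ (X ↘ Spec (CommRingCat.of k)))] :
    IsPrincipalIdealRing (X.presheaf.stalk x) ∧ IsDomain (X.presheaf.stalk x) := by
  haveI := HilbPts.SC.isPID_stalk (U.ι ≫ (X ↘ Spec (CommRingCat.of k))) ⟨x, hxU⟩
  haveI := HilbPts.SC.isDomain_stalk (U.ι ≫ (X ↘ Spec (CommRingCat.of k))) ⟨x, hxU⟩
  let e := (U.stalkIso ⟨x, hxU⟩).commRingCatIsoToRingEquiv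
  exact ⟨IsPrincipalIdealRing.of_surjective e.toRingHom e.surjective, e.symm.toMulEquiv.isDomain _⟩

theorem exists_chart_one {x : X} {U : X.Opens} (hxU : x ∈ U)
    [SmoothOfRelativeDimension 1 (U.ι ≫ (X ↘ Spec (CommRingCat.of k)))] :
    ∃ (V : X.Opens) (_ : IsAffineOpen V) (_ : x ∈ V),
      RingHom.IsStandardSmoothOfRelativeDimension 1
        ((X ↘ Spec (CommRingCat.of k)).appLE ⊤ V (by simp)).hom := by
  obtain ⟨W, hW, V', hV', hxV, e, hstd⟩ :=
    SmoothOfRelativeDimension.exists_isStandardSmoothOfRelativeDimension (n := 1)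
      (f := U.ι ≫ (X ↘ Spec (CommRingCat.of k))) ⟨x, hxU⟩
  obtain rfl : W = ⊤ := eq_top_iff.mpr fun q _ =>
    (Subsingleton.elim (α := PrimeSpectrum k) _ q) ▸ e hxV
  refine ⟨U.ι ''ᵁ V', hV'.image_of_isOpenImmersion _, ⟨⟨x, hxU⟩, hxV, rfl⟩, ?_⟩
  rw [← Scheme.Hom.appLE_comp_appLE U.ι (X ↘ Spec (CommRingCat.of k)) ⊤ (U.ι ''ᵁ V') V'
    (by simp) (by simp), Scheme.Opens.ι_appLE] at hstd
  erw [Scheme.Hom.appLE_map] at hstd
  exact hstd

/-- `Ω` of the local ring is free on the differential of a uniformiser. -/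
theorem bijective_smul_D {x : X} {U : X.Opens} (hxU : x ∈ U)
    [SmoothOfRelativeDimension 1 (U.ι ≫ (X ↘ Spec (CommRingCat.of k)))]
    (hsep : Algebra.IsSeparable k (X.residueField x)) (s : X.presheaf.stalk x) (hs : Irreducible s) :
    Function.Bijective (fun a : X.presheaf.stalk x => a • D k (X.presheaf.stalk x) s) := by
  classical
  obtain ⟨hpid, hdom⟩ := principal_stalk (k := k) hxU
  have hm : maximalIdeal (X.presheaf.stalk x) = Ideal.span {s} :=
    (IsLocalRing.eq_maximalIdeal (PrincipalIdealRing.isMaximal_of_irreducible hs)).symm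
  obtain ⟨V, hV, hxV, hstd⟩ := exists_chart_one (k := k) hxU
  let σ := (Scheme.ΓSpecIso (CommRingCat.of k)).commRingCatIsoToRingEquiv
  let φ : k →+* Γ(X, V) :=
    ((X ↘ Spec (CommRingCat.of k)).appLE ⊤ V (by simp)).hom.comp σ.symm.toRingHom
  letI algkV : Algebra k Γ(X, V) := φ.toAlgebra
  haveI : Algebra.IsStandardSmoothOfRelativeDimension 1 k Γ(X, V) :=
    (RingHom.isStandardSmoothOfRelativeDimension_respectsIso (n := 1)).2 _ σ.symm hstd
  haveI : Algebra.IsStandardSmooth k Γ(X, V) :=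
    Algebra.IsStandardSmoothOfRelativeDimension.isStandardSmooth 1
  letI := X.presheaf.algebra_section_stalk (⟨x, hxV⟩ : V)
  haveI := hV.isLocalization_stalk ⟨x, hxV⟩
  haveI : IsScalarTower k Γ(X, V) (X.presheaf.stalk x) := IsScalarTower.of_algebraMap_eq fun c => by
    change X.presheaf.germ ⊤ x trivial _ =
      X.presheaf.germ V x hxV ((X ↘ Spec (CommRingCat.of k)).appLE ⊤ V _ _)
    change _ = X.presheaf.germ V x hxV
      (((X ↘ Spec (CommRingCat.of k)).app ⊤ ≫ X.presheaf.map (homOfLE le_top).op) _)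
    rw [CommRingCat.comp_apply]
    exact (TopCat.Presheaf.germ_res_apply X.presheaf (homOfLE le_top) x hxV _).symm
  haveI : Nontrivial Γ(X, V) := (algebraMap Γ(X, V) (X.presheaf.stalk x)).domain_nontrivial
  haveI : Algebra.FormallyEtale Γ(X, V) (X.presheaf.stalk x) :=
    Algebra.FormallyEtale.of_isLocalization (hV.primeIdealOf ⟨x, hxV⟩).asIdeal.primeCompl
  haveI : Algebra.EssFiniteType Γ(X, V) (X.presheaf.stalk x) :=
    Algebra.EssFiniteType.of_isLocalization _ (hV.primeIdealOf ⟨x, hxV⟩).asIdeal.primeCompl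
  haveI : Algebra.EssFiniteType k (X.presheaf.stalk x) := Algebra.EssFiniteType.comp k Γ(X, V) _
  haveI : Algebra.EssFiniteType k (ResidueField (X.presheaf.stalk x)) :=
    Algebra.EssFiniteType.comp k (X.presheaf.stalk x) _
  haveI : Algebra.IsSeparable k (ResidueField (X.presheaf.stalk x)) := hsep
  have hspan := HurwitzLib.span_D_eq_top (k := k) s hm
  have hrank : Module.finrank Γ(X, V) Ω[Γ(X, V)⁄k] = 1 :=
    Module.finrank_eq_of_rank_eq
      (Algebra.IsStandardSmoothOfRelativeDimension.rank_kaehlerDifferential 1)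
  let b : Module.Basis (Fin 1) Γ(X, V) Ω[Γ(X, V)⁄k] := Module.finBasisOfFinrankEq _ _ hrank
  let b' : Module.Basis (Fin 1) (X.presheaf.stalk x) Ω[X.presheaf.stalk x⁄k] :=
    (b.baseChange (X.presheaf.stalk x)).map
      (KaehlerDifferential.tensorKaehlerEquivOfFormallyEtale k Γ(X, V) (X.presheaf.stalk x))
  let e : Ω[X.presheaf.stalk x⁄k] ≃ₗ[X.presheaf.stalk x] X.presheaf.stalk x :=
    b'.equivFun.trans (LinearEquiv.funUnique (Fin 1) (X.presheaf.stalk x) (X.presheaf.stalk x))
  set t := e (D k (X.presheaf.stalk x) s) with ht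
  have hsur : Function.Surjective fun a : X.presheaf.stalk x => a • D k (X.presheaf.stalk x) s :=
    fun z => Submodule.mem_span_singleton.mp (hspan.ge Submodule.mem_top)
  refine ⟨fun a a' h => ?_, hsur⟩
  obtain ⟨u, hu⟩ := hsur (e.symm 1)
  have h1 : u * t = 1 := by
    rw [ht, ← smul_eq_mul]
    exact (map_smul e _ _).symm.trans ((congrArg e hu).trans (e.apply_symm_apply 1))
  have h2 : a * t = a' * t := by
    rw [ht, ← smul_eq_mul, ← smul_eq_mul]
    exact (map_smul e _ _).symm.trans ((congrArg e h).trans (map_smul e _ _))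
  calc a = a * (u * t) := by rw [h1, mul_one]
    _ = u * (a * t) := by ring
    _ = u * (a' * t) := by rw [h2]
    _ = a' * (u * t) := by ring
    _ = a' := by rw [h1, mul_one]

end BlowRegLib
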