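import Groth.Agent.GenusZeroLib.Point
import Groth.Agent.NormalLib.Regular
import Groth.Agent.CurveVBLib.Basic
import Groth.Agent.CurvLib.EulerTensor
import Groth.Agent.HurwitzLib.Fiber
import Groth.Agent.BlowRegLib.GermInjTf
import Groth.Prelude.Def_LinSer
import Mathlib.RingTheory.OrderOfVanishing.Noetherian

/-!
# The orders of vanishing of a linear series at a point
-/

set_option autoImplicit false
set_option linter.style.haveILetI false
universe u

open CategoryTheory CategoryTheory.Limits AlgebraicGeometry TopologicalSpace Opposite IsLocalRing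

noncomputable section

namespace BlowRegLib.OrdValues

/-- In a DVR with residue field `k` a finite dimensional space of elements has as many orders as its dimension. -/
theorem ncard_addVal {k R : Type*} [Field k] [CommRing R] [IsDomain R] [IsDiscreteValuationRing R] [Algebra k R]
    (hres : ∀ z : R, ∃ c : k, z - algebraMap k R c ∈ maximalIdeal R) :
    ∀ (d : ℕ) (W : Submodule k R) [Module.Finite k W], Module.finrank k W = d →
      {v : ℕ | ∃ x ∈ W, x ≠ 0 ∧ IsDiscreteValuationRing.addVal R x = (v : ℕ∞)}.ncard = d ∧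
      {v : ℕ | ∃ x ∈ W, x ≠ 0 ∧ IsDiscreteValuationRing.addVal R x = (v : ℕ∞)}.Finite := by
  classical
  obtain ⟨t, ht⟩ := IsDiscreteValuationRing.exists_irreducible R
  intro d
  induction d with
  | zero =>
    intro W _ hW
    have : W = ⊥ := Submodule.finrank_eq_zero.1 hW
    have he : {v : ℕ | ∃ x ∈ W, x ≠ 0 ∧ IsDiscreteValuationRing.addVal R x = (v : ℕ∞)} = ∅ := by
      ext v
      simp [this]
    rw [he]
    exact ⟨Set.ncard_empty _, Set.finite_empty⟩
  | succ d ih =>
    intro W _ hW
    set S := {v : ℕ | ∃ x ∈ W, x ≠ 0 ∧ IsDiscreteValuationRing.addVal R x = (v : ℕ∞)}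
    have hne : S.Nonempty := by
      obtain ⟨x, hx, hx0⟩ := Submodule.exists_mem_ne_zero_of_ne_bot (p := W) fun h => by
        rw [h, finrank_bot] at hW; omega
      obtain ⟨n, hn⟩ := WithTop.ne_top_iff_exists.1 (mt (IsDiscreteValuationRing.addVal_eq_top_iff (a := x)).1 hx0)
      exact ⟨n, x, hx, hx0, hn.symm⟩
    have hmin := Nat.sInf_mem hne
    set n := sInf S
    obtain ⟨a, haW, ha0, han⟩ := hmin
    have hge : ∀ x ∈ W, (n : ℕ∞) ≤ IsDiscreteValuationRing.addVal R x := fun x hx => by
      rcases eq_or_ne x 0 with rfl | h0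
      · simp
      · obtain ⟨m, hm⟩ := WithTop.ne_top_iff_exists.1 (mt (IsDiscreteValuationRing.addVal_eq_top_iff (a := x)).1 h0)
        rw [← hm]
        exact WithTop.coe_le_coe.2 (Nat.sInf_le ⟨x, hx, h0, hm.symm⟩)
    have hadd : ∀ x : R, (n : ℕ∞) ≤ IsDiscreteValuationRing.addVal R x ↔ t ^ n ∣ x := fun x => by
      rw [← IsDiscreteValuationRing.addVal_le_iff_dvd, ht.addVal_pow n]
    let N : Submodule k R := (Ideal.span {t ^ (n + 1)}).restrictScalars k
    let W' : Submodule k R := W ⊓ N
    have hdec : ∀ x ∈ W, ∃ c : k, x - c • a ∈ W' := fun x hx => by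
      obtain ⟨y, rfl⟩ := (hadd x).1 (hge x hx)
      obtain ⟨b, rfl⟩ := (hadd a).1 han.ge
      have hb : IsUnit b := by
        by_contra hb
        obtain ⟨b', rfl⟩ := Ideal.mem_span_singleton.1 (ht.maximalIdeal_eq ▸ (mem_maximalIdeal b).2 hb)
        rw [← mul_assoc, ← pow_succ] at han
        have := (IsDiscreteValuationRing.addVal_le_iff_dvd (a := t ^ (n + 1)) (b := t ^ (n + 1) * b')).2 (dvd_mul_right _ _)
        rw [han, ht.addVal_pow] at this
        exact absurd (WithTop.coe_le_coe.1 this) (by simp)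
      obtain ⟨c, hc⟩ := hres (y * ↑hb.unit⁻¹)
      refine ⟨c, W.sub_mem hx (W.smul_mem c haW), ?_⟩
      rw [ht.maximalIdeal_eq, Ideal.mem_span_singleton] at hc
      obtain ⟨e, he⟩ := hc
      refine Ideal.mem_span_singleton.2 ⟨e * b, ?_⟩
      have hb1 : (↑hb.unit⁻¹ : R) * b = 1 := hb.val_inv_mul
      calc t ^ n * y - c • (t ^ n * b) = t ^ n * ((y * ↑hb.unit⁻¹ - algebraMap k R c) * b) := by
            rw [Algebra.smul_def, sub_mul, mul_assoc y, hb1, mul_one]; ring
        _ = t ^ (n + 1) * (e * b) := by rw [he, pow_succ]; ring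
    have haN : a ∉ N := fun h => by
      have h1 : t ^ (n + 1) ∣ a := Ideal.mem_span_singleton.1 h
      rw [← IsDiscreteValuationRing.addVal_le_iff_dvd, han, ht.addVal_pow] at h1
      exact absurd (WithTop.coe_le_coe.1 h1) (by simp)
    haveI : Module.Finite k W' := Module.Finite.of_injective (Submodule.inclusion (inf_le_left : W' ≤ W))
      (Submodule.inclusion_injective _)
    have hsup : W = W' ⊔ Submodule.span k {a} := by
      refine le_antisymm (fun x hx => ?_) (sup_le inf_le_left (by simpa using haW))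
      obtain ⟨c, hc⟩ := hdec x hx
      rw [← sub_add_cancel x (c • a)]
      exact Submodule.add_mem_sup hc (Submodule.smul_mem _ _ (Submodule.mem_span_singleton_self a))
    have hdis : W' ⊓ Submodule.span k {a} = ⊥ := by
      rw [eq_bot_iff]
      rintro x ⟨hx, hxa⟩
      obtain ⟨c, rfl⟩ := Submodule.mem_span_singleton.1 hxa
      rcases eq_or_ne c 0 with rfl | hc
      · simp
      · have := N.smul_mem c⁻¹ hx.2
        rw [smul_smul, inv_mul_cancel₀ hc, one_smul] at this
        exact absurd this haN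
    have hd' : Module.finrank k W' = d := by
      have h := Submodule.finrank_sup_add_finrank_inf_eq W' (Submodule.span k {a})
      rw [← hsup, hdis, finrank_bot, hW, finrank_span_singleton ha0] at h
      omega
    obtain ⟨hcard, hfin⟩ := ih W' hd'
    set S' := {v : ℕ | ∃ x ∈ W', x ≠ 0 ∧ IsDiscreteValuationRing.addVal R x = (v : ℕ∞)}
    have hgt : ∀ v ∈ S', n < v := by
      rintro v ⟨x, hx, -, hv⟩
      have h1 : t ^ (n + 1) ∣ x := Ideal.mem_span_singleton.1 hx.2
      rw [← IsDiscreteValuationRing.addVal_le_iff_dvd, hv, ht.addVal_pow] at h1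
      exact_mod_cast h1
    have hS : S = insert n S' := by
      refine Set.Subset.antisymm ?_ (Set.insert_subset ⟨a, haW, ha0, han⟩ fun v ⟨x, hx, h⟩ => ⟨x, hx.1, h⟩)
      rintro v ⟨x, hx, hx0, hv⟩
      by_cases hN : x ∈ N
      · exact Or.inr ⟨x, ⟨hx, hN⟩, hx0, hv⟩
      · left
        refine le_antisymm (not_lt.1 fun hlt => hN ?_) (Nat.sInf_le ⟨x, hx, hx0, hv⟩)
        refine Ideal.mem_span_singleton.2 ?_
        rw [← IsDiscreteValuationRing.addVal_le_iff_dvd, hv, ht.addVal_pow]
        exact_mod_cast hlt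
    rw [hS]
    exact ⟨by rw [Set.ncard_insert_of_notMem (fun h => lt_irrefl n (hgt n h)) hfin, hcard], hfin.insert n⟩

theorem ncard_orders (k : Type u) [Field k] [IsAlgClosed k]
    (C : Scheme.{u}) [C.Over (Spec (CommRingCat.of k))] (hC : Curve.IsSmoothProperCurve k C (C ↘ (Spec (CommRingCat.of k))))
    (L : C.Modules) (d r : ℕ) (s : Fin (r + 1) → LinSer.Sect C L) (hL : LinSer.IsLinSer k C L d r s)
    (p : C) (hp : IsClosed ({p} : Set C)) :
    Set.ncard ((fun c : Fin (r + 1) → k =>
        Module.length (C.presheaf.stalk p)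
          (↥(L.presheaf.stalk p) ⧸ Submodule.span (C.presheaf.stalk p)
            {(L.presheaf.germ ⊤ p trivial) (∑ i, (Coh.toGlobal (C ↘ Spec (CommRingCat.of k)) (c i)) • s i)})) ''
        {c : Fin (r + 1) → k | c ≠ 0}) = r + 1 := by
  classical
  obtain ⟨hprop, hsm, hint, hdim⟩ := hC
  haveI := hprop; haveI := hsm; haveI := hint
  obtain ⟨hinv, -, hli⟩ := hL
  haveI := CurveVBLib.regular_stalk (k := k) p
  haveI : IsDiscreteValuationRing (C.presheaf.stalk p) :=
    GenusZeroLib.isDiscreteValuationRing_stalk k hdim hp (NormalLib.isIntegrallyClosed_of_isRegularLocalRing _)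
  letI : Algebra k (C.presheaf.stalk p) := Curv2.stalkAlgebra k C p
  let R := C.presheaf.stalk p
  let g : LinSer.Sect C L → L.presheaf.stalk p := fun m => L.presheaf.germ ⊤ p trivial m
  obtain ⟨U, hU, ⟨e⟩⟩ := CurvLib.locFree_of_isInvertible hinv p
  obtain ⟨e₁⟩ := CurveVBLib.nonempty_stalk_pi_on e hU
  let ε : L.presheaf.stalk p ≃ₗ[C.presheaf.stalk p] C.presheaf.stalk p := e₁ ≪≫ₗ LinearEquiv.funUnique (Fin 1) _ _
  haveI : IsLocallyNoetherian C := LocallyOfFiniteType.isLocallyNoetherian (C ↘ Spec (CommRingCat.of k))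
  have htf : TorSh.IsTorsionFree L := fun x => by
    obtain ⟨U, hU, ⟨e⟩⟩ := CurvLib.locFree_of_isInvertible hinv x
    obtain ⟨e₁⟩ := CurveVBLib.nonempty_stalk_pi_on e hU
    exact (e₁.injective).moduleIsTorsionFree e₁ fun a b => e₁.map_smul a b
  have hinj : Function.Injective (L.presheaf.germ (⊤ : C.Opens) p trivial) := by
    refine BlowRegLib.germ_injective_of_tf (CurvLib.isCoh_of_isInvertible hinv) htf _ fun y _ hy => ?_
    have : y = genericPoint C := by
      letI := hy.toField
      obtain ⟨q, hq⟩ : genericPoint C ∈ Set.range (C.fromSpecStalk y) := by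
        rw [C.range_fromSpecStalk]; exact (genericPoint_spec C).specializes trivial
      haveI := q.isPrime
      have : q = IsLocalRing.closedPoint (C.presheaf.stalk y) :=
        PrimeSpectrum.ext ((Ideal.eq_bot_of_prime q.asIdeal).trans (Ideal.eq_bot_of_prime _).symm)
      rw [← hq, this, C.fromSpecStalk_closedPoint]
    rw [this, (genericPoint_spec C).def]
    trivial
  have hsmul : ∀ (c : k) (m : LinSer.Sect C L), g (Coh.toGlobal (C ↘ Spec (CommRingCat.of k)) c • m) =
      algebraMap k (C.presheaf.stalk p) c • g m := fun c m => (AmpleLib.germ_smul L _ m trivial).trans rfl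
  let Φ : (Fin (r + 1) → k) →ₗ[k] C.presheaf.stalk p :=
    { toFun := fun c => ∑ i, algebraMap k (C.presheaf.stalk p) (c i) * ε (g (s i))
      map_add' := fun a b => by simp [add_mul, Finset.sum_add_distrib]
      map_smul' := fun a b => by simp [Algebra.smul_def, Finset.mul_sum, mul_assoc] }
  have hΦ : ∀ c, ε (g (∑ i, (Coh.toGlobal (C ↘ Spec (CommRingCat.of k)) (c i)) • s i)) = Φ c := fun c => by
    have h1 : g (∑ i, (Coh.toGlobal (C ↘ Spec (CommRingCat.of k)) (c i)) • s i) =
        ∑ i, g ((Coh.toGlobal (C ↘ Spec (CommRingCat.of k)) (c i)) • s i) :=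
      map_sum (L.presheaf.germ (⊤ : C.Opens) p trivial).hom _ _
    rw [h1, map_sum]
    refine Finset.sum_congr rfl fun i _ => ?_
    rw [hsmul, map_smul, smul_eq_mul]
  have hΦi : Function.Injective Φ := by
    rw [injective_iff_map_eq_zero]
    intro c hc
    refine hli c (hinj ?_)
    refine (ε.injective ((hΦ c).trans (hc.trans (map_zero ε).symm))).trans ?_
    exact (map_zero (L.presheaf.germ (⊤ : C.Opens) p trivial).hom).symm
  have hres : ∀ z : C.presheaf.stalk p, ∃ c : k, z - algebraMap k (C.presheaf.stalk p) c ∈ maximalIdeal (C.presheaf.stalk p) := by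
    intro z
    letI := Curv2.resAlgebra k C p
    haveI := HurwitzLib.finite_residueField (k := k) hp
    obtain ⟨c, hc⟩ := IsAlgClosed.algebraMap_bijective_of_isIntegral (k := k) (K := C.residueField p) |>.2 (C.residue p z)
    refine ⟨c, Ideal.Quotient.eq.1 ?_⟩
    exact hc.symm
  obtain ⟨hcard, -⟩ := ncard_addVal hres _ (LinearMap.range Φ) ((LinearMap.finrank_range_of_inj hΦi).trans (Module.finrank_fin_fun k))
  refine Eq.trans ?_ hcard
  rw [← Set.ncard_image_of_injective _ (Nat.cast_injective (R := ℕ∞))]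
  congr 1
  have hlen : ∀ c, Module.length (C.presheaf.stalk p)
      (↥(L.presheaf.stalk p) ⧸ Submodule.span (C.presheaf.stalk p)
        {(L.presheaf.germ ⊤ p trivial) (∑ i, (Coh.toGlobal (C ↘ Spec (CommRingCat.of k)) (c i)) • s i)}) =
      IsDiscreteValuationRing.addVal (C.presheaf.stalk p) (Φ c) := fun c => by
    rw [← Ring.ord_eq_addVal, Ring.ord]
    refine (Submodule.Quotient.equiv _ _ ε ?_).length_eq
    rw [Submodule.map_span, Set.image_singleton]
    exact congrArg (fun z => Submodule.span (C.presheaf.stalk p) {z}) (hΦ c)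
  ext v
  simp only [Set.mem_image, Set.mem_setOf_eq, hlen, LinearMap.mem_range]
  constructor
  · rintro ⟨c, hc, rfl⟩
    have h0 : Φ c ≠ 0 := fun h => hc (hΦi (h.trans (map_zero Φ).symm))
    obtain ⟨m, hm⟩ := WithTop.ne_top_iff_exists.1 (mt (IsDiscreteValuationRing.addVal_eq_top_iff (a := Φ c)).1 h0)
    exact ⟨m, ⟨Φ c, ⟨c, rfl⟩, h0, hm.symm⟩, hm⟩
  · rintro ⟨m, ⟨_, ⟨c, rfl⟩, h0, hm⟩, rfl⟩
    exact ⟨c, fun h => h0 (by rw [h, map_zero]), hm⟩

end BlowRegLib.OrdValues
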