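import Groth.Agent.SpSeqLib.TotQI
import Groth.Agent.SpSeqLib.CosimpAug
import Groth.Agent.SpSeqLib.MapExt
import Mathlib.AlgebraicTopology.SimplicialObject.Basic

/-!
# Augmentations of presheaves of complexes along simplicial objects
-/

universe v v' u u' v₁ u₁ v₂ u₂

set_option autoImplicit false
set_option linter.style.haveILetI false
set_option linter.unusedSectionVars false
set_option backward.isDefEq.respectTransparency false
set_option backward.isDefEq.respectTransparency.types false

open CategoryTheory CategoryTheory.Limits Opposite Simplicial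

namespace Groth.Agent.BlowRegLib.PhcAug

open SpSeqLib SpSeqLib.BiTotal

noncomputable section

variable {𝒟 : Type u₁} [Category.{v₁} 𝒟] (L : SimplicialObject 𝒟) {P : 𝒟}
  (a : L.obj (op (SimplexCategory.mk 0)) ⟶ P) (ha : L.δ (0 : Fin 2) ≫ a = L.δ (1 : Fin 2) ≫ a)

section Basic

variable {A : Type u} [Category.{v} A] [Abelian A] (H H' : 𝒟ᵒᵖ ⥤ A)

/-- The values of a presheaf on a simplicial object. -/
abbrev cosOf : CosimplicialObject A := L.rightOp ⋙ H

theorem cos_δ {n : ℕ} (i : Fin (n + 2)) :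
    CosimplicialObject.δ (cosOf L H) i = H.map (L.δ i).op := rfl

include ha in
theorem aug_δ : H.map a.op ≫ CosimplicialObject.δ (cosOf L H) (0 : Fin 2) =
    H.map a.op ≫ CosimplicialObject.δ (cosOf L H) (1 : Fin 2) := by
  rw [cos_δ, cos_δ, ← H.map_comp, ← H.map_comp, ← op_comp, ← op_comp, ha]

/-- The augmentation. -/
def augOf : (HomologicalComplex.single A (ComplexShape.up ℤ) 0).obj (H.obj (op P)) ⟶ CosimpAug.ext (cosOf L H) :=
  CosimpAug.augZ (cosOf L H) (H.map a.op) (aug_δ L a ha H)

variable {H H'}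

theorem augOf_natural (η : H ⟶ H') :
    (HomologicalComplex.single A (ComplexShape.up ℤ) 0).map (η.app (op P)) ≫ augOf L a ha H' =
      augOf L a ha H ≫ CosimpAug.extMap (Functor.whiskerLeft L.rightOp η) := by
  have hg : (η.app (op P) ≫ H'.map a.op) ≫ CosimplicialObject.δ (cosOf L H') (0 : Fin 2) =
      (η.app (op P) ≫ H'.map a.op) ≫ CosimplicialObject.δ (cosOf L H') (1 : Fin 2) :=
    (Category.assoc _ _ _).trans ((congrArg (η.app (op P) ≫ ·) (aug_δ L a ha H')).trans (Category.assoc _ _ _).symm)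
  refine (CosimpAug.single_map_augZ _ _ _ _ _ hg rfl).trans ?_
  exact (CosimpAug.augZ_map (cosOf L H) (H.map a.op) (aug_δ L a ha H) _ _ hg (η.naturality a.op)).symm

theorem mono_augOf (h : CosimpAug.Contr (cosOf L H) (H.map a.op)) : Mono (augOf L a ha H) :=
  h.mono_augZ _

theorem quasiIso_augOf (h : CosimpAug.Contr (cosOf L H) (H.map a.op)) : QuasiIso (augOf L a ha H) :=
  h.quasiIso_augZ _

variable {A' : Type u'} [Category.{v'} A'] [Abelian A'] (Γ : A ⥤ A') [Γ.Additive] (H)

/-- Alternating complexes commute with additive functors. -/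
def coIso : (Γ.mapHomologicalComplex (ComplexShape.up ℕ)).obj (CosimpAug.co (cosOf L H)) ≅
    CosimpAug.co (cosOf L (H ⋙ Γ)) :=
  HomologicalComplex.Hom.isoOfComponents (fun n => Iso.refl _) fun i j hij => by
    obtain rfl : i + 1 = j := hij
    refine (Category.id_comp _).trans (Eq.trans ?_ (Category.comp_id _).symm)
    change _ = Γ.map ((CosimpAug.co (cosOf L H)).d i (i + 1))
    rw [CosimpAug.co_d, CosimpAug.co_d, AlgebraicTopology.AlternatingCofaceMapComplex.objD,
      AlgebraicTopology.AlternatingCofaceMapComplex.objD, Γ.map_sum]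
    refine Finset.sum_congr rfl fun k _ => ?_
    rw [Γ.map_zsmul]
    rfl

/-- The augmentations correspond. -/
theorem nonempty_mapAugIso :
    Nonempty (Arrow.mk ((Γ.mapHomologicalComplex (ComplexShape.up ℤ)).map (augOf L a ha H)) ≅
      Arrow.mk (augOf L a ha (H ⋙ Γ))) := by
  let r := MapExt.mapExtIso Γ (CosimpAug.co (cosOf L H)) ≪≫
    (ComplexShape.embeddingUpNat.extendFunctor A').mapIso (coIso L H Γ)
  refine ⟨Arrow.isoMk ((HomologicalComplex.singleMapHomologicalComplex Γ (ComplexShape.up ℤ) 0).app (H.obj (op P))) r ?_⟩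
  refine ((Iso.inv_comp_eq _).mp ?_).symm
  refine HomologicalComplex.from_single_hom_ext ?_
  simp only [HomologicalComplex.comp_f, Functor.mapHomologicalComplex_map_f, augOf, CosimpAug.augZ_f_zero,
    Arrow.mk_hom, r, Iso.trans_hom, Functor.mapIso_hom]
  rw [show (MapExt.mapExtIso Γ (CosimpAug.co (cosOf L H))).hom.f 0 =
      (MapExt.mapExtXIso Γ (CosimpAug.co (cosOf L H)) (Int.ofNat 0)).hom from rfl]
  change _ ≫ _ ≫ _ ≫ (HomologicalComplex.extendMap (coIso L H Γ).hom ComplexShape.embeddingUpNat).f 0 = _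
  rw [HomologicalComplex.extendMap_f _ ComplexShape.embeddingUpNat (i := 0) (i' := (0 : ℤ)) rfl]
  simp [MapExt.mapExtXIso, coIso, HomologicalComplex.singleMapHomologicalComplex, HomologicalComplex.singleObjXSelf,
    HomologicalComplex.singleObjXIsoOfEq, eqToHom_map]

end Basic

section Tot

variable {C : Type u} [Category.{v} C] [Abelian C] [HasCoproducts.{0} C] [AB4OfSize.{0} C]

/-- Descent for a presheaf of complexes. -/
abbrev DescAt (H : 𝒟ᵒᵖ ⥤ CochainComplex C ℤ) : Prop := QuasiIso (tot.map (augOf L a ha H))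

/-- Zero in negative degrees. -/
abbrev Bdd (H : 𝒟ᵒᵖ ⥤ CochainComplex C ℤ) : Prop := ∀ (U : 𝒟ᵒᵖ) (q : ℤ), q < 0 → IsZero ((H.obj U).X q)

omit [HasCoproducts.{0} C] [AB4OfSize.{0} C] in
theorem isZero_ext {H : 𝒟ᵒᵖ ⥤ CochainComplex C ℤ} (hH : Bdd H) (p q : ℤ) (h : p < 0 ∨ q < 0) :
    IsZero (((CosimpAug.ext (cosOf L H)).X p).X q) := by
  by_cases hp : p < 0
  · exact (HomologicalComplex.eval C _ q).map_isZero (HomologicalComplex.isZero_extend_X _ _ p fun k hk => by
      change (k : ℤ) = p at hk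
      omega)
  · obtain ⟨n, rfl⟩ := Int.eq_ofNat_of_zero_le (not_lt.mp hp)
    exact (hH _ q (h.resolve_left hp)).of_iso ((HomologicalComplex.eval C _ q).mapIso
      ((CosimpAug.co (cosOf L H)).extendXIso ComplexShape.embeddingUpNat (i := n) (i' := (n : ℤ)) rfl))

omit [HasCoproducts.{0} C] [AB4OfSize.{0} C] in
theorem isZero_single {G : CochainComplex C ℤ} (hG : ∀ q : ℤ, q < 0 → IsZero (G.X q)) (p q : ℤ)
    (h : p < 0 ∨ q < 0) :
    IsZero ((((HomologicalComplex.single (CochainComplex C ℤ) (ComplexShape.up ℤ) 0).obj G).X p).X q) := by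
  by_cases hp : p = 0
  · subst hp
    exact (hG q (h.resolve_left (lt_irrefl 0))).of_iso ((HomologicalComplex.eval _ _ q).mapIso
      (HomologicalComplex.singleObjXSelf (ComplexShape.up ℤ) 0 G))
  · exact (HomologicalComplex.eval _ _ q).map_isZero (HomologicalComplex.isZero_single_obj_X _ _ G p hp)

/-- Column-wise quasi-isomorphisms. -/
theorem quasiIso_tot_of_cols {M N : Bi C} (φ : M ⟶ N)
    (hM : ∀ p q : ℤ, p < 0 ∨ q < 0 → IsZero ((M.X p).X q))
    (hN : ∀ p q : ℤ, p < 0 ∨ q < 0 → IsZero ((N.X p).X q))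
    (h : ∀ p, QuasiIso (φ.f p)) : QuasiIso (tot.map φ) := by
  refine ⟨fun n => ?_⟩
  rw [quasiIsoAt_iff_isIso_homologyMap]
  exact TotQI.isIso_map_homologyMap_tot (𝟭 C) φ hM hN (fun p k => by
    haveI := h p
    exact inferInstanceAs (IsIso (HomologicalComplex.homologyMap (φ.f p) k))) n

theorem quasiIso_extMap_f {H H' : 𝒟ᵒᵖ ⥤ CochainComplex C ℤ} (η : H ⟶ H') (hη : ∀ U, QuasiIso (η.app U))
    (hH : Bdd H) (hH' : Bdd H') :
    QuasiIso (tot.map (CosimpAug.extMap (Functor.whiskerLeft L.rightOp η) :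
      CosimpAug.ext (cosOf L H) ⟶ CosimpAug.ext (cosOf L H'))) := by
  refine quasiIso_tot_of_cols _ (isZero_ext L hH) (isZero_ext L hH') fun p => ?_
  by_cases hp : p < 0
  · have hz : ∀ H : 𝒟ᵒᵖ ⥤ CochainComplex C ℤ, IsZero ((CosimpAug.ext (cosOf L H)).X p) := fun H =>
      HomologicalComplex.isZero_extend_X _ _ p fun k hk => by
        change (k : ℤ) = p at hk
        omega
    haveI : IsIso ((CosimpAug.extMap (Functor.whiskerLeft L.rightOp η) :
      CosimpAug.ext (cosOf L H) ⟶ CosimpAug.ext (cosOf L H')).f p) :=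
        ⟨0, (hz H).eq_of_src _ _, (hz H').eq_of_src _ _⟩
    infer_instance
  · obtain ⟨n, rfl⟩ := Int.eq_ofNat_of_zero_le (not_lt.mp hp)
    change QuasiIso ((HomologicalComplex.extendMap _ ComplexShape.embeddingUpNat).f (n : ℤ))
    rw [HomologicalComplex.extendMap_f _ ComplexShape.embeddingUpNat (i := n) (i' := (n : ℤ)) rfl]
    haveI : QuasiIso (((AlgebraicTopology.alternatingCofaceMapComplex (CochainComplex C ℤ)).map
        (Functor.whiskerLeft L.rightOp η)).f n) := hη _
    infer_instance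

theorem quasiIso_single_map {G G' : CochainComplex C ℤ} (f : G ⟶ G') [hf : QuasiIso f]
    (hG : ∀ q : ℤ, q < 0 → IsZero (G.X q)) (hG' : ∀ q : ℤ, q < 0 → IsZero (G'.X q)) :
    QuasiIso (tot.map ((HomologicalComplex.single (CochainComplex C ℤ) (ComplexShape.up ℤ) 0).map f)) := by
  refine quasiIso_tot_of_cols _ (isZero_single hG) (isZero_single hG') fun p => ?_
  by_cases hp : p = 0
  · subst hp
    rw [HomologicalComplex.single_map_f_self]
    infer_instance
  · haveI : IsIso (((HomologicalComplex.single (CochainComplex C ℤ) (ComplexShape.up ℤ) 0).map f).f p) :=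
      ⟨0, (HomologicalComplex.isZero_single_obj_X _ _ G p hp).eq_of_src _ _,
        (HomologicalComplex.isZero_single_obj_X _ _ G' p hp).eq_of_src _ _⟩
    infer_instance

/-- Descent passes along pointwise quasi-isomorphisms. -/
theorem descAt_iff {H H' : 𝒟ᵒᵖ ⥤ CochainComplex C ℤ} (η : H ⟶ H') (hη : ∀ U, QuasiIso (η.app U))
    (hH : Bdd H) (hH' : Bdd H') : DescAt L a ha H ↔ DescAt L a ha H' := by
  haveI := quasiIso_extMap_f L η hη hH hH'
  haveI := hη (op P)
  haveI := quasiIso_single_map (η.app (op P)) (hH _) (hH' _)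
  have e : tot.map ((HomologicalComplex.single (CochainComplex C ℤ) (ComplexShape.up ℤ) 0).map (η.app (op P))) ≫
      tot.map (augOf L a ha H') =
      tot.map (augOf L a ha H) ≫ tot.map (CosimpAug.extMap (Functor.whiskerLeft L.rightOp η)) := by
    rw [← Functor.map_comp, ← Functor.map_comp, augOf_natural]
  constructor
  · intro h
    haveI : QuasiIso (tot.map (augOf L a ha H)) := h
    haveI : QuasiIso (tot.map ((HomologicalComplex.single (CochainComplex C ℤ) (ComplexShape.up ℤ) 0).map
        (η.app (op P))) ≫ tot.map (augOf L a ha H')) := e ▸ inferInstance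
    exact quasiIso_of_comp_left (tot.map ((HomologicalComplex.single (CochainComplex C ℤ) (ComplexShape.up ℤ) 0).map
      (η.app (op P)))) _
  · intro h
    haveI : QuasiIso (tot.map (augOf L a ha H')) := h
    haveI : QuasiIso (tot.map (augOf L a ha H) ≫
        tot.map (CosimpAug.extMap (Functor.whiskerLeft L.rightOp η))) := e ▸ inferInstance
    exact quasiIso_of_comp_right _ (tot.map (CosimpAug.extMap (Functor.whiskerLeft L.rightOp η)))

/-- A contraction of the values gives descent. -/
theorem descAt_of_contr {H : 𝒟ᵒᵖ ⥤ CochainComplex C ℤ} (hH : Bdd H)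
    (h : ∀ q : ℤ, Nonempty (CosimpAug.Contr (cosOf L (H ⋙ HomologicalComplex.eval C (ComplexShape.up ℤ) q))
      ((H ⋙ HomologicalComplex.eval C (ComplexShape.up ℤ) q).map a.op))) : DescAt L a ha H := by
  let ev := fun q : ℤ => (HomologicalComplex.eval C (ComplexShape.up ℤ) q).mapHomologicalComplex (ComplexShape.up ℤ)
  have hq : ∀ q, QuasiIso ((ev q).map (augOf L a ha H)) ∧ Mono ((ev q).map (augOf L a ha H)) := fun q => by
    obtain ⟨c⟩ := h q
    obtain ⟨e⟩ := nonempty_mapAugIso L a ha H (HomologicalComplex.eval C (ComplexShape.up ℤ) q)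
    haveI := quasiIso_augOf L a ha c
    haveI := mono_augOf L a ha c
    refine ⟨(quasiIso_iff_of_arrow_mk_iso _ _ e).mpr inferInstance, ?_⟩
    exact ((MorphismProperty.monomorphisms _).arrow_mk_iso_iff e).mpr (MorphismProperty.monomorphisms.infer_property _)
  haveI : ∀ p, Mono ((augOf L a ha H).f p) := fun p => by
    haveI : ∀ q, Mono (((augOf L a ha H).f p).f q) := fun q => by
      haveI := (hq q).2
      exact inferInstanceAs (Mono (((ev q).map (augOf L a ha H)).f p))
    exact HomologicalComplex.mono_of_mono_f _ inferInstance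
  haveI : Mono (augOf L a ha H) := HomologicalComplex.mono_of_mono_f _ inferInstance
  exact BiSS.quasiIso_tot_of_row _ (isZero_ext L hH) _ (augOf L a ha H) fun q => (hq q).1

/-- A total complex has no homology in a degree whose places have none. -/
theorem isZero_homology_tot_at (M : Bi C) (c : ℤ) (hM : ∀ p q : ℤ, p < 0 ∨ q < c → IsZero ((M.X p).X q)) (n : ℤ)
    (hcol : ∀ p : ℤ, IsZero ((M.X p).homology (-p + n))) : IsZero ((tot.obj M).homology n) := by
  open SpSeqLib.StupidFil SpSeqLib.BiSS in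
  have hstep : ∀ k : ℕ, IsZero ((tot.obj (tObj M ((-n - 1 + c + k : ℤ) : EInt))).homology n) := by
    intro k
    induction k with
    | zero =>
      refine ShortComplex.isZero_homology_of_isZero_X₂ _ (isZero_tot_X _ n fun p q hpq => ?_)
      by_cases hk : Keep ((-n - 1 + c + (0 : ℕ) : ℤ) : EInt) p
      · refine isZero_tX_X M _ p q (hM p q (Or.inr ?_))
        rw [EOne.keep_coe] at hk
        lia
      · exact (HomologicalComplex.eval C _ q).map_isZero (isZero_tX M hk)
    | succ k ih =>
      let hij : ((-n - 1 + c + k : ℤ) : EInt) ≤ ((-n - 1 + c + (k + 1 : ℕ) : ℤ) : EInt) :=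
        WithBotTop.coe_le_coe.2 (by lia)
      have hS := shortExact_tot_seq M hij
      refine (hS.homology_exact₂ n).isZero_of_both_zeros (ih.eq_of_src _ _) (IsZero.eq_of_tgt ?_ _ _)
      let p : ℤ := -(-n - 1 + c + k)
      have hi : ¬ Keep ((-n - 1 + c + k : ℤ) : EInt) p := by rw [EOne.keep_coe]; simp only [p]; omega
      have hj : Keep ((-n - 1 + c + (k + 1 : ℕ) : ℤ) : EInt) p := by rw [EOne.keep_coe]; simp only [p]; omega
      obtain ⟨e'⟩ := nonempty_step_iso_single M hij p hi hj (fun m hm => by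
        rw [EOne.keep_coe, EOne.keep_coe]; simp only [p] at hm; omega)
      obtain ⟨f⟩ := nonempty_tot_single_iso p (M.X p)
      exact (hcol p).of_iso ((HomologicalComplex.homologyFunctor C (ComplexShape.up ℤ) n).mapIso
        (tot.mapIso e' ≪≫ f) ≪≫
        ((HomologicalComplex.homologyFunctor C (ComplexShape.up ℤ) 0).shiftIso (-p) n (-p + n) rfl).app (M.X p))
  open SpSeqLib.StupidFil SpSeqLib.BiSS in
  rcases lt_or_ge (n + 2 - c) 0 with hn | hn
  · exact ShortComplex.isZero_homology_of_isZero_X₂ _ (isZero_tot_X _ n fun p q hpq => hM p q (by lia))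
  · obtain ⟨k, hk⟩ := Int.eq_ofNat_of_zero_le hn
    have : IsIso (tObjι M ((-n - 1 + c + k : ℤ) : EInt)) := by
      haveI : ∀ p, IsIso ((tObjι M ((-n - 1 + c + k : ℤ) : EInt)).f p) := fun p => by
        by_cases hp : 0 ≤ p
        · exact isIso_tι M (by rw [EOne.keep_coe]; lia)
        · have hz : IsZero (M.X p) := by
            rw [IsZero.iff_id_eq_zero]
            ext q
            exact (hM p q (Or.inl (by lia))).eq_of_src _ _
          exact ⟨⟨0, (IsZero.of_mono (tι M _ p) hz).eq_of_src _ _, hz.eq_of_src _ _⟩⟩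
      exact HomologicalComplex.Hom.isIso_of_components _
    exact (hstep k).of_iso ((HomologicalComplex.homologyFunctor C (ComplexShape.up ℤ) n).mapIso
      (tot.mapIso (asIso (tObjι M ((-n - 1 + c + k : ℤ) : EInt))))).symm

end Tot

section TotMap

variable {C : Type u} [Category.{v} C] [Abelian C] [HasCoproducts.{0} C]
  {D : Type u'} [Category.{v'} D] [Abelian D] [HasCoproducts.{0} D] (T : C ⥤ D) [T.Additive]

/-- An additive functor on bicomplexes. -/
abbrev biMap : Bi C ⥤ Bi D := (T.mapHomologicalComplex (ComplexShape.up ℤ)).mapHomologicalComplex (ComplexShape.up ℤ)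

variable (M : Bi C)

/-- The comparison. -/
def cmp (n : ℤ) : (tot.obj ((biMap T).obj M)).X n ⟶ T.obj ((tot.obj M).X n) :=
  HomologicalComplex₂.totalDesc _ fun p q h => T.map (HomologicalComplex₂.ιTotal M (ComplexShape.up ℤ) p q n h)

@[reassoc]
theorem ι_cmp (p q n : ℤ) (h : p + q = n) :
    HomologicalComplex₂.ιTotal ((biMap T).obj M) (ComplexShape.up ℤ) p q n h ≫ cmp T M n =
      T.map (HomologicalComplex₂.ιTotal M (ComplexShape.up ℤ) p q n h) :=
  HomologicalComplex₂.ι_totalDesc _ _ p q h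

/-- The projection to a place. -/
def pr (n p : ℤ) : (tot.obj M).X n ⟶ (M.X p).X (n - p) :=
  HomologicalComplex₂.totalDesc M fun p' q h => if hp : p' = p then eqToHom (by
    have h' : p' + q = n := h
    obtain rfl : p' = p := hp
    obtain rfl : q = n - p' := by omega
    rfl) else 0

theorem pr_sum (hM : ∀ p q : ℤ, p < 0 ∨ q < 0 → IsZero ((M.X p).X q)) (n : ℤ) :
    ∑ p ∈ Finset.Icc (0 : ℤ) n, pr M n p ≫ HomologicalComplex₂.ιTotal M (ComplexShape.up ℤ) p (n - p) n
      (show p + (n - p) = n by omega) = 𝟙 _ := by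
  refine HomologicalComplex₂.total.hom_ext _ fun p q h => ?_
  have h' : p + q = n := h
  refine Eq.trans ?_ (Category.comp_id _).symm
  refine (Preadditive.comp_sum _ _ _).trans ?_
  by_cases hpq : p < 0 ∨ q < 0
  · exact (hM p q hpq).eq_of_src _ _
  · rw [Finset.sum_eq_single p]
    · obtain rfl : q = n - p := by omega
      simp [pr]
    · intro p' _ hne
      simp [pr, Ne.symm hne]
    · intro hp
      exact absurd (Finset.mem_Icc.mpr ⟨by omega, by omega⟩) hp

theorem isIso_cmp (hM : ∀ p q : ℤ, p < 0 ∨ q < 0 → IsZero ((M.X p).X q)) (n : ℤ) : IsIso (cmp T M n) := by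
  refine ⟨∑ p ∈ Finset.Icc (0 : ℤ) n, T.map (pr M n p) ≫
    HomologicalComplex₂.ιTotal ((biMap T).obj M) (ComplexShape.up ℤ) p (n - p) n
      (show p + (n - p) = n by omega), ?_, ?_⟩
  · refine HomologicalComplex₂.total.hom_ext _ fun p q h => ?_
    have h' : p + q = n := h
    refine Eq.trans ?_ (Category.comp_id _).symm
    refine ((ι_cmp_assoc T M p q n h' _).trans ?_)
    rw [Preadditive.comp_sum]
    by_cases hpq : p < 0 ∨ q < 0
    · exact (T.map_isZero (hM p q hpq)).eq_of_src _ _
    · rw [Finset.sum_eq_single p]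
      · obtain rfl : q = n - p := by omega
        rw [← Category.assoc, ← T.map_comp]
        simp [pr]
        exact Category.id_comp _
      · intro p' _ hne
        rw [← Category.assoc, ← T.map_comp]
        simp [pr, Ne.symm hne]
      · intro hp
        exact absurd (Finset.mem_Icc.mpr ⟨by omega, by omega⟩) hp
  · rw [Preadditive.sum_comp, ← T.map_id, ← pr_sum M hM n, T.map_sum]
    refine Finset.sum_congr rfl fun p _ => ?_
    rw [Category.assoc, ι_cmp, T.map_comp]

theorem cmp_comm (n n' : ℤ) (hn : n + 1 = n') :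
    cmp T M n ≫ T.map ((tot.obj M).d n n') = (tot.obj ((biMap T).obj M)).d n n' ≫ cmp T M n' := by
  refine HomologicalComplex₂.total.hom_ext _ fun p q h => ?_
  have h' : p + q = n := h
  have hp : (p + 1) + q = n' := by omega
  have hq : p + (q + 1) = n' := by omega
  rw [ι_cmp_assoc _ _ _ _ _ h', ← T.map_comp]
  change T.map (HomologicalComplex₂.ιTotal M _ p q n h ≫ (HomologicalComplex₂.D₁ M (ComplexShape.up ℤ) n n' + HomologicalComplex₂.D₂ M (ComplexShape.up ℤ) n n')) =
    HomologicalComplex₂.ιTotal ((biMap T).obj M) _ p q n h ≫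
      (HomologicalComplex₂.D₁ ((biMap T).obj M) (ComplexShape.up ℤ) n n' + HomologicalComplex₂.D₂ ((biMap T).obj M) (ComplexShape.up ℤ) n n') ≫ cmp T M n'
  rw [Preadditive.comp_add, Preadditive.add_comp, Preadditive.comp_add, HomologicalComplex₂.ι_D₁,
    HomologicalComplex₂.ι_D₂, HomologicalComplex₂.ι_D₁_assoc, HomologicalComplex₂.ι_D₂_assoc,
    HomologicalComplex₂.d₁_eq _ _ (rfl : (ComplexShape.up ℤ).Rel p (p + 1)) q n' hp,
    HomologicalComplex₂.d₁_eq _ _ (rfl : (ComplexShape.up ℤ).Rel p (p + 1)) q n' hp,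
    HomologicalComplex₂.d₂_eq _ _ p (rfl : (ComplexShape.up ℤ).Rel q (q + 1)) n' hq,
    HomologicalComplex₂.d₂_eq _ _ p (rfl : (ComplexShape.up ℤ).Rel q (q + 1)) n' hq,
    T.map_add, Functor.map_units_smul, Functor.map_units_smul, Linear.units_smul_comp,
    Linear.units_smul_comp, Category.assoc, Category.assoc, ι_cmp _ _ _ _ _ hp, ι_cmp _ _ _ _ _ hq,
    T.map_comp, T.map_comp]
  rfl

/-- Additive functors commute with total complexes of first quadrant bicomplexes. -/
def totMapIso (hM : ∀ p q : ℤ, p < 0 ∨ q < 0 → IsZero ((M.X p).X q)) :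
    tot.obj ((biMap T).obj M) ≅ (T.mapHomologicalComplex (ComplexShape.up ℤ)).obj (tot.obj M) :=
  HomologicalComplex.Hom.isoOfComponents (fun n => @asIso _ _ _ _ (cmp T M n) (isIso_cmp T M hM n))
    fun n n' h => cmp_comm T M n n' h

theorem totMapIso_natural {N : Bi C} (φ : M ⟶ N) (hM : ∀ p q : ℤ, p < 0 ∨ q < 0 → IsZero ((M.X p).X q))
    (hN : ∀ p q : ℤ, p < 0 ∨ q < 0 → IsZero ((N.X p).X q)) :
    tot.map ((biMap T).map φ) ≫ (totMapIso T N hN).hom =
      (totMapIso T M hM).hom ≫ (T.mapHomologicalComplex (ComplexShape.up ℤ)).map (tot.map φ) := by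
  refine HomologicalComplex.hom_ext _ _ fun n => HomologicalComplex₂.total.hom_ext _ fun p q h => ?_
  simp only [HomologicalComplex.comp_f, totMapIso, HomologicalComplex.Hom.isoOfComponents_hom_f, asIso_hom,
    Functor.mapHomologicalComplex_map_f]
  rw [ι_cmp_assoc _ _ _ _ _ h, ← Category.assoc, ι_tot_map, Category.assoc, ι_cmp _ _ _ _ _ h, ← T.map_comp,
    ι_tot_map, T.map_comp]
  rfl

end TotMap

section DescMap

variable {C : Type u} [Category.{v} C] [Abelian C] [HasCoproducts.{0} C]
  {D : Type u'} [Category.{v'} D] [Abelian D] [HasCoproducts.{0} D] [AB4OfSize.{0} D]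
  (T : C ⥤ D) [T.Additive]

/-- Descent after an additive functor. -/
theorem descAt_map_iff {H : 𝒟ᵒᵖ ⥤ CochainComplex C ℤ} (hH : Bdd H) :
    DescAt L a ha (H ⋙ T.mapHomologicalComplex (ComplexShape.up ℤ)) ↔
      QuasiIso ((T.mapHomologicalComplex (ComplexShape.up ℤ)).map (tot.map (augOf L a ha H))) := by
  obtain ⟨e⟩ := nonempty_mapAugIso L a ha H (T.mapHomologicalComplex (ComplexShape.up ℤ))
  refine (quasiIso_iff_of_arrow_mk_iso _ _ ?_)
  refine (tot.mapArrow.mapIso e).symm ≪≫ Arrow.isoMk (totMapIso T _ (isZero_single (hH _))) (totMapIso T _ (isZero_ext L hH)) ?_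
  exact (totMapIso_natural T _ (augOf L a ha H) (isZero_single (hH _)) (isZero_ext L hH)).symm

end DescMap

end

end Groth.Agent.BlowRegLib.PhcAug
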