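import Groth.Agent.CohTopLib.GodFibre

/-!
# Resolutions of inverse images and change of the base
-/

set_option autoImplicit false
set_option linter.unusedSectionVars false
set_option linter.style.haveILetI false
set_option backward.isDefEq.respectTransparency false
set_option backward.isDefEq.respectTransparency.types false

universe u
open CategoryTheory CategoryTheory.Limits TopologicalSpace Opposite

namespace Groth.Agent.BlowRegLib.PhcBase

open CohTopLib CohTopLib.GodSys CohTopLib.GermFam

noncomputable section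

variable {X : TopCat.{u}}

section Functorial

variable {D E : Sys X} (φ : SysHom D E)

theorem σ_hom {U V : Over X} (g : U ⟶ V) (z : U.left) (a : Stk (D.obj V) (g.left z)) :
    st z (φ.app U) (D.σ g z a) = E.σ g z (st (Z := V.left) (g.left z) (φ.app V) a) := by
  obtain ⟨W, hz, s, rfl⟩ := TopCat.Presheaf.exists_germ_eq (X := V.left) (D.obj V).obj a
  refine (congrArg (st z (φ.app U)) (D.σ_germ g z W hz s)).trans ?_
  refine (st_germ (Z := U.left) z (φ.app U) _ hz _).trans ?_
  refine Eq.trans ?_ (congrArg (E.σ g z) (st_germ (Z := V.left) (g.left z) (φ.app V) W hz s)).symm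
  refine Eq.trans ?_ (E.σ_germ g z W hz _).symm
  exact congrArg (germ (E.obj U) ((Opens.map g.left).obj W) z hz)
    (ConcreteCategory.congr_hom (congrArg (fun t => t.hom.app (op W)) (φ.comm g)) s).symm

/-- Discontinuous sections of a map of sheaves. -/
def gdMap {Z : TopCat.{u}} {G G' : QCohLib.AbSh Z} (f : G ⟶ G') : CechLib.gd G ⟶ CechLib.gd G' :=
  ⟨{ app := fun W => AddCommGrpCat.ofHom (AddMonoidHom.mk'
      (fun (s : ∀ x : W.unop, Stk G x.1) => (fun x => st x.1 f (s x) : ∀ x : W.unop, Stk G' x.1))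
      fun a b => funext fun x =>
        map_add ((TopCat.Presheaf.stalkFunctor AddCommGrpCat.{u} (X := Z) x.1).map f.hom).hom _ _)
     naturality := fun _ _ _ => rfl }⟩

theorem gdι_gdMap {Z : TopCat.{u}} {G G' : QCohLib.AbSh Z} (f : G ⟶ G') :
    CechLib.gdι G ≫ gdMap f = f ≫ CechLib.gdι G' := by
  refine Sheaf.hom_ext (NatTrans.ext (funext fun W => ?_))
  ext s
  exact funext fun x => st_germ (Z := Z) x.1 f W.unop x.2 s

theorem isIso_gdMap {Z : TopCat.{u}} {G G' : QCohLib.AbSh Z} (f : G ⟶ G') [IsIso f] : IsIso (gdMap f) := by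
  haveI : ∀ W, IsIso ((gdMap f).hom.app W) := fun W => by
    refine (ConcreteCategory.isIso_iff_bijective _).mpr ?_
    have hb : ∀ x : Z, Function.Bijective (st x f) := fun x =>
      (ConcreteCategory.isIso_iff_bijective _).mp
        (inferInstanceAs (IsIso ((sheafToPresheaf _ _ ⋙ TopCat.Presheaf.stalkFunctor AddCommGrpCat.{u} (X := Z) x).map f)))
    refine ⟨fun a b h => funext fun x => (hb x.1).1 (congrFun h x), fun b => ?_⟩
    choose a ha using fun x : W.unop => (hb x.1).2 ((show ∀ x : W.unop, Stk G' x.1 from b) x)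
    exact ⟨a, funext ha⟩
  haveI : IsIso ((sheafToPresheaf _ _).map (gdMap f)) := NatIso.isIso_of_isIso_app (gdMap f).hom
  exact isIso_of_reflects_iso (gdMap f) (sheafToPresheaf _ _)

/-- Discontinuous sections of a map of systems. -/
def gdHom : SysHom D.gd E.gd where
  app U := gdMap (φ.app U)
  comm {U V} g := by
    refine Sheaf.hom_ext (NatTrans.ext (funext fun W => ?_))
    ext s
    exact funext fun (z : ((Opens.map g.left).obj W.unop : Opens U.left)) =>
      (σ_hom φ g z.1 ((show ∀ v : W.unop, Stk (D.obj V) v.1 from s) ⟨g.left z.1, z.2⟩)).symm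

theorem ι_gdHom (U : Over X) : D.ι.app U ≫ (gdHom φ).app U = φ.app U ≫ E.ι.app U := gdι_gdMap _

/-- Quotients of a map of systems. -/
def quotHom : SysHom D.quot E.quot where
  app U := cokernel.map (D.ι.app U) (E.ι.app U) (φ.app U) ((gdHom φ).app U) (ι_gdHom φ U)
  comm {U V} g := by
    refine (cancel_epi (cokernel.π (D.ι.app V))).1 ?_
    change cokernel.π (D.ι.app V) ≫ cokernel.desc _ _ _ ≫ E.quotMap g =
      cokernel.π (D.ι.app V) ≫ D.quotMap g ≫ (pushF g.left).map _
    rw [cokernel.π_desc_assoc, Category.assoc, Sys.quotMap, Sys.quotMap, cokernel.π_desc, cokernel.π_desc_assoc,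
      ← Category.assoc, (gdHom φ).comm g, Category.assoc, Category.assoc, ← Functor.map_comp, ← Functor.map_comp,
      cokernel.π_desc]

theorem π_quotHom (U : Over X) : D.π.app U ≫ (quotHom φ).app U = (gdHom φ).app U ≫ E.π.app U :=
  cokernel.π_desc _ _ _

theorem isIso_quotHom (h : ∀ U, IsIso (φ.app U)) (U : Over X) : IsIso ((quotHom φ).app U) := by
  haveI := h U
  haveI : IsIso ((gdHom φ).app U) := isIso_gdMap (φ.app U)
  exact (cokernel.mapIso (D.ι.app U) (E.ι.app U) (asIso (φ.app U)) (asIso ((gdHom φ).app U)) (ι_gdHom φ U)).isIso_hom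

end Functorial

variable {Y : TopCat.{u}} (p : Y ⟶ X)

/-- Restriction of a system to a space over the base. -/
def restr (D : Sys X) : Sys Y where
  obj V := D.obj ((Over.map p).obj V)
  map g := D.map ((Over.map p).map g)
  map_id V := D.map_id ((Over.map p).obj V)
  map_comp {U V T} g k := by
    exact D.map_comp ((Over.map p).map g) ((Over.map p).map k)

variable (F : QCohLib.AbSh X)

/-- The inverse image on the new base. -/
abbrev F' : QCohLib.AbSh Y := famObj F (Over.mk p)

/-- Families over the new base, as families over the old one. -/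
def compFun (V : Over Y) (W : Opens V.left) (f : (famObj (F' p F) V).obj.obj (op W)) :
    ∀ z : W, ∀ x : X, PLift (((Over.map p).obj V).hom z.1 = x) → Stk F x :=
  fun z x e => GodFibre.ev F (Over.mk p) (V.hom z.1) x e.down
    ((show (famCond (F' p F) V).ok W from f).1 z (V.hom z.1) ⟨rfl⟩)

theorem isLoc_compFun (V : Over Y) (W : Opens V.left) (f : (famObj (F' p F) V).obj.obj (op W)) :
    compFun p F V W f ∈ (famCond F ((Over.map p).obj V)).ok W := by
  intro z hz
  obtain ⟨A, hA, t, N, hN, ht⟩ := (show (famCond (F' p F) V).ok W from f).2 z hz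
  obtain ⟨A₀, hA₀, t₀, N₀, hN₀, ht₀⟩ := (show (famCond F (Over.mk p)).ok A from t).2 (V.hom z) hA
  refine ⟨A₀, hA₀, t₀, N ⊓ (Opens.map V.hom).obj (N₀ ⊓ A), ⟨hN, hN₀, hA⟩, fun z' h1 h2 x e h3 => ?_⟩
  refine (congrArg (GodFibre.ev F (Over.mk p) (V.hom z') x e.down) (ht z' h1.1 h2 (V.hom z') ⟨rfl⟩ h1.2.2)).trans ?_
  refine (GodFibre.ev_germ F (Over.mk p) (V.hom z') x e.down A h1.2.2 t).trans ?_
  exact ht₀ (V.hom z') h1.2.1 h1.2.2 x _ h3

/-- The comparison of inverse images. -/
def famCmp : SysHom (famSys (F' p F)) (restr p (famSys F)) where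
  app V := ⟨{
    app := fun W => AddCommGrpCat.ofHom (AddMonoidHom.mk'
      (fun f => (⟨compFun p F V W.unop f, isLoc_compFun p F V W.unop f⟩ :
        (famCond F ((Over.map p).obj V)).ok W.unop))
      fun a b => Subtype.ext (funext fun z => funext fun x => funext fun e =>
        map_add (GodFibre.ev F (Over.mk p) (V.hom z.1) x e.down) _ _))
    naturality := fun _ _ _ => rfl }⟩
  comm {U V} g := by
    refine Sheaf.hom_ext (NatTrans.ext (funext fun W => ?_))
    ext f
    refine Subtype.ext (funext fun z => funext fun x => funext fun e => ?_)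
    have key : ∀ (y y' : Y) (h : y = y') (e : p y = x) (e' : p y' = x) (q : V.hom (g.left z.1) = y)
        (q' : V.hom (g.left z.1) = y'),
        GodFibre.ev F (Over.mk p) y x e ((show (famCond (F' p F) V).ok W.unop from f).1 ⟨g.left z.1, z.2⟩ y ⟨q⟩) =
          GodFibre.ev F (Over.mk p) y' x e' ((show (famCond (F' p F) V).ok W.unop from f).1 ⟨g.left z.1, z.2⟩ y' ⟨q'⟩) := by
      rintro y _ rfl e e' q q'
      rfl
    exact key _ _ (ConcreteCategory.congr_hom (Over.w g) z.1) _ _ _ _

theorem isIso_famCmp (V : Over Y) : IsIso ((famCmp p F).app V) := by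
  have hb : ∀ z : V.left, Function.Bijective (st (Z := V.left) z ((famCmp p F).app V)) := fun z => by
    refine (Function.Bijective.of_comp_iff'
      (GodFibre.bijective_ev F ((Over.map p).obj V) z (p (V.hom z)) rfl) _).mp ?_
    have h : (GodFibre.ev F ((Over.map p).obj V) z (p (V.hom z)) rfl) ∘ (st (Z := V.left) z ((famCmp p F).app V)) =
        (GodFibre.ev F (Over.mk p) (V.hom z) (p (V.hom z)) rfl) ∘ (GodFibre.ev (F' p F) V z (V.hom z) rfl) := by
      funext a
      obtain ⟨W, hz, f, rfl⟩ := TopCat.Presheaf.exists_germ_eq (X := V.left) (famObj (F' p F) V).obj a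
      refine (congrArg (GodFibre.ev F ((Over.map p).obj V) z (p (V.hom z)) rfl)
        (st_germ (Z := V.left) z ((famCmp p F).app V) W hz f)).trans ?_
      refine (GodFibre.ev_germ F ((Over.map p).obj V) z (p (V.hom z)) rfl W hz _).trans ?_
      exact (congrArg (GodFibre.ev F (Over.mk p) (V.hom z) (p (V.hom z)) rfl)
        (GodFibre.ev_germ (F' p F) V z (V.hom z) rfl W hz f)).symm
    rw [h]
    exact (GodFibre.bijective_ev F (Over.mk p) (V.hom z) _ rfl).comp (GodFibre.bijective_ev (F' p F) V z _ rfl)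
  haveI : ∀ z : V.left, IsIso ((TopCat.Presheaf.stalkFunctor AddCommGrpCat.{u} (X := V.left) z).map
      ((famCmp p F).app V).hom) := fun z => (ConcreteCategory.isIso_iff_bijective _).mpr (hb z)
  exact TopCat.Presheaf.isIso_of_stalkFunctor_map_iso
    (F := ((famSys (F' p F)).obj V : TopCat.Sheaf AddCommGrpCat V.left))
    (G := ((restr p (famSys F)).obj V : TopCat.Sheaf AddCommGrpCat V.left)) ((famCmp p F).app V)

/-- The comparison of cosyzygies. -/
def syzCmp : ∀ n, SysHom (syz (F' p F) n) (restr p (syz F n))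
  | 0 => famCmp p F
  | n + 1 => quotHom (syzCmp n)

theorem isIso_syzCmp : ∀ (n : ℕ) (V : Over Y), IsIso ((syzCmp p F n).app V)
  | 0, V => isIso_famCmp p F V
  | n + 1, V => isIso_quotHom (syzCmp p F n) (isIso_syzCmp n) V

theorem dHom_cmp (n : ℕ) (V : Over Y) :
    (gdHom (syzCmp p F n)).app V ≫ (dHom F n).app ((Over.map p).obj V) =
      (dHom (F' p F) n).app V ≫ (gdHom (syzCmp p F (n + 1))).app V := by
  change (gdHom (syzCmp p F n)).app V ≫ (restr p (syz F n)).π.app V ≫ (restr p (syz F n)).quot.ι.app V =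
    ((syz (F' p F) n).π.app V ≫ (syz (F' p F) n).quot.ι.app V) ≫ _
  rw [Category.assoc]
  refine ((Category.assoc _ _ _).symm.trans (congrArg (· ≫ _) (π_quotHom (syzCmp p F n) V).symm)).trans ?_
  rw [Category.assoc]
  exact congrArg (_ ≫ ·) (ι_gdHom (syzCmp p F (n + 1)) V).symm

/-- The direct image of the resolutions of the new base is the restriction of those of the old one. -/
def ΦCmp : GodSys.Φ (F' p F) ⋙ (pushF p).mapHomologicalComplex (ComplexShape.up ℕ) ≅
    (Over.map p).op ⋙ GodSys.Φ F :=
  NatIso.ofComponents (fun V => HomologicalComplex.Hom.isoOfComponents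
      (fun n => haveI := isIso_syzCmp p F n V.unop
        haveI : IsIso ((gdHom (syzCmp p F n)).app V.unop) := isIso_gdMap _
        asIso ((pushF p).map ((pushF V.unop.hom).map ((gdHom (syzCmp p F n)).app V.unop))) )
      fun i j hij => by
        obtain rfl : i + 1 = j := hij
        refine (congrArg (_ ≫ ·) (GodFibre.Φ_d F ((Over.map p).op.obj V) i)).trans ?_
        refine Eq.trans ?_ (congrArg (fun t => (pushF p).map t ≫ _) (GodFibre.Φ_d (F' p F) V i)).symm
        refine Eq.trans ((Functor.map_comp (pushF V.unop.hom ⋙ pushF p) _ _).symm.trans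
          ((congrArg (pushF V.unop.hom ⋙ pushF p).map (dHom_cmp p F i V.unop)).trans
            (Functor.map_comp (pushF V.unop.hom ⋙ pushF p) _ _))) rfl)
    fun {V V'} g => HomologicalComplex.hom_ext _ _ fun n => by
      change (pushF p).map (((syz (F' p F) n).gd.pushFun).map g) ≫
          (pushF p).map ((pushHom (gdHom (syzCmp p F n))).app V') =
        (pushF p).map ((pushHom (gdHom (syzCmp p F n))).app V) ≫ _
      rw [← Functor.map_comp, (pushHom (gdHom (syzCmp p F n))).naturality g, Functor.map_comp]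
      rfl

end

end Groth.Agent.BlowRegLib.PhcBase
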