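import Groth.Agent.BlowRegLib.PhcAug
import Mathlib.Topology.Category.CompHaus.Projective

/-!
# The resolution of a presheaf on compact Hausdorff spaces by free spaces
-/

universe v v' u u' w

set_option autoImplicit false
set_option linter.style.haveILetI false
set_option linter.unusedSectionVars false
set_option backward.isDefEq.respectTransparency false
set_option backward.isDefEq.respectTransparency.types false

open CategoryTheory CategoryTheory.Limits Opposite

namespace Groth.Agent.BlowRegLib.PhcBeta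

open SpSeqLib

noncomputable section

theorem continuous_ultrafilterMap {E F : Type w} (f : E → F) : Continuous (Ultrafilter.map f) := by
  refine continuous_generateFrom_iff.mpr ?_
  rintro _ ⟨s, rfl⟩
  exact ultrafilter_isOpen_basic (f ⁻¹' s)

/-- The free compact Hausdorff space on a set. -/
def β : Type w ⥤ CompHaus.{w} where
  obj E := CompHaus.of (Ultrafilter E)
  map f := CompHausLike.ofHom _ ⟨Ultrafilter.map f, continuous_ultrafilterMap f⟩
  map_id E := ConcreteCategory.coe_ext (funext fun u => Ultrafilter.map_id u)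
  map_comp f g := ConcreteCategory.coe_ext (funext fun u => (Ultrafilter.map_map u f g).symm)

/-- The free space on the points of a space. -/
abbrev B : CompHaus.{w} ⥤ CompHaus.{w} := forget CompHaus ⋙ β

theorem hom_ext_pure {E : Type w} {Y : CompHaus.{w}} (f g : β.obj E ⟶ Y)
    (h : ∀ e : E, f (pure e : Ultrafilter E) = g (pure e : Ultrafilter E)) : f = g := by
  refine ConcreteCategory.coe_ext ?_
  exact denseRange_pure.equalizer f.hom.hom.continuous g.hom.hom.continuous (funext h)

/-- The limit map. -/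
def π : B.{w} ⟶ 𝟭 CompHaus.{w} where
  app X := CompHausLike.ofHom _ ⟨Ultrafilter.extend id, continuous_ultrafilter_extend id⟩
  naturality X Y f := by
    refine hom_ext_pure _ _ fun x => ?_
    change Ultrafilter.extend id (Ultrafilter.map f (pure x)) = f (Ultrafilter.extend id (pure x))
    rw [Ultrafilter.map_pure]
    exact (congrFun (ultrafilter_extend_extends (id : Y → Y)) _).trans
      (congrArg f (congrFun (ultrafilter_extend_extends (id : X → X)) x)).symm

theorem π_pure (X : CompHaus.{w}) (x : X) : π.app X (pure x : Ultrafilter X) = x :=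
  congrFun (ultrafilter_extend_extends (id : X → X)) x

theorem π_surjective (X : CompHaus.{w}) : Function.Surjective (π.app X) :=
  fun x => ⟨(pure x : Ultrafilter X), π_pure X x⟩

/-- Free spaces have a section of the limit map. -/
theorem exists_section (E : Type w) : ∃ s : β.obj E ⟶ B.obj (β.obj E), s ≫ π.app (β.obj E) = 𝟙 _ := by
  refine ⟨β.map (↾fun e => (pure e : Ultrafilter E)), hom_ext_pure _ _ fun e => ?_⟩
  change Ultrafilter.extend id (Ultrafilter.map (fun e => (pure e : Ultrafilter E)) (pure e)) = pure e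
  rw [Ultrafilter.map_pure]
  exact congrFun (ultrafilter_extend_extends (id : Ultrafilter E → Ultrafilter E)) _

/-- Spaces isomorphic to free ones have a section of the limit map. -/
theorem exists_section_of_iso {X : CompHaus.{w}} {E : Type w} (e : X ≅ β.obj E) :
    ∃ s : X ⟶ B.obj X, s ≫ π.app X = 𝟙 _ := by
  obtain ⟨s, hs⟩ := exists_section E
  refine ⟨e.hom ≫ s ≫ B.map e.inv, ?_⟩
  rw [Category.assoc, Category.assoc, π.naturality e.inv, reassoc_of% hs, Functor.id_map, Iso.hom_inv_id]

/-- The iterates. -/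
def pw : ℕ → (CompHaus.{w} ⥤ CompHaus.{w})
  | 0 => 𝟭 _
  | n + 1 => B ⋙ pw n

theorem exists_pw_eq : ∀ (n : ℕ) (X : CompHaus.{w}), ∃ E : Type w, (pw (n + 1)).obj X = β.obj E
  | 0, X => ⟨(forget CompHaus).obj X, rfl⟩
  | n + 1, X => exists_pw_eq n (B.obj X)

section Res

variable {A : Type u} [Category.{v} A] [Abelian A] (H : CompHaus.{w}ᵒᵖ ⥤ A)

/-- The innermost face. -/
def e (n : ℕ) : (pw n).op ⋙ H ⟶ (pw (n + 1)).op ⋙ H where
  app X := H.map ((pw n).map (π.app X.unop)).op
  naturality X Y f := by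
    refine (H.map_comp _ _).symm.trans (Eq.trans ?_ (H.map_comp _ _))
    refine congrArg H.map (Quiver.Hom.unop_inj ?_)
    change (pw n).map (π.app Y.unop) ≫ (pw n).map f.unop =
      (pw n).map (B.map f.unop) ≫ (pw n).map (π.app X.unop)
    rw [← Functor.map_comp, ← Functor.map_comp, π.naturality]
    rfl

/-- A differential, one step further out. -/
def shiftB {n : ℕ} (f : (pw n).op ⋙ H ⟶ (pw (n + 1)).op ⋙ H) :
    (pw (n + 1)).op ⋙ H ⟶ (pw (n + 2)).op ⋙ H where
  app X := f.app (op (B.obj X.unop))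
  naturality _ _ g := f.naturality (B.map g.unop).op

/-- The differentials. -/
def δ : ∀ n : ℕ, (pw n).op ⋙ H ⟶ (pw (n + 1)).op ⋙ H
  | 0 => e H 0
  | n + 1 => shiftB H (δ n) +
      ((-1 : ℤ) ^ (n + 1)) • e H (n + 1)

theorem δ_succ_app (n : ℕ) (X : CompHaus.{w}ᵒᵖ) :
    (δ H (n + 1)).app X = (shiftB H (δ H n)).app X + ((-1 : ℤ) ^ (n + 1)) • (e H (n + 1)).app X := rfl

theorem shiftB_app {n : ℕ} (f : (pw n).op ⋙ H ⟶ (pw (n + 1)).op ⋙ H) (X : CompHaus.{w}ᵒᵖ) :
    (shiftB H f).app X = f.app (op (B.obj X.unop)) := rfl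

theorem δ_comp : ∀ (n : ℕ) (X : CompHaus.{w}ᵒᵖ), (δ H n).app X ≫ (δ H (n + 1)).app X = 0 := by
  intro n
  induction n with
  | zero =>
    intro X
    rw [δ_succ_app, pow_one, Preadditive.comp_add, Preadditive.comp_zsmul, neg_one_zsmul, add_neg_eq_zero]
    exact ((e H 0).naturality (π.app X.unop).op)
  | succ n ih =>
    intro X
    rw [δ_succ_app H (n + 1), Preadditive.comp_add, δ_succ_app H n X, Preadditive.add_comp, Preadditive.zsmul_comp]
    rw [shiftB_app, shiftB_app, ih (op (B.obj X.unop)), zero_add, Preadditive.comp_zsmul, ← shiftB_app H (δ H n) X, ← δ_succ_app]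
    have key : (e H (n + 1)).app X ≫ (δ H (n + 1)).app (op (B.obj X.unop)) =
        (δ H (n + 1)).app X ≫ (e H (n + 2)).app X := (δ H (n + 1)).naturality (π.app X.unop).op
    rw [key, pow_succ (-1 : ℤ) (n + 1), mul_neg_one, neg_zsmul, add_neg_cancel]

/-- The resolution. -/
def R : CompHaus.{w}ᵒᵖ ⥤ CochainComplex A ℕ where
  obj X := CochainComplex.of (fun n => ((pw (n + 1)).op ⋙ H).obj X) (fun n => (δ H (n + 1)).app X)
    (fun n => δ_comp H (n + 1) X)
  map {X Y} f :=
    { f := fun n => ((pw (n + 1)).op ⋙ H).map f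
      comm' := fun i j hij => by
        obtain rfl : i + 1 = j := hij
        simp only [CochainComplex.of, CochainComplex.of.d, dif_pos]
        simp
        exact (δ H (i + 1)).naturality f }
  map_id X := by
    ext n
    exact ((pw (n + 1)).op ⋙ H).map_id X
  map_comp f g := by
    ext n
    exact ((pw (n + 1)).op ⋙ H).map_comp f g

theorem R_d (X : CompHaus.{w}ᵒᵖ) (n : ℕ) : ((R H).obj X).d n (n + 1) = (δ H (n + 1)).app X := by
  simp [R, CochainComplex.of, CochainComplex.of.d]

/-- The resolution, indexed by integers. -/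
abbrev RZ : CompHaus.{w}ᵒᵖ ⥤ CochainComplex A ℤ := R H ⋙ ComplexShape.embeddingUpNat.extendFunctor A

theorem aug_d (X : CompHaus.{w}ᵒᵖ) : (δ H 0).app X ≫ ((R H).obj X).d 0 1 = 0 := by
  rw [R_d]
  exact δ_comp H 0 X

/-- The augmentation. -/
def aug (X : CompHaus.{w}ᵒᵖ) : (CochainComplex.single₀ A).obj (H.obj X) ⟶ (R H).obj X :=
  (CochainComplex.fromSingle₀Equiv _ _).symm ⟨(δ H 0).app X, aug_d H X⟩

theorem aug_f_zero (X : CompHaus.{w}ᵒᵖ) : (aug H X).f 0 = (δ H 0).app X :=
  CochainComplex.fromSingle₀Equiv_symm_apply_f_zero _ _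

/-- The augmentation, indexed by integers. -/
def augZ : H ⋙ HomologicalComplex.single A (ComplexShape.up ℤ) 0 ⟶ RZ H where
  app X := (HomologicalComplex.extendSingleIso ComplexShape.embeddingUpNat (H.obj X) (i := 0) (i' := (0 : ℤ)) rfl).inv ≫
    HomologicalComplex.extendMap (aug H X) ComplexShape.embeddingUpNat
  naturality X Y f := by
    refine HomologicalComplex.from_single_hom_ext ?_
    simp only [HomologicalComplex.comp_f, Functor.comp_map, HomologicalComplex.single_map_f_self,
      ComplexShape.Embedding.extendFunctor_map,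
      HomologicalComplex.extendMap_f _ ComplexShape.embeddingUpNat (i := 0) (i' := (0 : ℤ)) rfl, aug_f_zero]
    simp [HomologicalComplex.extendSingleIso]
    congr 1

section Section

variable {X : CompHaus.{w}} (s : X ⟶ B.obj X) (hs : s ≫ π.app X = 𝟙 X)

/-- The operators. -/
def h (n : ℕ) : ((pw (n + 1)).op ⋙ H).obj (op X) ⟶ ((pw n).op ⋙ H).obj (op X) :=
  H.map ((pw n).map s).op

include hs in
theorem e_h (n : ℕ) : (e H n).app (op X) ≫ h H s n = 𝟙 _ := by
  refine (H.map_comp _ _).symm.trans ((congrArg H.map ?_).trans (H.map_id _))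
  refine Quiver.Hom.unop_inj ?_
  change (pw n).map s ≫ (pw n).map (π.app X) = 𝟙 _
  rw [← Functor.map_comp, hs, CategoryTheory.Functor.map_id]

include hs in
theorem δ_h_zero : (δ H 0).app (op X) ≫ h H s 0 = 𝟙 _ := e_h H s hs 0

include hs in
theorem δ_h (n : ℕ) : (δ H (n + 1)).app (op X) ≫ h H s (n + 1) =
    h H s n ≫ (δ H n).app (op X) + ((-1 : ℤ) ^ (n + 1)) • 𝟙 _ := by
  rw [δ_succ_app, Preadditive.add_comp, Preadditive.zsmul_comp, e_h H s hs]
  exact congrArg (· + _) ((δ H n).naturality s.op).symm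

include hs in
theorem quasiIso_aug : QuasiIso (aug H (op X)) := by
  refine ⟨fun n => ?_⟩
  cases n with
  | zero =>
    rw [CochainComplex.quasiIsoAt₀_iff,
      ShortComplex.quasiIso_iff_of_zeros _ rfl rfl (((R H).obj (op X)).shape 0 0 (Nat.succ_ne_zero 0))]
    refine ⟨(ShortComplex.exact_iff_exact_up_to_refinements _).mpr fun T x hx => ⟨T, 𝟙 _, inferInstance,
      x ≫ h H s 0, ?_⟩, ?_⟩
    · refine (Category.id_comp _).trans (Eq.symm ?_)
      change (x ≫ h H s 0) ≫ (aug H (op X)).f 0 = x
      change x ≫ ((R H).obj (op X)).d 0 1 = 0 at hx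
      rw [R_d] at hx
      have h1 := congrArg (x ≫ ·) (δ_h H s hs 0)
      simp only [Preadditive.comp_add, reassoc_of% hx, zero_comp, pow_one, neg_one_zsmul, Preadditive.comp_neg,
        Nat.reduceAdd, ← sub_eq_add_neg] at h1
      rw [aug_f_zero, Category.assoc]
      exact (sub_eq_zero.mp ((Preadditive.comp_sub _ _ _).symm.trans h1.symm)).trans (Category.comp_id _)
    · show Mono ((aug H (op X)).f 0)
      rw [aug_f_zero]
      exact (SplitMono.mk _ (δ_h_zero H s hs)).mono
  | succ n =>
    rw [quasiIsoAt_iff_exactAt _ _ (CochainComplex.exactAt_succ_single_obj _ n),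
      HomologicalComplex.exactAt_iff' _ n (n + 1) (n + 2) (by simp) (by simp)]
    refine (ShortComplex.exact_iff_exact_up_to_refinements _).mpr fun T x hx =>
      ⟨T, 𝟙 _, inferInstance, (-(-1 : ℤ) ^ (n + 1 + 1)) • x ≫ h H s (n + 1), ?_⟩
    refine (Category.id_comp _).trans (Eq.symm ?_)
    change ((-(-1 : ℤ) ^ (n + 1 + 1)) • x ≫ h H s (n + 1)) ≫ ((R H).obj (op X)).d n (n + 1) = x
    change x ≫ ((R H).obj (op X)).d (n + 1) (n + 2) = 0 at hx
    rw [R_d] at hx ⊢
    have h1 := congrArg (x ≫ ·) (δ_h H s hs (n + 1))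
    simp only [Preadditive.comp_add, reassoc_of% hx, zero_comp, Preadditive.comp_zsmul] at h1
    rw [Preadditive.zsmul_comp, Category.assoc, eq_neg_of_add_eq_zero_left h1.symm, neg_smul, smul_neg, neg_neg,
      show ∀ y : T ⟶ _, ((-1 : ℤ) ^ (n + 1 + 1)) • ((-1 : ℤ) ^ (n + 1 + 1)) • y = y from fun y => by
        rw [← mul_smul, ← mul_pow]; simp]
    exact Category.comp_id _

include hs in
theorem quasiIso_augZ : QuasiIso ((augZ H).app (op X)) := by
  haveI := quasiIso_aug H s hs
  dsimp only [augZ]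
  infer_instance

include hs in
theorem mono_augZ : Mono ((augZ H).app (op X)) := by
  haveI : ∀ m, Mono (((augZ H).app (op X)).f m) := fun m => by
    by_cases hm : m = 0
    · subst hm
      haveI : Mono ((δ H 0).app (op X)) := (SplitMono.mk _ (δ_h_zero H s hs)).mono
      simp only [augZ, HomologicalComplex.comp_f,
        HomologicalComplex.extendMap_f _ ComplexShape.embeddingUpNat (i := 0) (i' := (0 : ℤ)) rfl, aug_f_zero]
      infer_instance
    · exact ⟨fun _ _ _ => (HomologicalComplex.isZero_single_obj_X _ _ _ _ hm).eq_of_tgt _ _⟩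
  exact HomologicalComplex.mono_of_mono_f _ inferInstance

end Section

variable {A' : Type u'} [Category.{v'} A'] [Abelian A'] (Γ : A ⥤ A') [Γ.Additive]

theorem map_δ (n : ℕ) : ∀ X : CompHaus.{w}ᵒᵖ, Γ.map ((δ H n).app X) = (δ (H ⋙ Γ) n).app X := by
  induction n with
  | zero => exact fun X => rfl
  | succ n ih =>
    intro X
    rw [δ_succ_app, δ_succ_app, Γ.map_add, Γ.map_zsmul, shiftB_app, shiftB_app, ih]
    rfl

/-- The resolution commutes with additive functors. -/
def RCompIso : R H ⋙ Γ.mapHomologicalComplex (ComplexShape.up ℕ) ≅ R (H ⋙ Γ) :=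
  NatIso.ofComponents (fun X => HomologicalComplex.Hom.isoOfComponents (fun n => Iso.refl _) fun i j hij => by
    obtain rfl : i + 1 = j := hij
    refine (Category.id_comp _).trans (Eq.trans ?_ (Category.comp_id _).symm)
    exact (R_d (H ⋙ Γ) X i).trans ((map_δ H Γ (i + 1) X).symm.trans (congrArg Γ.map (R_d H X i)).symm))
    fun f => by
      ext n
      exact (Category.comp_id _).trans (Category.id_comp _).symm

/-- The same, indexed by integers. -/
def RZCompIso : RZ H ⋙ Γ.mapHomologicalComplex (ComplexShape.up ℤ) ≅ RZ (H ⋙ Γ) :=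
  NatIso.ofComponents (fun X => MapExt.mapExtIso Γ ((R H).obj X) ≪≫
      (ComplexShape.embeddingUpNat.extendFunctor A').mapIso ((RCompIso H Γ).app X))
    fun {X Y} f => by
      simp only [Functor.comp_map, ComplexShape.Embedding.extendFunctor_map, Iso.trans_hom, Functor.mapIso_hom,
        Iso.app_hom]
      refine ((Category.assoc _ _ _).symm.trans (congrArg (· ≫ _)
        (MapExt.mapExtIso_naturality Γ ((R H).map f)))).trans ((Category.assoc _ _ _).trans ?_)
      refine Eq.trans (congrArg (_ ≫ ·) ?_) (Category.assoc _ _ _).symm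
      rw [← HomologicalComplex.extendMap_comp, ← HomologicalComplex.extendMap_comp]
      exact congrArg (fun t => HomologicalComplex.extendMap t ComplexShape.embeddingUpNat)
        ((RCompIso H Γ).hom.naturality f)

theorem nonempty_mapAugZIso (X : CompHaus.{w}ᵒᵖ) :
    Nonempty (Arrow.mk ((Γ.mapHomologicalComplex (ComplexShape.up ℤ)).map ((augZ H).app X)) ≅
      Arrow.mk ((augZ (H ⋙ Γ)).app X)) := by
  refine ⟨Arrow.isoMk ((HomologicalComplex.singleMapHomologicalComplex Γ (ComplexShape.up ℤ) 0).app (H.obj X))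
    ((RZCompIso H Γ).app X) ?_⟩
  refine ((Iso.inv_comp_eq _).mp ?_).symm
  refine HomologicalComplex.from_single_hom_ext ?_
  simp only [HomologicalComplex.comp_f, Functor.mapHomologicalComplex_map_f, augZ, Arrow.mk_hom, Iso.app_hom,
    RZCompIso, NatIso.ofComponents_hom_app, Iso.trans_hom, Functor.mapIso_hom,
    ComplexShape.Embedding.extendFunctor_map]
  rw [show (MapExt.mapExtIso Γ ((R H).obj X)).hom.f 0 =
      (MapExt.mapExtXIso Γ ((R H).obj X) (Int.ofNat 0)).hom from rfl]
  simp only [HomologicalComplex.extendMap_f _ ComplexShape.embeddingUpNat (i := 0) (i' := (0 : ℤ)) rfl, aug_f_zero,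
    Functor.map_comp, map_δ]
  simp [MapExt.mapExtXIso, RCompIso, HomologicalComplex.singleMapHomologicalComplex,
    HomologicalComplex.extendSingleIso, HomologicalComplex.singleObjXSelf, HomologicalComplex.singleObjXIsoOfEq,
    eqToHom_map]

end Res

end

end Groth.Agent.BlowRegLib.PhcBeta
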