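import Groth.Agent.CohTopLib.ProperDesc
import Mathlib.AlgebraicTopology.SimplicialObject.Coskeletal
import Mathlib.CategoryTheory.Limits.Constructions.Over.Basic
import Mathlib.Topology.Category.TopCat.Limits.Basic

/-!
# Proper hypercoverings: properness of the terms, fillings
-/

set_option autoImplicit false
set_option linter.unusedSectionVars false
set_option linter.style.haveILetI false
set_option backward.isDefEq.respectTransparency false
set_option backward.isDefEq.respectTransparency.types false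

universe u v w
open CategoryTheory CategoryTheory.Limits Opposite Simplicial Topology

namespace Groth.Agent.BlowRegLib.PhcCosk

noncomputable section

section Gen

variable {E : Type w} [Category.{v} E] (K : SimplicialObject E) {T : E}

/-- Compatible boundaries. -/
def Compat (n : ℕ) (z : Fin (n + 2) → (T ⟶ K.obj (op ⦋n⦌))) : Prop :=
  ∀ (A : SimplexCategory) (p q : A ⟶ ⦋n⦌) (i j : Fin (n + 2)), A.len ≤ n →
    p ≫ SimplexCategory.δ j = q ≫ SimplexCategory.δ i → z j ≫ K.map p.op = z i ≫ K.map q.op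

theorem compat_zero (z : Fin 2 → (T ⟶ K.obj (op ⦋0⦌))) : Compat K 0 z := by
  intro A p q i j hA h
  by_cases hij : i = j
  · subst hij
    rw [(cancel_mono (SimplexCategory.δ i)).1 h]
  · exfalso
    have hk := congrArg (fun t : A ⟶ ⦋1⦌ => t.toOrderHom 0) h
    change Fin.succAbove j (p.toOrderHom 0) = Fin.succAbove i (q.toOrderHom 0) at hk
    have h1 : Fin.succAbove j (p.toOrderHom 0) ≠ i := hk ▸ Fin.succAbove_ne _ _
    have h2 := Fin.succAbove_ne j (p.toOrderHom 0)
    omega

theorem eq_of_lt {m : ℕ} (z : Fin (m + 3) → (T ⟶ K.obj (op ⦋m + 1⦌)))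
    (hz : ∀ i j : Fin (m + 2), i ≤ j → z j.succ ≫ K.δ i = z i.castSucc ≫ K.δ j)
    {A : SimplexCategory} {i j : Fin (m + 3)} (hij : i < j) (p q : A ⟶ ⦋m + 1⦌)
    (hpq : p ≫ SimplexCategory.δ j = q ≫ SimplexCategory.δ i) :
    z j ≫ K.map p.op = z i ≫ K.map q.op := by
  obtain ⟨j₀, rfl⟩ := Fin.exists_succ_eq.2 (show j ≠ 0 from fun h => by rw [h] at hij; exact (Nat.not_lt_zero _ hij))
  obtain ⟨i₀, rfl⟩ := Fin.exists_castSucc_eq.2 (show i ≠ Fin.last (m + 2) from fun h => by
    rw [h] at hij; exact not_le_of_gt hij (Fin.le_last _))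
  have hle : i₀ ≤ j₀ := Fin.castSucc_lt_succ_iff.1 hij
  have hmiss : ∀ k, p.toOrderHom k ≠ i₀ := fun k hk => by
    have h1 : (p ≫ SimplexCategory.δ j₀.succ).toOrderHom k = i₀.castSucc := by
      show (Fin.succAbove j₀.succ) (p.toOrderHom k) = _
      rw [hk]
      exact Fin.succAbove_of_castSucc_lt _ _ hij
    rw [hpq] at h1
    exact Fin.succAbove_ne i₀.castSucc (q.toOrderHom k) h1
  have hp := SimplexCategory.factor_δ_spec p i₀ hmiss
  have hq : q = SimplexCategory.factor_δ p i₀ ≫ SimplexCategory.δ j₀ := by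
    rw [← cancel_mono (SimplexCategory.δ i₀.castSucc), ← hpq, Category.assoc, ← SimplexCategory.δ_comp_δ hle,
      ← Category.assoc, hp]
  let ρ := SimplexCategory.factor_δ p i₀
  calc z j₀.succ ≫ K.map p.op = z j₀.succ ≫ K.map (ρ ≫ SimplexCategory.δ i₀).op := by rw [hp]
    _ = (z j₀.succ ≫ K.δ i₀) ≫ K.map ρ.op := by rw [op_comp, K.map_comp, ← Category.assoc]; rfl
    _ = (z i₀.castSucc ≫ K.δ j₀) ≫ K.map ρ.op := by rw [hz i₀ j₀ hle]
    _ = _ := by rw [hq, op_comp, K.map_comp, Category.assoc]; rfl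

theorem compat_succ {m : ℕ} (z : Fin (m + 3) → (T ⟶ K.obj (op ⦋m + 1⦌)))
    (hz : ∀ i j : Fin (m + 2), i ≤ j → z j.succ ≫ K.δ i = z i.castSucc ≫ K.δ j) : Compat K (m + 1) z := by
  intro A p q i j hA h
  rcases lt_trichotomy i j with hij | hij | hij
  · exact eq_of_lt K z hz hij p q h
  · subst hij
    rw [(cancel_mono (SimplexCategory.δ i)).1 h]
  · exact (eq_of_lt K z hz hij q p h.symm).symm

theorem exists_factor {n : ℕ} {A : SimplexCategory} (hA : A.len ≤ n) (θ : A ⟶ ⦋n + 1⦌) :
    ∃ (j : Fin (n + 2)) (p : A ⟶ ⦋n⦌), p ≫ SimplexCategory.δ j = θ := by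
  obtain ⟨j, hj⟩ : ∃ j : Fin (n + 2), ∀ k, θ.toOrderHom k ≠ j := by
    by_contra h
    push Not at h
    have := Fintype.card_le_of_surjective θ.toOrderHom h
    simp at this
    omega
  exact ⟨j, SimplexCategory.factor_δ θ j, SimplexCategory.factor_δ_spec (m := A.len) θ j hj⟩

variable [HasLimitsOfSize.{0, 0} E] {n : ℕ}
  [∀ F : (SimplexCategory.Truncated n)ᵒᵖ ⥤ E, (SimplexCategory.Truncated.inclusion n).op.HasRightKanExtension F]

/-- The coskeleton. -/
abbrev R : SimplicialObject E := (SimplicialObject.truncation n ⋙ SimplicialObject.Truncated.cosk n).obj K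

variable (n) in
/-- The unit. -/
abbrev unitMap : K.obj (op ⦋n + 1⦌) ⟶ (R K (n := n)).obj (op ⦋n + 1⦌) :=
  ((SimplicialObject.coskAdj n).unit.app K).app (op ⦋n + 1⦌)

/-- The counit. -/
abbrev ε : (SimplexCategory.Truncated.inclusion n).op ⋙ R K (n := n) ⟶ (SimplicialObject.truncation n).obj K :=
  (SimplicialObject.coskAdj n).counit.app ((SimplicialObject.truncation n).obj K)

/-- The top simplex of the truncated category. -/
abbrev top : (SimplexCategory.Truncated n)ᵒᵖ := op ⟨⦋n⦌, le_rfl⟩

/-- The faces of the coskeleton. -/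
def face (i : Fin (n + 2)) : (R K (n := n)).obj (op ⦋n + 1⦌) ⟶ K.obj (op ⦋n⦌) :=
  (R K).map (SimplexCategory.δ i).op ≫ (ε K).app top

theorem unit_face (i : Fin (n + 2)) : unitMap K n ≫ face K i = K.δ i := by
  have htri : (SimplicialObject.truncation n).map ((SimplicialObject.coskAdj n).unit.app K) ≫ ε K = 𝟙 _ :=
    (SimplicialObject.coskAdj n).left_triangle_components K
  have e1 : ((SimplicialObject.coskAdj n).unit.app K).app (op ⦋n⦌) ≫ (ε K).app top = 𝟙 _ :=
    NatTrans.congr_app htri top
  refine ((Category.assoc _ _ _).symm.trans (congrArg (· ≫ _)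
    (((SimplicialObject.coskAdj n).unit.app K).naturality (SimplexCategory.δ i).op).symm)).trans ?_
  exact (Category.assoc _ _ _).trans ((congrArg (K.map (SimplexCategory.δ i).op ≫ ·) e1).trans (Category.comp_id _))

theorem face_map {A : SimplexCategory} (hA : A.len ≤ n) (i : Fin (n + 2)) (p : A ⟶ ⦋n⦌) :
    face K i ≫ K.map p.op =
      (R K).map (p ≫ SimplexCategory.δ i).op ≫ (ε K).app (op (⟨A, hA⟩ : SimplexCategory.Truncated n)) := by
  let g : (top : (SimplexCategory.Truncated n)ᵒᵖ) ⟶ op (⟨A, hA⟩ : SimplexCategory.Truncated n) :=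
    (ObjectProperty.homMk p : (⟨A, hA⟩ : SimplexCategory.Truncated n) ⟶ ⟨⦋n⦌, le_rfl⟩).op
  have hn := (ε K).naturality g
  refine (Category.assoc _ _ _).trans ((congrArg ((R K).map (SimplexCategory.δ i).op ≫ ·) hn.symm).trans ?_)
  refine (Category.assoc _ _ _).symm.trans (congrArg (· ≫ _) ?_)
  exact ((R K).map_comp _ _).symm

theorem compat_face : Compat K n (face K (n := n)) := fun A p q i j hA h => by
  rw [face_map K hA, face_map K hA, h]

/-- The limit cone. -/
def hlim : IsLimit ((Functor.RightExtension.mk (R K (n := n)) (ε K (n := n))).coneAt (op ⦋n + 1⦌)) :=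
  haveI : (SimplexCategory.Truncated.inclusion n).op.HasPointwiseRightKanExtension
      ((SimplicialObject.truncation n).obj K) := fun _ => inferInstance
  haveI : (R K (n := n)).IsRightKanExtension (ε K) := inferInstance
  Functor.isPointwiseRightKanExtensionOfIsRightKanExtension (R K) (ε K) (op ⦋n + 1⦌)

theorem hom_ext {f g : T ⟶ (R K (n := n)).obj (op ⦋n + 1⦌)} (h : ∀ i, f ≫ face K i = g ≫ face K i) : f = g := by
  refine (hlim K).hom_ext fun j => ?_
  change f ≫ (R K).map j.hom ≫ (ε K).app j.right = g ≫ (R K).map j.hom ≫ (ε K).app j.right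
  obtain ⟨i, p, hp⟩ := exists_factor j.right.unop.property j.hom.unop
  have e := face_map K j.right.unop.property i p
  rw [hp] at e
  exact (congrArg (f ≫ ·) e.symm).trans ((Category.assoc _ _ _).symm.trans
    ((congrArg (· ≫ _) (h i)).trans ((Category.assoc _ _ _).trans (congrArg (g ≫ ·) e))))

theorem exists_lift (z : Fin (n + 2) → (T ⟶ K.obj (op ⦋n⦌))) (hz : Compat K n z) :
    ∃ l : T ⟶ (R K (n := n)).obj (op ⦋n + 1⦌), ∀ i, l ≫ face K i = z i := by
  choose J P hJP using fun (j : StructuredArrow (op ⦋n + 1⦌) (SimplexCategory.Truncated.inclusion n).op) =>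
    exists_factor j.right.unop.property j.hom.unop
  let c : Cone (StructuredArrow.proj (op ⦋n + 1⦌) (SimplexCategory.Truncated.inclusion n).op ⋙
      (SimplicialObject.truncation n).obj K) :=
    { pt := T
      π :=
        { app := fun j => z (J j) ≫ K.map (P j).op
          naturality := fun a b φ => by
            refine (Category.id_comp _).trans (Eq.trans ?_ (Category.assoc _ _ _).symm)
            have hw := congrArg Quiver.Hom.unop (StructuredArrow.w φ)
            change _ = z (J a) ≫ K.map (P a).op ≫ K.map φ.right.unop.hom.op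
            rw [← K.map_comp, ← op_comp]
            refine hz _ _ _ _ _ b.right.unop.property ?_
            rw [hJP, Category.assoc, hJP]
            exact hw.symm } }
  refine ⟨(hlim K).lift c, fun i => ?_⟩
  let j : StructuredArrow (op ⦋n + 1⦌) (SimplexCategory.Truncated.inclusion n).op :=
    StructuredArrow.mk (Y := (top : (SimplexCategory.Truncated n)ᵒᵖ)) (SimplexCategory.δ i).op
  refine ((hlim K).fac c j).trans ?_
  refine (hz _ (P j) (𝟙 _) i (J j) le_rfl ?_).trans ?_
  · rw [hJP, Category.id_comp]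
    rfl
  · exact (congrArg (z i ≫ ·) (K.map_id _)).trans (Category.comp_id _)

end Gen

open CohTopLib

variable {X : TopCat.{u}}
  [∀ (n : ℕ) (G : (SimplexCategory.Truncated n)ᵒᵖ ⥤ Over X),
    (SimplexCategory.Truncated.inclusion n).op.HasRightKanExtension G]
  (K : SimplicialObject (Over X))

/-- The separation condition on the fibres. -/
abbrev SepF (U : Over X) : Prop := ProperDesc.SepFib U.hom

theorem isClosed_eq_of_sep {U : Over X} (hU : SepF U) {Q : Type u} [TopologicalSpace Q] {g h : Q → U.left}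
    (hg : Continuous g) (hh : Continuous h) (e : ∀ q, U.hom (g q) = U.hom (h q)) : IsClosed {q | g q = h q} := by
  rw [← isOpen_compl_iff, isOpen_iff_forall_mem_open]
  intro q hq
  obtain ⟨A, B, hA, hB, h1, h2, hAB⟩ := hU _ _ (e q) hq
  exact ⟨g ⁻¹' A ∩ h ⁻¹' B, fun r hr he => Set.disjoint_left.mp hAB hr.1 ((show g r = h r from he) ▸ hr.2),
    (hA.preimage hg).inter (hB.preimage hh), h1, h2⟩

variable {K}

/-- Compatible tuples in a fibre. -/
abbrev Sphere (K : SimplicialObject (Over X)) (n : ℕ) : Type u :=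
  {v : LocalHomeoDesc.Pts (K.obj (op ⦋n⦌)).hom ⦋n + 1⦌ //
    ∀ (A : SimplexCategory) (p q : A ⟶ ⦋n⦌) (i j : Fin (n + 2)), A.len ≤ n →
      p ≫ SimplexCategory.δ j = q ≫ SimplexCategory.δ i →
      (K.map p.op).left (v.1.1 j) = (K.map q.op).left (v.1.1 i)}

theorem isClosed_sphere (n : ℕ) (hsep : ∀ A : SimplexCategory, A.len ≤ n → SepF (K.obj (op A))) :
    IsClosed (Set.ofPred fun v : LocalHomeoDesc.Pts (K.obj (op ⦋n⦌)).hom ⦋n + 1⦌ =>
      ∀ (A : SimplexCategory) (p q : A ⟶ ⦋n⦌) (i j : Fin (n + 2)), A.len ≤ n →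
        p ≫ SimplexCategory.δ j = q ≫ SimplexCategory.δ i →
        (K.map p.op).left (v.1.1 j) = (K.map q.op).left (v.1.1 i)) := by
  simp only [Set.setOf_forall]
  refine isClosed_iInter fun A => isClosed_iInter fun p => isClosed_iInter fun q => isClosed_iInter fun i =>
    isClosed_iInter fun j => isClosed_iInter fun hA => isClosed_iInter fun _ => ?_
  have hc : ∀ k : Fin (n + 2), Continuous fun v : LocalHomeoDesc.Pts (K.obj (op ⦋n⦌)).hom ⦋n + 1⦌ => v.1.1 k :=
    fun k => (continuous_apply k).comp (continuous_fst.comp continuous_subtype_val)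
  refine isClosed_eq_of_sep (hsep A hA) ((K.map p.op).left.hom.continuous.comp (hc j))
    ((K.map q.op).left.hom.continuous.comp (hc i)) fun v => ?_
  exact ((ConcreteCategory.congr_hom (Over.w (K.map p.op)) (v.1.1 j)).trans (v.2 j)).trans
    ((ConcreteCategory.congr_hom (Over.w (K.map q.op)) (v.1.1 i)).trans (v.2 i)).symm

/-- Compatible tuples, over the base. -/
abbrev sphereOver (K : SimplicialObject (Over X)) (n : ℕ) : Over X :=
  Over.mk (TopCat.ofHom ⟨fun v : Sphere K n => v.1.1.2,
    continuous_snd.comp (continuous_subtype_val.comp continuous_subtype_val)⟩ : TopCat.of (Sphere K n) ⟶ X)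

/-- The entries. -/
abbrev entry (K : SimplicialObject (Over X)) (n : ℕ) (i : Fin (n + 2)) : sphereOver K n ⟶ K.obj (op ⦋n⦌) :=
  Over.homMk (TopCat.ofHom ⟨fun v : Sphere K n => v.1.1.1 i,
    (continuous_apply i).comp (continuous_fst.comp (continuous_subtype_val.comp continuous_subtype_val))⟩)
    (by ext v; exact v.1.2 i)

variable (K)

theorem compat_entry (n : ℕ) : Compat K n (entry K n) := fun A p q i j hA h => by
  refine Over.OverMorphism.ext ?_
  ext v
  exact v.2 A p q i j hA h

/-- The boundary map of the coskeleton. -/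
theorem exists_cosk (n : ℕ) :
    ∃ (l : sphereOver K n ⟶ (R K (n := n)).obj (op ⦋n + 1⦌)) (Φ : (R K (n := n)).obj (op ⦋n + 1⦌) ⟶ sphereOver K n),
      (∀ i, l ≫ face K i = entry K n i) ∧ (∀ i, Φ ≫ entry K n i = face K i) ∧ Φ ≫ l = 𝟙 _ := by
  obtain ⟨l, hl⟩ := exists_lift K (entry K n) (compat_entry K n)
  let C := (R K (n := n)).obj (op ⦋n + 1⦌)
  let Φ : C ⟶ sphereOver K n := Over.homMk (TopCat.ofHom ⟨fun c : C.left =>
      (⟨⟨(fun i => (face K i).left c, C.hom c), fun i => ConcreteCategory.congr_hom (Over.w (face K i)) c⟩,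
        fun A p q i j hA h => ConcreteCategory.congr_hom
          (congrArg CommaMorphism.left (compat_face K A p q i j hA h)) c⟩ : Sphere K n),
    ((continuous_pi fun i => (face K i).left.hom.continuous).prodMk C.hom.hom.continuous).subtype_mk _ |>.subtype_mk _⟩)
    (by ext c; rfl)
  have hΦ : ∀ i, Φ ≫ entry K n i = face K i := fun i => by
    refine Over.OverMorphism.ext ?_
    ext c
    rfl
  refine ⟨l, Φ, hl, hΦ, hom_ext K fun i => ?_⟩
  rw [Category.assoc, hl, hΦ, Category.id_comp]

variable (h0c : IsProperMap (K.obj (op ⦋0⦌)).hom) (h0s : SepF (K.obj (op ⦋0⦌)))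
  (hc : ∀ n : ℕ, IsProperMap (((SimplicialObject.coskAdj n).unit.app K).app (op ⦋n + 1⦌)).left)
  (hs : ∀ (n : ℕ) (x x' : (K.obj (op ⦋n + 1⦌)).left),
    (((SimplicialObject.coskAdj n).unit.app K).app (op ⦋n + 1⦌)).left x =
      (((SimplicialObject.coskAdj n).unit.app K).app (op ⦋n + 1⦌)).left x' → x ≠ x' →
    ∃ U V : Set (K.obj (op ⦋n + 1⦌)).left, IsOpen U ∧ IsOpen V ∧ x ∈ U ∧ x' ∈ V ∧ Disjoint U V)

include h0c h0s hc hs in
/-- The terms are proper and separated over the base. -/
theorem proper_sep : ∀ (n : ℕ) (A : SimplexCategory), A.len ≤ n →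
    IsProperMap (K.obj (op A)).hom ∧ SepF (K.obj (op A)) := by
  intro n
  induction n with
  | zero =>
    intro A hA
    obtain rfl : A = ⦋0⦌ := SimplexCategory.ext (Nat.le_zero.mp hA)
    exact ⟨h0c, h0s⟩
  | succ n ih =>
    intro A hA
    rcases Nat.lt_or_ge n A.len with hlt | hge
    · obtain rfl : A = ⦋n + 1⦌ := SimplexCategory.ext (show A.len = n + 1 by omega)
      obtain ⟨hpn, hsn⟩ := ih ⦋n⦌ le_rfl
      obtain ⟨l, Φ, hl, hΦ, hΦl⟩ := exists_cosk K n
      let C := (R K (n := n)).obj (op ⦋n + 1⦌)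
      have hP : IsProperMap (sphereOver K n).hom := by
        have h1 : IsClosedEmbedding (Subtype.val : Sphere K n → _) :=
          IsClosed.isClosedEmbedding_subtypeVal (isClosed_sphere n fun A hA => (ih A hA).2)
        exact (ProperDesc.isProperMap_π (K.obj (op ⦋n⦌)).hom hpn ⦋n + 1⦌).comp h1.isProperMap
      have hsurj : Function.Surjective l.left := fun c =>
        ⟨Φ.left c, ConcreteCategory.congr_hom (congrArg CommaMorphism.left hΦl) c⟩
      have hC : IsProperMap C.hom := by
        refine isProperMap_of_comp_of_surj l.left.hom.continuous C.hom.hom.continuous ?_ hsurj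
        have e : (C.hom ∘ l.left : _ → _) = (sphereOver K n).hom :=
          funext fun v => ConcreteCategory.congr_hom (Over.w l) v
        exact e ▸ hP
      refine ⟨?_, fun x x' hx hne => ?_⟩
      · have e : ((K.obj (op ⦋n + 1⦌)).hom : _ → _) = C.hom ∘ (unitMap K n).left :=
          funext fun x => (ConcreteCategory.congr_hom (Over.w (unitMap K n)) x).symm
        rw [e]
        exact hC.comp (hc n)
      · by_cases he : (unitMap K n).left x = (unitMap K n).left x'
        · exact hs n x x' he hne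
        · obtain ⟨i, hi⟩ : ∃ i, (K.δ i).left x ≠ (K.δ i).left x' := by
            by_contra h
            push Not at h
            refine he ?_
            have hv : Φ.left ((unitMap K n).left x) = Φ.left ((unitMap K n).left x') := by
              refine Subtype.ext (Subtype.ext (Prod.ext (funext fun i => ?_) ?_))
              · have e : ∀ w, (entry K n i).left (Φ.left ((unitMap K n).left w)) = (K.δ i).left w := fun w =>
                  ConcreteCategory.congr_hom (congrArg CommaMorphism.left
                    ((congrArg (unitMap K n ≫ ·) (hΦ i)).trans (unit_face K i))) w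
                exact (e x).trans ((h i).trans (e x').symm)
              · have e : ∀ w, (sphereOver K n).hom (Φ.left ((unitMap K n).left w)) = (K.obj (op ⦋n + 1⦌)).hom w :=
                  fun w => (ConcreteCategory.congr_hom (Over.w Φ) _).trans
                    (ConcreteCategory.congr_hom (Over.w (unitMap K n)) w)
                exact (e x).trans (hx.trans (e x').symm)
            have e := congrArg l.left hv
            have e' : ∀ c, l.left (Φ.left c) = c := fun c => ConcreteCategory.congr_hom (congrArg CommaMorphism.left hΦl) c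
            rwa [e', e'] at e
          obtain ⟨U, V, hU, hV, h1, h2, h3⟩ := hsn ((K.δ i).left x) ((K.δ i).left x')
            (((ConcreteCategory.congr_hom (Over.w (K.δ i)) x).trans hx).trans
              (ConcreteCategory.congr_hom (Over.w (K.δ i)) x').symm) hi
          exact ⟨(K.δ i).left ⁻¹' U, (K.δ i).left ⁻¹' V, hU.preimage (K.δ i).left.hom.continuous,
            hV.preimage (K.δ i).left.hom.continuous, h1, h2, h3.preimage _⟩
    · exact ih A hge

variable (hj : ∀ n : ℕ, Function.Surjective (((SimplicialObject.coskAdj n).unit.app K).app (op ⦋n + 1⦌)).left)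

/-- The face of a point of the fibre. -/
abbrev fc {n : ℕ} {y : X} (i : Fin (n + 2)) (z : FamPush.Fib (K.obj (op ⦋n + 1⦌)) y) :
    FamPush.Fib (K.obj (op ⦋n⦌)) y := DescExact.face K i z

include hj in
theorem exists_fill_of_compat (n : ℕ) {y : X} (z : Fin (n + 2) → FamPush.Fib (K.obj (op ⦋n⦌)) y)
    (hz : Compat K n (T := Over.mk (TopCat.ofHom ⟨fun _ : PUnit.{u + 1} => y, continuous_const⟩ :
      TopCat.of PUnit.{u + 1} ⟶ X)) fun i => Over.homMk (TopCat.ofHom ⟨fun _ => (z i).1, continuous_const⟩)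
        (by ext v; exact (z i).2)) :
    ∃ w : FamPush.Fib (K.obj (op ⦋n + 1⦌)) y, ∀ i, fc K i w = z i := by
  obtain ⟨l, hl⟩ := exists_lift K _ hz
  obtain ⟨w, hw⟩ := hj n (l.left PUnit.unit)
  have hwy : (K.obj (op ⦋n + 1⦌)).hom w = y :=
    ((ConcreteCategory.congr_hom (Over.w (unitMap K n)) w).symm.trans
      (congrArg ((R K (n := n)).obj (op ⦋n + 1⦌)).hom hw)).trans (ConcreteCategory.congr_hom (Over.w l) PUnit.unit)
  refine ⟨⟨w, hwy⟩, fun i => Subtype.ext ?_⟩
  refine (ConcreteCategory.congr_hom (congrArg CommaMorphism.left (unit_face K i)) w).symm.trans ?_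
  exact (congrArg (face K i).left hw).trans (ConcreteCategory.congr_hom (congrArg CommaMorphism.left (hl i)) PUnit.unit)

theorem fc_fc {n : ℕ} {y : X} {i j : Fin (n + 2)} (h : i ≤ j) (z : FamPush.Fib (K.obj (op ⦋n + 2⦌)) y) :
    fc K i (fc K j.succ z) = fc K j (fc K i.castSucc z) :=
  Subtype.ext (ConcreteCategory.congr_hom (congrArg CommaMorphism.left (K.δ_comp_δ h)) z.1)

include hj in
theorem exists_fill_zero {y : X} (z : Fin 2 → FamPush.Fib (K.obj (op ⦋0⦌)) y) :
    ∃ w : FamPush.Fib (K.obj (op ⦋1⦌)) y, ∀ i, fc K i w = z i :=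
  exists_fill_of_compat K hj 0 z (compat_zero K _)

include hj in
theorem exists_fill_succ {n : ℕ} {y : X} (z : Fin (n + 3) → FamPush.Fib (K.obj (op ⦋n + 1⦌)) y)
    (hz : ∀ i j : Fin (n + 2), i ≤ j → fc K i (z j.succ) = fc K j (z i.castSucc)) :
    ∃ w : FamPush.Fib (K.obj (op ⦋n + 2⦌)) y, ∀ i, fc K i w = z i := by
  refine exists_fill_of_compat K hj (n + 1) z (compat_succ K _ fun i j h => ?_)
  refine Over.OverMorphism.ext ?_
  ext v
  exact congrArg Subtype.val (hz i j h)

/-- One stage of a contraction of a fibre. -/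
structure Stage (y : X) (n : ℕ) where
  /-- the operator -/
  h : FamPush.Fib (K.obj (op ⦋n⦌)) y → FamPush.Fib (K.obj (op ⦋n + 1⦌)) y
  /-- the prescribed faces -/
  G : Fin (n + 1) → FamPush.Fib (K.obj (op ⦋n⦌)) y → FamPush.Fib (K.obj (op ⦋n⦌)) y
  face_zero : ∀ z, fc K 0 (h z) = z
  face_succ : ∀ i z, fc K i.succ (h z) = G i z
  comm : ∀ (i j : Fin (n + 1)), i ≤ j → ∀ z : FamPush.Fib (K.obj (op ⦋n + 1⦌)) y,
    G i (fc K j.succ z) = G j (fc K i.castSucc z)

/-- The first stage. -/
def stageZero {y : X} (e : FamPush.Fib (K.obj (op ⦋0⦌)) y) : Stage K y 0 where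
  h z := (exists_fill_zero K hj (Fin.cons z fun _ => e)).choose
  G _ _ := e
  face_zero z := (exists_fill_zero K hj (Fin.cons z fun _ => e)).choose_spec 0
  face_succ i z := (exists_fill_zero K hj (Fin.cons z fun _ => e)).choose_spec i.succ
  comm _ _ _ _ := rfl

theorem Stage.boundary {y : X} {n : ℕ} (S : Stage K y n) (z : FamPush.Fib (K.obj (op ⦋n + 1⦌)) y)
    (i j : Fin (n + 2)) (h : i ≤ j) :
    fc K i ((Fin.cons z (fun k => S.h (fc K k z)) : Fin (n + 3) → _) j.succ) =
      fc K j ((Fin.cons z (fun k => S.h (fc K k z)) : Fin (n + 3) → _) i.castSucc) := by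
  rw [Fin.cons_succ]
  induction i using Fin.cases with
  | zero => rw [Fin.castSucc_zero, Fin.cons_zero, S.face_zero]
  | succ i =>
    induction j using Fin.cases with
    | zero => exact absurd h (by simp [Fin.le_def])
    | succ j =>
      rw [← Fin.succ_castSucc, Fin.cons_succ, S.face_succ, S.face_succ]
      exact S.comm i j (Fin.succ_le_succ_iff.mp h) z

/-- The next stage. -/
def Stage.next {y : X} {n : ℕ} (S : Stage K y n) : Stage K y (n + 1) where
  h z := (exists_fill_succ K hj (Fin.cons z fun k => S.h (fc K k z)) (S.boundary K z)).choose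
  G i z := S.h (fc K i z)
  face_zero z := (exists_fill_succ K hj (Fin.cons z fun k => S.h (fc K k z)) (S.boundary K z)).choose_spec 0
  face_succ i z := ((exists_fill_succ K hj (Fin.cons z fun k => S.h (fc K k z)) (S.boundary K z)).choose_spec i.succ).trans
    (Fin.cons_succ _ _ _)
  comm i j h z := congrArg S.h (fc_fc K h z)

/-- The stages. -/
def stage {y : X} (e : FamPush.Fib (K.obj (op ⦋0⦌)) y) (n : ℕ) : Stage K y n :=
  Nat.rec (stageZero K hj e) (fun _ S => S.next K hj) n

/-- The fibres contract. -/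
def cone {y : X} (e : FamPush.Fib (K.obj (op ⦋0⦌)) y) : DescExact.Cone K y where
  e := e
  h n := (stage K hj e n).h
  face_zero n z := (stage K hj e n).face_zero z
  face_one z := (stage K hj e 0).face_succ 0 z
  face_succ n i z := (stage K hj e (n + 1)).face_succ i z

end

end Groth.Agent.BlowRegLib.PhcCosk
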