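import Groth.Agent.BlowRegLib.PhcBeta

/-!
# Descent along set-theoretically contractible simplicial compact spaces
-/

universe v u w

set_option autoImplicit false
set_option linter.style.haveILetI false
set_option linter.unusedSectionVars false
set_option backward.isDefEq.respectTransparency false
set_option backward.isDefEq.respectTransparency.types false

open CategoryTheory CategoryTheory.Limits Opposite Simplicial

namespace Groth.Agent.BlowRegLib.PhcDesc

open SpSeqLib SpSeqLib.BiTotal PhcAug PhcBeta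

noncomputable section

variable {C : Type u} [Category.{v} C] [Abelian C] [HasCoproducts.{0} C] [AB4OfSize.{0} C]

/-- One column. -/
abbrev sng : CochainComplex C ℤ ⥤ Bi C := HomologicalComplex.single (CochainComplex C ℤ) (ComplexShape.up ℤ) 0

/-- One row. -/
abbrev row : CochainComplex C ℤ ⥤ Bi C :=
  (HomologicalComplex.single C (ComplexShape.up ℤ) 0).mapHomologicalComplex (ComplexShape.up ℤ)

/-- A complex maps to the total complex of itself as a column. -/
def iCol : 𝟭 (CochainComplex C ℤ) ⟶ sng ⋙ tot where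
  app G :=
    { f := fun n => (HomologicalComplex.singleObjXSelf (ComplexShape.up ℤ) 0 G).inv.f n ≫
        HomologicalComplex₂.ιTotal (sng.obj G) (ComplexShape.up ℤ) 0 n n (show (0 : ℤ) + n = n from zero_add n)
      comm' := fun n n' hn => by
        have hn' : n + 1 = n' := hn
        change (_ ≫ _) ≫ (HomologicalComplex₂.D₁ (sng.obj G) (ComplexShape.up ℤ) n n' +
          HomologicalComplex₂.D₂ (sng.obj G) (ComplexShape.up ℤ) n n') = G.d n n' ≫ _
        rw [Category.assoc, Preadditive.comp_add, HomologicalComplex₂.ι_D₁, HomologicalComplex₂.ι_D₂,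
          HomologicalComplex₂.d₁_eq _ _ (rfl : (ComplexShape.up ℤ).Rel 0 (0 + 1)) n n' (show (0 : ℤ) + 1 + n = n' by omega),
          HomologicalComplex₂.d₂_eq _ _ (0 : ℤ) (hn : (ComplexShape.up ℤ).Rel n n') n' (zero_add n')]
        rw [show (sng.obj G).d 0 (0 + 1) = 0 from HomologicalComplex.single_obj_d _ _ _ _ _]
        simp }
  naturality G G' φ := by
    refine HomologicalComplex.hom_ext _ _ fun n => ?_
    change φ.f n ≫ _ ≫ _ = (_ ≫ _) ≫ (tot.map (sng.map φ)).f n
    rw [Category.assoc, ι_tot_map, HomologicalComplex.single_map_f_self]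
    simp

theorem isIso_iCol (G : CochainComplex C ℤ) : IsIso (iCol.app G) := by
  haveI : ∀ n, IsIso ((iCol.app G).f n) := fun n => by
    refine ⟨HomologicalComplex₂.totalDesc _ fun p q h => if hp : p = 0 then
      eqToHom (by subst hp; rfl) ≫ (HomologicalComplex.singleObjXSelf (ComplexShape.up ℤ) 0 G).hom.f q ≫
        eqToHom (congrArg G.X (show q = n by have h' : p + q = n := h; omega)) else 0, ?_, ?_⟩
    · change (_ ≫ _) ≫ _ = _
      rw [Category.assoc, HomologicalComplex₂.ι_totalDesc, dif_pos rfl]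
      simp
    · refine HomologicalComplex₂.total.hom_ext _ fun p q h => ?_
      refine Eq.trans ?_ (Category.comp_id _).symm
      change _ ≫ _ ≫ (_ ≫ _) = _
      rw [HomologicalComplex₂.ι_totalDesc_assoc]
      by_cases hp : p = 0
      · subst hp
        obtain rfl : q = n := by have h' : (0 : ℤ) + q = n := h; omega
        rw [dif_pos rfl]
        simp
      · exact ((HomologicalComplex.eval C _ q).map_isZero
          (HomologicalComplex.isZero_single_obj_X _ _ G p hp)).eq_of_src _ _
  exact HomologicalComplex.Hom.isIso_of_components _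

/-- A complex maps to the total complex of itself as a row. -/
def iRow : 𝟭 (CochainComplex C ℤ) ⟶ row ⋙ tot where
  app G :=
    { f := fun n => (HomologicalComplex.singleObjXSelf (ComplexShape.up ℤ) 0 (G.X n)).inv ≫
        HomologicalComplex₂.ιTotal (row.obj G) (ComplexShape.up ℤ) n 0 n (show n + (0 : ℤ) = n from add_zero n)
      comm' := fun n n' hn => by
        have hn' : n + 1 = n' := hn
        change (_ ≫ _) ≫ (HomologicalComplex₂.D₁ (row.obj G) (ComplexShape.up ℤ) n n' +
          HomologicalComplex₂.D₂ (row.obj G) (ComplexShape.up ℤ) n n') = G.d n n' ≫ _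
        rw [Category.assoc, Preadditive.comp_add, HomologicalComplex₂.ι_D₁, HomologicalComplex₂.ι_D₂,
          HomologicalComplex₂.d₁_eq _ _ (hn : (ComplexShape.up ℤ).Rel n n') 0 n' (add_zero n'),
          HomologicalComplex₂.d₂_eq _ _ n (rfl : (ComplexShape.up ℤ).Rel 0 (0 + 1)) n' (show n + ((0 : ℤ) + 1) = n' by omega)]
        rw [show ((row.obj G).X n).d 0 (0 + 1) = 0 from HomologicalComplex.single_obj_d _ _ _ _ _]
        simp [HomologicalComplex.single_map_f_self] }
  naturality G G' φ := by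
    refine HomologicalComplex.hom_ext _ _ fun n => ?_
    change φ.f n ≫ _ ≫ _ = (_ ≫ _) ≫ (tot.map (row.map φ)).f n
    rw [Category.assoc, ι_tot_map]
    simp [HomologicalComplex.single_map_f_self]

theorem isIso_iRow (G : CochainComplex C ℤ) : IsIso (iRow.app G) := by
  haveI : ∀ n, IsIso ((iRow.app G).f n) := fun n => by
    refine ⟨HomologicalComplex₂.totalDesc _ fun p q h => if hq : q = 0 then
      eqToHom (by subst hq; rfl) ≫ (HomologicalComplex.singleObjXSelf (ComplexShape.up ℤ) 0 (G.X p)).hom ≫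
        eqToHom (congrArg G.X (show p = n by have h' : p + q = n := h; omega)) else 0, ?_, ?_⟩
    · change (_ ≫ _) ≫ _ = _
      rw [Category.assoc, HomologicalComplex₂.ι_totalDesc, dif_pos rfl]
      simp
    · refine HomologicalComplex₂.total.hom_ext _ fun p q h => ?_
      refine Eq.trans ?_ (Category.comp_id _).symm
      change _ ≫ _ ≫ (_ ≫ _) = _
      rw [HomologicalComplex₂.ι_totalDesc_assoc]
      by_cases hq : q = 0
      · subst hq
        obtain rfl : p = n := by have h' : p + (0 : ℤ) = n := h; omega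
        rw [dif_pos rfl]
        simp
      · exact (HomologicalComplex.isZero_single_obj_X (ComplexShape.up ℤ) 0 (G.X p) q hq).eq_of_src _ _
  exact HomologicalComplex.Hom.isIso_of_components _

section Partial

open CochainComplex.mappingCone TotQI

/-- Total complexes of bicomplexes whose columns agree in low degrees. -/
theorem isIso_tot_of_cols {M N : Bi C} (φ : M ⟶ N)
    (hM : ∀ p q : ℤ, p < 0 ∨ q < 0 → IsZero ((M.X p).X q))
    (hN : ∀ p q : ℤ, p < 0 ∨ q < 0 → IsZero ((N.X p).X q)) (n : ℤ)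
    (h : ∀ p k : ℤ, 0 ≤ p → k + p ≤ n →
      IsIso (HomologicalComplex.homologyMap (φ.f p) k) ∧ Mono (HomologicalComplex.homologyMap (φ.f p) (k + 1))) :
    (∀ j, j ≤ n → IsIso (HomologicalComplex.homologyMap (tot.map φ) j) ∧
      Mono (HomologicalComplex.homologyMap (tot.map φ) (j + 1))) := by
  have hI : ∀ p q : ℤ, p < 0 ∨ q < -1 → IsZero (((coneId M).X p).X q) := fun p q hpq => by
    refine (CochainComplex.mappingCone.isZero_X_iff (𝟙 (M.X p)) q).2 ⟨hM p (q + 1) ?_, hM p q ?_⟩ <;>
      rcases hpq with hpq | hpq <;> lia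
  let ψ : M ⟶ N ⊞ coneId M := biprod.lift φ (toConeId M)
  haveI : Mono ψ := by
    haveI := mono_toConeId M
    exact mono_of_mono_fac (biprod.lift_snd φ (toConeId M))
  let S : ShortComplex (Bi C) := ShortComplex.mk ψ (cokernel.π ψ) (cokernel.condition ψ)
  have hS : S.ShortExact :=
    { exact := ShortComplex.exact_of_g_is_cokernel _ (cokernelIsCokernel _)
      mono_f := inferInstanceAs (Mono ψ)
      epi_g := inferInstanceAs (Epi (cokernel.π ψ)) }
  have hQ : ∀ p q : ℤ, p < 0 ∨ q < -1 → IsZero ((S.X₃.X p).X q) := fun p q hpq => by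
    have := ((hS.map_of_exact (HomologicalComplex.eval (CochainComplex C ℤ) (ComplexShape.up ℤ) p)).map_of_exact
      (HomologicalComplex.eval C (ComplexShape.up ℤ) q)).epi_g
    refine IsZero.of_epi ((S.g.f p).f q) ?_
    let G : Bi C ⥤ C := HomologicalComplex.eval (CochainComplex C ℤ) (ComplexShape.up ℤ) p ⋙
      HomologicalComplex.eval C (ComplexShape.up ℤ) q
    haveI := isIso_map_fst G N (coneId M) (hI p q hpq)
    exact (hN p q (by rcases hpq with hpq | hpq <;> lia)).of_iso (asIso (G.map (biprod.fst : N ⊞ coneId M ⟶ N)))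
  have key : ∀ p k : ℤ, k + p ≤ n → IsZero ((S.X₃.X p).homology k) := fun p k hk => by
    by_cases hp : p < 0
    · refine ShortComplex.isZero_homology_of_isZero_X₂ _ ?_
      exact hQ p k (Or.inl hp)
    let Gk : ℤ → (Bi C ⥤ C) := fun k => HomologicalComplex.eval (CochainComplex C ℤ) (ComplexShape.up ℤ) p ⋙
      HomologicalComplex.homologyFunctor C (ComplexShape.up ℤ) k
    have hfst : ∀ k, IsIso ((Gk k).map (biprod.fst : N ⊞ coneId M ⟶ N)) := fun k =>
      isIso_map_fst (Gk k) N (coneId M) (isZero_coneId_homology M p k)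
    have he : ∀ k, (Gk k).map ψ ≫ (Gk k).map biprod.fst = (Gk k).map φ := fun k => by
      rw [← (Gk k).map_comp, biprod.lift_fst]
    obtain ⟨h1, h2⟩ := h p k (not_lt.mp hp) hk
    haveI := hfst k
    haveI := hfst (k + 1)
    haveI : IsIso ((Gk k).map ψ) := by
      haveI : IsIso ((Gk k).map ψ ≫ (Gk k).map biprod.fst) := (he k).symm ▸ h1
      exact IsIso.of_isIso_comp_right _ ((Gk k).map biprod.fst)
    haveI : Mono ((Gk (k + 1)).map ψ) := by
      haveI : Mono ((Gk (k + 1)).map ψ ≫ (Gk (k + 1)).map biprod.fst) := (he (k + 1)).symm ▸ h2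
      exact mono_of_mono _ ((Gk (k + 1)).map biprod.fst)
    let Sp := S.map (HomologicalComplex.eval (CochainComplex C ℤ) (ComplexShape.up ℤ) p)
    have hSp : Sp.ShortExact := hS.map_of_exact _
    refine (hSp.homology_exact₃ k (k + 1) rfl).isZero_of_both_zeros ?_ ?_
    · haveI : Epi (HomologicalComplex.homologyMap Sp.f k) := inferInstanceAs (Epi ((Gk k).map ψ))
      refine (cancel_epi (HomologicalComplex.homologyMap Sp.f k)).1 (Eq.trans ?_ comp_zero.symm)
      exact (HomologicalComplex.homologyMap_comp _ _ k).symm.trans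
        ((congrArg (fun t => HomologicalComplex.homologyMap t k) Sp.zero).trans (HomologicalComplex.homologyMap_zero _ _ k))
    · haveI : Mono (HomologicalComplex.homologyMap Sp.f (k + 1)) := inferInstanceAs (Mono ((Gk (k + 1)).map ψ))
      exact (cancel_mono (HomologicalComplex.homologyMap Sp.f (k + 1))).1
        ((hSp.δ_comp k (k + 1) rfl).trans zero_comp.symm)
  have hQtot : ∀ j, j ≤ n → IsZero ((tot.obj S.X₃).homology j) := fun j hj =>
    isZero_homology_tot_at S.X₃ (-1) hQ j fun p => key p _ (by omega)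
  intro j hj
  let G : ℤ → (Bi C ⥤ C) := fun m => tot ⋙ HomologicalComplex.homologyFunctor C (ComplexShape.up ℤ) m
  have hfst : ∀ m, IsIso ((G m).map (biprod.fst : N ⊞ coneId M ⟶ N)) := fun m =>
    isIso_map_fst (G m) N (coneId M)
      (isZero_homology_tot_at (coneId M) (-1) hI m fun p => isZero_coneId_homology M p _)
  have he : ∀ m, (G m).map ψ ≫ (G m).map biprod.fst = (G m).map φ := fun m => by
    rw [← (G m).map_comp, biprod.lift_fst]
  have hT := shortExact_map_tot hS
  haveI : Mono ((G j).map ψ) := (hT.homology_exact₁ (j - 1) j (by simp)).mono_g ((hQtot (j - 1) (by omega)).eq_of_src _ _)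
  haveI : Epi ((G j).map ψ) := (hT.homology_exact₂ j).epi_f ((hQtot j hj).eq_of_tgt _ _)
  haveI : Mono ((G (j + 1)).map ψ) := (hT.homology_exact₁ j (j + 1) rfl).mono_g ((hQtot j hj).eq_of_src _ _)
  haveI : IsIso ((G j).map ψ) := isIso_of_mono_of_epi _
  haveI := hfst j
  haveI := hfst (j + 1)
  constructor
  · change IsIso ((G j).map φ)
    rw [← he j]
    infer_instance
  · change Mono ((G (j + 1)).map φ)
    rw [← he (j + 1)]
    infer_instance

end Partial

section RMap

variable {A : Type u} [Category.{v} A] [Abelian A] {H H' : CompHaus.{w}ᵒᵖ ⥤ A} (η : H ⟶ H')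

theorem δ_natural : ∀ (n : ℕ) (X : CompHaus.{w}ᵒᵖ),
    (δ H n).app X ≫ η.app (op ((pw (n + 1)).obj X.unop)) = η.app (op ((pw n).obj X.unop)) ≫ (δ H' n).app X := by
  intro n
  induction n with
  | zero => exact fun X => η.naturality _
  | succ n ih =>
    intro X
    rw [δ_succ_app, δ_succ_app, Preadditive.add_comp, Preadditive.comp_add, Preadditive.zsmul_comp,
      Preadditive.comp_zsmul, shiftB_app, shiftB_app]
    exact congrArg₂ (· + ·) (ih (op (B.obj X.unop))) (congrArg _ (η.naturality _))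

/-- The resolution, as a functor of the presheaf. -/
def RMap : R H ⟶ R H' where
  app X :=
    { f := fun n => η.app (op ((pw (n + 1)).obj X.unop))
      comm' := fun i j hij => by
        obtain rfl : i + 1 = j := hij
        rw [R_d, R_d]
        exact (δ_natural η (i + 1) X).symm }
  naturality X Y f := by
    ext n
    exact η.naturality _

/-- The same, indexed by integers. -/
def RZMap : RZ H ⟶ RZ H' := Functor.whiskerRight (RMap η) _

end RMap

variable (G : CompHaus.{w}ᵒᵖ ⥤ CochainComplex C ℤ)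

/-- The resolved presheaf. -/
abbrev Stot : CompHaus.{w}ᵒᵖ ⥤ CochainComplex C ℤ := RZ G ⋙ tot

/-- The comparison with the resolved presheaf. -/
def θ : G ⟶ Stot G :=
  Functor.whiskerLeft G iCol ≫ Functor.whiskerRight (PhcBeta.augZ G) tot

variable {G}

theorem isZero_RZ (hG : Bdd G) (X : CompHaus.{w}ᵒᵖ) (p q : ℤ) (h : p < 0 ∨ q < 0) :
    IsZero ((((RZ G).obj X).X p).X q) := by
  by_cases hp : p < 0
  · exact (HomologicalComplex.eval C _ q).map_isZero (HomologicalComplex.isZero_extend_X _ _ p fun k hk => by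
      change (k : ℤ) = p at hk
      omega)
  · obtain ⟨n, rfl⟩ := Int.eq_ofNat_of_zero_le (not_lt.mp hp)
    exact (hG _ q (h.resolve_left hp)).of_iso ((HomologicalComplex.eval C _ q).mapIso
      (((R G).obj X).extendXIso ComplexShape.embeddingUpNat (i := n) (i' := (n : ℤ)) rfl))

theorem bdd_Stot (hG : Bdd G) : Bdd (Stot G) := fun X q hq =>
  isZero_tot_X _ q fun p k hpk => isZero_RZ hG X p k (by omega)

theorem quasiIso_θ_of_section (hG : Bdd G) {X : CompHaus.{w}} (s : X ⟶ B.obj X) (hs : s ≫ π.app X = 𝟙 X) :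
    QuasiIso ((θ G).app (op X)) := by
  haveI := isIso_iCol (G.obj (op X))
  haveI : Mono ((PhcBeta.augZ G).app (op X)) := PhcBeta.mono_augZ G s hs
  haveI : QuasiIso (tot.map ((PhcBeta.augZ G).app (op X))) := by
    refine BiSS.quasiIso_tot_of_row _ (isZero_RZ hG (op X)) _ _ fun q => ?_
    obtain ⟨e⟩ := nonempty_mapAugZIso G (HomologicalComplex.eval C (ComplexShape.up ℤ) q) (op X)
    haveI := PhcBeta.quasiIso_augZ (G ⋙ HomologicalComplex.eval C (ComplexShape.up ℤ) q) s hs
    exact (quasiIso_iff_of_arrow_mk_iso _ _ e).mpr inferInstance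
  change QuasiIso (iCol.app (G.obj (op X)) ≫ tot.map ((PhcBeta.augZ G).app (op X)))
  infer_instance

/-- A set-theoretic contraction. -/
structure SCtr (L : SimplicialObject CompHaus.{w}) {P : CompHaus.{w}}
    (a : L.obj (op (SimplexCategory.mk 0)) ⟶ P) where
  /-- the section -/
  s : P → L.obj (op (SimplexCategory.mk 0))
  /-- the operators -/
  h : ∀ n : ℕ, L.obj (op (SimplexCategory.mk n)) → L.obj (op (SimplexCategory.mk (n + 1)))
  s_a : ∀ x, a (s x) = x
  h_δ_zero : ∀ (n : ℕ) (z : L.obj (op (SimplexCategory.mk n))), L.δ (0 : Fin (n + 2)) (h n z) = z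
  h_δ_one : ∀ z : L.obj (op (SimplexCategory.mk 0)), L.δ (1 : Fin 2) (h 0 z) = s (a z)
  h_δ_succ : ∀ (n : ℕ) (i : Fin (n + 2)) (z : L.obj (op (SimplexCategory.mk (n + 1)))),
    L.δ i.succ (h (n + 1) z) = h n (L.δ i z)

/-- A presheaf factoring through sets is contracted. -/
theorem nonempty_contr {L : SimplicialObject CompHaus.{w}} {P : CompHaus.{w}}
    {a : L.obj (op (SimplexCategory.mk 0)) ⟶ P} (c : SCtr L a) {A : Type u} [Category.{v} A] [Abelian A]
    {F : CompHaus.{w}ᵒᵖ ⥤ A} (Φ : (Type w)ᵒᵖ ⥤ A) (φ : (forget CompHaus.{w}).op ⋙ Φ ≅ F) :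
    Nonempty (CosimpAug.Contr (cosOf L F) (F.map a.op)) := by
  let m : ∀ {X Y : CompHaus.{w}} (g : X → Y), F.obj (op Y) ⟶ F.obj (op X) := fun {X Y} g =>
    φ.inv.app (op Y) ≫ Φ.map (↾g).op ≫ φ.hom.app (op X)
  have hm : ∀ {X Y : CompHaus.{w}} (g : X ⟶ Y), F.map g.op = m (fun x => g x) := fun {X Y} g => by
    have h2 := φ.hom.naturality g.op
    simp only [m]
    exact ((Iso.eq_inv_comp (φ.app (op Y))).mpr h2.symm).trans rfl
  have hmm : ∀ {X Y Z : CompHaus.{w}} (g : X → Y) (k : Y → Z), m k ≫ m g = m (k ∘ g) := fun {X Y Z} g k => by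
    simp only [m, Category.assoc, Iso.hom_inv_id_app_assoc]
    rw [← Φ.map_comp_assoc]
    rfl
  have hid : ∀ {X : CompHaus.{w}}, m (id : X → X) = 𝟙 _ := fun {X} => by
    simp only [m]
    rw [show (↾(id : X → X)).op = 𝟙 (op ((forget CompHaus.{w}).obj X)) from rfl]
    erw [CategoryTheory.Functor.map_id, Category.id_comp]
    exact φ.inv_hom_id_app (op X)
  refine ⟨{ r := m c.s, h := fun n => m (c.h n), g_r := ?_, δ_zero := fun n => ?_, δ_one := ?_, δ_succ := fun n i => ?_ }⟩
  · rw [hm, hmm]
    exact (congrArg m (funext c.s_a)).trans hid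
  · rw [cos_δ, hm, hmm]
    exact (congrArg m (funext (c.h_δ_zero n))).trans hid
  · rw [cos_δ, hm, hm, hmm, hmm]
    exact congrArg m (funext c.h_δ_one)
  · rw [cos_δ, cos_δ, hm, hm, hmm, hmm]
    exact congrArg m (funext (c.h_δ_succ n i))

/-- The degree zero cycles. -/
abbrev Z0 (G : CompHaus.{w}ᵒᵖ ⥤ CochainComplex C ℤ) : CompHaus.{w}ᵒᵖ ⥤ C :=
  G ⋙ HomologicalComplex.cyclesFunctor C (ComplexShape.up ℤ) 0

/-- The cycles include. -/
def incl (G : CompHaus.{w}ᵒᵖ ⥤ CochainComplex C ℤ) : Z0 G ⋙ HomologicalComplex.single C (ComplexShape.up ℤ) 0 ⟶ G where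
  app X := HomologicalComplex.mkHomFromSingle ((G.obj X).iCycles 0) fun j _ => (G.obj X).iCycles_d 0 j
  naturality X Y f := by
    refine HomologicalComplex.from_single_hom_ext ?_
    simp [HomologicalComplex.single_map_f_self]

theorem quasiIso_incl (hG : Bdd G) (X : CompHaus.{w}ᵒᵖ) (h : ∀ k : ℤ, 0 < k → IsZero ((G.obj X).homology k)) :
    QuasiIso ((incl G).app X) := by
  refine ⟨fun k => ?_⟩
  rw [quasiIsoAt_iff_isIso_homologyMap]
  by_cases hk : k = 0
  · subst hk
    have hd : (G.obj X).d (-1) 0 = 0 := (hG X (-1) (by norm_num)).eq_of_src _ _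
    haveI : IsIso ((G.obj X).homologyπ 0) := (G.obj X).isIso_homologyπ (-1) 0 (by simp) hd
    have e : (((HomologicalComplex.single C (ComplexShape.up ℤ) 0).obj ((Z0 G).obj X)).homologyπ 0) ≫
        HomologicalComplex.homologyMap ((incl G).app X) 0 =
        HomologicalComplex.cyclesMap ((incl G).app X) 0 ≫ (G.obj X).homologyπ 0 :=
      HomologicalComplex.homologyπ_naturality _ _
    haveI : IsIso (HomologicalComplex.cyclesMap ((incl G).app X) 0) := by
      have e' : HomologicalComplex.cyclesMap ((incl G).app X) 0 =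
          (HomologicalComplex.singleObjCyclesSelfIso (ComplexShape.up ℤ) 0 ((Z0 G).obj X)).hom := by
        rw [← cancel_mono ((G.obj X).iCycles 0), HomologicalComplex.cyclesMap_i]
        simp [incl, HomologicalComplex.singleObjCyclesSelfIso]
      rw [e']
      infer_instance
    haveI : IsIso (((HomologicalComplex.single C (ComplexShape.up ℤ) 0).obj ((Z0 G).obj X)).homologyπ 0) :=
      HomologicalComplex.isIso_homologyπ _ (-1) 0 (by simp) (HomologicalComplex.single_obj_d _ _ _ _ _)
    have : IsIso ((((HomologicalComplex.single C (ComplexShape.up ℤ) 0).obj ((Z0 G).obj X)).homologyπ 0) ≫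
        HomologicalComplex.homologyMap ((incl G).app X) 0) := e ▸ inferInstance
    exact IsIso.of_isIso_comp_left (((HomologicalComplex.single C (ComplexShape.up ℤ) 0).obj ((Z0 G).obj X)).homologyπ 0) _
  · have h1 : IsZero (((Z0 G ⋙ HomologicalComplex.single C (ComplexShape.up ℤ) 0).obj X).homology k) :=
      (HomologicalComplex.exactAt_single_obj (ComplexShape.up ℤ) 0 ((Z0 G).obj X) k hk).isZero_homology
    have h2 : IsZero ((G.obj X).homology k) := by
      rcases lt_or_gt_of_ne hk with hk | hk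
      · exact ShortComplex.isZero_homology_of_isZero_X₂ _ (hG X k hk)
      · exact h k hk
    exact ⟨0, h1.eq_of_src _ _, h2.eq_of_src _ _⟩

/-- The comparison of resolutions. -/
def τ (G : CompHaus.{w}ᵒᵖ ⥤ CochainComplex C ℤ) : RZ (Z0 G) ⟶ Stot G :=
  Functor.whiskerLeft (RZ (Z0 G)) iRow ≫
    Functor.whiskerRight ((RZCompIso (Z0 G) (HomologicalComplex.single C (ComplexShape.up ℤ) 0)).hom ≫
      RZMap (incl G)) tot

theorem quasiIso_τ (hG : Bdd G) (hfree : ∀ (E : Type w) (k : ℤ), 0 < k → IsZero ((G.obj (op (β.obj E))).homology k))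
    (X : CompHaus.{w}ᵒᵖ) : QuasiIso ((τ G).app X) := by
  haveI := isIso_iRow ((RZ (Z0 G)).obj X)
  let H := Z0 G ⋙ HomologicalComplex.single C (ComplexShape.up ℤ) 0
  have hH : Bdd H := fun U q hq => HomologicalComplex.isZero_single_obj_X _ _ _ q (by omega)
  haveI : QuasiIso (tot.map ((RZMap (incl G)).app X)) := by
    refine quasiIso_tot_of_cols _ (isZero_RZ hH X) (isZero_RZ hG X) fun p => ?_
    by_cases hp : p < 0
    · have hz : ∀ K : CompHaus.{w}ᵒᵖ ⥤ CochainComplex C ℤ, IsZero (((RZ K).obj X).X p) := fun K =>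
        HomologicalComplex.isZero_extend_X _ _ p fun k hk => by
          change (k : ℤ) = p at hk
          omega
      haveI : IsIso (((RZMap (incl G)).app X).f p) := ⟨0, (hz H).eq_of_src _ _, (hz G).eq_of_src _ _⟩
      infer_instance
    · obtain ⟨n, rfl⟩ := Int.eq_ofNat_of_zero_le (not_lt.mp hp)
      change QuasiIso ((HomologicalComplex.extendMap ((RMap (incl G)).app X) ComplexShape.embeddingUpNat).f (n : ℤ))
      rw [HomologicalComplex.extendMap_f _ ComplexShape.embeddingUpNat (i := n) (i' := (n : ℤ)) rfl]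
      haveI : QuasiIso (((RMap (incl G)).app X).f n) := by
        obtain ⟨E, hE⟩ := exists_pw_eq n X.unop
        exact quasiIso_incl hG _ fun k hk => hE.symm ▸ hfree E k hk
      infer_instance
  change QuasiIso (iRow.app ((RZ (Z0 G)).obj X) ≫
    tot.map ((RZCompIso (Z0 G) (HomologicalComplex.single C (ComplexShape.up ℤ) 0)).hom.app X ≫ (RZMap (incl G)).app X))
  rw [Functor.map_comp]
  infer_instance

theorem bdd_RZ (H : CompHaus.{w}ᵒᵖ ⥤ C) : Bdd (RZ H) := fun X q hq =>
  HomologicalComplex.isZero_extend_X _ _ q fun k hk => by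
    change (k : ℤ) = q at hk
    omega

variable {L : SimplicialObject CompHaus.{w}} {P : CompHaus.{w}} {a : L.obj (op (SimplexCategory.mk 0)) ⟶ P}
  {ha : L.δ (0 : Fin 2) ≫ a = L.δ (1 : Fin 2) ≫ a}

theorem descAt_RZ (c : SCtr L a) (H : CompHaus.{w}ᵒᵖ ⥤ C) : DescAt L a ha (RZ H) := by
  refine descAt_of_contr L a ha (bdd_RZ H) fun q => ?_
  by_cases hq : q < 0
  · refine nonempty_contr c ((Functor.const _).obj ((RZ H).obj (op P) |>.X q)) (NatIso.ofComponents
      (fun X => (bdd_RZ H (op P) q hq).iso (bdd_RZ H X q hq)) fun {X Y} f => (bdd_RZ H (op P) q hq).eq_of_src _ _)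
  · obtain ⟨n, rfl⟩ := Int.eq_ofNat_of_zero_le (not_lt.mp hq)
    refine nonempty_contr c ((β ⋙ pw n).op ⋙ H) (NatIso.ofComponents
      (fun X => (((R H).obj X).extendXIso ComplexShape.embeddingUpNat (i := n) (i' := (n : ℤ)) rfl).symm)
      fun {X Y} f => ?_)
    change _ = _ ≫ (HomologicalComplex.extendMap ((R H).map f) ComplexShape.embeddingUpNat).f (n : ℤ)
    rw [HomologicalComplex.extendMap_f _ ComplexShape.embeddingUpNat (i := n) (i' := (n : ℤ)) rfl]
    simp
    rfl

theorem descAt_Stot (hG : Bdd G) (hfree : ∀ (E : Type w) (k : ℤ), 0 < k → IsZero ((G.obj (op (β.obj E))).homology k))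
    (c : SCtr L a) : DescAt L a ha (Stot G) :=
  (descAt_iff L a ha (τ G) (quasiIso_τ hG hfree) (bdd_RZ _) (bdd_Stot hG)).mp (descAt_RZ c (Z0 G))

/-- Presheaves with descent along good coverings agree with their resolutions. -/
theorem quasiIso_θ (hG : Bdd G) (hfree : ∀ (E : Type w) (k : ℤ), 0 < k → IsZero ((G.obj (op (β.obj E))).homology k))
    (hdesc : ∀ X : CompHaus.{w}, ∃ (L : SimplicialObject CompHaus.{w}) (a : L.obj (op (SimplexCategory.mk 0)) ⟶ X)
      (ha : L.δ (0 : Fin 2) ≫ a = L.δ (1 : Fin 2) ≫ a), Nonempty (SCtr L a) ∧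
      (∃ E : Type w, Nonempty (L.obj (op (SimplexCategory.mk 0)) ≅ β.obj E)) ∧ DescAt L a ha G)
    (X : CompHaus.{w}) : QuasiIso ((θ G).app (op X)) := by
  suffices key : ∀ (m : ℕ) (X : CompHaus.{w}) (k : ℤ), k ≤ (m : ℤ) - 2 →
      IsIso (HomologicalComplex.homologyMap ((θ G).app (op X)) k) ∧
        Mono (HomologicalComplex.homologyMap ((θ G).app (op X)) (k + 1)) by
    refine ⟨fun k => ?_⟩
    rw [quasiIsoAt_iff_isIso_homologyMap]
    exact (key (k + 2).toNat X k (by omega)).1
  intro m
  induction m with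
  | zero =>
    intro X k hk
    have hz : ∀ k : ℤ, k < 0 → IsZero ((G.obj (op X)).homology k) ∧ IsZero (((Stot G).obj (op X)).homology k) :=
      fun k hk => ⟨ShortComplex.isZero_homology_of_isZero_X₂ _ (hG _ k hk),
        ShortComplex.isZero_homology_of_isZero_X₂ _ (bdd_Stot hG _ k hk)⟩
    exact ⟨⟨0, (hz k (by omega)).1.eq_of_src _ _, (hz k (by omega)).2.eq_of_src _ _⟩,
      ⟨fun _ _ _ => (hz (k + 1) (by omega)).1.eq_of_tgt _ _⟩⟩
  | succ m ih =>
    intro X k hk
    obtain ⟨L, a, ha, ⟨c⟩, ⟨E, ⟨eE⟩⟩, hd⟩ := hdesc X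
    have hd' : DescAt L a ha (Stot G) := descAt_Stot hG hfree c
    obtain ⟨s, hs⟩ := exists_section_of_iso eE
    haveI := quasiIso_θ_of_section hG s hs
    let φ : CosimpAug.ext (cosOf L G) ⟶ CosimpAug.ext (cosOf L (Stot G)) :=
      CosimpAug.extMap (Functor.whiskerLeft L.rightOp (θ G))
    have hcol : ∀ p k' : ℤ, 0 ≤ p → k' + p ≤ (m : ℤ) - 1 →
        IsIso (HomologicalComplex.homologyMap (φ.f p) k') ∧
          Mono (HomologicalComplex.homologyMap (φ.f p) (k' + 1)) := fun p k' hp hk' => by
      obtain ⟨n, rfl⟩ := Int.eq_ofNat_of_zero_le hp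
      have e : φ.f (n : ℤ) = ((CosimpAug.co (cosOf L G)).extendXIso ComplexShape.embeddingUpNat (i := n) (i' := (n : ℤ)) rfl).hom ≫
          (θ G).app (op (L.obj (op (SimplexCategory.mk n)))) ≫
            ((CosimpAug.co (cosOf L (Stot G))).extendXIso ComplexShape.embeddingUpNat (i := n) (i' := (n : ℤ)) rfl).inv := by
        change (HomologicalComplex.extendMap _ ComplexShape.embeddingUpNat).f (n : ℤ) = _
        rw [HomologicalComplex.extendMap_f _ ComplexShape.embeddingUpNat (i := n) (i' := (n : ℤ)) rfl]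
        rfl
      rw [e, HomologicalComplex.homologyMap_comp, HomologicalComplex.homologyMap_comp,
        HomologicalComplex.homologyMap_comp, HomologicalComplex.homologyMap_comp]
      obtain ⟨h1, h2⟩ : IsIso (HomologicalComplex.homologyMap ((θ G).app (op (L.obj (op (SimplexCategory.mk n))))) k') ∧
          Mono (HomologicalComplex.homologyMap ((θ G).app (op (L.obj (op (SimplexCategory.mk n))))) (k' + 1)) := by
        cases n with
        | zero => exact ⟨inferInstance, inferInstance⟩
        | succ n => exact ih _ k' (by push_cast at hk'; omega)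
      exact ⟨inferInstance, inferInstance⟩
    obtain ⟨h1, h2⟩ := isIso_tot_of_cols φ (isZero_ext L hG) (isZero_ext L (bdd_Stot hG)) _ hcol k (by push_cast at hk; omega)
    have sq : (θ G).app (op X) ≫ iCol.app ((Stot G).obj (op X)) ≫ tot.map (augOf L a ha (Stot G)) =
        iCol.app (G.obj (op X)) ≫ tot.map (augOf L a ha G) ≫ tot.map φ := by
      rw [← Category.assoc, show (θ G).app (op X) ≫ iCol.app ((Stot G).obj (op X)) =
        iCol.app (G.obj (op X)) ≫ tot.map (sng.map ((θ G).app (op X))) from iCol.naturality ((θ G).app (op X)),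
        Category.assoc, ← Functor.map_comp, ← Functor.map_comp]
      exact congrArg (fun t => iCol.app (G.obj (op X)) ≫ tot.map t) (augOf_natural L a ha (θ G))
    haveI := isIso_iCol (G.obj (op X))
    haveI := isIso_iCol ((Stot G).obj (op X))
    haveI : QuasiIso (tot.map (augOf L a ha G)) := hd
    haveI : QuasiIso (tot.map (augOf L a ha (Stot G))) := hd'
    have sqk : ∀ j, HomologicalComplex.homologyMap ((θ G).app (op X)) j ≫
        HomologicalComplex.homologyMap (iCol.app ((Stot G).obj (op X)) ≫ tot.map (augOf L a ha (Stot G))) j =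
        HomologicalComplex.homologyMap (iCol.app (G.obj (op X)) ≫ tot.map (augOf L a ha G)) j ≫
          HomologicalComplex.homologyMap (tot.map φ) j := fun j => by
      rw [← HomologicalComplex.homologyMap_comp, ← HomologicalComplex.homologyMap_comp, sq, Category.assoc]
    constructor
    · haveI : IsIso (HomologicalComplex.homologyMap ((θ G).app (op X)) k ≫
          HomologicalComplex.homologyMap (iCol.app ((Stot G).obj (op X)) ≫ tot.map (augOf L a ha (Stot G))) k) := by
        rw [sqk]; infer_instance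
      exact IsIso.of_isIso_comp_right _
        (HomologicalComplex.homologyMap (iCol.app ((Stot G).obj (op X)) ≫ tot.map (augOf L a ha (Stot G))) k)
    · haveI : Mono (HomologicalComplex.homologyMap ((θ G).app (op X)) (k + 1) ≫
          HomologicalComplex.homologyMap (iCol.app ((Stot G).obj (op X)) ≫ tot.map (augOf L a ha (Stot G))) (k + 1)) := by
        rw [sqk]; infer_instance
      exact mono_of_mono _
        (HomologicalComplex.homologyMap (iCol.app ((Stot G).obj (op X)) ≫ tot.map (augOf L a ha (Stot G))) (k + 1))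

/-- Descent along set-theoretically contractible simplicial spaces. -/
theorem descAt_of_sctr (hG : Bdd G)
    (hfree : ∀ (E : Type w) (k : ℤ), 0 < k → IsZero ((G.obj (op (β.obj E))).homology k))
    (hdesc : ∀ X : CompHaus.{w}, ∃ (L : SimplicialObject CompHaus.{w}) (a : L.obj (op (SimplexCategory.mk 0)) ⟶ X)
      (ha : L.δ (0 : Fin 2) ≫ a = L.δ (1 : Fin 2) ≫ a), Nonempty (SCtr L a) ∧
      (∃ E : Type w, Nonempty (L.obj (op (SimplexCategory.mk 0)) ≅ β.obj E)) ∧ DescAt L a ha G)
    (c : SCtr L a) : DescAt L a ha G :=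
  (descAt_iff L a ha (θ G) (fun U => quasiIso_θ hG hfree hdesc U.unop) hG (bdd_Stot hG)).mpr (descAt_Stot hG hfree c)

end

end Groth.Agent.BlowRegLib.PhcDesc
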