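import Groth.Agent.BlowRegLib.PhcPoint
import Groth.Agent.BlowRegLib.PhcCosk

/-!
# Descent along proper hypercoverings
-/

set_option autoImplicit false
set_option linter.unusedSectionVars false
set_option linter.style.haveILetI false
set_option backward.isDefEq.respectTransparency false
set_option backward.isDefEq.respectTransparency.types false

universe w u
open CategoryTheory CategoryTheory.Limits TopologicalSpace Opposite Topology Simplicial

namespace Groth.Agent.BlowRegLib.PhcMain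

open CohTopLib CohTopLib.FibreCoh SpSeqLib PhcAug PhcDesc PhcPoint PhcCosk

noncomputable section

variable {X : TopCat.{u}} (F : QCohLib.AbSh X) (K : SimplicialObject (Over X)) (y : X)

/-- A fibre. -/
abbrev Kfib (a : SimplexCategory) : Type u := FamPush.Fib (K.obj (op a)) y

variable (hK : ∀ a : SimplexCategory, IsProperMap (K.obj (op a)).hom ∧ SepF (K.obj (op a)))

include hK in
theorem compact_fib (a : SimplexCategory) : CompactSpace (Kfib K y a) :=
  isCompact_iff_compactSpace.mp ((hK a).1.isCompact_preimage (isCompact_singleton (x := y)))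

include hK in
theorem t2_fib (a : SimplexCategory) : T2Space (Kfib K y a) := by
  refine ⟨fun z z' hne => ?_⟩
  obtain ⟨U, V, hU, hV, h1, h2, h3⟩ := (hK a).2 z.1 z'.1 (z.2.trans z'.2.symm) fun h => hne (Subtype.ext h)
  exact ⟨Subtype.val ⁻¹' U, Subtype.val ⁻¹' V, hU.preimage continuous_subtype_val, hV.preimage continuous_subtype_val,
    h1, h2, h3.preimage _⟩

/-- The fibres, as compact spaces. -/
def L : SimplicialObject CompHaus.{u} where
  obj a := haveI := compact_fib K y hK a.unop; haveI := t2_fib K y hK a.unop; CompHaus.of (Kfib K y a.unop)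
  map {a b} g :=
    haveI := compact_fib K y hK a.unop; haveI := t2_fib K y hK a.unop
    haveI := compact_fib K y hK b.unop; haveI := t2_fib K y hK b.unop
    CompHausLike.ofHom _ ⟨fun z : Kfib K y a.unop =>
      (⟨(K.map g).left z.1, (ConcreteCategory.congr_hom (Over.w (K.map g)) z.1).trans z.2⟩ : Kfib K y b.unop),
      ((K.map g).left.hom.continuous.comp continuous_subtype_val).subtype_mk _⟩
  map_id a := by
    ext z
    exact ConcreteCategory.congr_hom (congrArg CommaMorphism.left (K.map_id a)) (z : Kfib K y a.unop).1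
  map_comp {a b c} g k := by
    ext z
    exact ConcreteCategory.congr_hom (congrArg CommaMorphism.left (K.map_comp g k)) (z : Kfib K y a.unop).1

/-- The projection to the point. -/
def aL : (L K y hK).obj (op ⦋0⦌) ⟶ CompHaus.of PUnit.{u + 1} :=
  haveI : CompactSpace (Kfib K y (unop (op ⦋0⦌))) := compact_fib K y hK _
  haveI : T2Space (Kfib K y (unop (op ⦋0⦌))) := t2_fib K y hK _
  CompHausLike.ofHom _ ⟨fun _ => PUnit.unit, continuous_const⟩

theorem aL_δ : (L K y hK).δ (0 : Fin 2) ≫ aL K y hK = (L K y hK).δ (1 : Fin 2) ≫ aL K y hK := rfl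

/-- The inclusion of the fibres. -/
def incl : ((SimplicialObject.whiskering CompHaus.{u} (Over X)).obj (jy y)).obj (L K y hK) ⟶ K where
  app a := Over.homMk (TopCat.ofHom ⟨fun z : Kfib K y a.unop => z.1, continuous_subtype_val⟩)
    (by ext z; exact (z : Kfib K y a.unop).2)
  naturality a b g := by
    refine Over.OverMorphism.ext ?_
    ext z
    rfl

include hK in
theorem sctr (C : DescExact.Cone K y) : Nonempty (SCtr (L K y hK) (aL K y hK)) :=
  ⟨{ s := fun _ => C.e
     h := fun n => C.h n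
     s_a := fun _ => rfl
     h_δ_zero := C.face_zero
     h_δ_one := C.face_one
     h_δ_succ := C.face_succ }⟩

include hK in
theorem isIso_stalk (C : DescExact.Cone K y) (m : ℤ) :
    IsIso ((FlasqueRes.stk y).map (HomologicalComplex.homologyMap (BiTotal.tot.map (GodBi.ε F K)) m)) := by
  let P : Over X := (jy y).obj (CompHaus.of PUnit.{u + 1})
  let L' := ((SimplicialObject.whiskering CompHaus.{u} (Over X)).obj (jy y)).obj (L K y hK)
  let a : L'.obj (op ⦋0⦌) ⟶ P := (jy y).map (aL K y hK)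
  have ha : L'.δ (0 : Fin 2) ≫ a = L'.δ (1 : Fin 2) ≫ a := rfl
  let α := incl K y hK
  obtain ⟨c⟩ := sctr K y hK C
  have hH : Bdd (C := QCohLib.AbSh X) (GodBi.ΦZ (X := X) F) := fun U q hq => GodBi.isZero_ΦZ (X := X) F U q hq
  have hd : DescAt L' a ha (GodBi.ΦZ F ⋙ (FlasqueRes.stk y).mapHomologicalComplex (ComplexShape.up ℤ)) :=
    (descAt_congr (L := L K y hK) (P := CompHaus.of PUnit.{u + 1}) (a := aL K y hK) (ha := aL_δ K y hK) (H := G F y)
      (L' := L') (P' := P) (a' := a) (ha' := ha)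
      (H' := GodBi.ΦZ F ⋙ (FlasqueRes.stk y).mapHomologicalComplex (ComplexShape.up ℤ))
      (Iso.refl _) (Iso.refl _) ((Category.id_comp _).trans (Category.comp_id _).symm)).mp (descAt_G F y c)
  haveI := (descAt_map_iff L' a ha (FlasqueRes.stk y) hH).mp hd
  let G' : BiTotal.Bi (QCohLib.AbSh X) ⥤ AddCommGrpCat.{u} := BiTotal.tot ⋙
    HomologicalComplex.homologyFunctor _ (ComplexShape.up ℤ) m ⋙ FlasqueRes.stk y
  haveI : IsIso (G'.map (augOf L' a ha (GodBi.ΦZ F))) :=
    MapExt.isIso_map_homologyMap_of_quasiIso (FlasqueRes.stk y) _ m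
  haveI : IsIso (G'.map (GodBi.map F α)) := by
    refine TotQI.isIso_map_homologyMap_tot (FlasqueRes.stk y) _ (GodBi.isZero_M F K) (GodBi.isZero_M F L') (fun p k => ?_) m
    let H : CochainComplex (QCohLib.AbSh X) ℤ ⥤ AddCommGrpCat.{u} :=
      HomologicalComplex.homologyFunctor _ (ComplexShape.up ℤ) k ⋙ FlasqueRes.stk y
    change IsIso (H.map ((GodBi.map F α).f p))
    by_cases hp : p < 0
    · have hz : ∀ K : SimplicialObject (Over X), IsZero (H.obj ((GodBi.M F K).X p)) := fun K =>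
        Functor.map_isZero H (HomologicalComplex.isZero_extend_X _ _ p fun k hk => by
          change (k : ℤ) = p at hk
          omega)
      exact ⟨⟨0, (hz K).eq_of_src _ _, (hz L').eq_of_src _ _⟩⟩
    · obtain ⟨n, rfl⟩ := Int.eq_ofNat_of_zero_le (not_lt.mp hp)
      change IsIso (H.map ((HomologicalComplex.extendMap _ ComplexShape.embeddingUpNat).f (n : ℤ)))
      rw [HomologicalComplex.extendMap_f _ ComplexShape.embeddingUpNat (i := n) (i' := (n : ℤ)) rfl, H.map_comp,
        H.map_comp]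
      haveI : IsIso (H.map ((GodBi.ΦZ F).map (α.app (op ⦋n⦌)).op)) := by
        haveI : CompactSpace (L'.obj (op ⦋n⦌)).left := compact_fib K y hK ⦋n⦌
        refine GodFibre.isIso_map_homologyMap_ΦZ F (α.app (op ⦋n⦌)) (y := y) (fun _ => rfl) (hK ⦋n⦌).1.isClosedMap
          (fun z hz => ⟨(⟨z, hz⟩ : Kfib K y ⦋n⦌), rfl⟩) IsEmbedding.subtypeVal ?_ k
        rintro _ ⟨z, rfl⟩ _ ⟨z', rfl⟩ hne
        exact (hK ⦋n⦌).2 _ _ ((z : Kfib K y ⦋n⦌).2.trans (z' : Kfib K y ⦋n⦌).2.symm) hne
      exact IsIso.comp_isIso' inferInstance (IsIso.comp_isIso' ‹_› inferInstance)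
  let v := (HomologicalComplex.single (CochainComplex (QCohLib.AbSh X) ℤ) (ComplexShape.up ℤ) 0).map
    (GodBi.ΦZaug F (op P))
  haveI : IsIso (G'.map v) := by
    refine TotQI.isIso_map_homologyMap_tot (FlasqueRes.stk y) v
      (GodBi.isZero_single_X fun q hq => HomologicalComplex.isZero_single_obj_X _ _ _ q (by omega))
      (GodBi.isZero_single_X fun q hq => GodBi.isZero_ΦZ F _ q hq) (fun p k => ?_) m
    let H : CochainComplex (QCohLib.AbSh X) ℤ ⥤ AddCommGrpCat.{u} :=
      HomologicalComplex.homologyFunctor _ (ComplexShape.up ℤ) k ⋙ FlasqueRes.stk y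
    change IsIso (H.map (v.f p))
    by_cases hp : p = 0
    · subst hp
      dsimp only [v]
      rw [HomologicalComplex.single_map_f_self, H.map_comp, H.map_comp]
      haveI : IsIso (H.map (GodBi.ΦZaug F (op P))) :=
        GodFibre.isIso_map_homologyMap_ΦZaug F (P := P) PUnit.unit (fun ⟨⟩ => rfl) (y := y) rfl k
      infer_instance
    · exact ⟨⟨0, (Functor.map_isZero H (HomologicalComplex.isZero_single_obj_X _ _ _ p hp)).eq_of_src _ _,
        (Functor.map_isZero H (HomologicalComplex.isZero_single_obj_X _ _ _ p hp)).eq_of_src _ _⟩⟩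
  have e1 : v ≫ augOf L' a ha (GodBi.ΦZ F) = GodBi.ε F L' :=
    CosimpAug.single_map_augZ _ _ _ (GodBi.ΦZaug F (op P)) _ _ (GodBi.ΦZaug_naturality F a.op)
  have e : G'.map (GodBi.ε F K) ≫ G'.map (GodBi.map F α) = G'.map v ≫ G'.map (augOf L' a ha (GodBi.ΦZ F)) := by
    rw [← G'.map_comp, ← G'.map_comp, GodBi.ε_map, e1]
  haveI : IsIso (G'.map (GodBi.ε F K) ≫ G'.map (GodBi.map F α)) := by
    rw [e]
    infer_instance
  exact IsIso.of_isIso_comp_right (G'.map (GodBi.ε F K)) (G'.map (GodBi.map F α))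

include hK in
theorem quasiIso_tot_ε (hC : ∀ y : X, Nonempty (DescExact.Cone K y)) :
    QuasiIso (BiTotal.tot.map (GodBi.ε F K)) := by
  refine ⟨fun m => ?_⟩
  rw [quasiIsoAt_iff_isIso_homologyMap]
  let φ := HomologicalComplex.homologyMap (BiTotal.tot.map (GodBi.ε F K)) m
  haveI : ∀ y : X, IsIso ((TopCat.Presheaf.stalkFunctor AddCommGrpCat.{u} (X := X) y).map φ.hom) :=
    fun y => isIso_stalk F K y hK (hC y).some m
  exact TopCat.Presheaf.isIso_of_stalkFunctor_map_iso
    (F := (((BiTotal.tot.obj _).homology m : QCohLib.AbSh X) : TopCat.Sheaf AddCommGrpCat X))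
    (G := (((BiTotal.tot.obj _).homology m : QCohLib.AbSh X) : TopCat.Sheaf AddCommGrpCat X)) φ

include hK in
/-- The descent spectral sequence. -/
theorem exists_descent [HasDerivedCategory.{w} (QCohLib.AbSh X)] (hC : ∀ y : X, Nonempty (DescExact.Cone K y)) :
    ∃ (E : CohomologicalSpectralSequence AddCommGrpCat.{u} 1) (ab : SpSeq.Abutment E (DescSS.abut F)),
      (∀ n, ab.IsFinite n) ∧ SpSeq.IsBounded E ∧
      (∀ p q : ℕ, Nonempty ((E.page 1 le_rfl).X ((p : ℤ), (q : ℤ)) ≅
        AddCommGrpCat.of (CohTop.H ((CohTop.pull (K.obj (op ⦋p⦌)).hom).obj F) q))) ∧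
      ∀ p q : ℤ, p < 0 ∨ q < 0 → IsZero ((E.page 1 le_rfl).X (p, q)) := by
  haveI := quasiIso_tot_ε F K hK hC
  let G := (CochainComplex.singleFunctor (QCohLib.AbSh X) 0).obj F
  obtain ⟨eZ⟩ := BiTotal.nonempty_tot_single_iso 0 G
  let eG := eZ ≪≫ (shiftFunctorZero' (CochainComplex (QCohLib.AbSh X) ℤ) (-0) neg_zero).app G
  let i : G ⟶ BiTotal.tot.obj (GodBi.M F K) := eG.inv ≫ BiTotal.tot.map (GodBi.ε F K)
  haveI : QuasiIso i := by dsimp only [i]; infer_instance
  obtain ⟨E, ab, h1, h2, h3, h4⟩ := BiSS.exists_spectralSequence_of_tot (secTop X) (GodBi.M F K)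
    (GodBi.isZero_M F K) F i (DescSS.abut F) (DescSS.nonempty_abut_iso F) (DescSS.isZero_abut F)
  refine ⟨E, ab, h1, h2, fun p q => ?_, h4⟩
  obtain ⟨hp, h⟩ := h3 p
  obtain ⟨e⟩ := h q
  let U := K.obj (op ⦋p⦌)
  haveI := HasDerivedCategory.standard (QCohLib.AbSh U.left)
  haveI : ((GodBi.ΦZ F).obj (op U)).IsStrictlyGE 0 := by
    rw [CochainComplex.isStrictlyGE_iff]
    exact fun k hk => GodBi.isZero_ΦZ F _ k hk
  obtain ⟨e'⟩ := ProperDesc.nonempty_term_iso F U q ⟨0, inferInstance⟩
  exact ⟨e ≪≫ ((phi (FibreCoh.secTop X)).shift (q : ℤ)).mapIso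
    (qPlusIso (hK := hp) (hL := ⟨0, inferInstance⟩) (GodBi.colIso F K p).hom) ≪≫ e'⟩

end

end Groth.Agent.BlowRegLib.PhcMain
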