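import Groth.Agent.BlowRegLib.PhcBase
import Groth.Agent.BlowRegLib.PhcDesc
import Groth.Agent.CohTopLib.ProperDesc
import Groth.Agent.CohTopLib.Profinite
import Mathlib.Algebra.Category.Grp.AB
import Mathlib.Algebra.Category.Grp.EnoughInjectives

/-!
# The resolutions of an inverse image on compact spaces over a point
-/

set_option autoImplicit false
set_option linter.unusedSectionVars false
set_option linter.style.haveILetI false
set_option backward.isDefEq.respectTransparency false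
set_option backward.isDefEq.respectTransparency.types false

universe w u
open CategoryTheory CategoryTheory.Limits TopologicalSpace Opposite Topology Simplicial

namespace Groth.Agent.BlowRegLib.PhcPoint

open CohTopLib CohTopLib.GodSys CohTopLib.FibreCoh SpSeqLib PhcAug PhcBeta PhcDesc

noncomputable section

section Congr

variable {𝒟 ℰ : Type*} [Category* 𝒟] [Category* ℰ] {C : Type*} [Category* C] [Abelian C] [HasCoproducts.{0} C]
  [AB4OfSize.{0} C]

theorem descAt_congr {L : SimplicialObject 𝒟} {P : 𝒟} {a : L.obj (op (SimplexCategory.mk 0)) ⟶ P}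
    {ha : L.δ (0 : Fin 2) ≫ a = L.δ (1 : Fin 2) ≫ a} {L' : SimplicialObject ℰ} {P' : ℰ}
    {a' : L'.obj (op (SimplexCategory.mk 0)) ⟶ P'} {ha' : L'.δ (0 : Fin 2) ≫ a' = L'.δ (1 : Fin 2) ≫ a'}
    {H : 𝒟ᵒᵖ ⥤ CochainComplex C ℤ} {H' : ℰᵒᵖ ⥤ CochainComplex C ℤ}
    (α : cosOf L H ≅ cosOf L' H') (γ : H.obj (op P) ≅ H'.obj (op P'))
    (hc : γ.hom ≫ H'.map a'.op = H.map a.op ≫ α.hom.app (SimplexCategory.mk 0)) :
    DescAt L a ha H ↔ DescAt L' a' ha' H' := by
  refine quasiIso_iff_of_arrow_mk_iso _ _ (BiTotal.tot.mapArrow.mapIso (Arrow.isoMk (f := Arrow.mk (augOf L a ha H)) (g := Arrow.mk (augOf L' a' ha' H'))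
    ((HomologicalComplex.single (CochainComplex C ℤ) (ComplexShape.up ℤ) 0).mapIso γ)
    ((ComplexShape.embeddingUpNat.extendFunctor (CochainComplex C ℤ)).mapIso
      ((AlgebraicTopology.alternatingCofaceMapComplex (CochainComplex C ℤ)).mapIso α)) ?_))
  have hg : (γ.hom ≫ H'.map a'.op) ≫ CosimplicialObject.δ (cosOf L' H') (0 : Fin 2) =
      (γ.hom ≫ H'.map a'.op) ≫ CosimplicialObject.δ (cosOf L' H') (1 : Fin 2) :=
    (Category.assoc _ _ _).trans ((congrArg (γ.hom ≫ ·) (aug_δ L' a' ha' H')).trans (Category.assoc _ _ _).symm)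
  refine (CosimpAug.single_map_augZ _ _ _ _ _ hg rfl).trans ?_
  exact (CosimpAug.augZ_map (cosOf L H) (H.map a.op) (aug_δ L a ha H) α.hom _ hg hc.symm).symm

end Congr

variable {X : TopCat.{u}} (F : QCohLib.AbSh X) (y : X)

/-- Compact spaces over a point. -/
def jy : CompHaus.{u} ⥤ Over X where
  obj Z := Over.mk (TopCat.ofHom ⟨fun _ => y, continuous_const⟩ : Z.toTop ⟶ X)
  map f := Over.homMk f.hom rfl
  map_id _ := rfl
  map_comp _ _ := rfl

/-- The stalk at the point of the resolutions. -/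
def G : CompHaus.{u}ᵒᵖ ⥤ CochainComplex AddCommGrpCat.{u} ℤ :=
  (jy y).op ⋙ GodBi.ΦZ F ⋙ (FlasqueRes.stk y).mapHomologicalComplex (ComplexShape.up ℤ)

theorem bdd_G : Bdd (G F y) := fun _ q hq => (FlasqueRes.stk y).map_isZero (GodBi.isZero_ΦZ F _ q hq)

section Compare

variable (Z : CompHaus.{u})

/-- The constant map. -/
abbrev pz : Z.toTop ⟶ X := ((jy y).obj Z).hom

/-- The stalk of a direct image along the constant map. -/
def stkPush : pushF (pz y Z) ⋙ FlasqueRes.stk y ≅ secTop Z.toTop :=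
  NatIso.ofComponents
    (fun Gs => haveI := GodFibre.isIso_E (V := (jy y).obj Z) (y := y) (fun _ => rfl) Gs
      asIso (GodFibre.E (V := (jy y).obj Z) (y := y) (fun _ => rfl) Gs))
    fun φ => GodFibre.E_naturality (V := (jy y).obj Z) (y := y) (fun _ => rfl) φ

/-- Extension commutes with additive functors, naturally. -/
def extComm {A B : Type*} [Category* A] [Abelian A] [Category* B] [Abelian B] (S : A ⥤ B) [S.Additive] :
    ComplexShape.embeddingUpNat.extendFunctor A ⋙ S.mapHomologicalComplex (ComplexShape.up ℤ) ≅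
      S.mapHomologicalComplex (ComplexShape.up ℕ) ⋙ ComplexShape.embeddingUpNat.extendFunctor B :=
  NatIso.ofComponents (MapExt.mapExtIso S) fun φ => MapExt.mapExtIso_naturality S φ

/-- The comparison with the base change. -/
def ν : (Over.map (pz y Z)).op ⋙ GodBi.ΦZ F ⋙ (FlasqueRes.stk y).mapHomologicalComplex (ComplexShape.up ℤ) ≅
    GodBi.ΦZ (PhcBase.F' (pz y Z) F) ⋙ (secTop Z.toTop).mapHomologicalComplex (ComplexShape.up ℤ) :=
  haveI : (pushF (pz y Z) ⋙ FlasqueRes.stk y).Additive := inferInstance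
  Functor.isoWhiskerRight ((Functor.isoWhiskerRight (PhcBase.ΦCmp (pz y Z) F).symm
      (ComplexShape.embeddingUpNat.extendFunctor (QCohLib.AbSh X))) ≪≫
    Functor.isoWhiskerLeft (GodSys.Φ (PhcBase.F' (pz y Z) F)) (extComm (pushF (pz y Z))).symm)
      ((FlasqueRes.stk y).mapHomologicalComplex (ComplexShape.up ℤ)) ≪≫
    Functor.isoWhiskerLeft (GodBi.ΦZ (PhcBase.F' (pz y Z) F))
      (NatIso.mapHomologicalComplex (stkPush y Z) (ComplexShape.up ℤ))

end Compare

section Nerve

variable {W Z : CompHaus.{u}} (f : W ⟶ Z)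

open LocalHomeoDesc

instance compactSpace_pts (a : SimplexCategory) : CompactSpace (Pts f.hom a) := by
  refine isCompact_iff_compactSpace.mp (IsClosed.isCompact ?_)
  have h := isClosed_iInter fun i : Fin (a.len + 1) => isClosed_eq
    (f := fun z : (Fin (a.len + 1) → W.toTop) × Z.toTop => f.hom (z.1 i)) (g := fun z => z.2)
    (f.hom.hom.continuous.comp ((continuous_apply i).comp continuous_fst)) continuous_snd
  convert h using 1
  ext z
  exact ⟨fun hz => Set.mem_iInter.mpr fun i => hz i, fun hz i => Set.mem_iInter.mp hz i⟩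

/-- The nerve, in compact spaces. -/
def N : SimplicialObject CompHaus.{u} where
  obj a := haveI := compactSpace_pts f a.unop; CompHaus.of (Pts f.hom a.unop)
  map {a b} g := CompHausLike.ofHom _ ⟨pullPt f.hom g.unop, continuous_pullPt f.hom g.unop⟩
  map_id _ := rfl
  map_comp _ _ := rfl

/-- Its augmentation. -/
def aN : (N f).obj (op (SimplexCategory.mk 0)) ⟶ Z :=
  CompHausLike.ofHom _ ⟨fun z : Pts f.hom (SimplexCategory.mk 0) => z.1.2, continuous_snd.comp continuous_subtype_val⟩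

theorem aN_δ : (N f).δ (0 : Fin 2) ≫ aN f = (N f).δ (1 : Fin 2) ≫ aN f := rfl

/-- Its set-theoretic contraction. -/
def sctrN (hf : Function.Surjective f.hom) : SCtr (N f) (aN f) where
  s x := ⟨(fun _ => (hf x).choose, x), fun _ => (hf x).choose_spec⟩
  h n z := ⟨(Fin.cons (hf (z : Pts f.hom (SimplexCategory.mk n)).1.2).choose (z : Pts f.hom (SimplexCategory.mk n)).1.1,
      (z : Pts f.hom (SimplexCategory.mk n)).1.2),
    fun k => Fin.cases (hf (z : Pts f.hom (SimplexCategory.mk n)).1.2).choose_spec (fun j => (z : Pts f.hom (SimplexCategory.mk n)).2 j) k⟩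
  s_a _ := rfl
  h_δ_zero n z := Subtype.ext (Prod.ext (funext fun k => by
    change Fin.cons (α := fun _ => W.toTop) (hf (z : Pts f.hom (SimplexCategory.mk n)).1.2).choose (z : Pts f.hom (SimplexCategory.mk n)).1.1 (Fin.succAbove 0 k) = (z : Pts f.hom (SimplexCategory.mk n)).1.1 k
    rw [Fin.succAbove_zero, Fin.cons_succ]) rfl)
  h_δ_one z := Subtype.ext (Prod.ext (funext fun k => by
    change Fin.cons (α := fun _ => W.toTop) (hf (z : Pts f.hom (SimplexCategory.mk 0)).1.2).choose (z : Pts f.hom (SimplexCategory.mk 0)).1.1 (Fin.succAbove 1 k) = (hf (z : Pts f.hom (SimplexCategory.mk 0)).1.2).choose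
    obtain rfl : k = 0 := Fin.fin_one_eq_zero k
    rfl) rfl)
  h_δ_succ n i z := Subtype.ext (Prod.ext (funext fun k => by
    change Fin.cons (α := fun _ => W.toTop) (hf (z : Pts f.hom (SimplexCategory.mk (n + 1))).1.2).choose (z : Pts f.hom (SimplexCategory.mk (n + 1))).1.1 (Fin.succAbove i.succ k) =
      Fin.cons (α := fun _ => W.toTop) (hf (z : Pts f.hom (SimplexCategory.mk (n + 1))).1.2).choose ((z : Pts f.hom (SimplexCategory.mk (n + 1))).1.1 ∘ i.succAbove) k
    induction k using Fin.cases with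
    | zero => rw [Fin.succ_succAbove_zero, Fin.cons_zero, Fin.cons_zero]
    | succ k => rw [Fin.succ_succAbove_succ, Fin.cons_succ, Fin.cons_succ]; rfl) rfl)

/-- Its objects. -/
def isoN0 : (N f).obj (op (SimplexCategory.mk 0)) ≅ W where
  hom := CompHausLike.ofHom _ ⟨fun z : Pts f.hom (SimplexCategory.mk 0) => z.1.1 0,
    (continuous_apply _).comp (continuous_fst.comp continuous_subtype_val)⟩
  inv := CompHausLike.ofHom _ ⟨fun v => (⟨(fun _ => v, f.hom v), fun _ => rfl⟩ : Pts f.hom (SimplexCategory.mk 0)),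
    ((continuous_pi fun _ => continuous_id).prodMk f.hom.hom.continuous).subtype_mk _⟩
  hom_inv_id := by
    ext z
    refine Subtype.ext (Prod.ext (funext fun k => ?_) ((z : Pts f.hom (SimplexCategory.mk 0)).2 0))
    exact congrArg _ (Fin.fin_one_eq_zero k).symm
  inv_hom_id := rfl

end Nerve

section Acyclic

variable {T : TopCat.{u}} [HasDerivedCategory.{w} (QCohLib.AbSh T)]

theorem isSAcyclic_tot (M : BiTotal.Bi (QCohLib.AbSh T)) (hM : ∀ p q : ℤ, p < 0 ∨ q < 0 → IsZero ((M.X p).X q))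
    (h : ∀ p q, IsSAcyclic (secTop T) ((M.X p).X q)) (n : ℤ) :
    IsSAcyclic (secTop T) ((BiTotal.tot.obj M).X n) := by
  intro k hk
  rw [IsZero.iff_id_eq_zero]
  refine (((phiSingle (secTop T) k).map_id _).symm.trans ((congrArg (phiSingle (secTop T) k).map (pr_sum M hM n)).symm.trans ?_))
  rw [Functor.map_sum]
  refine Finset.sum_eq_zero fun p _ => ?_
  rw [Functor.map_comp, (h p (n - p) k hk).eq_of_tgt ((phiSingle (secTop T) (k : ℤ)).map (pr M n p)) 0, zero_comp]

end Acyclic

section Top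

variable {Z : TopCat.{u}} (Gs : QCohLib.AbSh Z)

/-- The resolution of the space itself resolves. -/
theorem quasiIso_ΦZaug_top : QuasiIso (GodBi.ΦZaug Gs (op (Over.mk (𝟙 Z)))) := by
  refine ⟨fun k => ?_⟩
  rw [quasiIsoAt_iff_isIso_homologyMap]
  let φ := HomologicalComplex.homologyMap (GodBi.ΦZaug Gs (op (Over.mk (𝟙 Z)))) k
  haveI : ∀ z : Z, IsIso ((TopCat.Presheaf.stalkFunctor AddCommGrpCat.{u} (X := Z) z).map φ.hom) := fun z => by
    let P : Over Z := Over.mk (TopCat.ofHom ⟨fun _ : PUnit.{u + 1} => z, continuous_const⟩ : TopCat.of PUnit.{u + 1} ⟶ Z)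
    let g : P ⟶ Over.mk (𝟙 Z) := Over.homMk P.hom rfl
    haveI : CompactSpace P.left := inferInstanceAs (CompactSpace PUnit.{u + 1})
    have h1 := GodFibre.isIso_map_homologyMap_ΦZaug Gs (P := P) PUnit.unit (fun ⟨⟩ => rfl) (y := z) rfl k
    have h2 : IsIso ((FlasqueRes.stk z).map (HomologicalComplex.homologyMap ((GodBi.ΦZ Gs).map g.op) k)) := by
      refine GodFibre.isIso_map_homologyMap_ΦZ Gs g (fun _ => rfl) IsClosedMap.id (fun x hx => ⟨PUnit.unit, (show x = z from hx).symm⟩)
        ?_ ?_ k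
      · haveI : Subsingleton P.left := inferInstanceAs (Subsingleton PUnit.{u + 1})
        exact IsEmbedding.of_subsingleton _
      · intro a ha b hb hne
        obtain ⟨i, rfl⟩ := ha
        obtain ⟨i', rfl⟩ := hb
        exact (hne rfl).elim
    have e : (FlasqueRes.stk z).map φ ≫ (FlasqueRes.stk z).map (HomologicalComplex.homologyMap ((GodBi.ΦZ Gs).map g.op) k) =
        (FlasqueRes.stk z).map (HomologicalComplex.homologyMap (GodBi.ΦZaug Gs (op P)) k) := by
      rw [← Functor.map_comp, ← HomologicalComplex.homologyMap_comp, GodBi.ΦZaug_naturality]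
    haveI : IsIso ((FlasqueRes.stk z).map φ ≫
        (FlasqueRes.stk z).map (HomologicalComplex.homologyMap ((GodBi.ΦZ Gs).map g.op) k)) := e ▸ h1
    exact IsIso.of_isIso_comp_right ((FlasqueRes.stk z).map φ)
      ((FlasqueRes.stk z).map (HomologicalComplex.homologyMap ((GodBi.ΦZ Gs).map g.op) k))
  exact TopCat.Presheaf.isIso_of_stalkFunctor_map_iso
    (F := (((CochainComplex.singleFunctor (QCohLib.AbSh Z) 0).obj Gs).homology k : TopCat.Sheaf AddCommGrpCat Z))
    (G := (((GodBi.ΦZ Gs).obj (op (Over.mk (𝟙 Z)))).homology k : TopCat.Sheaf AddCommGrpCat Z)) φ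

end Top

theorem isZero_homology_free (E : Type u) (k : ℤ) (hk : 0 < k) :
    IsZero (((G F y).obj (op (β.obj E))).homology k) := by
  let Z := β.obj E
  haveI : TotallyDisconnectedSpace Z.toTop := inferInstanceAs (TotallyDisconnectedSpace (Ultrafilter E))
  haveI := HasDerivedCategory.standard (QCohLib.AbSh Z.toTop)
  let Gs := PhcBase.F' (pz y Z) F
  let U : (Over Z.toTop)ᵒᵖ := op (Over.mk (𝟙 Z.toTop))
  have hac : ∀ H : QCohLib.AbSh Z.toTop, IsSAcyclic (secTop Z.toTop) H := fun H => by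
    rw [SpSeqLib.isSAcyclic_iff]
    intro i hi
    obtain ⟨m, rfl⟩ := Nat.exists_eq_succ_of_ne_zero hi.ne'
    obtain ⟨e⟩ := nonempty_rightDerived_secTop Z.toTop H (m + 1)
    haveI := CohTopLib.subsingleton_HU_top_of_profinite H m
    exact IsZero.of_iso (@AddCommGrpCat.isZero_of_subsingleton _ ‹_›) e
  haveI := quasiIso_ΦZaug_top Gs
  haveI : ((GodBi.ΦZ Gs).obj U).IsStrictlyGE 0 := by
    rw [CochainComplex.isStrictlyGE_iff]
    exact fun i hi => GodBi.isZero_ΦZ Gs _ i hi
  haveI : QuasiIso (((secTop Z.toTop).mapHomologicalComplex (ComplexShape.up ℤ)).map (GodBi.ΦZaug Gs U)) :=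
    quasiIso_map_of_isSAcyclic _ _ 0 (fun n => hac _) (fun n => hac _)
  let e1 : ((G F y).obj (op Z)) ≅ (((secTop Z.toTop).mapHomologicalComplex (ComplexShape.up ℤ)).obj ((GodBi.ΦZ Gs).obj U)) :=
    (ν F y Z).app U
  refine IsZero.of_iso ?_ ((HomologicalComplex.homologyFunctor _ _ k).mapIso e1)
  refine IsZero.of_iso ?_ (asIso (HomologicalComplex.homologyMap
    (((secTop Z.toTop).mapHomologicalComplex (ComplexShape.up ℤ)).map (GodBi.ΦZaug Gs U)) k)).symm
  refine ShortComplex.isZero_homology_of_isZero_X₂ _ ((secTop Z.toTop).map_isZero ?_)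
  exact HomologicalComplex.isZero_single_obj_X _ _ _ k hk.ne'

set_option maxHeartbeats 1000000 in
theorem descAt_nerve {W Z : CompHaus.{u}} (f : W ⟶ Z) (hf : Function.Surjective f.hom) :
    DescAt (N f) (aN f) (aN_δ f) (G F y) := by
  haveI := HasDerivedCategory.standard (QCohLib.AbSh Z.toTop)
  let Gs := PhcBase.F' (pz y Z) F
  let K := LocalHomeoDesc.K f.hom
  let P : Over Z.toTop := Over.mk (𝟙 Z.toTop)
  let a : K.obj (op (SimplexCategory.mk 0)) ⟶ P := Over.homMk (K.obj (op (SimplexCategory.mk 0))).hom rfl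
  have ha : K.δ (0 : Fin 2) ≫ a = K.δ (1 : Fin 2) ≫ a := rfl
  let H := GodBi.ΦZ Gs
  let H' := H ⋙ (secTop Z.toTop).mapHomologicalComplex (ComplexShape.up ℤ)
  refine (descAt_congr (L := N f) (P := Z) (a := aN f) (ha := aN_δ f) (H := G F y) (L' := K) (P' := P) (a' := a) (ha' := ha) (H' := H')
    (NatIso.ofComponents (fun b => (ν F y Z).app (op (K.obj (op b)))) fun g =>
      (ν F y Z).hom.naturality (K.map g.op).op)
    ((ν F y Z).app (op P)) ((ν F y Z).hom.naturality a.op).symm).mpr ?_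
  have hH : Bdd H := fun U q hq => GodBi.isZero_ΦZ Gs U q hq
  refine (descAt_map_iff K a ha (secTop Z.toTop) hH).mpr ?_
  have hs : ProperDesc.SepFib f.hom := fun v v' _ hne => by
    obtain ⟨U, V, hU, hV, h1, h2, h3⟩ := t2_separation hne
    exact ⟨U, V, hU, hV, h1, h2, h3⟩
  haveI := ProperDesc.quasiIso_tot f.hom Gs f.hom.hom.continuous.isProperMap hs hf
  haveI := quasiIso_ΦZaug_top Gs
  haveI := quasiIso_single_map (GodBi.ΦZaug Gs (op P))
    (fun q hq => HomologicalComplex.isZero_single_obj_X _ _ _ q (by omega)) (hH (op P))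
  have e : BiTotal.tot.map ((HomologicalComplex.single (CochainComplex (QCohLib.AbSh Z.toTop) ℤ) (ComplexShape.up ℤ) 0).map
      (GodBi.ΦZaug Gs (op P))) ≫ BiTotal.tot.map (augOf K a ha H) = BiTotal.tot.map (GodBi.ε Gs K) := by
    rw [← Functor.map_comp]
    exact congrArg BiTotal.tot.map (CosimpAug.single_map_augZ _ _ _ (GodBi.ΦZaug Gs (op P)) _ _
      (GodBi.ΦZaug_naturality Gs a.op))
  haveI : QuasiIso (BiTotal.tot.map (augOf K a ha H)) := by
    haveI : QuasiIso (BiTotal.tot.map ((HomologicalComplex.single (CochainComplex (QCohLib.AbSh Z.toTop) ℤ)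
      (ComplexShape.up ℤ) 0).map (GodBi.ΦZaug Gs (op P))) ≫ BiTotal.tot.map (augOf K a ha H)) := e ▸ inferInstance
    exact quasiIso_of_comp_left (BiTotal.tot.map ((HomologicalComplex.single (CochainComplex (QCohLib.AbSh Z.toTop) ℤ)
      (ComplexShape.up ℤ) 0).map (GodBi.ΦZaug Gs (op P)))) _
  have hge : ∀ M : BiTotal.Bi (QCohLib.AbSh Z.toTop), (∀ p q : ℤ, p < 0 ∨ q < 0 → IsZero ((M.X p).X q)) →
      (BiTotal.tot.obj M).IsStrictlyGE 0 := fun M hM => by
    rw [CochainComplex.isStrictlyGE_iff]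
    exact fun i hi => BiTotal.isZero_tot_X M i fun p q hpq => hM p q (by omega)
  haveI := hge _ (isZero_single (hH (op P)))
  haveI := hge _ (isZero_ext K hH)
  have hfl : ∀ (U : (Over Z.toTop)ᵒᵖ) (q : ℤ), IsSAcyclic (secTop Z.toTop) ((H.obj U).X q) := fun U q =>
    LocalHomeoDesc.isSAcyclic_of_isFlasque _ (ProperDesc.isFlasque_ΦZ Gs U q)
  refine quasiIso_map_of_isSAcyclic _ _ 0 (fun n => isSAcyclic_tot (T := Z.toTop) ((HomologicalComplex.single (CochainComplex (QCohLib.AbSh Z.toTop) ℤ) (ComplexShape.up ℤ) 0).obj (H.obj (op P))) (isZero_single (hH (op P))) (fun p q => ?_) n)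
    (fun n => isSAcyclic_tot (T := Z.toTop) (CosimpAug.ext (cosOf K H)) (isZero_ext K hH) (fun p q => ?_) n)
  · by_cases hp : p = 0
    · subst hp
      exact LocalHomeoDesc.isSAcyclic_of_isFlasque _ (FlasqueLocal.isFlasque_of_iso
        ((HomologicalComplex.eval _ _ q).mapIso (HomologicalComplex.singleObjXSelf (ComplexShape.up ℤ) 0 (H.obj (op P)))).symm
        (ProperDesc.isFlasque_ΦZ Gs (op P) q))
    · exact isSAcyclic_of_isZero _ ((HomologicalComplex.eval _ _ q).map_isZero
        (HomologicalComplex.isZero_single_obj_X _ _ _ p hp))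
  · by_cases hp : p < 0
    · exact isSAcyclic_of_isZero _ (isZero_ext K hH p q (Or.inl hp))
    · obtain ⟨m, rfl⟩ := Int.eq_ofNat_of_zero_le (not_lt.mp hp)
      exact LocalHomeoDesc.isSAcyclic_of_isFlasque _ (FlasqueLocal.isFlasque_of_iso
        ((HomologicalComplex.eval _ _ q).mapIso ((CosimpAug.co (cosOf K H)).extendXIso ComplexShape.embeddingUpNat
          (i := m) (i' := (m : ℤ)) rfl)).symm
        (ProperDesc.isFlasque_ΦZ Gs (op (K.obj (op (SimplexCategory.mk m)))) q))

/-- Descent for contractible simplicial compact spaces over a point. -/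
theorem descAt_G {L : SimplicialObject CompHaus.{u}} {P : CompHaus.{u}}
    {a : L.obj (op (SimplexCategory.mk 0)) ⟶ P} {ha : L.δ (0 : Fin 2) ≫ a = L.δ (1 : Fin 2) ≫ a} (c : SCtr L a) :
    DescAt L a ha (G F y) :=
  descAt_of_sctr (bdd_G F y) (fun E k hk => isZero_homology_free F y E k hk)
    (fun Z => ⟨N (π.app Z), aN _, aN_δ _, ⟨sctrN _ (π_surjective Z)⟩,
      ⟨_, ⟨isoN0 (π.app Z)⟩⟩, descAt_nerve F y _ (π_surjective Z)⟩) c

end

end Groth.Agent.BlowRegLib.PhcPoint
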