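import Mathlib.RingTheory.Kaehler.Polynomial
import Mathlib.LinearAlgebra.ExteriorPower.Basic
import Mathlib.LinearAlgebra.CliffordAlgebra.Contraction
import Mathlib.LinearAlgebra.FiniteDimensional.Basic

/-!
# The algebraic Poincaré lemma
-/

set_option autoImplicit false
universe u
open MvPolynomial

noncomputable section

namespace BlowRegLib.PoincareDR

variable {k : Type u} [Field k] {n : ℕ}


/-- polynomial ring -/
abbrev PA (k : Type u) [Field k] (n : ℕ) : Type u := MvPolynomial (Fin n) k
/-- differentials -/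
abbrev OmA (k : Type u) [Field k] (n : ℕ) : Type u := KaehlerDifferential k (MvPolynomial (Fin n) k)
/-- exterior algebra -/
abbrev WA (k : Type u) [Field k] (n : ℕ) : Type u :=
  ExteriorAlgebra (MvPolynomial (Fin n) k) (KaehlerDifferential k (MvPolynomial (Fin n) k))

/-- the Euler derivation as a form on differentials -/
def euler : (OmA k n) →ₗ[(PA k n)] (PA k n) :=
  (MvPolynomial.mkDerivation k (fun i : Fin n => (X i : (PA k n)))).liftKaehlerDifferential

theorem euler_D (a : (PA k n)) : euler (KaehlerDifferential.D k (PA k n) a) = MvPolynomial.mkDerivation k (fun i : Fin n => (X i : (PA k n))) a :=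
  Derivation.liftKaehlerDifferential_comp_D _ _

theorem euler_D_X (i : Fin n) : euler (KaehlerDifferential.D k (PA k n) (X i)) = X i := by
  rw [euler_D, MvPolynomial.mkDerivation_X]

theorem euler_D_monomial (s : Fin n →₀ ℕ) (r : k) :
    euler (KaehlerDifferential.D k (PA k n) (monomial s r)) = (s.sum fun _ e => e) • monomial s r := by
  rw [euler_D, MvPolynomial.mkDerivation_monomial, Finsupp.sum, Finsupp.sum, Finset.smul_sum,
    Finset.sum_smul]
  refine Finset.sum_congr rfl fun i hi => ?_
  have h1 : 0 < s i := Nat.pos_of_ne_zero (Finsupp.mem_support_iff.1 hi)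
  have h2 : s - Finsupp.single i 1 + Finsupp.single i 1 = s :=
    tsub_add_cancel_of_le (Finsupp.single_le_iff.2 h1)
  rw [smul_eq_mul, X, monomial_mul, mul_one, h2, smul_monomial, ← Nat.cast_smul_eq_nsmul k,
    smul_monomial, smul_eq_mul, smul_eq_mul, mul_comm]

/-- contraction with the Euler form -/
def con : (WA k n) →ₗ[(PA k n)] (WA k n) := CliffordAlgebra.contractLeft (euler (k := k) (n := n))

theorem con_algebraMap (a : (PA k n)) : con (algebraMap (PA k n) (WA k n) a) = 0 :=
  CliffordAlgebra.contractLeft_algebraMap (Q := (0 : QuadraticForm _ _)) (d := euler) a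

theorem con_ι_mul (v : (OmA k n)) (b : (WA k n)) :
    con (ExteriorAlgebra.ι (PA k n) v * b) = euler v • b - ExteriorAlgebra.ι (PA k n) v * con b :=
  CliffordAlgebra.contractLeft_ι_mul (Q := (0 : QuadraticForm _ _)) (d := euler) v b

/-- product of coordinate differentials -/
def P (l : List (Fin n)) : (WA k n) :=
  (l.map fun i => ExteriorAlgebra.ι (PA k n) (KaehlerDifferential.D k (PA k n) (X i : (PA k n)))).prod

theorem P_cons (i : Fin n) (l : List (Fin n)) :
    P (k := k) (i :: l) = ExteriorAlgebra.ι (PA k n) (KaehlerDifferential.D k (PA k n) (X i : (PA k n))) * P l := by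
  simp [P]

theorem range_ι_eq : LinearMap.range (ExteriorAlgebra.ι (PA k n) (M := (OmA k n))) =
    Submodule.span (PA k n) (Set.range fun i : Fin n => ExteriorAlgebra.ι (PA k n) (KaehlerDifferential.D k (PA k n) (X i : (PA k n)))) := by
  rw [LinearMap.range_eq_map, ← (KaehlerDifferential.mvPolynomialBasis k (Fin n)).span_eq,
    Submodule.map_span, ← Set.range_comp]
  congr 1
  ext y
  simp [KaehlerDifferential.mvPolynomialBasis_apply]

theorem pow_eq_span (p : ℕ) : (⋀[(PA k n)]^p (OmA k n) : Submodule (PA k n) (WA k n)) =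
    Submodule.span (PA k n) {w | ∃ l : List (Fin n), l.length = p ∧ P l = w} := by
  induction p with
  | zero =>
    show LinearMap.range (ExteriorAlgebra.ι (PA k n) (M := (OmA k n))) ^ 0 = _
    rw [pow_zero, Submodule.one_eq_span]
    congr 1
    ext y
    simp [P, eq_comm]
  | succ p ih =>
    show LinearMap.range (ExteriorAlgebra.ι (PA k n) (M := (OmA k n))) ^ (p + 1) = _
    rw [pow_succ', show LinearMap.range (ExteriorAlgebra.ι (PA k n) (M := (OmA k n))) ^ p = _ from ih, range_ι_eq,
      Submodule.span_mul_span]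
    congr 1
    ext y
    constructor
    · rintro ⟨a, ⟨i, rfl⟩, b, ⟨l, hl, rfl⟩, rfl⟩
      exact ⟨i :: l, by simp [hl], P_cons i l⟩
    · rintro ⟨l, hl, rfl⟩
      cases l with
      | nil => simp at hl
      | cons i l => exact ⟨_, ⟨i, rfl⟩, _, ⟨l, by simpa using hl, rfl⟩, (P_cons i l).symm⟩

variable (d : (WA k n) →ₗ[k] (WA k n))
    (h0 : ∀ a : (PA k n), d (algebraMap (PA k n) _ a) = ExteriorAlgebra.ι (PA k n) (KaehlerDifferential.D k (PA k n) a))
    (hder : ∀ (p : ℕ) (ω η : (WA k n)), ω ∈ ⋀[(PA k n)]^p (OmA k n) → d (ω * η) = d ω * η + (-1) ^ p * ω * d η)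
    (hdd : ∀ ω, d (d ω) = 0)

include h0 hder in
theorem d_smul (a : (PA k n)) (w : (WA k n)) :
    d (a • w) = ExteriorAlgebra.ι (PA k n) (KaehlerDifferential.D k (PA k n) a) * w + a • d w := by
  have h : algebraMap (PA k n) (WA k n) a ∈ ⋀[(PA k n)]^0 (OmA k n) := by
    show _ ∈ LinearMap.range (ExteriorAlgebra.ι (PA k n) (M := (OmA k n))) ^ 0
    rw [pow_zero]; exact Submodule.algebraMap_mem a
  rw [Algebra.smul_def, hder 0 _ _ h, h0, pow_zero, one_mul, ← Algebra.smul_def]

include h0 hder hdd in
theorem d_ι_mul (i : Fin n) (w : (WA k n)) :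
    d (ExteriorAlgebra.ι (PA k n) (KaehlerDifferential.D k (PA k n) (X i : (PA k n))) * w) =
      - (ExteriorAlgebra.ι (PA k n) (KaehlerDifferential.D k (PA k n) (X i : (PA k n))) * d w) := by
  have h : ExteriorAlgebra.ι (PA k n) (KaehlerDifferential.D k (PA k n) (X i : (PA k n))) ∈ ⋀[(PA k n)]^1 (OmA k n) := by
    show _ ∈ LinearMap.range (ExteriorAlgebra.ι (PA k n) (M := (OmA k n))) ^ 1
    rw [pow_one]; exact ⟨_, rfl⟩
  rw [hder 1 _ _ h, ← h0, hdd, zero_mul, zero_add, pow_one, neg_one_mul, neg_mul]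

include h0 hder hdd in
theorem d_P (l : List (Fin n)) : d (P l) = 0 := by
  induction l with
  | nil =>
    show d 1 = 0
    rw [← map_one (algebraMap (PA k n) (WA k n)), h0, Derivation.map_one_eq_zero, map_zero]
  | cons i l ih => rw [P_cons, d_ι_mul d h0 hder hdd, ih, mul_zero, neg_zero]

include h0 hder hdd in
theorem d_con_P (l : List (Fin n)) : d (con (P l)) = l.length • P l := by
  induction l with
  | nil =>
    show d (con (1 : (WA k n))) = 0 • _
    rw [← map_one (algebraMap (PA k n) (WA k n)), con_algebraMap, map_zero, zero_smul]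
  | cons i l ih =>
    rw [P_cons, con_ι_mul, euler_D_X, map_sub, d_smul d h0 hder, d_P d h0 hder hdd, smul_zero,
      add_zero, d_ι_mul d h0 hder hdd, ih, sub_neg_eq_add, mul_smul_comm, List.length_cons,
      succ_nsmul']

/-- the Lie derivative along the Euler field -/
def lie : (WA k n) →ₗ[k] (WA k n) := d ∘ₗ (con (k := k) (n := n)).restrictScalars k + (con (k := k) (n := n)).restrictScalars k ∘ₗ d

theorem lie_apply (w : (WA k n)) : lie d w = d (con w) + con (d w) := rfl

include hdd in
theorem d_lie (w : (WA k n)) : d (lie d w) = lie d (d w) := by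
  rw [lie_apply, lie_apply, map_add, hdd, hdd, map_zero, add_zero, zero_add]

include h0 hder hdd in
theorem lie_monomial (s : Fin n →₀ ℕ) (r : k) (l : List (Fin n)) :
    lie d ((monomial s r : (PA k n)) • P l) = ((s.sum fun _ e => e) + l.length) • ((monomial s r : (PA k n)) • P l) := by
  rw [lie_apply, map_smul, d_smul d h0 hder, d_smul d h0 hder, d_P d h0 hder hdd, smul_zero, add_zero,
    con_ι_mul, euler_D_monomial, d_con_P d h0 hder hdd, smul_comm, add_smul, smul_assoc]
  abel

/-- spanning eigenvectors -/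
def gen (p : ℕ) : Set (WA k n) :=
  {w | ∃ (s : Fin n →₀ ℕ) (l : List (Fin n)), l.length = p ∧ (monomial s (1 : k) : (PA k n)) • P l = w}

theorem mem_span_gen (p : ℕ) {w : (WA k n)} (hw : w ∈ ⋀[(PA k n)]^p (OmA k n)) : w ∈ Submodule.span k (gen (k := k) p) := by
  rw [pow_eq_span] at hw
  induction hw using Submodule.span_induction with
  | mem x hx =>
    obtain ⟨l, hl, rfl⟩ := hx
    exact Submodule.subset_span ⟨0, l, hl, by simp⟩
  | zero => exact zero_mem _
  | add x y _ _ hx hy => exact add_mem hx hy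
  | smul a x _ hx =>
    clear * - hx
    induction hx using Submodule.span_induction with
    | mem y hy =>
      obtain ⟨s, l, hl, rfl⟩ := hy
      rw [MvPolynomial.as_sum a, Finset.sum_smul]
      refine Submodule.sum_mem _ fun t _ => ?_
      have h : (monomial t (coeff t a) : (PA k n)) • (monomial s (1 : k) : (PA k n)) • (P l : WA k n) =
          (coeff t a) • ((monomial (t + s) (1 : k) : (PA k n)) • (P l : WA k n)) := by
        rw [smul_smul, monomial_mul, mul_one, ← smul_assoc, smul_monomial, smul_eq_mul, mul_one]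
      rw [h]
      exact Submodule.smul_mem _ _ (Submodule.subset_span ⟨t + s, l, hl, rfl⟩)
    | zero => rw [smul_zero]; exact zero_mem _
    | add x y _ _ hx hy => rw [smul_add]; exact add_mem hx hy
    | smul c x _ hx => rw [smul_comm]; exact Submodule.smul_mem _ _ hx

theorem gen_subset (p : ℕ) : gen (k := k) (n := n) p ⊆ (⋀[(PA k n)]^p (OmA k n) : Submodule (PA k n) (WA k n)) := by
  rintro w ⟨s, l, hl, rfl⟩
  refine Submodule.smul_mem _ _ ?_
  rw [pow_eq_span]
  exact Submodule.subset_span ⟨l, hl, rfl⟩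

theorem con_mem (p : ℕ) {w : (WA k n)} (hw : w ∈ ⋀[(PA k n)]^(p + 1) (OmA k n)) : con w ∈ ⋀[(PA k n)]^p (OmA k n) := by
  induction p generalizing w with
  | zero =>
    rw [pow_eq_span] at hw
    induction hw using Submodule.span_induction with
    | mem x hx =>
      obtain ⟨l, hl, rfl⟩ := hx
      obtain ⟨i, rfl⟩ := List.length_eq_one_iff.1 hl
      rw [P_cons, show P (k := k) ([] : List (Fin n)) = algebraMap (PA k n) (WA k n) 1 from (map_one _).symm, con_ι_mul,
        con_algebraMap, mul_zero, sub_zero, euler_D_X, map_one, ← Algebra.algebraMap_eq_smul_one]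
      show _ ∈ LinearMap.range (ExteriorAlgebra.ι (PA k n) (M := (OmA k n))) ^ 0
      rw [pow_zero]; exact Submodule.algebraMap_mem _
    | zero => rw [map_zero]; exact zero_mem _
    | add x y _ _ hx hy => rw [map_add]; exact add_mem hx hy
    | smul a x _ hx => rw [map_smul]; exact Submodule.smul_mem _ _ hx
  | succ p ih =>
    rw [pow_eq_span] at hw
    induction hw using Submodule.span_induction with
    | mem x hx =>
      obtain ⟨l, hl, rfl⟩ := hx
      cases l with
      | nil => simp at hl
      | cons i l =>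
        have hl' : l.length = p + 1 := by simpa using hl
        have hP : P (k := k) l ∈ ⋀[(PA k n)]^(p + 1) (OmA k n) := by rw [pow_eq_span]; exact Submodule.subset_span ⟨l, hl', rfl⟩
        rw [P_cons, con_ι_mul]
        refine sub_mem (Submodule.smul_mem _ _ hP) ?_
        show _ ∈ LinearMap.range (ExteriorAlgebra.ι (PA k n) (M := (OmA k n))) ^ (p + 1)
        rw [pow_succ']
        exact Submodule.mul_mem_mul ⟨_, rfl⟩ (ih hP)
    | zero => rw [map_zero]; exact zero_mem _
    | add x y _ _ hx hy => rw [map_add]; exact add_mem hx hy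
    | smul a x _ hx => rw [map_smul]; exact Submodule.smul_mem _ _ hx

variable [CharZero k]

include h0 hder hdd in
theorem exists_lie_eq (p : ℕ) (F : Set (WA k n)) (hF : F ⊆ gen (k := k) (p + 1)) {w : (WA k n)} (hw : w ∈ Submodule.span k F) :
    ∃ v ∈ Submodule.span k F, lie d v = w := by
  induction hw using Submodule.span_induction with
  | mem x hx =>
    obtain ⟨s, l, hl, rfl⟩ := hF hx
    have hN : (((s.sum fun _ e => e) + l.length : ℕ) : k) ≠ 0 := by
      rw [Nat.cast_ne_zero]; omega
    refine ⟨(((s.sum fun _ e => e) + l.length : ℕ) : k)⁻¹ • ((monomial s (1 : k) : (PA k n)) • P l),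
      Submodule.smul_mem _ _ (Submodule.subset_span hx), ?_⟩
    rw [map_smul, lie_monomial d h0 hder hdd, ← Nat.cast_smul_eq_nsmul k, inv_smul_smul₀ hN]
  | zero => exact ⟨0, zero_mem _, map_zero _⟩
  | add x y _ _ hx hy =>
    obtain ⟨a, ha, hax⟩ := hx
    obtain ⟨b, hb, hby⟩ := hy
    exact ⟨a + b, add_mem ha hb, by rw [map_add, hax, hby]⟩
  | smul c x _ hx =>
    obtain ⟨a, ha, hax⟩ := hx
    exact ⟨c • a, Submodule.smul_mem _ _ ha, by rw [map_smul, hax]⟩

include h0 hder hdd in
theorem lie_injective (p : ℕ) {w : (WA k n)} (hw : w ∈ ⋀[(PA k n)]^(p + 1) (OmA k n)) (h : lie d w = 0) : w = 0 := by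
  obtain ⟨F, hF, hwF⟩ := Submodule.mem_span_finite_of_mem_span (mem_span_gen (p + 1) hw)
  have hfin : FiniteDimensional k (Submodule.span k (F : Set (WA k n))) := FiniteDimensional.span_of_finite k F.finite_toSet
  have hmap : ∀ x ∈ Submodule.span k (F : Set (WA k n)), lie d x ∈ Submodule.span k (F : Set (WA k n)) := by
    intro x hx
    induction hx using Submodule.span_induction with
    | mem y hy =>
      obtain ⟨s, l, hl, rfl⟩ := hF hy
      rw [lie_monomial d h0 hder hdd]
      exact nsmul_mem (Submodule.subset_span hy) _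
    | zero => rw [map_zero]; exact zero_mem _
    | add a b _ _ ha hb => rw [map_add]; exact add_mem ha hb
    | smul c a _ ha => rw [map_smul]; exact Submodule.smul_mem _ _ ha
  let L' := (lie d).restrict hmap
  have hsurj : Function.Surjective L' := by
    intro y
    obtain ⟨v, hv, hvy⟩ := exists_lie_eq d h0 hder hdd p _ hF y.2
    exact ⟨⟨v, hv⟩, Subtype.ext hvy⟩
  have hinj : Function.Injective L' := LinearMap.injective_iff_surjective.2 hsurj
  have h' : L' ⟨w, hwF⟩ = L' 0 := by
    rw [map_zero]; exact Subtype.ext h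
  exact congrArg Subtype.val (hinj h')

include h0 hder hdd in
theorem exact_succ (hdeg : ∀ (p : ℕ) (ω : (WA k n)), ω ∈ ⋀[(PA k n)]^p (OmA k n) → d ω ∈ ⋀[(PA k n)]^(p + 1) (OmA k n)) (p : ℕ)
    (ω : (WA k n)) (hω : ω ∈ ⋀[(PA k n)]^(p + 1) (OmA k n)) (hc : d ω = 0) : ∃ θ ∈ ⋀[(PA k n)]^p (OmA k n), d θ = ω := by
  obtain ⟨η, hη, hηω⟩ := exists_lie_eq d h0 hder hdd p _ subset_rfl (mem_span_gen (p + 1) hω)
  have hη' : η ∈ ⋀[(PA k n)]^(p + 1) (OmA k n) := by
    have : Submodule.span k (gen (k := k) (n := n) (p + 1)) ≤ (⋀[(PA k n)]^(p + 1) (OmA k n) : Submodule (PA k n) (WA k n)).restrictScalars k :=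
      Submodule.span_le.2 (gen_subset _)
    exact this hη
  have hdη : d η = 0 := lie_injective d h0 hder hdd (p + 1) (hdeg _ _ hη')
    (by rw [← d_lie d hdd, hηω, hc])
  refine ⟨con η, con_mem p hη', ?_⟩
  rw [← hηω, lie_apply, hdη, map_zero, add_zero]

include h0 in
theorem exact_zero (a : (PA k n)) (ha : d (algebraMap (PA k n) _ a) = 0) : ∃ c : k, a = MvPolynomial.C c := by
  rw [h0] at ha
  have h2 : KaehlerDifferential.D k (PA k n) a = 0 := ExteriorAlgebra.ι_inj (PA k n) _ 0 |>.1 (by rw [ha, map_zero])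
  refine ⟨coeff 0 a, ?_⟩
  have key : ∀ (b : (PA k n)) (t : Fin n →₀ ℕ), coeff t (euler (KaehlerDifferential.D k (PA k n) b)) =
      ((t.sum fun _ e => e : ℕ) : k) * coeff t b := by
    intro b t
    induction b using MvPolynomial.induction_on' with
    | monomial s r =>
      classical
      rw [euler_D_monomial, ← Nat.cast_smul_eq_nsmul k, coeff_smul, coeff_monomial, smul_eq_mul]
      split_ifs with h
      · rw [h]
      · rw [mul_zero, mul_zero]
    | add p q hp hq => rw [map_add, map_add, coeff_add, coeff_add, hp, hq, mul_add]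
  ext t
  classical
  rw [coeff_C]
  split_ifs with h
  · rw [h]
  · have := key a t
    rw [h2, map_zero, coeff_zero] at this
    rcases mul_eq_zero.1 this.symm with h3 | h3
    · exfalso
      apply h
      have h4 : (t.sum fun _ e => e) = 0 := by exact_mod_cast h3
      ext i
      by_contra h5
      have h6 : t i ≠ 0 := fun h7 => h5 (by simp [h7])
      exact h6 (Finset.sum_eq_zero_iff.1 h4 i (Finsupp.mem_support_iff.2 h6))
    · exact h3

end BlowRegLib.PoincareDR
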