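import Groth.Prelude.Def_W4c2seshadriposJets
import Groth.Agent.CurvLib.Divisor
import Groth.Agent.CurvLib.Euler
import Groth.Agent.CurvLib.SupportVanish
import Groth.Agent.HilbPolyLib.Twist
import Groth.Agent.SerreVanLib.Main

/-! # Vanishing for powers of the ideal of a point -/

set_option autoImplicit false
set_option linter.style.haveILetI false
universe u

open CategoryTheory CategoryTheory.Limits AlgebraicGeometry TopologicalSpace Opposite

noncomputable section

namespace BlowRegLib.PointIdealVan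

/-- S15254 -/
theorem vanishing (k : Type u) [Field k] (X : Scheme.{u})
    [X.Over (Spec (CommRingCat.of k))] [IsProper (X ↘ (Spec (CommRingCat.of k)))]
    (x : X) (hx : IsClosed ({x} : Set X)) (L : X.Modules) (hL : CohB1.IsAmple L) :
    ∃ m₀ : ℕ, ∀ m : ℕ, m₀ ≤ m → ∀ i : ℕ, 1 < i → ∀ a : ℕ,
      Subsingleton (Coh.HH X (CohB1.tensorMod (ClSub.idealMod ((W4c2seshadripos.pointIdeal x hx) ^ a))
        (CohB1.tensorPow L m)) i) := by
  haveI := CurvLib.isNoetherian k (X := X)
  obtain ⟨n₀, h₀⟩ := SerreVanLib.exists_vanishing (X ↘ Spec (CommRingCat.of k)) hL.1 hL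
    (Coh.structureModule X) (DevissLib.isCoh_structureModule X)
  refine ⟨n₀, fun m hm i hi a => ?_⟩
  let N := CohB1.tensorPow L m
  have hN : PicF.IsInvertible N := AmpleThLib.tensorPow_isInvertible hL.1 m
  let I := (W4c2seshadripos.pointIdeal x hx) ^ a
  obtain ⟨i, rfl⟩ : ∃ j, i = j + 2 := ⟨i - 2, by omega⟩
  have hT := HilbPolyLib.shortExact_tensor hN (CurvLib.idealSeq_shortExact I)
  have hsupp : CohB1.support (CohB1.tensorMod N (ClSub.quotMod I)) ⊆ ({x} : Set X) := by
    rw [HilbPolyLib.support_tensor hN]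
    refine (CurvLib.support_quotMod_subset I).trans ?_
    intro y hy
    rcases Nat.eq_zero_or_pos a with ha | ha
    · simp [I, ha] at hy
    · rw [show I = _ ^ a from rfl, Scheme.IdealSheafData.support_pow _ _ ha.ne'] at hy
      rw [W4c2seshadripos.pointIdeal, Scheme.IdealSheafData.coe_support_vanishingIdeal] at hy
      exact hy
  have hd : topologicalKrullDim ({x} : Set X) ≤ ((0 : ℕ) : WithBot ℕ∞) := by
    exact le_trans (topologicalKrullDim_zero_of_discreteTopology ({x} : Set X)) (by simp)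
  haveI h3 : Subsingleton (Coh.HH X (CohB1.tensorMod N (ClSub.quotMod I)) (i + 1)) :=
    CurvLib.subsingleton_HH_of_support _ hx hsupp hd (i + 1) (Nat.succ_pos _)
  haveI h2 : Subsingleton (Coh.HH X (CohB1.tensorMod N (Coh.structureModule X)) (i + 2)) :=
    SerreVanLib.subsingleton_HH_of_iso (HilbPolyLib.swapIso _ _) _ (h₀ m hm (i + 2) (Nat.succ_pos _))
  refine SerreVanLib.subsingleton_HH_of_iso (HilbPolyLib.swapIso (ClSub.idealMod I) N) _ ?_
  show Subsingleton (Coh.HH X ((CurvLib.idealSeq I).map (CurvLib.tensorLeft' N)).X₁ (i + 1 + 1))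
  refine ⟨fun z z' => ?_⟩
  have key : ∀ z : Coh.HH X ((CurvLib.idealSeq I).map (CurvLib.tensorLeft' N)).X₁ (i + 1 + 1), z = 0 := fun z => by
    have hz : z ∈ LinearMap.ker (CurvLib.hMap (k := k) ((CurvLib.idealSeq I).map (CurvLib.tensorLeft' N)).f (i + 1 + 1)) :=
      LinearMap.mem_ker.2 (h2.elim _ _)
    rw [← CurvLib.exact₁ hT] at hz
    obtain ⟨w, rfl⟩ := hz
    exact (congrArg _ (h3.elim w 0)).trans (map_zero _)
  rw [key z, key z']

end BlowRegLib.PointIdealVan
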