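import Groth.Agent.BlowRegLib.PosA
import Groth.Agent.DepthTwoLib.Basic
import Groth.Agent.RegFlatLib.Basic
import Groth.Agent.CohBCLib.Cons
import Groth.Agent.CohCmpLib.Rows
import Groth.Agent.MiscFlat6.FreeStalks
import Groth.Agent.FlatLib.QStalk
import Groth.Agent.FormalPunctLib.Tilde
import Groth.Agent.FormalCohLib.Counit
import Groth.Agent.TwistExtLib.Main
import Groth.Agent.MiscFlat6.TensorExtend

/-!
# Direct images of bundles negative on the exceptional line
-/

set_option autoImplicit false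
set_option linter.style.haveILetI false
set_option linter.unusedSectionVars false
set_option maxHeartbeats 1000000
set_option backward.isDefEq.respectTransparency false
set_option backward.isDefEq.respectTransparency.types false

universe u

open CategoryTheory CategoryTheory.Limits AlgebraicGeometry TopologicalSpace Opposite
open HilbPolyLib (congrLeft congrRight assocIso swapIso unitLeft)
open KFlatLib (pb)
open CohB1 (tensorMod tensorPow)
open Groth.Agent.QReg16Lib (QR)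

noncomputable section

namespace BlowRegLib

/-- Functions regular on an affine open are regular on its sections of a bundle. -/
theorem regular_sections {X : Scheme.{u}} {F : X.Modules} (hF : FlatMod.IsFinLocFree F) {W : X.Opens}
    (hW : IsAffineOpen W) {c : Γ(X, W)} (hc : c ∈ nonZeroDivisors Γ(X, W)) {m : Γ(F, W)} (h : c • m = 0) :
    m = 0 := by
  haveI := CohBCLib.flat_sections_of_isFinLocFree F hF hW
  exact Module.Flat.isSMulRegular_of_isRegular (M := Γ(F, W)) (isRegular_iff_mem_nonZeroDivisors.2 hc)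
    (show c • m = c • (0 : Γ(F, W)) by rw [h, smul_zero])

/-- Regular functions stay regular on smaller affine opens. -/
theorem nzd_res' {X : Scheme.{u}} {W T : X.Opens} (hW : IsAffineOpen W) (hT : IsAffineOpen T) (h : T ≤ W)
    {c : Γ(X, W)} (hc : c ∈ nonZeroDivisors Γ(X, W)) :
    X.presheaf.map (homOfLE h).op c ∈ nonZeroDivisors Γ(X, T) := by
  have hfl : ((𝟙 X : X ⟶ X).appLE W T h).hom.Flat := (𝟙 X : X ⟶ X).flat_appLE hW hT h
  have e : (𝟙 X : X ⟶ X).appLE W T h = X.presheaf.map (homOfLE h).op := by simp [Scheme.Hom.appLE]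
  rw [e] at hfl
  letI := (X.presheaf.map (homOfLE h).op).hom.toAlgebra
  haveI : Module.Flat Γ(X, W) Γ(X, T) := hfl
  refine isRegular_iff_mem_nonZeroDivisors.1 (isRegular_iff_eq_zero_of_mul.2 ⟨fun z hz => ?_, fun z hz => ?_⟩)
  · exact Module.Flat.isSMulRegular_of_isRegular (M := Γ(X, T)) (isRegular_iff_mem_nonZeroDivisors.2 hc)
      (show c • z = c • (0 : Γ(X, T)) by rw [smul_zero, Algebra.smul_def]; exact hz)
  · exact Module.Flat.isSMulRegular_of_isRegular (M := Γ(X, T)) (isRegular_iff_mem_nonZeroDivisors.2 hc)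
      (show c • z = c • (0 : Γ(X, T)) by rw [smul_zero, Algebra.smul_def, mul_comm]; exact hz)

/-- The ideal lies in the primes of its support. -/
theorem ideal_le_prime' {X : Scheme.{u}} (I : X.IdealSheafData) (U : X.affineOpens) (x : X) (hx : x ∈ U.1)
    (hs : x ∈ (I.support : Set X)) : I.ideal U ≤ (U.2.primeIdealOf ⟨x, hx⟩).asIdeal := fun r hr => by
  by_contra hn
  letI : Algebra Γ(X, U.1) (X.presheaf.stalk x) := (X.presheaf.germ U.1 x hx).hom.toAlgebra
  haveI : IsLocalization.AtPrime (X.presheaf.stalk x) (U.2.primeIdealOf ⟨x, hx⟩).asIdeal := U.2.isLocalization_stalk ⟨x, hx⟩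
  exact (Scheme.mem_zeroLocus_iff X _ x).1 ((I.mem_support_iff_of_mem hx).1 hs) r hr
    ((X.mem_basicOpen r x hx).2 ((IsLocalization.AtPrime.isUnit_to_map_iff (X.presheaf.stalk x) _ r).2 hn))

/-- Sections vanish when they vanish on a cover. -/
theorem eq_zero_of_cover {X : Scheme.{u}} {F : X.Modules} {ι : Type*} (W : ι → X.Opens) {V : X.Opens}
    (hle : ∀ i, W i ≤ V) (hcov : ∀ y ∈ V, ∃ i, y ∈ W i) {m : Γ(F, V)}
    (h : ∀ i, AmpleLib.res F (hle i) m = 0) : m = 0 := by
  refine TwistLib.mod_ext F fun y hy => ?_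
  obtain ⟨i, hi⟩ := hcov y hy
  rw [← AmpleLib.germ_res F (hle i) m (x := y) hi, h i, map_zero, map_zero]

theorem map_sub_res {X : Scheme.{u}} (M : X.Modules) {V W : X.Opens} (h : V ≤ W) (a b : Γ(M, W)) :
    AmpleLib.res M h (a - b) = AmpleLib.res M h a - AmpleLib.res M h b := map_sub _ a b

/-- Free stalks where the module is free nearby. -/
theorem free_stalk_of_nearby {X : Scheme.{u}} {G : X.Modules} [Coh.IsQCoh G] (hft : CohB1.IsFT G) (x : X)
    (V : X.Opens) (hx : x ∈ V) (h : FlatMod.IsFinLocFree (G.restrict V.ι)) :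
    Module.Free (X.presheaf.stalk x) (G.presheaf.stalk x) := by
  obtain ⟨W, hW, hxW, hWV⟩ := exists_isAffineOpen_mem_and_subset (x := x) (U := V) hx
  haveI := CohCmpLib.flat_sections_restrict G V h hW hWV
  letI := Module.compHom (G.presheaf.stalk x) (X.presheaf.germ W x hxW).hom
  letI : Algebra Γ(X, W) (X.presheaf.stalk x) := (X.presheaf.germ W x hxW).hom.toAlgebra
  haveI : IsScalarTower Γ(X, W) (X.presheaf.stalk x) (G.presheaf.stalk x) :=
    IsScalarTower.of_algebraMap_smul fun _ _ => rfl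
  haveI := FlatLib.isLocalizedModule_germLin G hW hxW
  haveI : IsLocalization.AtPrime (X.presheaf.stalk x) (hW.primeIdealOf ⟨x, hxW⟩).asIdeal :=
    hW.isLocalization_stalk ⟨x, hxW⟩
  haveI : Module.Flat (X.presheaf.stalk x) (G.presheaf.stalk x) :=
    Module.Flat.of_isLocalizedModule (X.presheaf.stalk x) (hW.primeIdealOf ⟨x, hxW⟩).asIdeal.primeCompl
      (FlatLib.germLin G hxW)
  haveI := DepthLib.finite_stalk G hft x
  exact Module.free_of_flat_of_isLocalRing

/-- Depth two on the sections gives freeness at a regular point of dimension two. -/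
theorem free_stalk_of_d2 {X : Scheme.{u}} [IsLocallyNoetherian X] {G : X.Modules} (hG : Coh.IsCoh G) {U : X.Opens}
    (hU : IsAffineOpen U) {I : Ideal Γ(X, U)} (h : DepthTwoLib.D2 I Γ(G, U)) (x : X) (hx : x ∈ U)
    (hI : I ≤ (hU.primeIdealOf ⟨x, hx⟩).asIdeal) [IsRegularLocalRing (X.presheaf.stalk x)]
    (hd : ringKrullDim (X.presheaf.stalk x) = (2 : ℕ)) :
    Module.Free (X.presheaf.stalk x) (G.presheaf.stalk x) := by
  haveI := hG.1
  haveI : IsNoetherianRing Γ(X, U) := IsLocallyNoetherian.component_noetherian ⟨U, hU⟩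
  haveI : Module.Finite Γ(X, U) Γ(G, U) := QCohLib.finite_of_isFT hG.2 hU
  obtain ⟨rs, hl, hm, hr⟩ := (CommAlgDim.le_idealDepth_iff (M := Γ(G, U)) I 2).1 (DepthTwoLib.two_le_iff.2 h)
  letI := Module.compHom (G.presheaf.stalk x) (X.presheaf.germ U x hx).hom
  letI : Algebra Γ(X, U) (X.presheaf.stalk x) := (X.presheaf.germ U x hx).hom.toAlgebra
  haveI : IsScalarTower Γ(X, U) (X.presheaf.stalk x) (G.presheaf.stalk x) :=
    IsScalarTower.of_algebraMap_smul fun _ _ => rfl
  haveI := FlatLib.isLocalizedModule_germLin G hU hx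
  haveI : IsLocalization.AtPrime (X.presheaf.stalk x) (hU.primeIdealOf ⟨x, hx⟩).asIdeal :=
    hU.isLocalization_stalk ⟨x, hx⟩
  haveI := DepthLib.finite_stalk G hG.2 x
  have hsp : (IsLocalRing.maximalIdeal (X.presheaf.stalk x)).spanFinrank = 2 := by
    have h2 := (isRegularLocalRing_iff (X.presheaf.stalk x)).1 inferInstance
    rw [hd] at h2
    exact_mod_cast h2
  refine RegFlatLib.free_of_hasSeqIn 2 _ hsp _ ⟨rs.map (algebraMap Γ(X, U) (X.presheaf.stalk x)), by simpa using hl,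
    fun r hr' => ?_, hr.of_isLocalizedModule (X.presheaf.stalk x) (hU.primeIdealOf ⟨x, hx⟩).asIdeal.primeCompl
      (FlatLib.germLin G hx)⟩
  obtain ⟨r₀, hr₀, rfl⟩ := List.mem_map.1 hr'
  exact (IsLocalization.AtPrime.to_map_mem_maximal_iff (X.presheaf.stalk x) _ r₀).2 (hI (hm r₀ hr₀))

section Affine

variable {P X : Scheme.{u}} [IsAffine P] [IsNoetherian P] {b : X ⟶ P} {𝓘 : P.IdealSheafData}
  (hb : BlowUp.IsBlowUp b 𝓘) (a : Fin 2 → Γ(P, ⊤))
  (ha : Ideal.span (Set.range a) = 𝓘.ideal ⟨⊤, isAffineOpen_top P⟩)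

include hb ha in
/-- **Depth two of the relative sections.** -/
theorem d2_sections {F : X.Modules} (hF : FlatMod.IsFinLocFree F) {L : X.Modules} (hLi : PicF.IsInvertible L)
    (hL : tensorMod L (ClSub.idealMod (𝓘.comap b)) ≅ Coh.structureModule X)
    (h0 : Subsingleton (Coh.HH (𝓘.comap b).subscheme (pb (𝓘.comap b).subschemeι (tensorMod F L)) 0)) :
    DepthTwoLib.D2 (𝓘.ideal ⟨⊤, isAffineOpen_top P⟩) Γ((Coh.push b).obj F, ⊤) := by
  obtain ⟨hsep, hnoe⟩ := separated_total hb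
  haveI := hnoe
  let U₀ : P.affineOpens := ⟨⊤, isAffineOpen_top P⟩
  let E := 𝓘.comap b
  let J := ClSub.idealMod E
  obtain ⟨W, hW, hcov, hnz, hgen, -⟩ := BlowPtLib.exists_charts_family (𝓙 := 𝓘) hb U₀ rfl a ha
  have hcov' : ∀ y ∈ b ⁻¹ᵁ U₀.1, ∃ l, y ∈ (W l).1 := fun y hy => Opens.mem_iSup.1 (hcov hy)
  choose t ht using fun l => LichtLib.exists_ideFn E (b ⁻¹ᵁ U₀.1) ((b.app U₀.1).hom (a l)) fun T hT => by
    rw [Groth.Agent.S4666.ideal_comap_eq 𝓘 b U₀ T hT]
    exact Ideal.mem_map_of_mem _ (ha ▸ Ideal.subset_span ⟨l, rfl⟩)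
  let G := tensorMod F L
  have hG : FlatMod.IsFinLocFree G := HdgLefLib.finLocFree_tensor hF hLi
  let T := (CurvLib.idealSeq E).map (ProjFormLib.tF G)
  have hT : T.ShortExact := ProjFormLib.shortExact_tens hG (CurvLib.idealSeq_shortExact E)
  haveI := hT.mono_f
  -- the sequence against the restriction
  have h₃ : Subsingleton (Coh.HH X T.X₃ 0) := by
    obtain ⟨eq⟩ := VBHyp.quotMod_iso E.subschemeι E E.ker_subschemeι
    haveI := ProjFormLib.isIso_projApp E.subschemeι hG (Coh.structureModule E.subscheme)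
    haveI : Coh.IsQCoh (pb E.subschemeι G) := FinLFAnn.isQCoh_of_isFinLocFree (KFlatLib.isFinLocFree_pull _ hG)
    obtain ⟨w⟩ := QCohLib.nonempty_HH_push E.subschemeι (pb E.subschemeι G) 0
    haveI := h0
    exact HdgLefLib.sub_iso (congrRight G eq ≪≫ asIso (ProjFormLib.projApp E.subschemeι G (Coh.structureModule E.subscheme)) ≪≫
      (Scheme.Modules.pushforward E.subschemeι).mapIso (swapIso _ _ ≪≫ unitLeft _)).symm 0 w.symm.toEquiv.subsingleton
  -- the middle term as relative sections of the bundle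
  let e : T.X₁ ≅ F := assocIso _ _ _ ≪≫ congrRight F hL ≪≫ swapIso _ _ ≪≫ unitLeft F
  have hfb : Function.Bijective (((Coh.push b).map T.f).app ⊤) := by
    refine ⟨fun x y hxy => ?_, fun y => ?_⟩
    · exact QCohLib.app_injective_of_mono T.f _ hxy
    · obtain ⟨x, hx⟩ := AtlasCoh.hExact₂ (QCohLib.toAbF_shortExact hT) 0 ((DegPullLib.e0 T.X₂).symm y) (h₃.elim _ _)
      exact ⟨DegPullLib.e0 T.X₁ x,
        (NefH1Lib.e0_map T.f x).symm.trans ((congrArg (DegPullLib.e0 T.X₂) hx).trans (AddEquiv.apply_symm_apply _ _))⟩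
  let N := Γ((Coh.push b).obj T.X₂, ⊤)
  let Φ : Γ((Coh.push b).obj T.X₁, ⊤) ≃ₗ[Γ(P, ⊤)] N := LinearEquiv.ofBijective
    { toFun := fun x => ((Coh.push b).map T.f).app ⊤ x
      map_add' := fun x y => map_add _ x y
      map_smul' := fun r x => QCohLib.app_smul ((Coh.push b).map T.f) ⊤ r x } hfb
  let Ψ : Γ((Coh.push b).obj F, ⊤) ≃ₗ[Γ(P, ⊤)] Γ((Coh.push b).obj T.X₁, ⊤) := LinearEquiv.ofBijective
    { toFun := fun x => ((Coh.push b).map e.inv).app ⊤ x
      map_add' := fun x y => map_add _ x y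
      map_smul' := fun r x => QCohLib.app_smul ((Coh.push b).map e.inv) ⊤ r x }
    ((ConcreteCategory.isIso_iff_bijective (((Coh.push b).map e.inv).app ⊤)).1
      (Scheme.Modules.Hom.isIso_iff_isIso_app.1 (inferInstance : IsIso ((Coh.push b).map e.inv)) ⊤))
  refine DepthTwoLib.D2.congr ?_ (Ψ.trans Φ)
  -- the local equations
  let c : ∀ l, Γ(X, (W l).1) := fun l => (b.appLE U₀.1 (W l).1 (hW l)).hom (a l)
  have hsc : ∀ l l' (x : N), AmpleLib.res T.X₂ (hW l) (show Γ(T.X₂, b ⁻¹ᵁ ⊤) from a l' • x) =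
      (b.appLE U₀.1 (W l).1 (hW l)).hom (a l') • AmpleLib.res T.X₂ (hW l) (show Γ(T.X₂, b ⁻¹ᵁ ⊤) from x) :=
    fun l l' x => by
      show AmpleLib.res T.X₂ (hW l) ((b.app ⊤).hom (a l') • (show Γ(T.X₂, b ⁻¹ᵁ ⊤) from x)) = _
      exact (Scheme.Modules.map_smul T.X₂ (homOfLE (hW l)) _ _)
  have hX₂ : FlatMod.IsFinLocFree T.X₂ := HdgLefLib.finLocFree_tensor hG CurvLib.isInvertible_structureModule
  have hzero : ∀ x : N, (∀ l, a l • x = 0) → x = 0 := fun x hx =>
    eq_zero_of_cover (fun l => (W l).1) hW hcov' fun l => regular_sections hX₂ (W l).2 (hnz l) (by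
      refine (hsc l l x).symm.trans ?_
      rw [show (show Γ(T.X₂, b ⁻¹ᵁ ⊤) from a l • x) = 0 from hx l]
      exact map_zero _)
  refine ⟨fun x hx => hzero x fun l => hx _ (ha ▸ Ideal.subset_span ⟨l, rfl⟩), fun φ => ?_⟩
  let x : Fin 2 → N := fun l => φ ⟨a l, ha ▸ Ideal.subset_span ⟨l, rfl⟩⟩
  have hx : ∀ l l', a l • x l' = a l' • x l := fun l l' => by
    simp only [x, ← map_smul]
    exact congrArg φ (Subtype.ext (mul_comm (a l) (a l')))
  -- divisibility on the charts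
  haveI : Coh.IsQCoh G := FinLFAnn.isQCoh_of_isFinLocFree hG
  have hdiv : ∀ l (w : Γ(T.X₁, (W l).1)), ∃ n : Γ(T.X₂, (W l).1), T.f.app (W l).1 w = c l • n := fun l w => by
    let g : Γ(J, (W l).1) := AmpleLib.res _ (hW l) (t l)
    have hg : AmpleLib.GenOn J g := by
      refine LichtLib.genOn_of_prinPiece E ⟨W l, _, hnz l, hgen l⟩ (hW l) (t l) ?_
      rw [ht]
      rfl
    obtain ⟨m, rfl⟩ := MiscFlat6.shT_right_surjective G hg w
    refine ⟨AmpleLib.shT m (1 : Γ(X, (W l).1)), ?_⟩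
    have h1 : (ClSub.idealModι E).app (W l).1 g =
        c l • (show Γ(Coh.structureModule X, (W l).1) from (1 : Γ(X, (W l).1))) := by
      refine Eq.trans ?_ (mul_one (c l)).symm
      show LichtLib.ideFn E g = c l
      rw [LichtLib.ideFn_res, ht]
      rfl
    refine Eq.trans ?_ (TwistExtLib.shT_smul_right (c l) m _)
    refine Eq.trans ?_ (congrArg (AmpleLib.shT m) h1)
    exact KFlatLib.shApp_map _ _ _
  choose n hn using fun l => hdiv l (AmpleLib.res T.X₁ (hW l) (show Γ(T.X₁, b ⁻¹ᵁ ⊤) from Φ.symm (x l)))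
  have hn' : ∀ l, AmpleLib.res T.X₂ (hW l) (show Γ(T.X₂, b ⁻¹ᵁ ⊤) from x l) = c l • n l := fun l => by
    refine Eq.trans ?_ (hn l)
    refine Eq.trans ?_ (QCohLib.app_map T.f (homOfLE (hW l)) _).symm
    exact congrArg _ (Φ.apply_symm_apply (x l)).symm
  -- gluing
  have hglue : TopCat.Presheaf.IsCompatible T.X₂.presheaf (fun l => (W l).1) n := fun l l' => by
    let V : X.Opens := (W l).1 ⊓ (W l').1
    have hV : IsAffineOpen V := by haveI := hsep; exact (W l).2.inf (W l').2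
    show AmpleLib.res T.X₂ (inf_le_left : V ≤ (W l).1) (n l) = AmpleLib.res T.X₂ (inf_le_right : V ≤ (W l').1) (n l')
    let cl := X.presheaf.map (homOfLE (inf_le_left : V ≤ (W l).1)).op (c l)
    let cl' := X.presheaf.map (homOfLE (inf_le_right : V ≤ (W l').1)).op (c l')
    have hfl : ∀ {j : Fin 2} {V' : X.Opens} (hV'a : IsAffineOpen V') (h : V' ≤ (W j).1),
        X.presheaf.map (homOfLE h).op (c j) ∈ nonZeroDivisors Γ(X, V') := fun {j V'} hV'a h =>
      nzd_res' (W j).2 hV'a h (hnz j)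
    rw [← sub_eq_zero]
    refine regular_sections hX₂ hV (mul_mem (hfl hV (inf_le_left : V ≤ (W l).1)) (hfl hV (inf_le_right : V ≤ (W l').1))) ?_
    have k1 : cl • AmpleLib.res T.X₂ (inf_le_left : V ≤ (W l).1) (n l) =
        AmpleLib.res T.X₂ ((inf_le_left : V ≤ (W l).1).trans (hW l)) (show Γ(T.X₂, b ⁻¹ᵁ ⊤) from x l) := by
      rw [← AmpleLib.res_smul, ← hn', AmpleLib.res_res]
    have k2 : cl' • AmpleLib.res T.X₂ (inf_le_right : V ≤ (W l').1) (n l') =
        AmpleLib.res T.X₂ ((inf_le_right : V ≤ (W l').1).trans (hW l')) (show Γ(T.X₂, b ⁻¹ᵁ ⊤) from x l') := by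
      rw [← AmpleLib.res_smul, ← hn', AmpleLib.res_res]
    have k3 : AmpleLib.res T.X₂ ((inf_le_left : V ≤ (W l).1).trans (hW l)) (show Γ(T.X₂, b ⁻¹ᵁ ⊤) from a l' • x l) =
        cl' • AmpleLib.res T.X₂ ((inf_le_left : V ≤ (W l).1).trans (hW l)) (show Γ(T.X₂, b ⁻¹ᵁ ⊤) from x l) := by
      show AmpleLib.res T.X₂ _ ((b.app ⊤).hom (a l') • (show Γ(T.X₂, b ⁻¹ᵁ ⊤) from x l)) = _
      rw [AmpleLib.res_smul]
      congr 1
      simp only [cl', c, Scheme.Hom.appLE, ← CommRingCat.comp_apply, Category.assoc, ← Functor.map_comp]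
      rfl
    have k4 : AmpleLib.res T.X₂ ((inf_le_left : V ≤ (W l).1).trans (hW l)) (show Γ(T.X₂, b ⁻¹ᵁ ⊤) from a l • x l') =
        cl • AmpleLib.res T.X₂ ((inf_le_left : V ≤ (W l).1).trans (hW l)) (show Γ(T.X₂, b ⁻¹ᵁ ⊤) from x l') := by
      show AmpleLib.res T.X₂ _ ((b.app ⊤).hom (a l) • (show Γ(T.X₂, b ⁻¹ᵁ ⊤) from x l')) = _
      rw [AmpleLib.res_smul]
      congr 1
      simp only [cl, c, Scheme.Hom.appLE, ← CommRingCat.comp_apply, Category.assoc, ← Functor.map_comp]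
      rfl
    rw [smul_sub, mul_comm, mul_smul, k1, mul_comm, mul_smul, k2, ← k3, ← k4, hx l' l]
    exact sub_self _
  obtain ⟨s, hs, -⟩ := TopCat.Sheaf.existsUnique_gluing' ⟨T.X₂.presheaf, T.X₂.isSheaf⟩ (fun l => (W l).1)
    (b ⁻¹ᵁ (⊤ : P.Opens)) (fun l => homOfLE (hW l)) hcov n hglue
  let m : N := s
  have hm : ∀ l', a l' • m = x l' := fun l' => by
    rw [← sub_eq_zero]
    refine eq_zero_of_cover (fun l => (W l).1) hW hcov' fun l => regular_sections hX₂ (W l).2 (hnz l) ?_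
    show c l • AmpleLib.res T.X₂ (hW l) ((show Γ(T.X₂, b ⁻¹ᵁ ⊤) from a l' • m) - (show Γ(T.X₂, b ⁻¹ᵁ ⊤) from x l')) = 0
    rw [map_sub_res, hsc, show AmpleLib.res T.X₂ (hW l) (show Γ(T.X₂, b ⁻¹ᵁ ⊤) from m) = n l from hs l,
      smul_sub, smul_comm, ← hn', ← hsc, ← hsc, hx l l', sub_self]
  refine ⟨m, fun j => ?_⟩
  suffices h : ∀ (z : Γ(P, ⊤)) (hz : z ∈ Ideal.span (Set.range a)), φ ⟨z, ha.le hz⟩ = z • m from
    h j (ha.ge j.2)
  intro z hz
  induction hz using Submodule.span_induction with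
  | mem z hz =>
    obtain ⟨l', rfl⟩ := hz
    exact (hm l').symm
  | zero => rw [zero_smul]; exact map_zero φ
  | add z z' hz hz' h h' => rw [add_smul, ← h, ← h', ← map_add]; rfl
  | smul r z hz h =>
    refine Eq.trans ?_ ((congrArg (r • ·) h).trans (smul_smul r z m))
    exact (map_smul φ r ⟨z, ha.le hz⟩)

variable (hQR : QR a) (hreg : LocReg 𝓘 1)
  (hpt : ∀ y ∈ (𝓘.support : Set P), IsRegularLocalRing (P.presheaf.stalk y) ∧
    ringKrullDim (P.presheaf.stalk y) = (2 : ℕ))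

include hb ha hQR hreg hpt in
/-- **Direct images of bundles negative on the line are bundles.** -/
theorem push_finLocFree {F : X.Modules} (hF : FlatMod.IsFinLocFree F) {L : X.Modules} (hLi : PicF.IsInvertible L)
    (hL : tensorMod L (ClSub.idealMod (𝓘.comap b)) ≅ Coh.structureModule X)
    (h0 : Subsingleton (Coh.HH (𝓘.comap b).subscheme (pb (𝓘.comap b).subschemeι (tensorMod F L)) 0)) :
    FlatMod.IsFinLocFree ((Coh.push b).obj F) := by
  haveI := isProper_b hb
  have hc : Coh.IsCoh ((Coh.push b).obj F) := FormalCohLib.isCoh_push_proper b (Groth.Agent.PerfLib.isCoh_of_isFinLocFree hF)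
  haveI := hc.1
  refine MiscFlat6.isFP_and_free_iff.1 ⟨QCohLib.isFP_of_isCoh _ hc, fun y => ?_⟩
  by_cases hy : y ∈ (𝓘.support : Set P)
  · haveI := (hpt y hy).1
    refine free_stalk_of_d2 hc (isAffineOpen_top P) (d2_sections hb a ha hF hLi hL h0) y trivial ?_ (hpt y hy).2
    exact ideal_le_prime' 𝓘 ⟨⊤, isAffineOpen_top P⟩ y trivial hy
  · obtain ⟨W, n, hyW, ⟨s⟩⟩ := exists_free_over hb hF y fun h => absurd h hy
    obtain ⟨g⟩ := nonempty_push_free hb hreg s
    exact free_stalk_of_nearby hc.2 y W hyW fun v => ⟨⊤, n, trivial,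
      ⟨(Scheme.Modules.restrictFunctor _).mapIso g ≪≫ (Scheme.Modules.restrictFunctorIsoPullback _).app _ ≪≫
        KFlatLib.pullFreeIso _ n⟩⟩

end Affine

end BlowRegLib
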