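import Groth.Agent.BlowRegLib.PosB
import Groth.Agent.BlowRegLib.Point
import Groth.Agent.MiscFlat6.InvDual

/-!
# Bundles on the blow-up of a point: global consequences
-/

set_option autoImplicit false
set_option linter.style.haveILetI false
set_option linter.unusedSectionVars false
set_option maxHeartbeats 1000000
set_option backward.isDefEq.respectTransparency false
set_option backward.isDefEq.respectTransparency.types false

universe u

open CategoryTheory CategoryTheory.Limits AlgebraicGeometry TopologicalSpace Opposite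
open HilbPolyLib (congrLeft congrRight assocIso swapIso unitLeft)
open KFlatLib (pb)
open CohB1 (tensorMod tensorPow)
open Groth.Agent.QReg16Lib (QR)

noncomputable section

namespace BlowRegLib

/-- Quasi-coherent modules on affine schemes are generated by their sections. -/
theorem gg_affine {X : Scheme.{u}} [IsAffine X] (M : X.Modules) [Coh.IsQCoh M] : Curv2.IsGloballyGenerated M :=
  MiscFlat6.isGloballyGenerated_of_cancel _ fun _ q hq => MiscFlat6.eq_zero_of_affine_cover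
    (fun _ : Unit => (⊤ : X.Opens)) (fun _ => isAffineOpen_top X) (fun _ => ⟨(), trivial⟩) _ q fun _ w => hq w

/-- Epimorphy of the counit from generation over the members of a cover of the base. -/
theorem epi_counit_of_local {X P : Scheme.{u}} (b : X ⟶ P) {F : X.Modules}
    (h : ∀ y : P, ∃ W : P.Opens, y ∈ W ∧ Curv2.IsGloballyGenerated (F.restrict (b ⁻¹ᵁ W).ι)) :
    Epi ((Scheme.Modules.pullbackPushforwardAdjunction b).counit.app F) := by
  refine Preadditive.epi_of_cancel_zero _ fun {N : X.Modules} (q : F ⟶ N) hq => ?_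
  let adj := Scheme.Modules.pullbackPushforwardAdjunction b
  have h1 : (Scheme.Modules.pushforward b).map q = 0 := by
    calc (Scheme.Modules.pushforward b).map q
        = (adj.unit.app ((Scheme.Modules.pushforward b).obj F) ≫
            (Scheme.Modules.pushforward b).map (adj.counit.app F)) ≫ (Scheme.Modules.pushforward b).map q := by
          rw [adj.right_triangle_components]; exact (Category.id_comp _).symm
      _ = 0 := by rw [Category.assoc, ← Functor.map_comp, hq, Functor.map_zero, comp_zero]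
  refine Scheme.Modules.hom_ext _ _ fun T => ConcreteCategory.hom_ext _ _ fun w => TwistLib.mod_ext N fun x hx => ?_
  obtain ⟨W, hxW, hgg⟩ := h (b x)
  let O := b ⁻¹ᵁ W
  have hr : (Scheme.Modules.restrictFunctor O.ι).map q = 0 :=
    MiscFlat6.cancel_of_isGloballyGenerated hgg _ fun u => by
      show q.app (O.ι ''ᵁ ⊤) u = 0
      have h3 : ∀ (T' : X.Opens), T' = O → ∀ u : Γ(F, T'), q.app T' u = 0 := by
        rintro T' rfl u
        exact congr(Scheme.Modules.Hom.app $h1 W u)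
      exact h3 _ O.ι_image_top u
  let T' : X.Opens := T ⊓ O
  have hx' : x ∈ T' := ⟨hx, hxW⟩
  show N.presheaf.germ T x hx (q.app T w) = N.presheaf.germ T x hx 0
  rw [map_zero, ← AmpleLib.germ_res N (inf_le_left : T' ≤ T) (q.app T w) (x := x) hx']
  rw [show AmpleLib.res N (inf_le_left : T' ≤ T) (q.app T w) = q.app T' (AmpleLib.res F inf_le_left w) from
    (QCohLib.app_map q (homOfLE inf_le_left) w).symm]
  have h4 : ∀ (T'' : X.Opens), T'' = T' → ∀ u : Γ(F, T''), (∀ u' : Γ(F, O.ι ''ᵁ (O.ι ⁻¹ᵁ T')), q.app _ u' = 0) →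
      O.ι ''ᵁ (O.ι ⁻¹ᵁ T') = T'' → q.app T'' u = 0 := by
    rintro T'' rfl u hu e
    revert u hu
    generalize O.ι ''ᵁ (O.ι ⁻¹ᵁ T') = V at e
    subst e
    exact fun u hu => hu u
  rw [h4 T' rfl _ (fun u' => congr(Scheme.Modules.Hom.app $hr (O.ι ⁻¹ᵁ T') u')) (by
    rw [Scheme.Hom.image_preimage_eq_opensRange_inf, Scheme.Opens.opensRange_ι]
    exact inf_eq_right.2 inf_le_right), map_zero]

section Loc

variable {P X : Scheme.{u}} [IsLocallyNoetherian P] {b : X ⟶ P} {𝓘 : P.IdealSheafData}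
  (hb : BlowUp.IsBlowUp b 𝓘)

/-- The transition between the divisor over an open and the divisor. -/
theorem exists_div_transition (W : P.Opens) :
    ∃ ψ : ((𝓘.comap W.ι).comap (b ∣_ W)).subscheme ⟶ (𝓘.comap b).subscheme,
      ψ ≫ (𝓘.comap b).subschemeι = ((𝓘.comap W.ι).comap (b ∣_ W)).subschemeι ≫ (b ⁻¹ᵁ W).ι ∧
      ((∀ x, x ∈ (𝓘.support : Set P) → x ∈ W) → IsIso ψ) := by
  let O := b ⁻¹ᵁ W
  let K := 𝓘.comap b
  have hK : (𝓘.comap W.ι).comap (b ∣_ W) = K.comap O.ι := by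
    rw [← Scheme.IdealSheafData.comap_comp, morphismRestrict_ι, Scheme.IdealSheafData.comap_comp]
  rw [hK]
  refine ⟨(K.comapIso O.ι).hom ≫ pullback.snd O.ι K.subschemeι, ?_, fun h => ?_⟩
  · rw [Category.assoc, ← pullback.condition, ← Category.assoc, Scheme.IdealSheafData.comapIso_hom_fst]
  · haveI : IsIso (pullback.snd O.ι K.subschemeι) := by
      haveI : Surjective (pullback.snd O.ι K.subschemeι) := ⟨fun z => by
        have hz : K.subschemeι z ∈ O := h _ ((Scheme.IdealSheafData.support_comap 𝓘 b).le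
          ((Scheme.IdealSheafData.range_subschemeι K).le ⟨z, rfl⟩))
        show z ∈ Set.range (pullback.snd O.ι K.subschemeι)
        rw [IsOpenImmersion.range_pullbackSnd]
        exact ⟨⟨_, hz⟩, rfl⟩⟩
      exact (isIso_iff_isOpenImmersion_and_epi_base _).2 ⟨inferInstance,
        (TopCat.epi_iff_surjective _).2 (pullback.snd O.ι K.subschemeι).surjective⟩
    infer_instance

/-- The restriction to the divisor over an open, from the restriction to the divisor. -/
theorem gg_restrict_div (W : P.Opens) {F : X.Modules}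
    (h : Curv2.IsGloballyGenerated (pb (𝓘.comap b).subschemeι F)) :
    Curv2.IsGloballyGenerated (pb ((𝓘.comap W.ι).comap (b ∣_ W)).subschemeι (F.restrict (b ⁻¹ᵁ W).ι)) := by
  obtain ⟨ψ, hψ, -⟩ := exists_div_transition (b := b) (𝓘 := 𝓘) W
  exact MiscFlat6.isGloballyGenerated_of_iso ((Scheme.Modules.pullbackComp ψ _).app F ≪≫
    (Scheme.Modules.pullbackCongr hψ).app F ≪≫ ((Scheme.Modules.pullbackComp _ _).app F).symm ≪≫
    (Scheme.Modules.pullback _).mapIso ((Scheme.Modules.restrictFunctorIsoPullback _).app F).symm)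
    (gg_pullback ψ h)

/-- Charts of two regular equations at the centre. -/
def PointCharts (𝓘 : P.IdealSheafData) : Prop :=
  ∀ y ∈ (𝓘.support : Set P), ∃ (U : P.affineOpens) (f : Fin 2 → Γ(P, U.1)), y ∈ U.1 ∧ FVLib.NR f ∧
    Ideal.span (Set.range f) = 𝓘.ideal U

theorem PointCharts.locReg (hch : PointCharts 𝓘) : LocReg 𝓘 1 := fun y => by
  by_cases hy : y ∈ (𝓘.support : Set P)
  · obtain ⟨U, f, hyU, hf, hI⟩ := hch y hy
    exact ⟨U, hyU, 2, f, one_le_two, hf, hI⟩
  · obtain ⟨V, hV, hyV, hVs⟩ := exists_isAffineOpen_mem_and_subset (x := y)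
      (U := ⟨(𝓘.support : Set P)ᶜ, 𝓘.support.isClosed.isOpen_compl⟩) hy
    refine ⟨⟨V, hV⟩, hyV, 1, fun _ => 1, le_rfl, nr_one, ?_⟩
    rw [CDivRatioLib.ideal_eq_top 𝓘 ⟨V, hV⟩ fun x hx h => hVs hx h, Set.range_const, Ideal.span_singleton_one]

include hb in
/-- Off the centre the preimages of affines are affine. -/
theorem isAffine_preimage_off {W : P.Opens} (hW : IsAffineOpen W) (h : ∀ x ∈ W, x ∉ (𝓘.support : Set P)) :
    IsAffine ((b ⁻¹ᵁ W : X.Opens) : Scheme.{u}) := by
  haveI : IsAffine (W : Scheme.{u}) := hW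
  haveI := isIso_off_centre hb W (Scheme.IdealSheafData.ext_of_isAffine (by
    rw [Groth.Agent.S4666.ideal_comap_eq 𝓘 W.ι ⟨W, hW⟩ ⟨⊤, isAffineOpen_top _⟩ (fun x _ => x.2),
      CDivRatioLib.ideal_eq_top 𝓘 ⟨W, hW⟩ h, Ideal.map_top]
    rfl))
  exact .of_isIso (b ∣_ W)

include hb in
/-- **Generation on the line spreads over the base.** -/
theorem local_gg (hch : PointCharts 𝓘) {F : X.Modules} (hF : FlatMod.IsFinLocFree F)
    (h : Curv2.IsGloballyGenerated (pb (𝓘.comap b).subschemeι F)) (y : P) :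
    ∃ W₀ : P.Opens, y ∈ W₀ ∧ ∀ W : P.Opens, IsAffineOpen W → W ≤ W₀ →
      Curv2.IsGloballyGenerated (F.restrict (b ⁻¹ᵁ W).ι) ∧
        ∀ p : ℕ, 1 ≤ p → Subsingleton (Coh.HHon X F (b ⁻¹ᵁ W) p) := by
  haveI : Coh.IsQCoh F := FinLFAnn.isQCoh_of_isFinLocFree hF
  by_cases hy : y ∈ (𝓘.support : Set P)
  · obtain ⟨U, f, hyU, hf, hI⟩ := hch y hy
    refine ⟨U.1, hyU, fun W hW hWU => ?_⟩
    haveI : IsAffine (W : Scheme.{u}) := hW
    haveI := isNoetherian_affine W hW
    obtain ⟨hb', -, a, hQR, ha⟩ := exists_affine_data hb hf hI W hW hWU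
    have hF' : FlatMod.IsFinLocFree (F.restrict (b ⁻¹ᵁ W).ι) := Groth.Agent.PerfLib.isFinLocFree_of_iso
      ((Scheme.Modules.restrictFunctorIsoPullback _).app F).symm (KFlatLib.isFinLocFree_pull (b ⁻¹ᵁ W).ι hF)
    have hg := gg_restrict_div (b := b) (𝓘 := 𝓘) W h
    haveI : Coh.IsQCoh (F.restrict (b ⁻¹ᵁ W).ι) := FinLFAnn.isQCoh_of_isFinLocFree hF'
    refine ⟨gg_of_restrict hb' a ha hQR hF' hg, fun p hp => ?_⟩
    rcases eq_or_lt_of_le hp with rfl | hp2
    · exact HdgLefLib.sub_iso (swapIso _ _ ≪≫ unitLeft _) 1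
        (sub_H1_of_restrict hb' a ha hF' (sub_restrict_of_gg hb' a ha hQR hF' hg) 0)
    · exact van_total hb' a ha _ p hp2
  · refine ⟨⟨(𝓘.support : Set P)ᶜ, 𝓘.support.isClosed.isOpen_compl⟩, hy, fun W hW hWs => ?_⟩
    haveI := isAffine_preimage_off hb hW fun x hx => hWs hx
    haveI : Coh.IsQCoh (F.restrict (b ⁻¹ᵁ W).ι) := Scheme.Modules.isQuasicoherent_restrictFunctor _ F
    exact ⟨gg_affine _, fun p hp => QCohLib.subsingleton_HH_affine _ p hp⟩

include hb in
/-- **Higher direct images vanish and the counit is an epimorphism.** -/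
theorem rpush_and_epi_of_gg (hch : PointCharts 𝓘) {F : X.Modules} (hF : FlatMod.IsFinLocFree F)
    (h : Curv2.IsGloballyGenerated (pb (𝓘.comap b).subschemeι F)) [HasInjectiveResolutions X.Modules] :
    (∀ p : ℕ, 0 < p → IsZero ((Coh.Rpush b p).obj F)) ∧
      Epi ((Scheme.Modules.pullbackPushforwardAdjunction b).counit.app F) := by
  haveI := isProper_b hb
  haveI : Coh.IsQCoh F := FinLFAnn.isQCoh_of_isFinLocFree hF
  refine ⟨fun p hp => ?_, epi_counit_of_local b fun y => ?_⟩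
  · obtain ⟨e⟩ := RpushLib.nonempty_toAb_rpush_iso b F p
    refine RpushLib.isZero_of_isZero_toAb (IsZero.of_iso ?_ e)
    refine RpushLib.isZero_rpushAb b F p fun y => ?_
    obtain ⟨W₀, hy, hW₀⟩ := local_gg hb hch hF h y
    exact ⟨W₀, hy, fun W hW hle => (hW₀ W hW hle).2 p hp⟩
  · obtain ⟨W₀, hy, hW₀⟩ := local_gg hb hch hF h y
    obtain ⟨W, hW, hyW, hle⟩ := exists_isAffineOpen_mem_and_subset (x := y) (U := W₀) hy
    exact ⟨W, hyW, (hW₀ W hW hle).1⟩

include hb in
/-- **The direct image is a bundle.** -/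
theorem push_finLocFree_global {F : X.Modules} (hF : FlatMod.IsFinLocFree F) {L : X.Modules} (hLi : PicF.IsInvertible L)
    (hL : tensorMod L (ClSub.idealMod (𝓘.comap b)) ≅ Coh.structureModule X) {U : P.affineOpens}
    {f : Fin 2 → Γ(P, U.1)} (hf : FVLib.NR f) (hI : Ideal.span (Set.range f) = 𝓘.ideal U)
    (hsupp : ∀ x, x ∈ (𝓘.support : Set P) → x ∈ U.1)
    (hpt : ∀ y ∈ (𝓘.support : Set P), IsRegularLocalRing (P.presheaf.stalk y) ∧
      ringKrullDim (P.presheaf.stalk y) = (2 : ℕ))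
    (h0 : Subsingleton (Coh.HH (𝓘.comap b).subscheme (pb (𝓘.comap b).subschemeι (tensorMod F L)) 0)) :
    FlatMod.IsFinLocFree ((Coh.push b).obj F) := by
  haveI := isProper_b hb
  haveI : IsLocallyNoetherian X := LocallyOfFiniteType.isLocallyNoetherian b
  have hc : Coh.IsCoh ((Coh.push b).obj F) := FormalCohLib.isCoh_push_proper b (Groth.Agent.PerfLib.isCoh_of_isFinLocFree hF)
  haveI := hc.1
  have hreg : LocReg 𝓘 1 := PointCharts.locReg fun y hy => ⟨U, f, hsupp y hy, hf, hI⟩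
  refine MiscFlat6.isFP_and_free_iff.1 ⟨QCohLib.isFP_of_isCoh _ hc, fun y => ?_⟩
  by_cases hy : y ∈ (𝓘.support : Set P)
  · let W := U.1
    let O := b ⁻¹ᵁ W
    have hyW : y ∈ W := hsupp y hy
    haveI : IsAffine (W : Scheme.{u}) := U.2
    haveI := isNoetherian_affine W U.2
    obtain ⟨hb', he, a, hQR, ha⟩ := exists_affine_data hb hf hI W U.2 le_rfl
    have hreg' : LocReg (𝓘.comap W.ι) 1 := fun z => by
      obtain ⟨U', hz, r, g, hr, hg, hgI⟩ := hreg (W.ι z)
      obtain ⟨V, hV, hzV, hVle⟩ := exists_isAffineOpen_mem_and_subset (x := z) (U := W.ι ⁻¹ᵁ U'.1) hz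
      obtain ⟨g', hg', hgI'⟩ := exists_local hg hgI W.ι ⟨V, hV⟩ hVle
      exact ⟨⟨V, hV⟩, hzV, r, g', hr, hg', hgI'⟩
    have hpt' : ∀ z ∈ ((𝓘.comap W.ι).support : Set (W : Scheme.{u})),
        IsRegularLocalRing ((W : Scheme.{u}).presheaf.stalk z) ∧
          ringKrullDim ((W : Scheme.{u}).presheaf.stalk z) = (2 : ℕ) := fun z hz => by
      rw [Scheme.IdealSheafData.support_comap] at hz
      obtain ⟨h1, h2⟩ := hpt _ hz
      let e := (asIso (W.ι.stalkMap z)).commRingCatIsoToRingEquiv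
      haveI := h1
      exact ⟨IsRegularLocalRing.of_ringEquiv e, (ringKrullDim_eq_of_ringEquiv e).symm.trans h2⟩
    have hF' : FlatMod.IsFinLocFree (F.restrict O.ι) := Groth.Agent.PerfLib.isFinLocFree_of_iso
      ((Scheme.Modules.restrictFunctorIsoPullback _).app F).symm (KFlatLib.isFinLocFree_pull O.ι hF)
    let ρ := fun M : X.Modules => (Scheme.Modules.restrictFunctorIsoPullback O.ι).app M
    obtain ⟨j⟩ := nonempty_restrict_ideal hb O
    obtain ⟨pL⟩ := BlowPtLib.nonempty_pb_tensor O.ι L (ClSub.idealMod (𝓘.comap b))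
    have hL' : Nonempty (tensorMod (pb O.ι L) (ClSub.idealMod ((𝓘.comap W.ι).comap (b ∣_ W))) ≅
        Coh.structureModule (O : Scheme.{u})) := by
      rw [he]
      exact ⟨congrRight _ j.symm ≪≫ pL.symm ≪≫ (Scheme.Modules.pullback O.ι).mapIso hL ≪≫ KFlatLib.pullUnitIso _⟩
    obtain ⟨hL'⟩ := hL'
    obtain ⟨ψ, hψ, hψi⟩ := exists_div_transition (b := b) (𝓘 := 𝓘) W
    haveI := hψi hsupp
    obtain ⟨pF⟩ := BlowPtLib.nonempty_pb_tensor O.ι F L
    haveI : Coh.IsQCoh (pb (𝓘.comap b).subschemeι (tensorMod F L)) :=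
      FinLFAnn.isQCoh_of_isFinLocFree (KFlatLib.isFinLocFree_pull _ (HdgLefLib.finLocFree_tensor hF hLi))
    have h0' := HdgLefLib.sub_iso ((Scheme.Modules.pullbackComp ψ _).app _ ≪≫ (Scheme.Modules.pullbackCongr hψ).app _ ≪≫
      ((Scheme.Modules.pullbackComp _ _).app _).symm ≪≫
      (Scheme.Modules.pullback _).mapIso (pF ≪≫ congrLeft (ρ F).symm _)) 0
      ((QuotSchLib.subsingleton_HH_pullback_iso (asIso ψ) _ 0).2 h0)
    have key := push_finLocFree hb' a ha hQR hreg' hpt' hF' (AmpleDevLib.isInvertible_pb O.ι hLi) hL' h0'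
    exact free_stalk_of_nearby hc.2 y W hyW (Groth.Agent.PerfLib.isFinLocFree_of_iso
      ((Groth.Agent.DCohRestrLib.restrictPushIso b W).app F).symm key)
  · obtain ⟨W, n, hyW, ⟨s⟩⟩ := exists_free_over hb hF y fun h => absurd h hy
    obtain ⟨g⟩ := nonempty_push_free hb hreg s
    exact free_stalk_of_nearby hc.2 y W hyW fun v => ⟨⊤, n, trivial,
      ⟨(Scheme.Modules.restrictFunctor _).mapIso g ≪≫ (Scheme.Modules.restrictFunctorIsoPullback _).app _ ≪≫
        KFlatLib.pullFreeIso _ n⟩⟩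

include hb in
/-- **The counit is a monomorphism when the direct image is a bundle.** -/
theorem mono_counit (hch : PointCharts 𝓘) {F : X.Modules} (hF : FlatMod.IsFinLocFree F) (hG : FlatMod.IsFinLocFree ((Coh.push b).obj F)) :
    Mono ((Scheme.Modules.pullbackPushforwardAdjunction b).counit.app F) := by
  haveI := isProper_b hb
  have hreg := hch.locReg
  let adj := Scheme.Modules.pullbackPushforwardAdjunction b
  let K := pb b ((Coh.push b).obj F)
  have hK : FlatMod.IsFinLocFree K := KFlatLib.isFinLocFree_pull b hG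
  haveI : Coh.IsQCoh K := FinLFAnn.isQCoh_of_isFinLocFree hK
  let ε : K ⟶ F := adj.counit.app F
  have hloc : ∀ (V : P.Opens) (n : ℕ),
      (F.restrict (b ⁻¹ᵁ V).ι ≅ FlatMod.freeMod ((b ⁻¹ᵁ V : X.Opens) : Scheme.{u}) n) →
      ∀ (T : X.Opens) (hT : T ≤ b ⁻¹ᵁ V), Function.Injective (ε.app T) := fun V n s T hT => by
    let O := b ⁻¹ᵁ V
    let ε' : K.restrict O.ι ⟶ FlatMod.freeMod (O : Scheme.{u}) n :=
      (Scheme.Modules.restrictFunctor O.ι).map ε ≫ s.hom
    haveI : Epi ε' := epi_of_surjective_top ε' fun y => by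
      have hsur : Function.Surjective (ε.app (b ⁻¹ᵁ V)) := fun z =>
        ⟨(adj.unit.app ((Coh.push b).obj F)).app V z, congr(Scheme.Modules.Hom.app $(adj.right_triangle_components F) V z)⟩
      have hsur' : Function.Surjective (ε.app (O.ι ''ᵁ ⊤)) := by rw [O.ι_image_top]; exact hsur
      obtain ⟨x, hx⟩ := hsur' (s.inv.app ⊤ y)
      refine ⟨x, ?_⟩
      show s.hom.app ⊤ (ε.app (O.ι ''ᵁ ⊤) x) = y
      refine (congrArg (s.hom.app ⊤) hx).trans ?_
      exact congr(Scheme.Modules.Hom.app $(s.inv_hom_id) ⊤ y)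
    obtain ⟨g⟩ := nonempty_push_free hb hreg s
    let g' : K.restrict O.ι ≅ FlatMod.freeMod (O : Scheme.{u}) n :=
      (Scheme.Modules.restrictFunctorIsoPullback O.ι).app _ ≪≫ (Scheme.Modules.pullbackComp O.ι b).app _ ≪≫
        (Scheme.Modules.pullbackCongr (morphismRestrict_ι b V).symm).app _ ≪≫
        ((Scheme.Modules.pullbackComp _ _).app _).symm ≪≫
        (Scheme.Modules.pullback (b ∣_ V)).mapIso (((Scheme.Modules.restrictFunctorIsoPullback V.ι).app _).symm ≪≫ g) ≪≫
        KFlatLib.pullFreeIso _ n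
    have hr : FlatMod.IsFinLocFreeOfRank n (FlatMod.freeMod (O : Scheme.{u}) n) := fun v =>
      ⟨⊤, trivial, ⟨(Scheme.Modules.restrictFunctorIsoPullback _).app _ ≪≫ KFlatLib.pullFreeIso _ n⟩⟩
    haveI : IsIso ε' := QuotSchLib.isIso_of_epi_rank (fun v => ⟨⊤, trivial,
      ⟨(Scheme.Modules.restrictFunctor _).mapIso g' ≪≫ (Scheme.Modules.restrictFunctorIsoPullback _).app _ ≪≫
        KFlatLib.pullFreeIso _ n⟩⟩) hr ε'
    haveI : IsIso ((Scheme.Modules.restrictFunctor O.ι).map ε) := IsIso.of_isIso_comp_right _ s.hom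
    have h2 := (ConcreteCategory.isIso_iff_bijective _).1
      (Scheme.Modules.Hom.isIso_iff_isIso_app.1 (inferInstance : IsIso ((Scheme.Modules.restrictFunctor O.ι).map ε)) (O.ι ⁻¹ᵁ T))
    have h3 : O.ι ''ᵁ (O.ι ⁻¹ᵁ T) = T := by
      rw [Scheme.Hom.image_preimage_eq_opensRange_inf, Scheme.Opens.opensRange_ι]
      exact inf_eq_right.2 hT
    have h4 : Function.Bijective (ε.app (O.ι ''ᵁ (O.ι ⁻¹ᵁ T))) := h2
    rw [h3] at h4
    exact h4.1
  have hchart : ∀ (U₀ : P.affineOpens) (a : Fin 2 → Γ(P, U₀.1)), (∀ l, a l ∈ 𝓘.ideal U₀) →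
      ∀ (W : Fin 2 → X.affineOpens) (hW : ∀ l, (W l).1 ≤ b ⁻¹ᵁ U₀.1),
      (∀ l, (b.appLE U₀.1 (W l).1 (hW l)).hom (a l) ∈ nonZeroDivisors Γ(X, (W l).1)) →
      ∀ (l : Fin 2) (T : X.Opens) (hT : IsAffineOpen T) (hTW : T ≤ (W l).1) (w : Γ(K, T)),
      ε.app T w = 0 → w = 0 := fun U₀ a ha W hW hnz l T hT hTW w hw => by
    let g : Γ(X, T) := X.presheaf.map (homOfLE hTW).op ((b.appLE U₀.1 (W l).1 (hW l)).hom (a l))
    have hgnz : g ∈ nonZeroDivisors Γ(X, T) := nzd_res' (W l).2 hT hTW (hnz l)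
    have h0 : AmpleLib.res K (X.basicOpen_le g) w = 0 := by
      refine TwistLib.mod_ext K fun y hy => ?_
      have hyV : b y ∈ P.basicOpen (a l) := by
        have h1 : y ∈ X.basicOpen ((b.app U₀.1).hom (a l)) := by
          have h2 : X.basicOpen g ≤ X.basicOpen ((b.app U₀.1).hom (a l)) := by
            simp only [g, Scheme.Hom.appLE, CommRingCat.comp_apply, Scheme.basicOpen_res]
            exact inf_le_right.trans inf_le_right
          exact h2 hy
        rw [← Scheme.preimage_basicOpen] at h1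
        exact h1
      have hns : b y ∉ (𝓘.support : Set P) := fun hs =>
        (Scheme.mem_zeroLocus_iff P _ (b y)).1 ((𝓘.mem_support_iff_of_mem (U := U₀) (P.basicOpen_le _ hyV)).1 hs)
          (a l) (ha l) hyV
      obtain ⟨V, n, hyV', ⟨s⟩⟩ := exists_free_over hb hF (b y) fun h => absurd h hns
      let T' : X.Opens := X.basicOpen g ⊓ b ⁻¹ᵁ V
      have hy' : y ∈ T' := ⟨hy, hyV'⟩
      rw [← AmpleLib.germ_res K (inf_le_left : T' ≤ X.basicOpen g) _ (x := y) hy', AmpleLib.res_res]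
      have h5 : AmpleLib.res K ((inf_le_left : T' ≤ X.basicOpen g).trans (X.basicOpen_le g)) w = 0 :=
        hloc V n s T' inf_le_right (by
          rw [map_zero]
          refine (QCohLib.app_map ε (homOfLE _) w).trans ?_
          rw [hw, map_zero])
      rw [h5, map_zero, map_zero]
    obtain ⟨N, hN⟩ := (QCohLib.localizingAt_of_qcqs K hT.isCompact hT.isQuasiSeparated g).eq_zero w h0
    rw [show (homOfLE (le_rfl : T ≤ T)).op = 𝟙 (op T) from rfl, CategoryTheory.Functor.map_id] at hN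
    exact regular_sections hK hT (pow_mem hgnz N) hN
  refine FormalPunctLib.mono_of_app_injective ε fun T => (injective_iff_map_eq_zero _).2 fun w hw => ?_
  refine TwistLib.mod_ext K fun y hy => ?_
  by_cases hs : b y ∈ (𝓘.support : Set P)
  · obtain ⟨U, f, hyU, -, hI⟩ := hch (b y) hs
    obtain ⟨W, hW, hcov, hnz, -⟩ := BlowPtLib.exists_charts_family (𝓙 := 𝓘) hb U rfl f hI
    obtain ⟨l, hl⟩ := Opens.mem_iSup.1 (hcov (show y ∈ b ⁻¹ᵁ U.1 from hyU))
    obtain ⟨T', hT', hyT', hle'⟩ := exists_isAffineOpen_mem_and_subset (x := y) (U := T ⊓ (W l).1) ⟨hy, hl⟩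
    have hle : T' ≤ T ⊓ (W l).1 := hle'
    rw [← AmpleLib.germ_res K (hle.trans inf_le_left) w (x := y) hyT']
    rw [show AmpleLib.res K (hle.trans inf_le_left) w = 0 from
      hchart U f (fun l => hI ▸ Ideal.subset_span ⟨l, rfl⟩) W hW hnz l T' hT' (hle.trans inf_le_right) _
        ((QCohLib.app_map ε (homOfLE _) w).trans (by rw [hw, map_zero])), map_zero, map_zero]
  · obtain ⟨V, n, hyV, ⟨s⟩⟩ := exists_free_over hb hF (b y) fun h => absurd h hs
    let T' : X.Opens := T ⊓ b ⁻¹ᵁ V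
    rw [← AmpleLib.germ_res K (inf_le_left : T' ≤ T) w (x := y) ⟨hy, hyV⟩]
    rw [show AmpleLib.res K (inf_le_left : T' ≤ T) w = 0 from hloc V n s T' inf_le_right (by
      rw [map_zero]
      exact (QCohLib.app_map ε (homOfLE _) w).trans (by rw [hw, map_zero])), map_zero, map_zero]

end Loc

end BlowRegLib
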