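import Groth.Agent.BlowRegLib.PosC
import Groth.Agent.QCohLib.Vanishing

/-!
# Torsion and cokernel of the counit on the blow-up of a point
-/

set_option autoImplicit false
set_option linter.style.haveILetI false
set_option linter.unusedSectionVars false
set_option maxHeartbeats 1000000
set_option backward.isDefEq.respectTransparency false
set_option backward.isDefEq.respectTransparency.types false

universe u

open CategoryTheory CategoryTheory.Limits AlgebraicGeometry TopologicalSpace Opposite
open HilbPolyLib (congrLeft congrRight assocIso swapIso unitLeft)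
open KFlatLib (pb)
open CohB1 (tensorMod tensorPow)

noncomputable section

namespace BlowRegLib

variable {P X : Scheme.{u}} [IsLocallyNoetherian P] {b : X ⟶ P}

/-- Functions vanishing at a point vanish on its residue field. -/
theorem residueField_app_eq_zero (s : P) {U : P.Opens} (a : Γ(P, U)) (ha : s ∉ P.basicOpen a) :
    (P.fromSpecResidueField s).app U a = 0 := by
  apply eq_zero_of_basicOpen_eq_bot
  rw [← Scheme.preimage_basicOpen]
  refine eq_bot_iff.2 fun z hz => ha ?_
  have h : (P.fromSpecResidueField s) z ∈ P.basicOpen a := hz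
  rwa [Scheme.fromSpecResidueField_apply] at h

/-- **Direct images of bundles have no torsion at the centre.** -/
theorem subsingleton_hom_sky (s : P) (hs : IsClosed ({s} : Set P))
    (hb : BlowUp.IsBlowUp b (Scheme.IdealSheafData.vanishingIdeal ⟨{s}, hs⟩))
    (hch : PointCharts (Scheme.IdealSheafData.vanishingIdeal (⟨{s}, hs⟩ : Closeds P)))
    {F : X.Modules} (hF : FlatMod.IsFinLocFree F) :
    Subsingleton ((Scheme.Modules.pushforward (P.fromSpecResidueField s)).obj
      (Coh.structureModule (Spec (P.residueField s))) ⟶ (Scheme.Modules.pushforward b).obj F) := by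
  let 𝓙 := Scheme.IdealSheafData.vanishingIdeal (⟨{s}, hs⟩ : Closeds P)
  let i := P.fromSpecResidueField s
  let S := (Scheme.Modules.pushforward i).obj (Coh.structureModule (Spec (P.residueField s)))
  refine subsingleton_of_forall_eq 0 fun δ => Scheme.Modules.hom_ext _ _ fun T =>
    ConcreteCategory.hom_ext _ _ fun (z : Γ(S, T)) => TwistLib.mod_ext F fun x hx => ?_
  show F.presheaf.germ (b ⁻¹ᵁ T) x hx (δ.app T z) = F.presheaf.germ (b ⁻¹ᵁ T) x hx 0
  rw [map_zero]
  have hres : ∀ (V : P.Opens) (hV : V ≤ T), AmpleLib.res F (b.preimage_mono hV) (show Γ(F, b ⁻¹ᵁ T) from δ.app T z) =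
      δ.app V (AmpleLib.res S hV z) := fun V hV => (QCohLib.app_map δ (homOfLE hV) z).symm
  by_cases hxs : b x = s
  · obtain ⟨U, f, hsU, hf, hI⟩ := hch s (by
      rw [Scheme.IdealSheafData.coe_support_vanishingIdeal]; exact rfl)
    obtain ⟨V, hV, hsV, hVle'⟩ := exists_isAffineOpen_mem_and_subset (x := s) (U := T ⊓ U.1) ⟨hxs ▸ hx, hsU⟩
    have hVle : V ≤ T ⊓ U.1 := hVle'
    obtain ⟨g, hg, hgI⟩ := exists_local hf hI (𝟙 P) ⟨V, hV⟩ (show V ≤ (𝟙 P : P ⟶ P) ⁻¹ᵁ U.1 from hVle.trans inf_le_right)
    rw [Scheme.IdealSheafData.comap_id] at hgI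
    obtain ⟨W, hW, hcov, hnz, -⟩ := BlowPtLib.exists_charts_family (𝓙 := 𝓙) hb ⟨V, hV⟩ rfl g hgI
    obtain ⟨l, hl⟩ := Opens.mem_iSup.1 (hcov (show x ∈ b ⁻¹ᵁ V from (show b x ∈ V from hxs.symm ▸ hsV)))
    let σ : Γ(F, b ⁻¹ᵁ V) := δ.app V (AmpleLib.res S (hVle.trans inf_le_left) z)
    have hkill : (b.app V).hom (g l) • σ = 0 := by
      refine Eq.trans (QCohLib.app_smul δ V (g l) _).symm ?_
      have h0 : g l • AmpleLib.res S (hVle.trans inf_le_left) z = 0 := by
        show (i.app V).hom (g l) * (show Γ(Spec (P.residueField s), i ⁻¹ᵁ V) from AmpleLib.res S (hVle.trans inf_le_left) z) = 0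
        refine (congrArg (· * _) (residueField_app_eq_zero s (g l) ?_)).trans (zero_mul _)
        intro hmem
        exact (Scheme.mem_zeroLocus_iff P _ s).1 ((𝓙.mem_support_iff_of_mem (U := ⟨V, hV⟩) hsV).1 (by
          rw [← SetLike.mem_coe, Scheme.IdealSheafData.coe_support_vanishingIdeal]; exact rfl)) (g l)
          (hgI ▸ Ideal.subset_span ⟨l, rfl⟩) hmem
      rw [h0, map_zero]
    have h0 : AmpleLib.res F (hW l) σ = 0 := regular_sections hF (W l).2 (hnz l) (by
      refine Eq.trans ?_ ((congrArg (AmpleLib.res F (hW l)) hkill).trans (map_zero _))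
      rw [AmpleLib.res_smul]
      rfl)
    rw [← AmpleLib.germ_res F ((hW l).trans (b.preimage_mono (hVle.trans inf_le_left))) _ (x := x) hl,
      ← AmpleLib.res_res (h := (b.preimage_mono (hVle.trans inf_le_left))) (h' := hW l), hres V (hVle.trans inf_le_left)]
    rw [h0, map_zero]
  · let V : P.Opens := T ⊓ ⟨({s} : Set P)ᶜ, hs.isOpen_compl⟩
    have hxV : x ∈ b ⁻¹ᵁ V := ⟨hx, hxs⟩
    rw [← AmpleLib.germ_res F (b.preimage_mono (inf_le_left : V ≤ T)) _ (x := x) hxV, hres V inf_le_left]
    have hsub : Subsingleton Γ(S, V) := by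
      have he : i ⁻¹ᵁ V = ⊥ := eq_bot_iff.2 fun w hw => by
        have h : i w ∈ V := hw
        rw [show i w = s from Scheme.fromSpecResidueField_apply s w] at h
        exact h.2 rfl
      show Subsingleton Γ(Spec (P.residueField s), i ⁻¹ᵁ V)
      rw [he]
      infer_instance
    rw [show δ.app V (AmpleLib.res S inf_le_left z) = 0 by rw [Subsingleton.elim (AmpleLib.res S inf_le_left z) 0, map_zero]]
    exact map_zero _

variable {𝓘 : P.IdealSheafData} (hb : BlowUp.IsBlowUp b 𝓘)

include hb in
/-- **The cokernel of the counit is killed by a power of the exceptional ideal.** -/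
theorem coker_counit_killed (hch : PointCharts 𝓘) {F : X.Modules} (hF : FlatMod.IsFinLocFree F) (l : ℕ)
    (hgen : Curv2.IsGloballyGenerated (pb (𝓘.comap b).subschemeι (tensorMod (ClSub.idealMod ((𝓘.comap b) ^ l)) F)))
    (U : X.affineOpens) (q : (cokernel ((Scheme.Modules.pullbackPushforwardAdjunction b).counit.app F)).presheaf.obj (op U.1))
    (a : Γ(X, U.1)) (ha : a ∈ ((𝓘.comap b) ^ l).ideal U) : a • q = 0 := by
  haveI := isProper_b hb
  haveI : IsLocallyNoetherian X := LocallyOfFiniteType.isLocallyNoetherian b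
  let adj := Scheme.Modules.pullbackPushforwardAdjunction b
  let J := (𝓘.comap b) ^ l
  let F' := tensorMod F (ClSub.idealMod J)
  have hJ : PicF.IsInvertible (ClSub.idealMod J) :=
    IntMultLib.isInvertible_idealMod _ fun x => by
      obtain ⟨V, hxV, g, hg, hgV⟩ := hb.1 x
      exact ⟨V, hxV, g ^ l, pow_mem hg l, by
        rw [show J.ideal V = (𝓘.comap b).ideal V ^ l by simp [J], ← Ideal.span_singleton_pow]
        exact congrArg (· ^ l) hgV⟩
  have hF' : FlatMod.IsFinLocFree F' := HdgLefLib.finLocFree_tensor hF hJ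
  haveI : Coh.IsQCoh F := FinLFAnn.isQCoh_of_isFinLocFree hF
  haveI : HasInjectiveResolutions X.Modules := inferInstance
  haveI := (rpush_and_epi_of_gg hb hch hF' (MiscFlat6.isGloballyGenerated_of_iso
    ((Scheme.Modules.pullback _).mapIso (swapIso _ _)) hgen)).2
  obtain ⟨ρ, -, hρ⟩ := SerreVanLib.exists_unit_iso F
  let μ : F' ⟶ F := (ProjFormLib.tF F).map (ClSub.idealModι J) ≫ ρ
  let π := cokernel.π (adj.counit.app F)
  have hμ : μ ≫ π = 0 := by
    rw [← cancel_epi (adj.counit.app F'), comp_zero, ← Category.assoc]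
    rw [show adj.counit.app F' ≫ μ = (Scheme.Modules.pullback b).map ((Scheme.Modules.pushforward b).map μ) ≫
      adj.counit.app F from (adj.counit.naturality μ).symm]
    rw [Category.assoc, show adj.counit.app F ≫ π = 0 from cokernel.condition _, comp_zero]
  haveI : Coh.IsQCoh (pb b ((Coh.push b).obj F)) := by
    haveI := QCohLib.isQCoh_pushforward b F
    exact KFlatLib.isQCoh_pullback b _
  have hsurj : Function.Surjective (π.app U.1) := by
    let S : ShortComplex X.Modules := ShortComplex.mk (kernel.ι π) π (kernel.condition π)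
    haveI : Coh.IsQCoh ((Scheme.Modules.pushforward b ⋙ Scheme.Modules.pullback b).obj F) :=
      inferInstanceAs (Coh.IsQCoh (pb b ((Coh.push b).obj F)))
    haveI : Coh.IsQCoh ((𝟭 X.Modules).obj F) := inferInstanceAs (Coh.IsQCoh F)
    haveI : Coh.IsQCoh (cokernel (adj.counit.app F)) := QCohLib.isQCoh_cokernel _
    haveI : Coh.IsQCoh S.X₁ := QCohLib.isQCoh_kernel π
    exact QCohLib.app_surjective_of_affine (NefH1Lib.kernel_shortExact π) U.2
  obtain ⟨v, rfl⟩ := hsurj q
  obtain ⟨t, ht⟩ := LichtLib.exists_ideFn J U.1 a fun T hT => by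
    rw [← J.map_ideal (show T ≤ U from hT)]
    exact Ideal.mem_map_of_mem _ ha
  refine (QCohLib.app_smul π U.1 a v).symm.trans ?_
  have h1 : μ.app U.1 (AmpleLib.shT v t) = a • v := by
    have e1 : ((ProjFormLib.tF F).map (ClSub.idealModι J)).app U.1 (AmpleLib.shT v t) =
        AmpleLib.shT v ((ClSub.idealModι J).app U.1 t) := KFlatLib.shApp_map _ _ _
    show ρ.app U.1 (((ProjFormLib.tF F).map (ClSub.idealModι J)).app U.1 (AmpleLib.shT v t)) = a • v
    rw [e1, show (ClSub.idealModι J).app U.1 t = a • (show Γ(Coh.structureModule X, U.1) from (1 : Γ(X, U.1))) from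
      (show LichtLib.ideFn J t = a * 1 by rw [mul_one]; exact ht), TwistExtLib.shT_smul_right]
    refine (QCohLib.app_smul ρ U.1 a _).trans (congrArg (a • ·) ?_)
    exact (hρ U.1 v _).trans (one_smul Γ(X, U.1) v)
  rw [← h1]
  exact congr(Scheme.Modules.Hom.app $hμ U.1 (AmpleLib.shT v t))

end BlowRegLib
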