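import Groth.Agent.BlowRegLib.PosC
import Groth.Agent.BlowRegLib.Surface
import Groth.Agent.QCohLib.OpenRestr

/-!
# Bundles on the blow-up of finitely many points
-/

set_option autoImplicit false
set_option linter.style.haveILetI false
set_option linter.unusedSectionVars false
set_option maxHeartbeats 1000000
set_option backward.isDefEq.respectTransparency false
set_option backward.isDefEq.respectTransparency.types false

universe u

open CategoryTheory CategoryTheory.Limits AlgebraicGeometry TopologicalSpace Opposite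
open HilbPolyLib (congrLeft congrRight assocIso swapIso unitLeft)
open KFlatLib (pb)
open CohB1 (tensorMod tensorPow)
open Groth.Agent.QReg16Lib (QR)

noncomputable section

namespace BlowRegLib

/-- Cohomology of a disjoint union vanishes only if that of each part does. -/
theorem subsingleton_HU_of_disjoint {Y : TopCat.{u}} {F : QCohLib.AbSh Y} {n : ℕ} {U V : Opens Y} (h : U ⊓ V = ⊥)
    (hUV : Subsingleton (QCohLib.HU F n (U ⊔ V))) : Subsingleton (QCohLib.HU F n U) := by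
  refine subsingleton_of_forall_eq 0 fun z => ?_
  have hS := QCohLib.mvSeq_shortExact U V
  let w : Abelian.Ext (QCohLib.mvSeq U V).X₂ F n := (Abelian.Ext.mk₀ biprod.fst).comp z (zero_add n)
  have hz0 : IsZero (QCohLib.mvSeq U V).X₁ := by
    show IsZero (QCohLib.zsh (U ⊓ V))
    rw [h]
    exact QCohLib.isZero_zsh_bot
  obtain ⟨x, hx⟩ := Abelian.Ext.contravariant_sequence_exact₂ hS F w (by
    rw [hz0.eq_of_src (QCohLib.mvSeq U V).f 0, Abelian.Ext.mk₀_zero, Abelian.Ext.zero_comp])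
  have h1 : z = (Abelian.Ext.mk₀ biprod.inl).comp w (zero_add n) := by
    simp only [w]
    rw [Abelian.Ext.mk₀_comp_mk₀_assoc, biprod.inl_fst, Abelian.Ext.mk₀_id_comp]
  rw [h1, ← hx, show x = 0 from hUV.elim _ _, Abelian.Ext.comp_zero, Abelian.Ext.comp_zero]

/-- Vanishing passes to open and closed pieces. -/
theorem subsingleton_HH_clopen {Z' Z : Scheme.{u}} (ψ : Z' ⟶ Z) [IsOpenImmersion ψ]
    (hc : IsClosed (Set.range ψ)) (G : Z.Modules) (q : ℕ) (h : Subsingleton (Coh.HH Z G q)) :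
    Subsingleton (Coh.HH Z' (pb ψ G) q) := by
  refine HdgLefLib.sub_iso ((Scheme.Modules.restrictFunctorIsoPullback ψ).app G) q ?_
  refine (QCohLib.subsingleton_H_iff _ q).2 ?_
  obtain ⟨e⟩ := QCohLib.nonempty_HU_restrict ψ G q ⊤
  have hU : Subsingleton (QCohLib.HU ((QCohLib.toAbF Z).obj G) q (ψ ''ᵁ ⊤)) := by
    let V : Z.Opens := ⟨(Set.range ψ)ᶜ, hc.isOpen_compl⟩
    refine subsingleton_HU_of_disjoint (V := V) (Opens.ext ?_) ?_
    · ext z
      simp only [Opens.coe_inf, Set.mem_inter_iff, Opens.coe_bot, Set.mem_empty_iff_false, iff_false, not_and]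
      rintro ⟨w, -, rfl⟩ hz
      exact hz ⟨w, rfl⟩
    · rw [show ψ ''ᵁ ⊤ ⊔ V = ⊤ from top_le_iff.1 fun z _ => by
        by_cases hz : z ∈ Set.range ψ
        · obtain ⟨w, rfl⟩ := hz; exact Or.inl ⟨w, trivial, rfl⟩
        · exact Or.inr hz]
      exact (QCohLib.subsingleton_H_iff _ q).1 h
  exact e.toEquiv.subsingleton

variable {P X : Scheme.{u}} [IsLocallyNoetherian P] {b : X ⟶ P} {𝓘 : P.IdealSheafData}
  (hb : BlowUp.IsBlowUp b 𝓘)

include hb in
/-- Vanishing on the divisor passes to the divisor over an open, for a finite centre of closed points. -/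
theorem sub_restrict_points (W : P.Opens) (hfin : (𝓘.support : Set P).Finite)
    (hclosed : ∀ y ∈ (𝓘.support : Set P), IsClosed ({y} : Set P)) (G : X.Modules) (q : ℕ)
    (h : Subsingleton (Coh.HH (𝓘.comap b).subscheme (pb (𝓘.comap b).subschemeι G) q)) :
    Subsingleton (Coh.HH ((𝓘.comap W.ι).comap (b ∣_ W)).subscheme
      (pb ((𝓘.comap W.ι).comap (b ∣_ W)).subschemeι (pb (b ⁻¹ᵁ W).ι G)) q) := by
  let O := b ⁻¹ᵁ W
  let K := 𝓘.comap b
  have hK : (𝓘.comap W.ι).comap (b ∣_ W) = K.comap O.ι := by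
    rw [← Scheme.IdealSheafData.comap_comp, morphismRestrict_ι, Scheme.IdealSheafData.comap_comp]
  rw [hK]
  let ψ : (K.comap O.ι).subscheme ⟶ K.subscheme := (K.comapIso O.ι).hom ≫ pullback.snd O.ι K.subschemeι
  have hψ : ψ ≫ K.subschemeι = (K.comap O.ι).subschemeι ≫ O.ι := by
    rw [Category.assoc, ← pullback.condition, ← Category.assoc, Scheme.IdealSheafData.comapIso_hom_fst]
  have hc : IsClosed (Set.range ψ) := by
    have e : Set.range ψ = (K.subschemeι ≫ b) ⁻¹' ((𝓘.support : Set P) ∩ W) := by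
      have h1 : Set.range ψ = Set.range (pullback.snd O.ι K.subschemeι) := by
        simp only [ψ, Scheme.Hom.comp_base, TopCat.coe_comp]
        exact (K.comapIso O.ι).hom.surjective.range_comp _
      rw [h1, IsOpenImmersion.range_pullbackSnd]
      ext z
      constructor
      · rintro ⟨w, hw⟩
        refine ⟨(Scheme.IdealSheafData.support_comap 𝓘 b).le ((Scheme.IdealSheafData.range_subschemeι K).le ⟨z, rfl⟩), ?_⟩
        show b (K.subschemeι z) ∈ W
        rw [← hw]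
        exact w.2
      · rintro ⟨-, hz⟩
        exact ⟨⟨_, hz⟩, rfl⟩
    rw [e]
    refine IsClosed.preimage (K.subschemeι ≫ b).continuous ?_
    have e2 : (𝓘.support : Set P) ∩ W = ⋃ y ∈ ((𝓘.support : Set P) ∩ W), ({y} : Set P) := (Set.biUnion_of_singleton _).symm
    rw [e2]
    exact (hfin.inter_of_left _).isClosed_biUnion fun y hy => hclosed y hy.1
  exact HdgLefLib.sub_iso ((Scheme.Modules.pullbackComp ψ _).app G ≪≫ (Scheme.Modules.pullbackCongr hψ).app G ≪≫
    ((Scheme.Modules.pullbackComp _ _).app G).symm) q (subsingleton_HH_clopen ψ hc _ q h)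

include hb in
/-- **No `H¹` on the divisor: no higher direct images.** -/
theorem isZero_rpush_of_h1 (hch : PointCharts 𝓘) (hfin : (𝓘.support : Set P).Finite)
    (hclosed : ∀ y ∈ (𝓘.support : Set P), IsClosed ({y} : Set P)) {F : X.Modules} (hF : FlatMod.IsFinLocFree F)
    (h : Subsingleton (Coh.HH (𝓘.comap b).subscheme (pb (𝓘.comap b).subschemeι F) 1))
    [HasInjectiveResolutions X.Modules] (p : ℕ) (hp : 0 < p) : IsZero ((Coh.Rpush b p).obj F) := by
  haveI := isProper_b hb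
  haveI : Coh.IsQCoh F := FinLFAnn.isQCoh_of_isFinLocFree hF
  obtain ⟨e⟩ := RpushLib.nonempty_toAb_rpush_iso b F p
  refine RpushLib.isZero_of_isZero_toAb (IsZero.of_iso ?_ e)
  refine RpushLib.isZero_rpushAb b F p fun y => ?_
  by_cases hy : y ∈ (𝓘.support : Set P)
  · obtain ⟨U, f, hyU, hf, hI⟩ := hch y hy
    refine ⟨U.1, hyU, fun W hW hWU => ?_⟩
    haveI : IsAffine (W : Scheme.{u}) := hW
    haveI := isNoetherian_affine W hW
    obtain ⟨hb', -, a, hQR, ha⟩ := exists_affine_data hb hf hI W hW hWU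
    let ρ := (Scheme.Modules.restrictFunctorIsoPullback (b ⁻¹ᵁ W).ι).app F
    have hF' : FlatMod.IsFinLocFree (F.restrict (b ⁻¹ᵁ W).ι) :=
      Groth.Agent.PerfLib.isFinLocFree_of_iso ρ.symm (KFlatLib.isFinLocFree_pull (b ⁻¹ᵁ W).ι hF)
    haveI : Coh.IsQCoh (F.restrict (b ⁻¹ᵁ W).ι) := FinLFAnn.isQCoh_of_isFinLocFree hF'
    rcases eq_or_lt_of_le (show 1 ≤ p from hp) with rfl | hp2
    · exact HdgLefLib.sub_iso (swapIso _ _ ≪≫ unitLeft _) 1 (sub_H1_of_restrict hb' a ha hF'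
        (HdgLefLib.sub_iso ((Scheme.Modules.pullback _).mapIso ρ.symm) 1
          (sub_restrict_points hb W hfin hclosed F 1 h)) 0)
    · exact van_total hb' a ha _ p hp2
  · refine ⟨⟨(𝓘.support : Set P)ᶜ, 𝓘.support.isClosed.isOpen_compl⟩, hy, fun W hW hWs => ?_⟩
    haveI := isAffine_preimage_off hb hW fun x hx => hWs hx
    haveI : Coh.IsQCoh (F.restrict (b ⁻¹ᵁ W).ι) := Scheme.Modules.isQuasicoherent_restrictFunctor _ F
    exact QCohLib.subsingleton_HH_affine _ p hp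

include hb in
/-- **The direct image is a bundle.** -/
theorem push_finLocFree_points {F : X.Modules} (hF : FlatMod.IsFinLocFree F) {L : X.Modules} (hLi : PicF.IsInvertible L)
    (hL : tensorMod L (ClSub.idealMod (𝓘.comap b)) ≅ Coh.structureModule X) (hch : PointCharts 𝓘)
    (hfin : (𝓘.support : Set P).Finite) (hclosed : ∀ y ∈ (𝓘.support : Set P), IsClosed ({y} : Set P))
    (hpt : ∀ y ∈ (𝓘.support : Set P), IsRegularLocalRing (P.presheaf.stalk y) ∧
      ringKrullDim (P.presheaf.stalk y) = (2 : ℕ))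
    (h0 : Subsingleton (Coh.HH (𝓘.comap b).subscheme (pb (𝓘.comap b).subschemeι (tensorMod F L)) 0)) :
    FlatMod.IsFinLocFree ((Coh.push b).obj F) := by
  haveI := isProper_b hb
  haveI : IsLocallyNoetherian X := LocallyOfFiniteType.isLocallyNoetherian b
  have hc : Coh.IsCoh ((Coh.push b).obj F) := FormalCohLib.isCoh_push_proper b (Groth.Agent.PerfLib.isCoh_of_isFinLocFree hF)
  haveI := hc.1
  have hreg : LocReg 𝓘 1 := hch.locReg
  refine MiscFlat6.isFP_and_free_iff.1 ⟨QCohLib.isFP_of_isCoh _ hc, fun y => ?_⟩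
  by_cases hy : y ∈ (𝓘.support : Set P)
  · obtain ⟨U, f, hyW, hf, hI⟩ := hch y hy
    let W := U.1
    let O := b ⁻¹ᵁ W
    haveI : IsAffine (W : Scheme.{u}) := U.2
    haveI := isNoetherian_affine W U.2
    obtain ⟨hb', he, a, hQR, ha⟩ := exists_affine_data hb hf hI W U.2 le_rfl
    have hreg' : LocReg (𝓘.comap W.ι) 1 := fun z => by
      obtain ⟨U', hz, r, g, hr, hg, hgI⟩ := hreg (W.ι z)
      obtain ⟨V, hV, hzV, hVle⟩ := exists_isAffineOpen_mem_and_subset (x := z) (U := W.ι ⁻¹ᵁ U'.1) hz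
      obtain ⟨g', hg', hgI'⟩ := exists_local hg hgI W.ι ⟨V, hV⟩ hVle
      exact ⟨⟨V, hV⟩, hzV, r, g', hr, hg', hgI'⟩
    have hpt' : ∀ z ∈ ((𝓘.comap W.ι).support : Set (W : Scheme.{u})),
        IsRegularLocalRing ((W : Scheme.{u}).presheaf.stalk z) ∧
          ringKrullDim ((W : Scheme.{u}).presheaf.stalk z) = (2 : ℕ) := fun z hz => by
      rw [Scheme.IdealSheafData.support_comap] at hz
      obtain ⟨h1, h2⟩ := hpt _ hz
      let e := (asIso (W.ι.stalkMap z)).commRingCatIsoToRingEquiv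
      haveI := h1
      exact ⟨IsRegularLocalRing.of_ringEquiv e, (ringKrullDim_eq_of_ringEquiv e).symm.trans h2⟩
    have hF' : FlatMod.IsFinLocFree (F.restrict O.ι) := Groth.Agent.PerfLib.isFinLocFree_of_iso
      ((Scheme.Modules.restrictFunctorIsoPullback _).app F).symm (KFlatLib.isFinLocFree_pull O.ι hF)
    let ρ := fun M : X.Modules => (Scheme.Modules.restrictFunctorIsoPullback O.ι).app M
    obtain ⟨j⟩ := nonempty_restrict_ideal hb O
    obtain ⟨pL⟩ := BlowPtLib.nonempty_pb_tensor O.ι L (ClSub.idealMod (𝓘.comap b))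
    have hL' : Nonempty (tensorMod (pb O.ι L) (ClSub.idealMod ((𝓘.comap W.ι).comap (b ∣_ W))) ≅
        Coh.structureModule (O : Scheme.{u})) := by
      rw [he]
      exact ⟨congrRight _ j.symm ≪≫ pL.symm ≪≫ (Scheme.Modules.pullback O.ι).mapIso hL ≪≫ KFlatLib.pullUnitIso _⟩
    obtain ⟨hL'⟩ := hL'
    obtain ⟨pF⟩ := BlowPtLib.nonempty_pb_tensor O.ι F L
    have h0' := HdgLefLib.sub_iso ((Scheme.Modules.pullback _).mapIso (pF ≪≫ congrLeft (ρ F).symm _)) 0
      (sub_restrict_points hb W hfin hclosed (tensorMod F L) 0 h0)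
    have key := push_finLocFree hb' a ha hQR hreg' hpt' hF' (AmpleDevLib.isInvertible_pb O.ι hLi) hL' h0'
    exact free_stalk_of_nearby hc.2 y W hyW (Groth.Agent.PerfLib.isFinLocFree_of_iso
      ((Groth.Agent.DCohRestrLib.restrictPushIso b W).app F).symm key)
  · obtain ⟨W, n, hyW, ⟨s⟩⟩ := exists_free_over hb hF y fun h => absurd h hy
    obtain ⟨g⟩ := nonempty_push_free hb hreg s
    exact free_stalk_of_nearby hc.2 y W hyW fun v => ⟨⊤, n, trivial,
      ⟨(Scheme.Modules.restrictFunctor _).mapIso g ≪≫ (Scheme.Modules.restrictFunctorIsoPullback _).app _ ≪≫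
        KFlatLib.pullFreeIso _ n⟩⟩

include hb in
/-- **The rank of the direct image.** -/
theorem push_rank (hch : PointCharts 𝓘) {F : X.Modules} {r : ℕ} (hF : FlatMod.IsFinLocFreeOfRank r F)
    (hG : FlatMod.IsFinLocFree ((Coh.push b).obj F)) (hnowhere : ∀ V : P.Opens, (V : Set P).Nonempty →
      ∃ y ∈ V, y ∉ (𝓘.support : Set P)) :
    FlatMod.IsFinLocFreeOfRank r ((Coh.push b).obj F) := by
  haveI := isProper_b hb
  intro y
  obtain ⟨V, n, hyV, ⟨e⟩⟩ := hG y
  suffices hn : n = r from ⟨V, hyV, ⟨hn ▸ e⟩⟩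
  obtain ⟨z, hzV, hzs⟩ := hnowhere V ⟨y, hyV⟩
  obtain ⟨W, m, hzW, ⟨s⟩⟩ := exists_free_over hb (fun x => ⟨(hF x).choose, r, (hF x).choose_spec.1, (hF x).choose_spec.2⟩) z
    fun h => absurd h hzs
  obtain ⟨g⟩ := nonempty_push_free hb hch.locReg s
  have h1 : n = m := CohCmpLib.rank_unique ((Coh.push b).obj F) (x := z) hzV hzW ⟨e⟩ ⟨g⟩
  rw [h1]
  haveI : Coh.IsQCoh F := FinLFAnn.isQCoh_of_isFinLocFree
    fun x => ⟨(hF x).choose, r, (hF x).choose_spec.1, (hF x).choose_spec.2⟩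
  obtain ⟨x, hx⟩ : ∃ x : X, b x ∈ W := by
    obtain ⟨W', hW', hzW', hle⟩ := exists_isAffineOpen_mem_and_subset (x := z)
      (U := ⟨(𝓘.support : Set P)ᶜ, 𝓘.support.isClosed.isOpen_compl⟩) hzs
    haveI : IsAffine (W' : Scheme.{u}) := hW'
    haveI := isIso_off_centre hb W' (Scheme.IdealSheafData.ext_of_isAffine (by
      rw [Groth.Agent.S4666.ideal_comap_eq 𝓘 W'.ι ⟨W', hW'⟩ ⟨⊤, isAffineOpen_top _⟩ (fun x _ => x.2),
        CDivRatioLib.ideal_eq_top 𝓘 ⟨W', hW'⟩ fun x hx hxs => hle hx hxs, Ideal.map_top]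
      rfl))
    obtain ⟨x, hx⟩ := (b ∣_ W').surjective ⟨z, hzW'⟩
    refine ⟨(b ⁻¹ᵁ W').ι x, ?_⟩
    have e1 : b ((b ⁻¹ᵁ W').ι x) = z := (congrArg (fun φ : ((b ⁻¹ᵁ W' : X.Opens) : Scheme.{u}) ⟶ P => φ x)
      (morphismRestrict_ι b W')).symm.trans (congrArg W'.ι hx)
    rw [e1]
    exact hzW
  obtain ⟨O, hxO, ⟨eO⟩⟩ := hF x
  exact CohCmpLib.rank_unique F (x := x) (show x ∈ b ⁻¹ᵁ W from hx) hxO ⟨s⟩ ⟨eO⟩

end BlowRegLib
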