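import Groth.Agent.S4978
import Mathlib.AlgebraicGeometry.Morphisms.Proper
import Mathlib.AlgebraicGeometry.ResidueField

/-!
# Properness near a point from sections over discrete valuation rings
-/

set_option autoImplicit false
universe u

open CategoryTheory CategoryTheory.Limits AlgebraicGeometry TopologicalSpace

noncomputable section

namespace BlowRegLib.ProperNhdDvr

theorem isProper_of_reduced {A B : Scheme.{u}} (g : A ⟶ B) [IsSeparated g] [LocallyOfFiniteType g]
    (C : Closeds A) (hC : (C : Set A) = Set.univ)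
    (hp : IsProper ((Scheme.IdealSheafData.vanishingIdeal C).subschemeι ≫ g)) : IsProper g := by
  haveI := hp
  haveI : Surjective (Scheme.IdealSheafData.vanishingIdeal C).subschemeι := ⟨fun z => by
    have : z ∈ Set.range (Scheme.IdealSheafData.vanishingIdeal C).subschemeι := by
      rw [Scheme.IdealSheafData.range_subschemeι, Scheme.IdealSheafData.coe_support_vanishingIdeal, hC]
      trivial
    exact this⟩
  haveI : UniversallyClosed g :=
    UniversallyClosed.of_comp_surjective (Scheme.IdealSheafData.vanishingIdeal C).subschemeι g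
  exact {}

set_option maxHeartbeats 1000000 in
theorem main {X Y : Scheme.{u}} [IsLocallyNoetherian Y]
    (f : X ⟶ Y) [IsSeparated f] [LocallyOfFiniteType f] [QuasiCompact f] (y : Y)
    (h : ∀ (A : Type u) [CommRing A] [IsDomain A] [IsDiscreteValuationRing A]
      (g : Spec (CommRingCat.of A) ⟶ Y), g.base (IsLocalRing.closedPoint A) = y →
      ∀ σ : Spec (CommRingCat.of (FractionRing A)) ⟶ pullback f g,
        σ ≫ pullback.snd f g = Spec.map (CommRingCat.ofHom (algebraMap A (FractionRing A))) →
        ∃ s : Spec (CommRingCat.of A) ⟶ pullback f g, s ≫ pullback.snd f g = 𝟙 _ ∧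
          Spec.map (CommRingCat.ofHom (algebraMap A (FractionRing A))) ≫ s = σ) :
    ∃ U : Y.Opens, y ∈ U ∧ IsProper (f ∣_ U) := by
  obtain ⟨W, hW, hyW, -⟩ := exists_isAffineOpen_mem_and_subset (x := y) (U := ⊤) trivial
  haveI : IsAffine W.toScheme := hW
  haveI : IsNoetherian W.toScheme := {}
  obtain ⟨U, hyU, hC, hp⟩ := (Groth.Agent.S4978.result (f ∣_ W) Set.univ (fun z _ _ => trivial) ⟨y, hyW⟩).2 (by
    intro A _ _ _ g hg x' _ hx' hb
    let K := FractionRing A
    let t : Spec (CommRingCat.of K) ⟶ Spec (CommRingCat.of A) := Spec.map (CommRingCat.ofHom (algebraMap A K))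
    have ht : t (IsLocalRing.closedPoint K) = (pullback.snd (f ∣_ W) g) x' := by
      refine Eq.trans ?_ hx'.symm
      rw [genericPoint_eq_bot_of_affine]
      apply PrimeSpectrum.ext
      show (IsLocalRing.maximalIdeal K).comap (algebraMap A K) = ⊥
      rw [IsLocalRing.maximalIdeal_eq_bot, ← RingHom.ker_eq_comap_bot]
      exact (RingHom.injective_iff_ker_eq_bot _).1 (IsFractionRing.injective A K)
    obtain ⟨φ, hφ⟩ : ∃ φ : (Spec (CommRingCat.of A)).residueField ((pullback.snd (f ∣_ W) g) x') ⟶ CommRingCat.of K,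
        Spec.map φ ≫ (Spec (CommRingCat.of A)).fromSpecResidueField _ = t := by
      generalize (pullback.snd (f ∣_ W) g) x' = z at ht
      subst ht
      exact ⟨_, Scheme.descResidueField_stalkClosedPointTo_fromSpecResidueField K _ t⟩
    haveI : IsIso ((pullback.snd (f ∣_ W) g).residueFieldMap x') := (ConcreteCategory.isIso_iff_bijective _).2 hb
    let σ : Spec (CommRingCat.of K) ⟶ pullback (f ∣_ W) g :=
      Spec.map (inv ((pullback.snd (f ∣_ W) g).residueFieldMap x') ≫ φ) ≫ (pullback (f ∣_ W) g).fromSpecResidueField x'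
    have hσ : σ ≫ pullback.snd (f ∣_ W) g = t := by
      simp only [σ, Category.assoc, ← Scheme.Hom.SpecMap_residueFieldMap_fromSpecResidueField]
      rw [← Category.assoc, ← Spec.map_comp, IsIso.hom_inv_id_assoc, hφ]
    have hsq : IsPullback (pullback.fst (f ∣_ W) g ≫ (f ⁻¹ᵁ W).ι) (pullback.snd (f ∣_ W) g) f (g ≫ W.ι) :=
      (IsPullback.of_hasPullback (f ∣_ W) g).paste_horiz (isPullback_morphismRestrict f W).flip
    let ψ := hsq.isoPullback
    obtain ⟨s, hs, hts⟩ := h A (g ≫ W.ι) (by
      exact congrArg Subtype.val hg) (σ ≫ ψ.hom) (by rw [Category.assoc, hsq.isoPullback_hom_snd, hσ])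
    refine ⟨s ≫ ψ.inv, by rw [Category.assoc, hsq.isoPullback_inv_snd, hs], ?_⟩
    have e : t ≫ s ≫ ψ.inv = σ := by rw [← Category.assoc, hts, Category.assoc, Iso.hom_inv_id, Category.comp_id]
    refine ⟨t (IsLocalRing.closedPoint K), ?_⟩
    refine Eq.trans (congrArg (fun m : Spec (CommRingCat.of K) ⟶ _ => m (IsLocalRing.closedPoint K)) e) ?_
    show ((pullback (f ∣_ W) g).fromSpecResidueField x').base
      ((Spec.map (inv ((pullback.snd (f ∣_ W) g).residueFieldMap x') ≫ φ)).base (IsLocalRing.closedPoint K)) = x'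
    exact Scheme.fromSpecResidueField_apply x' _)
  refine ⟨W.ι ''ᵁ U, ⟨⟨y, hyW⟩, hyU, rfl⟩, ?_⟩
  refine (MorphismProperty.arrow_mk_iso_iff @IsProper (morphismRestrictRestrict f W U)).1 ?_
  exact isProper_of_reduced _ _ (Set.eq_univ_of_forall fun z => subset_closure (Set.mem_univ _)) hp

end BlowRegLib.ProperNhdDvr
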