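import Groth.Agent.ProjFormLib.Proj
import Groth.Agent.AVVanishLib.Basic
import Groth.Agent.AmpleDevLib.Devissage
import Groth.Agent.S0462
import Groth.Agent.MiscFlat6.QALocus

/-! # Cohomology of pulled back line bundles -/

set_option autoImplicit false
set_option linter.style.haveILetI false
universe u

open CategoryTheory CategoryTheory.Limits AlgebraicGeometry TopologicalSpace Opposite
open KFlatLib (pb)

noncomputable section

namespace BlowRegLib.PushLine

/-- S13626 -/
theorem nonempty_HH_equiv {X Y : Scheme.{u}} (f : X ⟶ Y) [HasInjectiveResolutions X.Modules]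
    (hR : ∀ i : ℕ, IsZero ((Coh.Rpush f (i + 1)).obj (Coh.structureModule X)))
    (h0 : Nonempty ((Coh.push f).obj (Coh.structureModule X) ≅ Coh.structureModule Y))
    (L : Y.Modules) (hL : PicF.IsInvertible L) (p : ℕ) :
    Nonempty (Coh.HH X ((Scheme.Modules.pullback f).obj L) p ≃+ Coh.HH Y L p) := by
  have hE := AmpleDevLib.isFinLocFree_of_isInvertible hL
  have hz : ∀ q : ℕ, IsZero ((CohTop.Rpush f.base (q + 1)).obj (Coh.toAb ((Scheme.Modules.pullback f).obj L))) := fun q => by
    refine AVVanishLib.rpushAb_isZero f _ (q + 1) ?_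
    obtain ⟨e⟩ := ProjFormLib.nonempty_projection_formula f L hE (Coh.structureModule X) (q + 1)
    refine IsZero.of_iso (((ProjFormLib.tF L)).map_isZero (hR q)) (Iso.trans ?_ e.symm)
    exact (Coh.Rpush f (q + 1)).mapIso ((HilbPolyLib.swapIso _ _ ≪≫ HilbPolyLib.unitLeft _).symm)
  obtain ⟨E⟩ := Groth.Agent.S0462.result f.base (Coh.toAb ((Scheme.Modules.pullback f).obj L)) hz p
  obtain ⟨e₀⟩ := h0
  haveI := ProjFormLib.isIso_projApp f (E := L) hE (Coh.structureModule X)
  let w : (Coh.push f).obj ((Scheme.Modules.pullback f).obj L) ≅ L :=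
    (Coh.push f).mapIso ((HilbPolyLib.swapIso _ _ ≪≫ HilbPolyLib.unitLeft _).symm) ≪≫
      (asIso (ProjFormLib.projApp f L (Coh.structureModule X))).symm ≪≫
      (ProjFormLib.tF L).mapIso e₀ ≪≫ (HilbPolyLib.swapIso _ _ ≪≫ HilbPolyLib.unitLeft _)
  let v : Coh.toAb ((Coh.push f).obj ((Scheme.Modules.pullback f).obj L)) ≅ Coh.toAb L := (QCohLib.toAbF Y).mapIso w
  exact ⟨E.trans
    { toFun := fun x => Sheaf.H.map v.hom p x
      invFun := fun x => Sheaf.H.map v.inv p x
      left_inv := fun x =>
        ((Sheaf.H.map_comp_apply v.hom v.inv x).symm.trans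
          ((congrArg (fun φ => Sheaf.H.map φ p x) v.hom_inv_id).trans (Sheaf.H.map_id_apply x)))
      right_inv := fun x =>
        ((Sheaf.H.map_comp_apply v.inv v.hom x).symm.trans
          ((congrArg (fun φ => Sheaf.H.map φ p x) v.inv_hom_id).trans (Sheaf.H.map_id_apply x)))
      map_add' := fun x y => map_add _ x y }⟩

end BlowRegLib.PushLine
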