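import Groth.Prelude.Def_W4c4chowquasisplitNorm
import Mathlib.FieldTheory.Galois.Basic
import Mathlib.GroupTheory.Sylow
import Mathlib.GroupTheory.Index
import Mathlib.GroupTheory.Archimedean
import Mathlib.Data.ZMod.QuotientGroup

/-!
# Norm subgroups of the Chow group of a point
-/

set_option autoImplicit false
universe u

open AlgebraicGeometry CategoryTheory

noncomputable section

namespace BlowRegLib.QsNorm

/-- The map from a field to the residue field of its spectrum. -/
def toRes (k : Type u) [Field k] (x : Spec (CommRingCat.of k)) : k →+* (Spec (CommRingCat.of k)).residueField x :=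
  ((Scheme.ΓSpecIso (CommRingCat.of k)).inv ≫ (Spec (CommRingCat.of k)).Γevaluation x).hom

theorem toRes_bijective (k : Type u) [Field k] (x : Spec (CommRingCat.of k)) : Function.Bijective (toRes k x) := by
  haveI : x.asIdeal.IsPrime := x.isPrime
  have h : (Scheme.ΓSpecIso (CommRingCat.of k)).inv ≫ (Spec (CommRingCat.of k)).Γevaluation x =
      CommRingCat.ofHom (algebraMap k x.asIdeal.ResidueField) ≫
        (Scheme.Spec.residueFieldIso (CommRingCat.of k) x).inv :=
    (Scheme.Spec.algebraMap_residueFieldIso_inv (CommRingCat.of k) x).symm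
  unfold toRes
  rw [h]
  change Function.Bijective ((Scheme.Spec.residueFieldIso (CommRingCat.of k) x).inv.hom ∘ algebraMap k x.asIdeal.ResidueField)
  refine (ConcreteCategory.bijective_of_isIso (Scheme.Spec.residueFieldIso (CommRingCat.of k) x).inv).comp ?_
  refine ⟨RingHom.injective _, ?_⟩
  have h0 : x.asIdeal = ⊥ := (Ideal.eq_bot_or_top _).resolve_right x.isPrime.ne_top
  have : x.asIdeal.IsMaximal := h0 ▸ Ideal.bot_isMaximal
  exact Ideal.algebraMap_residueField_surjective _

theorem residueDegree_specMap (k F : Type u) [Field k] [Field F] [Algebra k F] (q : Spec (CommRingCat.of F)) :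
    (Spec.map (CommRingCat.ofHom (algebraMap k F))).residueDegree q = Module.finrank k F := by
  unfold Scheme.Hom.residueDegree
  letI := ((Spec.map (CommRingCat.ofHom (algebraMap k F))).residueFieldMap q).hom.toAlgebra
  refine (Algebra.finrank_eq_of_equiv_equiv
    (RingEquiv.ofBijective _ (toRes_bijective k (Spec.map (CommRingCat.ofHom (algebraMap k F)) q)))
    (RingEquiv.ofBijective _ (toRes_bijective F q)) (RingHom.ext fun a => ?_)).symm
  change (Spec.map (CommRingCat.ofHom (algebraMap k F))).residueFieldMap q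
    ((Spec (CommRingCat.of k)).Γevaluation _ ((Scheme.ΓSpecIso (CommRingCat.of k)).inv a)) =
    (Spec (CommRingCat.of F)).Γevaluation q ((Scheme.ΓSpecIso (CommRingCat.of F)).inv (algebraMap k F a))
  refine (Scheme.evaluation_naturality_apply (Spec.map (CommRingCat.ofHom (algebraMap k F))) (V := ⊤) q trivial _).trans ?_
  exact congrArg (fun t => (Spec (CommRingCat.of F)).Γevaluation q t)
    (congrArg (fun g => (g : CommRingCat.of k ⟶ Γ(Spec (CommRingCat.of F), ⊤)).hom a)
      (Scheme.ΓSpecIso_inv_naturality (CommRingCat.ofHom (algebraMap k F))).symm)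

variable (k : Type u) [Field k]

/-- The point of the spectrum of a field. -/
def pt : Spec (CommRingCat.of k) := IsLocalRing.closedPoint k

theorem eq_pt (x : Spec (CommRingCat.of k)) : x = pt k := Subsingleton.elim (α := PrimeSpectrum k) _ _

/-- The degree of a zero cycle of a point. -/
def deg : ChowOps.CH (Spec (CommRingCat.of k)) (fun _ => 0) 0 →+ ℤ :=
  QuotientAddGroup.lift _
    { toFun := fun c => (c : AlgebraicCycle (Spec (CommRingCat.of k)) ℤ) (pt k)
      map_zero' := rfl
      map_add' := fun _ _ => rfl }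
    (AddSubgroup.closure_le _ |>.2 fun c hc => by
      obtain ⟨ι, ξ, f, hξ, -, -, hc⟩ := hc
      have : IsEmpty ι := ⟨fun i => absurd (hξ i) (by norm_num)⟩
      exact (hc (pt k)).trans (finsum_of_isEmpty _))

theorem deg_cl (α : AlgebraicCycle (Spec (CommRingCat.of k)) ℤ) (h : α ∈ Cyc.Zk (Spec (CommRingCat.of k)) (fun _ => 0) 0) :
    deg k (ChowOps.cl α h) = α (pt k) := rfl

/-- A cycle on a spectrum of a field with prescribed value. -/
def single (n : ℤ) : AlgebraicCycle (Spec (CommRingCat.of k)) ℤ where
  toFun := fun _ => n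
  supportWithinDomain' := by simp
  supportLocallyFiniteWithinDomain' := fun _ _ => by
    haveI : Subsingleton (Spec (CommRingCat.of k)) := inferInstanceAs (Subsingleton (PrimeSpectrum k))
    exact ⟨Set.univ, Filter.univ_mem, Set.toFinite _⟩

theorem deg_bijective : Function.Bijective (deg k) := by
  constructor
  · rw [injective_iff_map_eq_zero]
    intro c hc
    obtain ⟨⟨α, hα⟩, rfl⟩ := QuotientAddGroup.mk_surjective c
    have : (⟨α, hα⟩ : ChowOps.zk (Spec (CommRingCat.of k)) (fun _ => 0) 0) = 0 := Subtype.ext (by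
      ext x
      rw [eq_pt k x]
      exact hc)
    rw [this]
    rfl
  · exact fun n => ⟨ChowOps.cl (single k n) fun x hx => absurd rfl hx, rfl⟩

variable (K : Type u) [Field K] [Algebra k K]

/-- The degrees of the norm subgroup. -/
def degSubgroup : AddSubgroup ℤ := (QsChow.ptNormSubgroup k K).map (deg k)

theorem map_specMap_pt (F : Type u) [Field F] [Algebra k F] (α : AlgebraicCycle (Spec (CommRingCat.of F)) ℤ) :
    AlgebraicCycle.map (Spec.map (CommRingCat.ofHom (algebraMap k F))) (fun _ => (0 : ℤ)) (fun _ => (0 : ℤ)) α (pt k) =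
      α (pt F) * (Module.finrank k F : ℤ) := by
  rw [AlgebraicCycle.map, Function.locallyFinsupp.map_apply]
  have hset : (Spec.map (CommRingCat.ofHom (algebraMap k F))).base ⁻¹' {pt k} = {pt F} := by
    ext x
    exact ⟨fun _ => eq_pt F x, fun _ => eq_pt k _⟩
  erw [hset]
  rw [finsum_mem_singleton]
  simp [AlgebraicCycle.mapCoeff, residueDegree_specMap]

theorem finrank_mem (F : IntermediateField k K) [FiniteDimensional k F] (hF : F ≠ ⊥) :
    (Module.finrank k F : ℤ) ∈ degSubgroup k K := by
  refine ⟨ChowOps.cl (AlgebraicCycle.map (Spec.map (CommRingCat.ofHom (algebraMap k F)))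
    (fun _ => (0 : ℤ)) (fun _ => (0 : ℤ)) (single F 1)) fun x hx => absurd rfl hx,
    AddSubgroup.subset_closure ⟨F, inferInstance, hF, single F 1, _, rfl⟩, ?_⟩
  refine (deg_cl k _ _).trans ?_
  rw [map_specMap_pt]
  exact one_mul _

theorem dvd_of_mem {d : ℤ}
    (h : ∀ F : IntermediateField k K, FiniteDimensional k F → F ≠ ⊥ → d ∣ (Module.finrank k F : ℤ))
    {n : ℤ} (hn : n ∈ degSubgroup k K) : d ∣ n := by
  obtain ⟨c, hc, rfl⟩ := hn
  induction hc using AddSubgroup.closure_induction with
  | mem c hc =>
    obtain ⟨F, hF, hne, α, hα, rfl⟩ := hc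
    rw [deg_cl, map_specMap_pt]
    exact Dvd.dvd.mul_left (h F hF hne) _
  | zero => simp
  | add a b _ _ ha hb => rw [map_add]; exact dvd_add ha hb
  | neg a _ ha => rw [map_neg]; exact (dvd_neg).2 ha

theorem exists_field (L : IntermediateField k K) [FiniteDimensional k L] [IsGalois k L]
    (H : Subgroup (L ≃ₐ[k] L)) (hH : H ≠ ⊤) :
    ∃ F : IntermediateField k K, FiniteDimensional k F ∧ F ≠ ⊥ ∧ Module.finrank k F = H.index := by
  have he : Module.finrank k (IntermediateField.fixedField H) = H.index := by
    have h1 := Module.finrank_mul_finrank k (IntermediateField.fixedField H) L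
    rw [IntermediateField.finrank_fixedField_eq_card] at h1
    exact Nat.eq_of_mul_eq_mul_right Nat.card_pos (h1.trans ((IsGalois.card_aut_eq_finrank k L).symm.trans H.index_mul_card.symm))
  have e := (IntermediateField.liftAlgEquiv (IntermediateField.fixedField H)).toLinearEquiv
  refine ⟨IntermediateField.lift (IntermediateField.fixedField H), Module.Finite.equiv e, fun h => ?_, ?_⟩
  · have := e.finrank_eq
    rw [he, h, IntermediateField.finrank_bot, Subgroup.index_eq_one] at this
    exact hH this
  · rw [← e.finrank_eq, he]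

theorem ptNormSubgroup_eq_top (L : IntermediateField k K) [FiniteDimensional k L] [IsGalois k L]
    (hL : ∀ p n : ℕ, p.Prime → Module.finrank k L ≠ p ^ n) : QsChow.ptNormSubgroup k K = ⊤ := by
  have h : degSubgroup k K = ⊤ := by
    obtain ⟨a, ha⟩ := Int.subgroup_cyclic (degSubgroup k K)
    rw [← AddSubgroup.zmultiples_eq_closure] at ha
    by_cases hu : a.natAbs = 1
    · rw [ha, ← Int.zmultiples_natAbs, hu, Nat.cast_one, eq_top_iff]
      exact fun x _ => AddSubgroup.mem_zmultiples_iff.2 ⟨x, by simp⟩
    · obtain ⟨p, hp, hpa⟩ : ∃ p, p.Prime ∧ p ∣ a.natAbs := ⟨_, Nat.minFac_prime hu, Nat.minFac_dvd _⟩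
      haveI : Fact p.Prime := ⟨hp⟩
      let P : Sylow p (L ≃ₐ[k] L) := default
      have hP : (P : Subgroup (L ≃ₐ[k] L)) ≠ ⊤ := fun h => by
        obtain ⟨n, hn⟩ := IsPGroup.iff_card.1 P.isPGroup'
        rw [h, Subgroup.card_top, IsGalois.card_aut_eq_finrank] at hn
        exact hL p n hp hn
      obtain ⟨F, hF, hne, hdeg⟩ := exists_field k K L _ hP
      have hmem := finrank_mem k K F hne
      rw [ha, Int.mem_zmultiples_iff, ← Int.natAbs_dvd_natAbs, Int.natAbs_natCast, hdeg] at hmem
      exact absurd (hpa.trans hmem) P.not_dvd_index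
  rw [eq_top_iff]
  intro c _
  obtain ⟨c', hc', he⟩ : deg k c ∈ degSubgroup k K := h ▸ AddSubgroup.mem_top _
  rwa [← (deg_bijective k).1 he]

theorem ptNormSubgroup_index (L : IntermediateField k K) [FiniteDimensional k L] [IsGalois k L]
    (p n : ℕ) (hp : p.Prime) (hn : 1 ≤ n) (hL : Module.finrank k L = p ^ n)
    (hF : ∀ F : IntermediateField k K, FiniteDimensional k F → ∃ e : ℕ, Module.finrank k F = p ^ e) :
    (QsChow.ptNormSubgroup k K).index = p := by
  haveI : Fact p.Prime := ⟨hp⟩
  have h : degSubgroup k K = AddSubgroup.zmultiples (p : ℤ) := by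
    refine le_antisymm (fun m hm => Int.mem_zmultiples_iff.2 (dvd_of_mem k K ?_ hm)) ?_
    · intro F hFf hne
      obtain ⟨e, he⟩ := hF F hFf
      rw [he]
      cases e with
      | zero => exact absurd (IntermediateField.finrank_eq_one_iff.1 he) hne
      | succ e => exact_mod_cast dvd_pow_self p e.succ_ne_zero
    · rw [AddSubgroup.zmultiples_le]
      obtain ⟨m, rfl⟩ : ∃ m, n = m + 1 := ⟨n - 1, by omega⟩
      obtain ⟨H, hH⟩ := Sylow.exists_subgroup_card_pow_prime (G := L ≃ₐ[k] L) p (n := m)
        (by rw [IsGalois.card_aut_eq_finrank, hL]; exact pow_dvd_pow p m.le_succ)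
      have hi : H.index = p := by
        have h1 := H.index_mul_card
        rw [hH, IsGalois.card_aut_eq_finrank, hL, pow_succ'] at h1
        exact Nat.eq_of_mul_eq_mul_right (pow_pos hp.pos m) h1
      obtain ⟨F, hFf, hne, hdeg⟩ := exists_field k K L H (fun hT => by
        rw [hT, Subgroup.index_top] at hi
        exact hp.one_lt.ne hi)
      rw [← hi, ← hdeg]
      exact finrank_mem k K F hne
  have h2 := AddSubgroup.index_map_of_bijective (H := QsChow.ptNormSubgroup k K) (deg_bijective k)
  rw [show (QsChow.ptNormSubgroup k K).map (deg k) = AddSubgroup.zmultiples (p : ℤ) from h, Int.index_zmultiples] at h2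
  exact h2.symm.trans (Int.natAbs_natCast p)

end BlowRegLib.QsNorm
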