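import Groth.Prelude.Def_QuotSh
import Mathlib.CategoryTheory.Monoidal.Cartesian.Over

/-!
# Sections of the fppf quotient sheaf from local sections of the source
-/

set_option autoImplicit false
universe u

open CategoryTheory CategoryTheory.Limits AlgebraicGeometry Opposite

noncomputable section

namespace BlowRegLib

variable {S : Scheme.{u}}

/-- Morphisms out of the sheaf of a scheme are sections. -/
def repEquiv (F : QuotSh.Sh Scheme.fppfPrecoverage S) (V : Over S) :
    (QuotSh.rep Scheme.fppfPrecoverage V ⟶ F) ≃ F.obj.obj (op V) :=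
  ((sheafificationAdjunction (QuotSh.J Scheme.fppfPrecoverage S) (Type (u + 1))).homEquiv _ _).trans
    uliftYonedaEquiv.{u + 1}

theorem map_repEquiv (F : QuotSh.Sh Scheme.fppfPrecoverage S) {V W : Over S} (g : V ⟶ W)
    (φ : QuotSh.rep Scheme.fppfPrecoverage W ⟶ F) :
    F.obj.map g.op (repEquiv F W φ) = repEquiv F V (QuotSh.repMap Scheme.fppfPrecoverage g ≫ φ) := by
  change F.obj.map g.op (uliftYonedaEquiv.{u + 1}
      (((sheafificationAdjunction (QuotSh.J Scheme.fppfPrecoverage S) (Type (u + 1))).homEquiv _ _) φ)) =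
    uliftYonedaEquiv.{u + 1} (((sheafificationAdjunction (QuotSh.J Scheme.fppfPrecoverage S) (Type (u + 1))).homEquiv _ _)
      (QuotSh.repMap Scheme.fppfPrecoverage g ≫ φ))
  refine Eq.trans ?_ (congrArg _ (Adjunction.homEquiv_naturality_left _ _ _).symm)
  exact uliftYonedaEquiv_naturality (X := op W) (Y := op V)
    (((sheafificationAdjunction (QuotSh.J Scheme.fppfPrecoverage S) (Type (u + 1))).homEquiv _ _) φ) g.op

theorem existsUnique_descend {R U : Over S} (s t : R ⟶ U) {T Z : Over S} (a : Z ⟶ U) (p : Z ⟶ T)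
    [Flat p.left] [Surjective p.left] [LocallyOfFinitePresentation p.left]
    (hZZ : ∀ (T' : Over S) (z₁ z₂ : T' ⟶ Z), z₁ ≫ p = z₂ ≫ p →
      ∃ r : T' ⟶ R, r ≫ s = z₁ ≫ a ∧ r ≫ t = z₂ ≫ a) :
    ∃! σ : QuotSh.rep Scheme.fppfPrecoverage T ⟶ QuotSh.quot Scheme.fppfPrecoverage s t,
      QuotSh.repMap Scheme.fppfPrecoverage a ≫ QuotSh.quotπ Scheme.fppfPrecoverage s t =
        QuotSh.repMap Scheme.fppfPrecoverage p ≫ σ := by
  let F := QuotSh.quot Scheme.fppfPrecoverage s t
  let φ := QuotSh.repMap Scheme.fppfPrecoverage a ≫ QuotSh.quotπ Scheme.fppfPrecoverage s t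
  have hcov : Sieve.generate (Presieve.singleton p) ∈ QuotSh.J Scheme.fppfPrecoverage S T := by
    rw [GrothendieckTopology.mem_over_iff, Sieve.overEquiv_generate]
    refine GrothendieckTopology.superset_covering _ ?_
      (Precoverage.generate_mem_toGrothendieck (Scheme.Hom.singleton_mem_fppfPrecoverage p.left))
    refine (Sieve.generate_le_iff _ _).2 ?_
    rintro _ _ ⟨⟩
    exact Sieve.le_generate _ _ _ ⟨Z, p, 𝟙 _, ⟨⟩, (Category.id_comp _).symm⟩
  have hsh : Presieve.IsSheafFor F.obj (Presieve.singleton p) :=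
    Presieve.isSheafFor_iff_generate _ |>.2 ((isSheaf_iff_isSheaf_of_type _ _).1 F.property _ hcov)
  have hrm : ∀ {V W X : Over S} (g : V ⟶ W) (h : W ⟶ X), QuotSh.repMap Scheme.fppfPrecoverage (g ≫ h) =
      QuotSh.repMap Scheme.fppfPrecoverage g ≫ QuotSh.repMap Scheme.fppfPrecoverage h := fun g h => by
    simp only [QuotSh.repMap, Functor.map_comp, Functor.whiskerRight_comp]
  obtain ⟨y, hy, huniq⟩ := Presieve.isSheafFor_singleton.1 hsh (repEquiv F Z φ) fun {T'} z₁ z₂ hz => by
    obtain ⟨r, hr₁, hr₂⟩ := hZZ T' z₁ z₂ hz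
    rw [map_repEquiv, map_repEquiv]
    refine congrArg _ ?_
    simp only [φ]
    rw [← reassoc_of% (hrm z₁ a), ← reassoc_of% (hrm z₂ a), ← hr₁, ← hr₂, hrm, hrm, Category.assoc, Category.assoc,
      QuotSh.quot_condition]
  refine ⟨(repEquiv F T).symm y, (repEquiv F Z).injective ?_, fun σ hσ => ?_⟩
  · refine hy.symm.trans (Eq.trans ?_ (map_repEquiv F p _))
    rw [Equiv.apply_symm_apply]
  · rw [Equiv.eq_symm_apply]
    exact huniq _ ((map_repEquiv F p σ).trans (congrArg _ hσ).symm)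

end BlowRegLib
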