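import Mathlib.CategoryTheory.EquivalenceRelation
import Mathlib.CategoryTheory.Sites.EpiMono
import Mathlib.CategoryTheory.Sites.SheafOfTypes
import Mathlib.CategoryTheory.Sites.Subsheaf
import Mathlib.CategoryTheory.Sites.Limits
import Mathlib.CategoryTheory.Limits.Types.Pullbacks
import Mathlib.CategoryTheory.Limits.Shapes.Pullback.IsPullback.Basic

/-!
# Quotients of restricted equivalence relations of sheaves of sets
-/

set_option autoImplicit false
universe w v₁ u₁

open CategoryTheory CategoryTheory.Limits Opposite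

noncomputable section

namespace BlowRegLib

variable {C : Type u₁} [Category.{v₁} C] {J : GrothendieckTopology C} [HasSheafify J (Type w)]

theorem isPullback_eval {A B D E : Sheaf J (Type w)} {t : A ⟶ B} {l : A ⟶ D} {r : B ⟶ E} {b : D ⟶ E}
    (h : IsPullback t l r b) (V : Cᵒᵖ) :
    IsPullback (((sheafToPresheaf J _).map t).app V) (((sheafToPresheaf J _).map l).app V)
      (((sheafToPresheaf J _).map r).app V) (((sheafToPresheaf J _).map b).app V) :=
  (h.map (sheafToPresheaf J (Type w))).map ((evaluation Cᵒᵖ (Type w)).obj V)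

variable {R X Y : Sheaf J (Type w)} {p₁ p₂ : R ⟶ X}

theorem mono_quotient_restrict (e : UniversallyEffectiveEquivalenceRelation p₁ p₂) (ι : Y ⟶ X)
    {Q : Sheaf J (Type w)} (c : Y ⟶ Q) [Epi c]
    (w' : (pullback.fst (pullback.fst p₁ ι ≫ p₂) ι ≫ pullback.snd p₁ ι) ≫ c =
      pullback.snd (pullback.fst p₁ ι ≫ p₂) ι ≫ c)
    (hs : ∃ s : Q ⟶ Sheaf.image c, c ≫ s = Sheaf.toImage c)
    (g : Q ⟶ e.B) (hg : c ≫ g = ι ≫ e.π) : Mono g := by
  obtain ⟨s, hs⟩ := hs
  have hid : s ≫ Sheaf.imageι c = 𝟙 Q := by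
    rw [← cancel_epi c, reassoc_of% hs, Sheaf.toImage_ι, Category.comp_id]
  have hloc : ∀ {U : Cᵒᵖ} (a : ((sheafToPresheaf J _).obj Q).obj U),
      Presheaf.imageSieve ((sheafToPresheaf J _).map c) (U := U.unop) a ∈ J U.unop := fun {U} a => by
    have ha : ((sheafToPresheaf J _).map (s ≫ Sheaf.imageι c)).app U a = a := by rw [hid]; rfl
    have hmem := (((sheafToPresheaf J _).map s).app U a).2
    change ((((sheafToPresheaf J _).map s).app U a).1 :) ∈ _ at hmem
    rw [show (((sheafToPresheaf J _).map s).app U a).1 = a from ha] at hmem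
    refine J.superset_covering ?_ hmem
    intro W i hi
    obtain ⟨y, hy⟩ := hi
    exact ⟨y, hy⟩
  suffices Mono ((sheafToPresheaf J (Type w)).map g) from
    (sheafToPresheaf J (Type w)).mono_of_mono_map this
  have hk : ∀ V, Mono (((sheafToPresheaf J (Type w)).map g).app V) := fun V => by
    rw [CategoryTheory.mono_iff_injective]
    intro a b hab
    have hsep : Presieve.IsSeparated J ((sheafToPresheaf J (Type w)).obj Q) :=
      Presieve.IsSheaf.isSeparated ((isSheaf_iff_isSheaf_of_type _ _).1 Q.2)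
    refine hsep _ (J.intersection_covering (hloc a) (hloc b)) |>.ext ?_
    rintro W i ⟨⟨y₁, hy₁⟩, ⟨y₂, hy₂⟩⟩
    let F := sheafToPresheaf J (Type w)
    have hg' : ∀ y, (F.map g).app (op W) ((F.map c).app (op W) y) =
        (F.map e.π).app (op W) ((F.map ι).app (op W) y) := fun y =>
      congr_arg (fun φ : Y ⟶ e.B => (F.map φ).app (op W) y) hg
    have hπ : (F.map e.π).app (op W) ((F.map ι).app (op W) y₁) =
        (F.map e.π).app (op W) ((F.map ι).app (op W) y₂) := by
      rw [← hg', ← hg']
      have h1 := NatTrans.naturality_apply (F.map g) i.op a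
      have h2 := NatTrans.naturality_apply (F.map g) i.op b
      erw [hy₁, hy₂]
      exact h1.trans ((congr_arg _ hab).trans h2.symm)
    obtain ⟨r, hr₁, hr₂⟩ := Types.exists_of_isPullback (isPullback_eval e.isKernelPair (op W)) _ _ hπ
    obtain ⟨q, hq₁, hq₂⟩ := Types.exists_of_isPullback
      (isPullback_eval (IsPullback.of_hasPullback p₁ ι) (op W)) r y₁ hr₁
    have hq3 : (F.map (pullback.fst p₁ ι ≫ p₂)).app (op W) q = (F.map ι).app (op W) y₂ := by
      change (F.map p₂).app (op W) ((F.map (pullback.fst p₁ ι)).app (op W) q) = _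
      erw [hq₁]
      exact hr₂
    obtain ⟨z, hz₁, hz₂⟩ := Types.exists_of_isPullback
      (isPullback_eval (IsPullback.of_hasPullback (pullback.fst p₁ ι ≫ p₂) ι) (op W)) q y₂ hq3
    have hzw := congr_arg (fun φ : _ ⟶ Q => (F.map φ).app (op W) z) w'
    change (F.map c).app (op W) ((F.map (pullback.snd p₁ ι)).app (op W)
      ((F.map (pullback.fst (pullback.fst p₁ ι ≫ p₂) ι)).app (op W) z)) =
      (F.map c).app (op W) ((F.map (pullback.snd (pullback.fst p₁ ι ≫ p₂) ι)).app (op W) z) at hzw
    erw [hz₁, hq₂, hz₂] at hzw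
    exact hy₁.symm.trans (hzw.trans hy₂)
  exact NatTrans.mono_of_mono_app _

end BlowRegLib
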