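import Groth.Agent.BlowRegLib.RegTwo
import Groth.Agent.ModPairLib.Colon
import Groth.Agent.BlowUpLib.Props
import Groth.Agent.BlowUpLib.Strict
import Groth.Agent.RGFlatLib.Compose
import Groth.Agent.CommAlgDim.QuasiRegular

/-!
# Strict transforms on the blow-up of a regular local ring of dimension two
-/

set_option autoImplicit false
set_option linter.style.haveILetI false
set_option linter.unusedSectionVars false
set_option maxHeartbeats 4000000
set_option backward.isDefEq.respectTransparency false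
set_option backward.isDefEq.respectTransparency.types false

universe u

open CategoryTheory CategoryTheory.Limits AlgebraicGeometry TopologicalSpace Opposite
open Groth.Agent.QReg16Lib (QR)

noncomputable section

namespace BlowRegLib

/-- Orders do not drop on multiplying by a member of a quasi-regular family. -/
theorem mem_pow_of_mul_pow {R : Type u} [CommRing R] {r : ℕ} {a : Fin r → R} (hQR : QR a) {g : R} {μ N : ℕ} {l : Fin r}
    (hg : g ∈ Ideal.span (Set.range a) ^ μ) (h : g * a l ^ N ∈ Ideal.span (Set.range a) ^ (μ + 1 + N)) :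
    g ∈ Ideal.span (Set.range a) ^ (μ + 1) := by
  obtain ⟨F, hF, rfl⟩ := CommAlgDim.exists_isHomogeneous_eval_eq a μ hg
  have h0 := hQR (μ + N) (F * MvPolynomial.X l ^ N) (hF.mul (MvPolynomial.isHomogeneous_X_pow l N))
    (by rw [map_mul, map_pow, MvPolynomial.eval_X, show μ + N + 1 = μ + 1 + N by omega]; exact h)
  rw [MvPolynomial.eval_eq]
  refine sum_mem fun s hs => ?_
  have h1 := h0 (s + Finsupp.single l N)
  rw [MvPolynomial.X_pow_eq_monomial, MvPolynomial.coeff_mul_monomial, mul_one] at h1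
  rw [pow_succ']
  refine Ideal.mul_mem_mul h1 ?_
  have h2 := CommAlgDim.eval_mem_pow (Ideal.span (Set.range a)) a (fun i => Ideal.subset_span ⟨i, rfl⟩)
    (F := MvPolynomial.monomial s (1 : R)) (n := μ) (MvPolynomial.isHomogeneous_monomial _ (by
      by_contra hne
      exact MvPolynomial.mem_support_iff.1 hs (hF.coeff_eq_zero hne)))
  rw [MvPolynomial.eval_monomial, one_mul] at h2
  simpa [Finsupp.prod] using h2

/-- **Pull-back of a divisor to the blow-up of a regular local ring of dimension two.** -/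
theorem divisor_regTwo (A : Type u) [CommRing A] [IsRegularLocalRing A] (hA : ringKrullDim A = 2)
    {X : Scheme.{u}} (b : X ⟶ Spec (CommRingCat.of A))
    (hb : BlowUp.IsBlowUp b (Curv2.idealSheaf A (IsLocalRing.maximalIdeal A)))
    (f : A) (μ : ℕ) (hf : f ∈ IsLocalRing.maximalIdeal A ^ μ) (hf' : f ∉ IsLocalRing.maximalIdeal A ^ (μ + 1)) :
    (Curv2.idealSheaf A (Ideal.span {f})).comap b ≤
        BlowUp.exceptional b (Curv2.idealSheaf A (IsLocalRing.maximalIdeal A)) ^ μ ∧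
      ¬ (Curv2.idealSheaf A (Ideal.span {f})).comap b ≤
        BlowUp.exceptional b (Curv2.idealSheaf A (IsLocalRing.maximalIdeal A)) ^ (μ + 1) ∧
      ∃ I' : X.IdealSheafData, BlowUp.IsEffCartierIdeal I' ∧
        (Curv2.idealSheaf A (Ideal.span {f})).comap b =
          I' * BlowUp.exceptional b (Curv2.idealSheaf A (IsLocalRing.maximalIdeal A)) ^ μ ∧
        ¬ ((BlowUp.exceptional b (Curv2.idealSheaf A (IsLocalRing.maximalIdeal A))).support : Set X) ⊆
          (I'.support : Set X) := by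
  haveI : IsDomain A := CommAlgDim.isDomain_of_isRegularLocalRing A
  haveI : IsDomain (CommRingCat.of A) := ‹IsDomain A›
  let P := Spec (CommRingCat.of A)
  let U₀ : P.affineOpens := ⟨⊤, isAffineOpen_top P⟩
  let e : A ≃+* Γ(P, ⊤) := (Scheme.ΓSpecIso (CommRingCat.of A)).symm.commRingCatIsoToRingEquiv
  let 𝓘 := Curv2.idealSheaf A (IsLocalRing.maximalIdeal A)
  let 𝓕 := Curv2.idealSheaf A (Ideal.span {f})
  let E := 𝓘.comap b
  have htop : ∀ I : Ideal A, (Curv2.idealSheaf A I).ideal U₀ = I.map e.toRingHom := fun I => by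
    show (I.map (Scheme.ΓSpecIso (CommRingCat.of A)).inv.hom).map (P.presheaf.map (𝟙 (op (⊤ : P.Opens)))).hom = _
    rw [P.presheaf.map_id, CommRingCat.hom_id, Ideal.map_id]
    rfl
  obtain ⟨hmax, a, hQR, ha⟩ := exists_regTwo_gens A hA
  obtain ⟨K, hK, φ, hφ, -, -⟩ := exists_exceptional_str hb a ha hQR
  haveI := hφ
  obtain ⟨W, hW, hcov, hnz, hgen, -, -, hflat⟩ := BlowPtLib.exists_charts_family (𝓙 := 𝓘) hb U₀ rfl a ha
  let g := e f
  have hg : g ∈ Ideal.span (Set.range a) ^ μ := by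
    rw [ha, htop, ← Ideal.map_pow]
    exact Ideal.mem_map_of_mem _ hf
  have hg' : g ∉ Ideal.span (Set.range a) ^ (μ + 1) := fun h => by
    rw [ha, htop, ← Ideal.map_pow] at h
    obtain ⟨x, hx, hxe⟩ := (Ideal.mem_map_iff_of_surjective e.toRingHom e.surjective).1 h
    exact hf' ((show x = f from e.injective hxe) ▸ hx)
  have hJT : ∀ (T : X.affineOpens) (hT : T.1 ≤ b ⁻¹ᵁ U₀.1),
      (𝓕.comap b).ideal T = Ideal.span {(b.appLE U₀.1 T.1 hT).hom g} := fun T hT => by
    rw [Groth.Agent.S4666.ideal_comap_eq 𝓕 b U₀ T hT, htop, Ideal.map_span, Set.image_singleton,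
      Ideal.map_span, Set.image_singleton]
    rfl
  have hET : ∀ (T : X.affineOpens) (hT : T.1 ≤ b ⁻¹ᵁ U₀.1) (n : ℕ),
      (E ^ n).ideal T = (𝓘.ideal U₀ ^ n).map (b.appLE U₀.1 T.1 hT).hom := fun T hT n => by
    rw [Ideal.map_pow, ← Groth.Agent.S4666.ideal_comap_eq 𝓘 b U₀ T hT]
    rfl
  have hle : 𝓕.comap b ≤ E ^ μ := fun T => by
    rw [hJT T (fun _ _ => trivial), hET T (fun _ _ => trivial), Ideal.span_singleton_le_iff_mem, ← ha]
    exact Ideal.mem_map_of_mem _ hg
  have hpowW : ∀ (l : Fin (1 + 1)) (n : ℕ),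
      (E ^ n).ideal (W l) = Ideal.span {(b.appLE U₀.1 (W l).1 (hW l)).hom (a l)} ^ n := fun l n => by
    show ((𝓘.comap b).ideal ^ n) (W l) = _
    rw [Pi.pow_apply, hgen l]
  have hnot : ∀ l : Fin (1 + 1), (b.appLE U₀.1 (W l).1 (hW l)).hom g ∉ (E ^ (μ + 1)).ideal (W l) := fun l h => by
    rw [hpowW] at h
    obtain ⟨N, hN⟩ := hflat l g (μ + 1) h
    rw [← ha] at hN
    exact hg' (mem_pow_of_mul_pow hQR hg hN)
  have hnle : ¬ 𝓕.comap b ≤ E ^ (μ + 1) := fun h => hnot 0 (h (W 0) (by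
    rw [hJT (W 0) (hW 0)]; exact Ideal.mem_span_singleton_self _))
  have hEc : BlowUp.IsEffCartierIdeal (E ^ μ) := RGFlatLib.isEffCartier_pow hb.1 μ
  obtain ⟨I', hI'⟩ := ModPairLib.exists_mul_eq hEc hle
  haveI : IsIntegral P := inferInstance
  have hIne : 𝓘 ≠ ⊥ := fun h => by
    have h1 : 𝓘.ideal U₀ = ⊥ := by rw [h]; rfl
    rw [htop] at h1
    replace h1 := (Ideal.map_eq_bot_iff_of_injective (f := e.toRingHom) e.injective).1 h1
    have h2 := IsLocalRing.isField_iff_maximalIdeal_eq.2 h1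
    letI := h2.toField
    rw [ringKrullDim_eq_zero_of_field] at hA
    norm_num at hA
  obtain ⟨hXi, -⟩ := BlowUpLib.isIntegral_of_isBlowUp hb hIne
  haveI := hXi
  have hJc : BlowUp.IsEffCartierIdeal (𝓕.comap b) := fun x => by
    obtain ⟨l, hl⟩ := Opens.mem_iSup.1 (hcov (show x ∈ b ⁻¹ᵁ U₀.1 from trivial))
    refine ⟨W l, hl, _, ?_, hJT (W l) (hW l)⟩
    haveI : Nonempty (W l).1 := ⟨⟨x, hl⟩⟩
    refine mem_nonZeroDivisors_of_ne_zero fun h0 => hnot l ?_
    rw [h0]
    exact Submodule.zero_mem _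
  have hmulc : BlowUp.IsEffCartierIdeal (I' * E ^ μ) := by rw [hI']; exact hJc
  refine ⟨hle, hnle, I', (BlowUpLib.isEffCartier_of_mul (I := E ^ μ) (J := I') (mul_comm I' (E ^ μ) ▸ hmulc)), hI'.symm, ?_⟩
  intro hsub
  -- the strict transform does not contain the exceptional fibre
  let κ0 := (b.appLE U₀.1 (W 0).1 (hW 0)).hom
  haveI : IsReduced (CohB1.ProjSpace 1 (Γ(P, ⊤) ⧸ K)) := by
    letI : Field (Γ(P, ⊤) ⧸ K) := ((Ideal.Quotient.maximal_ideal_iff_isField_quotient _).1 (hK ▸ hmax)).toField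
    haveI := GenusZeroLib.isIntegral_projSpace (Γ(P, ⊤) ⧸ K) 1
    infer_instance
  haveI : IsReduced E.subscheme := isReduced_of_isOpenImmersion φ
  have hrad : (Ideal.span {κ0 (a 0)}).radical ≤ Ideal.span {κ0 (a 0)} := fun x hx => by
    rw [← hgen 0] at hx ⊢
    obtain ⟨n, hn⟩ := hx
    refine (GenFlatStrat.subschemeι_app_eq_zero_iff E (W 0) x).mp ?_
    have h1 := (GenFlatStrat.subschemeι_app_eq_zero_iff E (W 0) (x ^ n)).mpr hn
    rw [map_pow] at h1
    exact IsNilpotent.eq_zero ⟨n, h1⟩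
  have hD : I'.ideal (W 0) ≤ Ideal.span {κ0 (a 0)} := fun x hx => hrad (by
    rw [← hgen 0, Ideal.radical_eq_sInf, Ideal.mem_sInf]
    rintro Q ⟨hEQ, hQ⟩
    haveI := hQ
    let p : Spec Γ(X, (W 0).1) := ⟨Q, hQ⟩
    let z := (W 0).2.fromSpec p
    have hzW : z ∈ (W 0).1 := (W 0).2.range_fromSpec.le ⟨p, rfl⟩
    have hmem : ∀ I : X.IdealSheafData, z ∈ I.support ↔ I.ideal (W 0) ≤ Q := fun I => by
      have h1 : z ∈ (I.support : Set X) ↔ z ∈ X.zeroLocus (U := (W 0).1) (I.ideal (W 0)) := by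
        have h2 := Set.ext_iff.1 (I.coe_support_inter (W 0)) z
        simp only [Set.mem_inter_iff, SetLike.mem_coe, hzW, and_true] at h2
        exact h2
      refine h1.trans ?_
      rw [show z ∈ X.zeroLocus (U := (W 0).1) (I.ideal (W 0)) ↔
          p ∈ (W 0).2.fromSpec ⁻¹' X.zeroLocus (U := (W 0).1) (I.ideal (W 0)) from Iff.rfl,
        (W 0).2.fromSpec_preimage_zeroLocus]
      exact Iff.rfl
    exact (hmem I').1 (hsub ((hmem E).2 hEQ)) hx)
  refine hnot 0 ?_
  have h1 : κ0 g ∈ (I' * E ^ μ).ideal (W 0) := by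
    rw [hI', hJT (W 0) (hW 0)]
    exact Ideal.mem_span_singleton_self _
  rw [Scheme.IdealSheafData.ideal_mul, Pi.mul_apply] at h1
  rw [hpowW, pow_succ']
  exact Ideal.mul_mono hD (hpowW 0 μ).le h1

end BlowRegLib
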