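import Mathlib.AlgebraicGeometry.Morphisms.Preimmersion
import Mathlib.AlgebraicGeometry.Morphisms.Flat
import Mathlib.AlgebraicGeometry.Morphisms.FinitePresentation
import Mathlib.AlgebraicGeometry.ResidueField
import Mathlib.RingTheory.AdjoinRoot
import Mathlib.RingTheory.Finiteness.ModuleFinitePresentation
import Mathlib.FieldTheory.Minpoly.Field

/-!
Finite residue field extensions lift fppf locally.
-/

set_option autoImplicit false
set_option linter.style.haveILetI false

noncomputable section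

universe u

open CategoryTheory AlgebraicGeometry Polynomial

namespace BlowRegLib

variable {R κ ℓ : Type u} [CommRing R] [Field κ] [Field ℓ] [Algebra κ ℓ] (ev : R →+* κ)

/-- Fractions of the image. -/
def IsFracOf {A : Type u} [CommRing A] (ψ : A →+* ℓ) (x : ℓ) : Prop :=
  ∃ a b : A, ψ b ≠ 0 ∧ x * ψ b = ψ a

theorem exists_scaled (hfrac : ∀ x : κ, ∃ a b : R, ev b ≠ 0 ∧ x * ev b = ev a) (p : Polynomial κ) (hp : p.Monic) :
    ∃ (b : R) (F : Polynomial R), ev b ≠ 0 ∧ F.Monic ∧ F.map ev = p.scaleRoots (ev b) := by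
  classical
  choose a b hb hab using hfrac
  let B := ∏ i ∈ Finset.range p.natDegree, b (p.coeff i)
  have hB : ev B ≠ 0 := by
    rw [map_prod]
    exact Finset.prod_ne_zero_iff.2 fun i _ => hb _
  have hmem : p.scaleRoots (ev B) ∈ Polynomial.lifts ev := (Polynomial.lifts_iff_coeff_lifts _).2 fun i => by
    rw [Polynomial.coeff_scaleRoots]
    rcases lt_or_ge i p.natDegree with hi | hi
    · refine ⟨a (p.coeff i) * (∏ j ∈ (Finset.range p.natDegree).erase i, b (p.coeff j)) * B ^ (p.natDegree - i - 1), ?_⟩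
      rw [map_mul, map_mul, ← hab, map_pow, mul_assoc (p.coeff i), ← map_mul,
        Finset.mul_prod_erase _ (fun j => b (p.coeff j)) (Finset.mem_range.2 hi)]
      rw [mul_assoc, ← pow_succ']
      congr 2
      omega
    · rcases hi.eq_or_lt with rfl | hlt
      · exact ⟨1, by rw [map_one, Nat.sub_self, pow_zero, mul_one, hp.coeff_natDegree]⟩
      · exact ⟨0, by rw [map_zero, Polynomial.coeff_eq_zero_of_natDegree_lt hlt, zero_mul]⟩
  obtain ⟨F, hF, -, hFm⟩ := Polynomial.lifts_and_degree_eq_and_monic hmem ((monic_scaleRoots_iff _).2 hp)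
  exact ⟨B, F, hB, hFm, hF⟩

theorem exists_finite_free (hfrac : ∀ x : κ, ∃ a b : R, ev b ≠ 0 ∧ x * ev b = ev a) [Module.Finite κ ℓ] :
    ∃ (A : Type u) (_ : CommRing A) (_ : Algebra R A) (ψ : A →+* ℓ),
      Module.Finite R A ∧ Module.Free R A ∧ ψ.comp (algebraMap R A) = (algebraMap κ ℓ).comp ev ∧
        ∀ x : ℓ, IsFracOf ψ x := by
  classical
  obtain ⟨T, hT⟩ := (Module.Finite.fg_top : (⊤ : Submodule κ ℓ).FG)
  suffices key : ∀ T : Finset ℓ, ∃ (A : Type u) (_ : CommRing A) (_ : Algebra R A) (ψ : A →+* ℓ),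
      Module.Finite R A ∧ Module.Free R A ∧ ψ.comp (algebraMap R A) = (algebraMap κ ℓ).comp ev ∧
        ∀ x ∈ T, IsFracOf ψ x by
    obtain ⟨A, _, _, ψ, h1, h2, h3, h4⟩ := key T
    refine ⟨A, inferInstance, inferInstance, ψ, h1, h2, h3, fun x => ?_⟩
    have hx : x ∈ Submodule.span κ (T : Set ℓ) := hT ▸ Submodule.mem_top
    induction hx using Submodule.span_induction with
    | mem x hx => exact h4 x hx
    | zero => exact ⟨0, 1, by rw [map_one]; exact one_ne_zero, by rw [map_zero, zero_mul]⟩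
    | add x y _ _ hx hy =>
      obtain ⟨a, b, hb, hx⟩ := hx
      obtain ⟨c, d, hd, hy⟩ := hy
      refine ⟨a * d + c * b, b * d, by rw [map_mul]; exact mul_ne_zero hb hd, ?_⟩
      rw [map_mul, map_add, map_mul, map_mul, ← hx, ← hy]
      ring
    | smul r x _ hx =>
      obtain ⟨a, b, hb, hx⟩ := hx
      obtain ⟨c, d, hd, hr⟩ := hfrac r
      have hc := congrArg (algebraMap κ ℓ) hr
      rw [map_mul] at hc
      have e : ∀ z, ψ (algebraMap R A z) = algebraMap κ ℓ (ev z) := fun z => RingHom.congr_fun h3 z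
      refine ⟨algebraMap R A c * a, algebraMap R A d * b, ?_, ?_⟩
      · rw [map_mul, e]
        exact mul_ne_zero ((_root_.map_ne_zero _).2 hd) hb
      · rw [map_mul, map_mul, e, e, ← hx, ← hc, Algebra.smul_def]
        ring
  intro T
  induction T using Finset.induction with
  | empty => exact ⟨R, inferInstance, Algebra.id R, (algebraMap κ ℓ).comp ev, inferInstance, inferInstance,
      RingHom.ext fun _ => rfl, by simp⟩
  | insert α T hα ih =>
    obtain ⟨A, _, _, ψ, h1, h2, h3, h4⟩ := ih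
    obtain ⟨b, F, hb, hF, hmap⟩ := exists_scaled ev hfrac (minpoly κ α) (minpoly.monic (Algebra.IsIntegral.isIntegral α))
    let G := F.map (algebraMap R A)
    have hG : G.Monic := hF.map _
    haveI := hG.finite_adjoinRoot
    haveI := hG.free_adjoinRoot
    have hroot : G.eval₂ ψ (algebraMap κ ℓ (ev b) * α) = 0 := by
      rw [Polynomial.eval₂_map, h3, ← Polynomial.eval₂_map, hmap]
      exact Polynomial.scaleRoots_eval₂_eq_zero _ (minpoly.aeval κ α)
    let ψ' : AdjoinRoot G →+* ℓ := AdjoinRoot.lift ψ _ hroot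
    have hof : ∀ z, ψ' (AdjoinRoot.of G z) = ψ z := fun z => AdjoinRoot.lift_of hroot
    refine ⟨AdjoinRoot G, inferInstance, inferInstance, ψ', Module.Finite.trans A _, Module.Free.trans (S := A), ?_, ?_⟩
    · refine RingHom.ext fun z => ?_
      show ψ' (algebraMap R (AdjoinRoot G) z) = _
      rw [IsScalarTower.algebraMap_apply R A (AdjoinRoot G), AdjoinRoot.algebraMap_eq, hof]
      exact RingHom.congr_fun h3 z
    · intro x hx
      rcases Finset.mem_insert.1 hx with rfl | hx
      · refine ⟨AdjoinRoot.root G, AdjoinRoot.of G (algebraMap R A b), ?_, ?_⟩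
        · rw [hof, show ψ (algebraMap R A b) = algebraMap κ ℓ (ev b) from RingHom.congr_fun h3 b]
          exact (_root_.map_ne_zero _).2 hb
        · rw [hof, show ψ (algebraMap R A b) = algebraMap κ ℓ (ev b) from RingHom.congr_fun h3 b,
            show ψ' (AdjoinRoot.root G) = _ from AdjoinRoot.lift_root hroot, mul_comm]
      · obtain ⟨a, c, hc, he⟩ := h4 x hx
        exact ⟨AdjoinRoot.of G a, AdjoinRoot.of G c, by rw [hof]; exact hc, by rw [hof, hof]; exact he⟩

theorem isPreimmersion_of_isFrac {A : Type u} [CommRing A] (ψ : A →+* ℓ) (h : ∀ x : ℓ, IsFracOf ψ x) :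
    IsPreimmersion (Spec.map (CommRingCat.ofHom ψ)) := by
  refine IsPreimmersion.mk_SpecMap ?_ ?_
  · haveI : Subsingleton (PrimeSpectrum ℓ) := inferInstance
    exact Topology.IsEmbedding.of_subsingleton _
  · refine RingHom.surjectiveOnStalks_iff_forall_ideal.2 fun I hI s => ?_
    obtain ⟨a, b, hb, he⟩ := h s
    have hI0 : I = ⊥ := (Ideal.eq_bot_or_top I).resolve_right hI
    refine ⟨a, b, 1, ?_, ?_, ?_⟩
    · rw [hI0, Ideal.mem_bot]; exact one_ne_zero
    · rw [hI0, Ideal.mem_bot]; exact hb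
    · rw [one_mul, one_mul, mul_comm]; exact he

theorem exists_fppf_residueField (S : Scheme.{u}) (s : S)
    (ℓ : Type u) [Field ℓ] [Algebra (S.residueField s) ℓ] [Module.Finite (S.residueField s) ℓ] :
    ∃ (U' : Scheme.{u}) (b : U' ⟶ S) (t : Spec (CommRingCat.of ℓ) ⟶ U'),
      IsAffine U' ∧ Flat b ∧ LocallyOfFinitePresentation b ∧ IsPreimmersion t ∧
        t ≫ b = Spec.map (CommRingCat.ofHom (algebraMap (S.residueField s) ℓ)) ≫ S.fromSpecResidueField s := by
  obtain ⟨U, hU, hsU, -⟩ := exists_isAffineOpen_mem_and_subset (U := (⊤ : S.Opens)) (x := s) trivial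
  let ev := S.evaluation U s hsU
  have hfrac : ∀ x : S.residueField s, ∃ a b : Γ(S, U), ev b ≠ 0 ∧ x * ev b = ev a := fun x => by
    obtain ⟨g, rfl⟩ := S.residue_surjective s x
    letI := TopCat.Presheaf.algebra_section_stalk S.presheaf ⟨s, hsU⟩
    haveI := hU.isLocalization_stalk ⟨s, hsU⟩
    obtain ⟨⟨a, b⟩, hab⟩ := IsLocalization.surj (hU.primeIdealOf ⟨s, hsU⟩).asIdeal.primeCompl g
    refine ⟨a, b.1, ?_, ?_⟩
    · exact ((IsLocalization.map_units (S.presheaf.stalk s) b).map (S.residue s).hom).ne_zero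
    · exact (map_mul (S.residue s).hom g _).symm.trans (congrArg (S.residue s) hab)
  obtain ⟨A, _, _, ψ, hfin, hfree, hcomp, hψ⟩ := exists_finite_free (ℓ := ℓ) ev.hom hfrac
  haveI : Module.FinitePresentation Γ(S, U) A := Module.finitePresentation_of_projective _ _
  haveI : Algebra.FinitePresentation Γ(S, U) A := inferInstance
  let b : Spec (CommRingCat.of A) ⟶ Spec Γ(S, U) := Spec.map (CommRingCat.ofHom (algebraMap Γ(S, U) A))
  haveI : Flat b := (HasRingHomProperty.Spec_iff (P := @Flat)).2 (RingHom.flat_algebraMap_iff.2 inferInstance)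
  haveI : LocallyOfFinitePresentation b := (HasRingHomProperty.Spec_iff (P := @LocallyOfFinitePresentation)).2
    (RingHom.finitePresentation_algebraMap.2 inferInstance)
  haveI : IsOpenImmersion hU.fromSpec := inferInstance
  refine ⟨Spec (CommRingCat.of A), b ≫ hU.fromSpec, Spec.map (CommRingCat.ofHom ψ), inferInstance, inferInstance,
    inferInstance, isPreimmersion_of_isFrac ψ hψ, ?_⟩
  have h1 : Spec.map ev ≫ hU.fromSpec = S.fromSpecResidueField s := by
    show Spec.map (S.presheaf.germ U _ hsU ≫ S.residue _) ≫ hU.fromSpec = Spec.map (S.residue _) ≫ S.fromSpecStalk _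
    rw [Spec.map_comp, Category.assoc, ← hU.fromSpecStalk_eq_fromSpecStalk hsU]
    rfl
  have h2 : CommRingCat.ofHom (algebraMap Γ(S, U) A) ≫ CommRingCat.ofHom ψ =
      ev ≫ CommRingCat.ofHom (algebraMap (S.residueField s) ℓ) := CommRingCat.hom_ext hcomp
  rw [← Category.assoc, ← Spec.map_comp, h2]
  exact (congrArg (· ≫ hU.fromSpec) (Spec.map_comp ev _)).trans ((Category.assoc _ _ _).trans (congrArg _ h1))

end BlowRegLib
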