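import Groth.Agent.BlowRegLib.Global
import Groth.Agent.BlowRegLib.Sections
import Groth.Agent.DCohRestrLib.Iso
import Groth.Agent.RpushLib.Vanish
import Groth.Agent.RpushLib.AdjIso
import Groth.Agent.CohCmpLib.PicApps
import Groth.Agent.KFlatLib.PerfectPull
import Groth.Agent.PicH1Lib.FlatIdeal
import Groth.Agent.QCohLib.Modules
import Groth.Prelude.Def_RegImm

import Groth.Agent.HodgePnLib.Vanish

/-!
# Direct images of pullbacks of modules with a two-term resolution
-/

set_option autoImplicit false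
set_option linter.style.haveILetI false
set_option linter.unusedSectionVars false
set_option maxHeartbeats 1000000
set_option backward.isDefEq.respectTransparency false
set_option backward.isDefEq.respectTransparency.types false

universe u

open CategoryTheory CategoryTheory.Limits AlgebraicGeometry TopologicalSpace Opposite
open HilbPolyLib (congrLeft congrRight assocIso swapIso unitLeft)
open KFlatLib (pb)
open Groth.Agent.QReg16Lib (QR)

noncomputable section

namespace BlowRegLib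

variable {P X : Scheme.{u}} {b : X ⟶ P} {𝓘 : P.IdealSheafData} [IsLocallyNoetherian P] (hb : BlowUp.IsBlowUp b 𝓘)

include hb in
/-- Pullbacks of modules that are free over a small affine open are acyclic over it. -/
theorem sub_pullback_local {U : P.affineOpens} {r : ℕ} {f : Fin (r + 1) → Γ(P, U.1)} (hf : FVLib.NR f)
    (hI : Ideal.span (Set.range f) = 𝓘.ideal U) {E : P.Modules} {V : P.Opens} {n : ℕ}
    (t : E.restrict V.ι ≅ FlatMod.freeMod (V : Scheme.{u}) n) (W : P.Opens) (hW : IsAffineOpen W) (hWU : W ≤ U.1)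
    (hWV : W ≤ V) (p : ℕ) (hp : 1 ≤ p) :
    Subsingleton (Coh.HHon X ((Scheme.Modules.pullback b).obj E) (b ⁻¹ᵁ W) p) := by
  have h0 := sub_pow_local hb hf hI W hW (hWU) 0 p hp
  let O := b ⁻¹ᵁ W
  have h1 : Subsingleton (Coh.HH (O : Scheme.{u}) (Coh.structureModule (O : Scheme.{u})) p) :=
    HdgLefLib.sub_iso ((Scheme.Modules.restrictFunctorIsoPullback O.ι).app _ ≪≫ KFlatLib.pullUnitIso O.ι) p h0
  let t' : pb W.ι E ≅ FlatMod.freeMod (W : Scheme.{u}) n :=
    (Scheme.Modules.pullbackCongr (P.homOfLE_ι hWV).symm).app E ≪≫ ((Scheme.Modules.pullbackComp _ _).app E).symm ≪≫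
      (Scheme.Modules.pullback (P.homOfLE hWV)).mapIso (((Scheme.Modules.restrictFunctorIsoPullback V.ι).app E).symm ≪≫ t) ≪≫
      KFlatLib.pullFreeIso _ n
  let s : ((Scheme.Modules.pullback b).obj E).restrict O.ι ≅ FlatMod.freeMod (O : Scheme.{u}) n :=
    (Scheme.Modules.restrictFunctorIsoPullback O.ι).app _ ≪≫ (Scheme.Modules.pullbackComp O.ι b).app E ≪≫
      (Scheme.Modules.pullbackCongr (morphismRestrict_ι b W).symm).app E ≪≫
      ((Scheme.Modules.pullbackComp _ _).app E).symm ≪≫ (Scheme.Modules.pullback (b ∣_ W)).mapIso t' ≪≫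
      KFlatLib.pullFreeIso _ n
  exact HdgLefLib.sub_iso s.symm p (PicH1Lib.subsingleton_HH_free p h1 n)

include hb in
/-- **The direct image of the pullback of a module with a locally free resolution of length one.** -/
theorem isIso_unit_and_isZero_of_resolution (hreg : LocReg 𝓘 1) (T : ShortComplex P.Modules) (hT : T.ShortExact)
    (h₁ : FlatMod.IsFinLocFree T.X₁) (h₀ : FlatMod.IsFinLocFree T.X₂)
    (hpull : (T.map (Scheme.Modules.pullback b)).ShortExact) [Coh.IsQCoh ((Scheme.Modules.pullback b).obj T.X₃)] :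
    IsIso ((Scheme.Modules.pullbackPushforwardAdjunction b).unit.app T.X₃) ∧
      ∀ p : ℕ, 1 ≤ p → IsZero ((Coh.RpushAb b p).obj (Coh.toAb ((Scheme.Modules.pullback b).obj T.X₃))) := by
  haveI := isProper_b hb
  have hsmall : ∀ y : P, ∃ G : P.Opens, y ∈ G ∧ ∀ W : P.Opens, IsAffineOpen W → W ≤ G → ∀ p : ℕ, 1 ≤ p →
      Subsingleton (Coh.HHon X ((Scheme.Modules.pullback b).obj T.X₁) (b ⁻¹ᵁ W) p) ∧
      Subsingleton (Coh.HHon X ((Scheme.Modules.pullback b).obj T.X₂) (b ⁻¹ᵁ W) p) := fun y => by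
    obtain ⟨U, hy, r, f, hr, hf, hI⟩ := hreg y
    obtain ⟨r, rfl⟩ : ∃ r', r = r' + 1 := ⟨r - 1, by omega⟩
    obtain ⟨V, n, hyV, ⟨t⟩⟩ := h₁ y
    obtain ⟨V', n', hyV', ⟨t'⟩⟩ := h₀ y
    exact ⟨U.1 ⊓ (V ⊓ V'), ⟨hy, hyV, hyV'⟩, fun W hW hWG p hp =>
      ⟨sub_pullback_local hb hf hI t W hW (hWG.trans inf_le_left) (hWG.trans (inf_le_right.trans inf_le_left)) p hp,
        sub_pullback_local hb hf hI t' W hW (hWG.trans inf_le_left) (hWG.trans (inf_le_right.trans inf_le_right)) p hp⟩⟩
  have hres : ∀ O : X.Opens, ((T.map (Scheme.Modules.pullback b)).map (Scheme.Modules.restrictFunctor O.ι)).ShortExact :=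
    fun O => hpull.map_of_exact _
  refine ⟨?_, fun p hp => RpushLib.isZero_rpushAb b _ p fun y => ?_⟩
  · haveI h1' := isIso_unit hb hreg h₁
    haveI h0' := isIso_unit hb hreg h₀
    haveI : Coh.IsQCoh T.X₁ := FinLFAnn.isQCoh_of_isFinLocFree h₁
    let η := (Scheme.Modules.pullbackPushforwardAdjunction b).unit
    have hB : Opens.IsBasis {W : P.Opens | IsAffineOpen W ∧
        Subsingleton (Coh.HHon X ((Scheme.Modules.pullback b).obj T.X₁) (b ⁻¹ᵁ W) 1)} := by
      refine Opens.isBasis_iff_nbhd.2 fun {O x} hx => ?_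
      obtain ⟨G, hxG, hG⟩ := hsmall x
      obtain ⟨W, hW, hxW, hWO⟩ := exists_isAffineOpen_mem_and_subset (x := x) (U := O ⊓ G) ⟨hx, hxG⟩
      exact ⟨W, ⟨hW, (hG W hW (fun z hz => (hWO hz).2) 1 le_rfl).1⟩, hxW, fun z hz => (hWO hz).1⟩
    refine RpushLib.isIso_of_bijective_basis _ hB fun W ⟨hW, hS⟩ => ?_
    have hbij : ∀ {M : P.Modules}, IsIso (η.app M) → Function.Bijective ((η.app M).app W) := fun h =>
      (ConcreteCategory.isIso_iff_bijective _).1 (Scheme.Modules.Hom.isIso_iff_isIso_app.1 h W)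
    have hsurj' : Function.Surjective (((Scheme.Modules.pullback b).map T.g).app (b ⁻¹ᵁ W)) := fun s => by
      let O := b ⁻¹ᵁ W
      have hs : Function.Surjective (((Scheme.Modules.pullback b).map T.g).app (O.ι ''ᵁ ⊤)) := fun s =>
        haveI : Subsingleton (QCohLib.HU ((((T.map (Scheme.Modules.pullback b)).map
          (Scheme.Modules.restrictFunctor O.ι)).map (QCohLib.toAbF _)).X₁) 1 ⊤) :=
          (QCohLib.subsingleton_H_iff _ _).1 hS
        QCohLib.exists_lift_of_subsingleton (S := ((T.map (Scheme.Modules.pullback b)).map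
          (Scheme.Modules.restrictFunctor O.ι)).map (QCohLib.toAbF _)) (QCohLib.toAbF_shortExact (hres O)) s
      rw [O.ι_image_top] at hs
      exact hs s
    have hnat₂ : ∀ x : Γ(T.X₂, W), ((Scheme.Modules.pullback b).map T.g).app (b ⁻¹ᵁ W) ((η.app T.X₂).app W x) =
        (η.app T.X₃).app W (T.g.app W x) := fun x =>
      (congr(Scheme.Modules.Hom.app $(η.naturality T.g) W x)).symm
    have hnat₁ : ∀ x : Γ(T.X₁, W), ((Scheme.Modules.pullback b).map T.f).app (b ⁻¹ᵁ W) ((η.app T.X₁).app W x) =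
        (η.app T.X₂).app W (T.f.app W x) := fun x =>
      (congr(Scheme.Modules.Hom.app $(η.naturality T.f) W x)).symm
    refine ⟨?_, fun s => ?_⟩
    · refine (injective_iff_map_eq_zero _).2 fun s hs => ?_
      obtain ⟨x, rfl⟩ := QCohLib.app_surjective_of_affine hT hW s
      obtain ⟨z', hz'⟩ := QCohLib.exists_of_app_eq_zero hpull.exact hpull.mono_f (U := b ⁻¹ᵁ W)
        ((η.app T.X₂).app W x) ((hnat₂ x).trans hs)
      obtain ⟨z, rfl⟩ := (hbij h1').2 z'
      obtain rfl : T.f.app W z = x := (hbij h0').1 ((hnat₁ z).symm.trans hz')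
      exact congr(Scheme.Modules.Hom.app $(T.zero) W z)
    · obtain ⟨x', hx'⟩ := hsurj' s
      obtain ⟨x, rfl⟩ := (hbij h0').2 x'
      exact ⟨T.g.app W x, (hnat₂ x).symm.trans hx'⟩
  · obtain ⟨G, hyG, hG⟩ := hsmall y
    exact ⟨G, hyG, fun W hW hWG =>
      HodgePnLib.sub₃ (S := (T.map (Scheme.Modules.pullback b)).map (Scheme.Modules.restrictFunctor (b ⁻¹ᵁ W).ι))
        (hres _) (hG W hW hWG p hp).2 (hG W hW hWG (p + 1) (by omega)).1⟩

end BlowRegLib
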