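import Mathlib.LinearAlgebra.Matrix.Block
import Mathlib.RingTheory.PowerSeries.Basic
import Mathlib.Order.Interval.Finset.Fin

/-!
# The resultant as a determinant of coefficients of partial quotients
-/

set_option autoImplicit false

open PowerSeries Finset

noncomputable section

namespace BlowRegLib.ResultantDet

variable {R : Type*} [CommRing R]

/-- A linear factor. -/
def L (a : R) : PowerSeries R := 1 + C a * X

/-- The inverse of a linear factor. -/
def G (a : R) : PowerSeries R := mk fun m => (-a) ^ m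

theorem coeff_succ_L_mul (a : R) (F : PowerSeries R) (n : ℕ) :
    coeff (n + 1) (L a * F) = coeff (n + 1) F + a * coeff n F := by
  rw [L, add_mul, one_mul, map_add, mul_assoc, coeff_C_mul, coeff_succ_X_mul]

theorem G_mul_L (a : R) : G a * L a = 1 := by
  rw [mul_comm]
  ext n
  cases n with
  | zero => rw [L, add_mul, one_mul, map_add, mul_assoc, coeff_C_mul]; simp [G]
  | succ n =>
    rw [coeff_succ_L_mul, coeff_one, if_neg n.succ_ne_zero, G, coeff_mk, coeff_mk, pow_succ]
    ring

theorem coeff_prod_L_eq_zero {ι : Type*} (S : Finset ι) (a : ι → R) :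
    ∀ m, S.card < m → coeff m (∏ l ∈ S, L (a l)) = 0 := by
  classical
  induction S using Finset.induction_on with
  | empty => intro m hm; rw [prod_empty, coeff_one, if_neg (by simp at hm; omega)]
  | insert x S hx ih =>
    intro m hm
    rw [card_insert_of_notMem hx] at hm
    obtain ⟨n, rfl⟩ : ∃ n, m = n + 1 := ⟨m - 1, by omega⟩
    rw [prod_insert hx, coeff_succ_L_mul, ih _ (by omega), ih _ (by omega), mul_zero, add_zero]

theorem coeff_prod_L_mul_G {ι : Type*} (S : Finset ι) (b : ι → R) (a : R) :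
    ∀ m, coeff (S.card + m) ((∏ l ∈ S, L (b l)) * G a) = (-a) ^ m * ∏ l ∈ S, (b l - a) := by
  classical
  induction S using Finset.induction_on with
  | empty => intro m; simp [G]
  | insert x S hx ih =>
    intro m
    rw [prod_insert hx, prod_insert hx, mul_assoc, card_insert_of_notMem hx,
      show S.card + 1 + m = (S.card + m) + 1 by omega, coeff_succ_L_mul, ih m, add_assoc, ih (m + 1), pow_succ]
    ring

variable (d e : ℕ) (α : Fin d → R) (β : Fin e → R)

/-- The partial quotient. -/
def P (i : Fin d) : PowerSeries R :=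
  (∏ j, L (β j)) * ∏ l : Fin d, if l ≤ i then G (α l) else 1

/-- The multiplier of a column. -/
def Q (j : Fin d) : PowerSeries R := ∏ l ∈ Iio j, L (α l)

theorem P_mul_Q_of_lt {i j : Fin d} (h : i < j) :
    P d e α β i * Q d α j = (∏ k, L (β k)) * ∏ l ∈ Ioo i j, L (α l) := by
  rw [P, Q, mul_assoc]
  congr 1
  rw [← prod_filter, ← prod_sdiff (show Ioo i j ⊆ Iio j from fun l hl => mem_Iio.2 (mem_Ioo.1 hl).2), ← mul_assoc,
    show univ.filter (fun l => l ≤ i) = Iio j \ Ioo i j from ?_, ← prod_mul_distrib,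
    prod_congr rfl fun l _ => G_mul_L (α l), prod_const_one, one_mul]
  ext l
  simp only [mem_filter, mem_univ, true_and, mem_sdiff, mem_Iio, mem_Ioo, not_and]
  exact ⟨fun hl => ⟨hl.trans_lt h, fun h' => absurd hl h'.not_ge⟩, fun hl => not_lt.1 fun h' => hl.2 h' hl.1⟩

theorem P_mul_Q_self (i : Fin d) : P d e α β i * Q d α i = (∏ k, L (β k)) * G (α i) := by
  rw [P, Q, mul_assoc]
  congr 1
  rw [← prod_filter, show univ.filter (fun l => l ≤ i) = insert i (Iio i) from ?_, prod_insert (by simp), mul_assoc,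
    ← prod_mul_distrib, prod_congr rfl fun l _ => G_mul_L (α l), prod_const_one, mul_one]
  ext l
  simp [le_iff_eq_or_lt]

theorem det_eq : ∏ i : Fin d, ∏ j : Fin e, (β j - α i) =
    (Matrix.of fun i j : Fin d =>
      if (i : ℕ) ≤ e + (j : ℕ) then coeff (e + (j : ℕ) - (i : ℕ)) (P d e α β i) else 0).det := by
  classical
  set M : Matrix (Fin d) (Fin d) R := Matrix.of fun i j : Fin d =>
      if (i : ℕ) ≤ e + (j : ℕ) then coeff (e + (j : ℕ) - (i : ℕ)) (P d e α β i) else 0
  let U : Matrix (Fin d) (Fin d) R := Matrix.of fun k j => if k ≤ j then coeff (j.1 - k.1) (Q d α j) else 0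
  have hU : U.det = 1 := by
    rw [Matrix.det_of_isUpperTriangular (fun i j hij => by simp [U, (id hij : j < i).not_ge])]
    refine prod_eq_one fun i _ => ?_
    simp [U, Q, L, PowerSeries.coeff_zero_eq_constantCoeff]
  have hMU : ∀ i j, i ≤ j → (M * U) i j = coeff (e + j.1 - i.1) (P d e α β i * Q d α j) := by
    intro i j hij
    have hij' : i.1 ≤ j.1 := hij
    rw [PowerSeries.coeff_mul, Matrix.mul_apply]
    have hz : ∀ m, j.1 < m → coeff m (Q d α j) = 0 := fun m hm =>
      coeff_prod_L_eq_zero _ _ m (by rwa [Fin.card_Iio])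
    symm
    refine Finset.sum_bij_ne_zero (fun p _ _ => (⟨j.1 - p.2, lt_of_le_of_lt (Nat.sub_le _ _) j.2⟩ : Fin d))
      (fun _ _ _ => mem_univ _) ?_ ?_ ?_
    · intro p hp hpn q hq hqn h
      rw [HasAntidiagonal.mem_antidiagonal] at hp hq
      have h1 : p.2 ≤ j.1 := not_lt.1 fun h => hpn (by rw [hz _ h, mul_zero])
      have h2 : q.2 ≤ j.1 := not_lt.1 fun h => hqn (by rw [hz _ h, mul_zero])
      have h3 : j.1 - p.2 = j.1 - q.2 := congrArg Fin.val h
      exact Prod.ext (by omega) (by omega)
    · intro k _ hk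
      have hkj : k ≤ j := by by_contra h; exact hk (by simp [U, h])
      have hkj' : k.1 ≤ j.1 := hkj
      have hik : i.1 ≤ e + k.1 := by by_contra h; exact hk (by simp [M, h])
      refine ⟨(e + k.1 - i.1, j.1 - k.1), HasAntidiagonal.mem_antidiagonal.2 (by omega), ?_, ?_⟩
      · simpa [M, U, hik, hkj] using hk
      · exact Fin.ext (by simp; omega)
    · intro p hp hpn
      rw [HasAntidiagonal.mem_antidiagonal] at hp
      have h1 : p.2 ≤ j.1 := not_lt.1 fun h => hpn (by rw [hz _ h, mul_zero])
      simp only [M, U, Matrix.of_apply]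
      rw [if_pos (by omega), if_pos (Fin.le_def.2 (Nat.sub_le _ _))]
      congr 3 <;> omega
  have hLT : (M * U).IsLowerTriangular := by
    intro i j hij
    have h : i < j := hij
    have h' : i.1 < j.1 := h
    rw [hMU i j h.le, P_mul_Q_of_lt d e α β h]
    have hcard : (univ : Finset (Fin e)).card + (Ioo i j).card < e + j.1 - i.1 := by
      rw [card_univ, Fintype.card_fin, Fin.card_Ioo]
      omega
    have e1 : (∏ k, L (β k)) * ∏ l ∈ Ioo i j, L (α l) =
        ∏ x ∈ (univ : Finset (Fin e)).disjSum (Ioo i j), L (Sum.elim β α x) := by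
      rw [prod_disjSum]; rfl
    rw [e1]
    exact coeff_prod_L_eq_zero _ _ _ (by rwa [card_disjSum])
  have hdiag : ∀ i, (M * U) i i = ∏ j : Fin e, (β j - α i) := fun i => by
    rw [hMU i i le_rfl, P_mul_Q_self, show e + i.1 - i.1 = (univ : Finset (Fin e)).card + 0 by simp,
      coeff_prod_L_mul_G, pow_zero, one_mul]
  calc ∏ i : Fin d, ∏ j : Fin e, (β j - α i) = ∏ i, (M * U) i i := (prod_congr rfl fun i _ => (hdiag i).symm)
    _ = (M * U).det := (Matrix.det_of_isLowerTriangular _ hLT).symm
    _ = M.det := by rw [Matrix.det_mul, hU, mul_one]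

end BlowRegLib.ResultantDet
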