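import Groth.Agent.CohLib.RpushColimSite
import Groth.Agent.CohLib.GoodExamples
import Groth.Prelude.Def_ToposFin2
import Mathlib.CategoryTheory.Sites.PreservesSheafification
import Mathlib.CategoryTheory.Sites.Adjunction

/-!
# Higher direct images along coherent continuous functors commute with filtered colimits
-/

set_option autoImplicit false
set_option backward.isDefEq.respectTransparency false

universe u
open CategoryTheory CategoryTheory.Limits Opposite ToposFin

namespace BlowRegLib.RpushAlg

theorem preservesColimitsOfShape_Rpush {C D : Type u} [SmallCategory C]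
    [SmallCategory D] (J : GrothendieckTopology C) (K : GrothendieckTopology D) (hE : ToposFin.IsAlgebraic J)
    (u : D ⥤ C) [u.IsContinuous K J] (hu : ∀ V : D, ToposFin.IsCoherent (ToposFin.eps J (u.obj V)))
    (Λ : Type u) [SmallCategory Λ] [IsFiltered Λ] (q : ℕ) :
    PreservesColimitsOfShape Λ (CohSite.Rpush J K u q) := by
  refine ⟨fun {F} => CohLib.RpushColimSite.preservesColimit_Rpush J K u F q fun V =>
    ⟨PUnit, fun _ => V, fun _ => 𝟙 V, ?_, fun _ => ?_⟩⟩
  · refine K.superset_covering (fun Z z _ => ?_) (K.top_mem V)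
    exact ⟨V, z, 𝟙 V, ⟨PUnit.unit⟩, Category.comp_id z⟩
  obtain ⟨G, hG⟩ := CohLib.nonempty_goodClass_algebraic hE
  haveI : IsIso ((presheafToSheaf J AddCommGrpCat.{u}).map
      (Functor.whiskerRight (toSheafify J (yoneda.obj (u.obj V))) AddCommGrpCat.free.{u})) := by
    rw [← GrothendieckTopology.W_iff]
    exact J.W_of_preservesSheafification AddCommGrpCat.free.{u} _ (J.W_toSheafify _)
  let e := asIso ((presheafToSheaf J AddCommGrpCat.{u}).map
      (Functor.whiskerRight (toSheafify J (yoneda.obj (u.obj V))) AddCommGrpCat.free.{u}))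
  have h := (CohLib.extComm_Z G (hG _ (hu V)) Λ q).of_iso
    (M' := (presheafToSheaf J AddCommGrpCat.{u}).obj (yoneda.obj (u.obj V) ⋙ AddCommGrpCat.free.{u})) e
  haveI := FiltExtLib.preservesColimitsOfShape_ext h
  haveI : PreservesColimitsOfShape Λ ((Sheaf.cohomologyPresheafFunctor J q).flip.obj (op (u.obj V))) :=
    preservesColimitsOfShape_of_natIso (F := (Abelian.extFunctor.{u} q).obj
      (op ((presheafToSheaf J AddCommGrpCat.{u}).obj (yoneda.obj (u.obj V) ⋙ AddCommGrpCat.free.{u}))))
      (NatIso.ofComponents (fun F => Iso.refl _) (fun f => rfl))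
  infer_instance

end BlowRegLib.RpushAlg
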