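import Groth.Agent.EulerRpushLib.Main
import Groth.Agent.RDerLib.Delta

/-!
# The first higher direct image through global cohomology
-/

set_option autoImplicit false
set_option linter.style.haveILetI false
set_option linter.unusedSectionVars false
set_option maxHeartbeats 1000000

universe u

open CategoryTheory CategoryTheory.Limits AlgebraicGeometry TopologicalSpace Opposite
open CurvLib (hMap hDel exact₁ exact₂ exact₃ injective₀)
open EulerRpushLib (cycSeq cycSeq_shortExact nonempty_cokernel_iso_rpush IsAcyclic pushH0 pushH0_natural)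

noncomputable section

namespace BlowRegLib

variable {X Y : Scheme.{u}} {k : Type u} [Field k]
  [X.Over (Spec (CommRingCat.of k))] [Y.Over (Spec (CommRingCat.of k))]
  (f : Y ⟶ X) (hf : f ≫ (X ↘ Spec (CommRingCat.of k)) = Y ↘ Spec (CommRingCat.of k))

include hf in
/-- One step of the Leray sequence when the direct image has no cohomology in degrees one and two. -/
theorem nonempty_cokernel_h0 {S : ShortComplex Y.Modules} (hS : S.ShortExact) (h2 : IsAcyclic S.X₂)
    (h2' : IsAcyclic ((Coh.push f).obj S.X₂)) (hp1 : Subsingleton (Coh.HH X ((Coh.push f).obj S.X₁) 1))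
    (hp2 : Subsingleton (Coh.HH X ((Coh.push f).obj S.X₁) 2)) :
    Nonempty (Coh.HH X (cokernel ((Coh.push f).map S.g)) 0 ≃ₗ[k] Coh.HH Y S.X₁ 1) := by
  haveI : PreservesFiniteLimits (Coh.push f) :=
    have : PreservesLimitsOfSize.{u, u} (Coh.push f) :=
      (Scheme.Modules.pullbackPushforwardAdjunction f).rightAdjoint_preservesLimits
    inferInstance
  let φ : (Coh.push f).obj S.X₂ ⟶ (Coh.push f).obj S.X₃ := (Coh.push f).map S.g
  obtain ⟨hex, hmono⟩ :=
    (Functor.preservesFiniteLimits_iff_forall_exact_map_and_mono (Coh.push f)).mp inferInstance S hS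
  haveI : Mono (S.map (Coh.push f)).f := hmono
  let e₁ : (Coh.push f).obj S.X₁ ≅ kernel φ :=
    hex.fIsKernel.conePointUniqueUpToIso (limit.isLimit (parallelPair φ 0))
  let a := DevissLib.kerImSeq φ
  have ha : a.ShortExact := DevissLib.kerImSeq_shortExact φ
  let b := DevissLib.imCokSeq φ
  have hb : b.ShortExact := DevissLib.imCokSeq_shortExact φ
  let ψ : Coh.HH X b.X₂ 0 →ₗ[k] Coh.HH Y S.X₁ 1 :=
    (hDel (k := k) hS 0).comp (pushH0 f hf S.X₃).toLinearMap
  have hψ : Function.Surjective ψ := by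
    suffices h : Function.Surjective (hDel (k := k) hS 0) from h.comp (pushH0 f hf S.X₃).surjective
    rw [← LinearMap.range_eq_top, exact₁ hS 0, LinearMap.ker_eq_top]
    haveI := h2 0
    exact LinearMap.ext fun x => Subsingleton.elim _ _
  have hφ : ∀ x : Coh.HH X a.X₂ 0, hMap (k := k) b.f 0 (hMap (k := k) a.g 0 x) =
      hMap (k := k) φ 0 x := fun x => by
    rw [← CurvLib.hMap_comp]
    exact congrArg (fun g => hMap (k := k) g 0 x) (Abelian.image.fac φ)
  have hψker : ∀ z, ψ z = 0 ↔ ∃ x, hMap (k := k) φ 0 x = z := fun z => by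
    have h := exact₃ (k := k) hS 0
    constructor
    · intro hz
      obtain ⟨y, hy⟩ := h.ge (LinearMap.mem_ker.mpr hz)
      obtain ⟨x, rfl⟩ := (pushH0 f hf S.X₂).surjective y
      exact ⟨x, (pushH0 f hf S.X₃).injective ((pushH0_natural f hf S.g x).symm.trans hy)⟩
    · rintro ⟨x, rfl⟩
      exact LinearMap.mem_ker.mp (h.le ⟨_, pushH0_natural f hf S.g x⟩)
  haveI : Subsingleton (Coh.HH X (kernel φ) 1) := (CurvLib.hIso (k := k) e₁ 1).symm.toEquiv.subsingleton
  haveI : Subsingleton (Coh.HH X (kernel φ) 2) := (CurvLib.hIso (k := k) e₁ 2).symm.toEquiv.subsingleton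
  have hsurj : Function.Surjective (hMap (k := k) a.g 0) := by
    rw [← LinearMap.range_eq_top, exact₃ ha 0, LinearMap.ker_eq_top]
    exact LinearMap.ext fun x => Subsingleton.elim (α := Coh.HH X (kernel φ) 1) _ _
  haveI hb1 : Subsingleton (Coh.HH X b.X₁ 1) := by
    haveI := h2' 0
    refine subsingleton_of_forall_eq 0 fun x => ?_
    obtain ⟨y, hy⟩ := (exact₃ (k := k) ha 1).ge
      (LinearMap.mem_ker.mpr (Subsingleton.elim (α := Coh.HH X (kernel φ) 2) _ 0) : x ∈ LinearMap.ker (hDel (k := k) ha 1))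
    rw [← hy, Subsingleton.elim (α := Coh.HH X ((Coh.push f).obj S.X₂) 1) y 0, map_zero]
  let g := hMap (k := k) b.g 0
  have hg : Function.Surjective g := by
    rw [← LinearMap.range_eq_top, exact₃ hb 0, LinearMap.ker_eq_top]
    exact LinearMap.ext fun x => Subsingleton.elim (α := Coh.HH X b.X₁ 1) _ _
  have hker : LinearMap.ker g = LinearMap.ker ψ := by
    rw [← exact₂ hb 0]
    ext z
    refine ⟨fun ⟨w, hw⟩ => ?_, fun hz => ?_⟩
    · obtain ⟨x, rfl⟩ := hsurj w
      exact LinearMap.mem_ker.mpr ((hψker z).mpr ⟨x, (hφ x).symm.trans hw⟩)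
    · obtain ⟨x, hx⟩ := (hψker z).mp (LinearMap.mem_ker.mp hz)
      exact ⟨_, (hφ x).trans hx⟩
  exact ⟨(g.quotKerEquivOfSurjective hg).symm ≪≫ₗ Submodule.quotEquivOfEq _ _ hker ≪≫ₗ
    ψ.quotKerEquivOfSurjective hψ⟩

include hf in
/-- **`H⁰(R¹f_*G) = H¹(G)` when `f_*G` has no cohomology in degrees one and two.** -/
theorem nonempty_h0_rpush_one [HasInjectiveResolutions Y.Modules] (G : Y.Modules)
    (hp1 : Subsingleton (Coh.HH X ((Coh.push f).obj G) 1)) (hp2 : Subsingleton (Coh.HH X ((Coh.push f).obj G) 2)) :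
    Nonempty (Coh.HH X ((Coh.Rpush f 1).obj G) 0 ≃ₗ[k] Coh.HH Y G 1) := by
  let I := injectiveResolution G
  let e0 : (cycSeq I 0).X₁ ≅ G :=
    (kernelIsKernel _).conePointUniqueUpToIso I.isLimitKernelFork
  have hY : IsAcyclic (cycSeq I 0).X₂ :=
    haveI := RpushLib.isFlasque_toAb_injective (I.cocomplex.X 0)
    EulerRpushLib.isAcyclic_of_isFlasque _
  have hX : IsAcyclic ((Coh.push f).obj (cycSeq I 0).X₂) :=
    haveI := EulerRpushLib.isFlasque_push f (I.cocomplex.X 0)
    EulerRpushLib.isAcyclic_of_isFlasque _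
  obtain ⟨E⟩ := nonempty_cokernel_h0 f hf (cycSeq_shortExact I 0) hY hX
    (CurvLib.hIso (k := k) ((Coh.push f).mapIso e0) 1).toEquiv.subsingleton
    (CurvLib.hIso (k := k) ((Coh.push f).mapIso e0) 2).toEquiv.subsingleton
  obtain ⟨r⟩ := nonempty_cokernel_iso_rpush f I 0
  exact ⟨(CurvLib.hIso (k := k) r 0).symm ≪≫ₗ E ≪≫ₗ CurvLib.hIso (k := k) e0 1⟩

omit [X.Over (Spec (CommRingCat.of k))] [Y.Over (Spec (CommRingCat.of k))] in
/-- `R¹` only sees the quotient when the subsheaf has no higher direct images. -/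
theorem nonempty_rpush_one_iso [HasInjectiveResolutions Y.Modules] {S : ShortComplex Y.Modules}
    (hS : S.ShortExact) (h1 : IsZero ((Coh.Rpush f 1).obj S.X₁)) (h2 : IsZero ((Coh.Rpush f 2).obj S.X₁)) :
    Nonempty ((Coh.Rpush f 1).obj S.X₂ ≅ (Coh.Rpush f 1).obj S.X₃) := by
  let Δ := Groth.Agent.RDerLib.derivedLES (Scheme.Modules.pushforward f)
  haveI : Mono ((Coh.Rpush f 1).map S.g) :=
    (ShortComplex.exact_iff_mono _ (h1.eq_of_src _ _)).1 (Δ.exact₂ S hS 1)
  haveI : Epi ((Coh.Rpush f 1).map S.g) :=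
    (ShortComplex.exact_iff_epi _ (h2.eq_of_tgt _ _)).1 (Δ.exact₃ S hS 1 2 rfl)
  haveI := isIso_of_mono_of_epi ((Coh.Rpush f 1).map S.g)
  exact ⟨asIso ((Coh.Rpush f 1).map S.g)⟩

end BlowRegLib
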