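import Groth.Prelude.Def_W4c6secantcecoversSchSt
import Mathlib.LinearAlgebra.ExteriorAlgebra.Basic
import Mathlib.LinearAlgebra.Alternating.Basic
import Mathlib.Tactic.Module

/-!
# Self-adjointness of the Scheja–Storch differential
-/

set_option autoImplicit false
universe u v

open TensorProduct W4c6secantcecovers BigOperators

noncomputable section

namespace BlowRegLib.SchejaStorch

variable {R : Type u} [CommRing R] {r : ℕ}

theorem contr_mul (j : Fin r) : ∀ (n : ℕ) (e : Fin n → (Fin r → R)) (η : SSLam R r),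
    ssContr R r j (ExteriorAlgebra.ιMulti R n e * η) =
      ssContr R r j (ExteriorAlgebra.ιMulti R n e) * η +
        ((-1 : R) ^ n) • (ExteriorAlgebra.ιMulti R n e * ssContr R r j η) := by
  intro n
  induction n with
  | zero =>
    intro e η
    simp [ExteriorAlgebra.ιMulti_zero_apply, ssContr, CliffordAlgebra.contractLeft_one]
  | succ n ih =>
    intro e η
    rw [ExteriorAlgebra.ιMulti_succ_apply, mul_assoc]
    change CliffordAlgebra.contractLeft _ (CliffordAlgebra.ι (0 : QuadraticForm R (Fin r → R)) (e 0) * _) =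
      CliffordAlgebra.contractLeft _ (CliffordAlgebra.ι (0 : QuadraticForm R (Fin r → R)) (e 0) * _) * η + _
    rw [CliffordAlgebra.contractLeft_ι_mul, CliffordAlgebra.contractLeft_ι_mul]
    change _ • _ - _ * ssContr R r j (_ * η) = (_ • _ - _ * ssContr R r j _) * η + _ • (_ * ssContr R r j η)
    rw [ih, sub_mul, smul_mul_assoc, mul_add, mul_smul_comm, pow_succ, mul_assoc, mul_assoc]
    simp only [mul_neg, mul_one, neg_smul]
    abel

theorem mul_eq_zero {a b : ℕ} (h : r < a + b) (e : Fin a → (Fin r → R)) (f : Fin b → (Fin r → R)) :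
    ExteriorAlgebra.ιMulti R a e * ExteriorAlgebra.ιMulti R b f = 0 := by
  have h0 : ExteriorAlgebra.ιMulti R (a + b) (M := Fin r → R) = 0 :=
    (Pi.basisFun R (Fin r)).ext_alternating fun v hv => absurd (Fintype.card_le_of_injective v hv) (by simp; omega)
  have h1 := congrArg (fun g => g (Fin.append e f)) h0
  simp only [AlternatingMap.zero_apply, ExteriorAlgebra.ιMulti_apply] at h1 ⊢
  rw [← h1, ← List.prod_append, ← List.ofFn_fin_append]
  congr 2
  funext i
  refine Fin.addCases (fun i => ?_) (fun i => ?_) i <;> simp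

theorem pair_tmul {N : Type v} [AddCommGroup N] [Module R N] (β : N →ₗ[R] N →ₗ[R] R) (k : ℕ)
    (a b : SSB R r) (n m : N) :
    ssPair R r N β k (a ⊗ₜ[R] n) (b ⊗ₜ[R] m) = ((-1 : R) ^ k.choose 2) • (β n m • (a * b)) := by
  simp [ssPair, ssPairAux]

theorem delta_adjoint {N : Type v} [AddCommGroup N] [Module R N]
    (φ : Fin r → (N →ₗ[R] N)) (β : N →ₗ[R] N →ₗ[R] R)
    (hβ : ∀ (j : Fin r) (n m : N), β (φ j n) m = β n (φ j m))
    (k : ℕ) (hk : k < r)
    (e : Fin (k + 1) → (Fin r → R)) (f : Fin (r - k) → (Fin r → R))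
    (s t : MvPolynomial (Fin r) R) (n m : N) :
    ssPair R r N β k (ssDelta R r N φ ((ExteriorAlgebra.ιMulti R (k + 1) e ⊗ₜ[R] s) ⊗ₜ[R] n))
        ((ExteriorAlgebra.ιMulti R (r - k) f ⊗ₜ[R] t) ⊗ₜ[R] m) =
      ssPair R r N β (k + 1) ((ExteriorAlgebra.ιMulti R (k + 1) e ⊗ₜ[R] s) ⊗ₜ[R] n)
        (ssDelta R r N φ ((ExteriorAlgebra.ιMulti R (r - k) f ⊗ₜ[R] t) ⊗ₜ[R] m)) := by
  set ω := ExteriorAlgebra.ιMulti R (k + 1) e
  set η := ExteriorAlgebra.ιMulti R (r - k) f
  have key : ∀ j, ssContr R r j ω * η = ((-1 : R) ^ k) • (ω * ssContr R r j η) := fun j => by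
    have h := contr_mul j (k + 1) e η
    rw [mul_eq_zero (show r < k + 1 + (r - k) by omega) e f, map_zero, pow_succ, mul_neg, mul_one, neg_smul,
      ← sub_eq_add_neg] at h
    exact sub_eq_zero.1 h.symm
  have hsign : (-1 : R) ^ (k + 1).choose 2 = (-1 : R) ^ k.choose 2 * (-1 : R) ^ k := by
    rw [← pow_add, Nat.choose_succ_succ', Nat.choose_one_right, add_comm]
  simp only [ssDelta, LinearMap.sum_apply, LinearMap.add_apply, LinearMap.smul_apply, map_sum, map_add, map_smul,
    ssDKoszul, ssDAct, TensorProduct.map_tmul, LinearMap.id_apply, pair_tmul, LinearMap.mulLeft_apply,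
    Algebra.TensorProduct.tmul_mul_tmul, hsign, hβ]
  refine Finset.sum_congr rfl fun j _ => ?_
  rw [key j, mul_left_comm s (MvPolynomial.X j) t, mul_assoc (MvPolynomial.X j) s t]
  simp only [← TensorProduct.smul_tmul', smul_smul]
  module

end BlowRegLib.SchejaStorch
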