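import Mathlib.LinearAlgebra.Matrix.Rank
import Mathlib.LinearAlgebra.Matrix.NonsingularInverse
import Mathlib.LinearAlgebra.Matrix.ToLin
import Mathlib.Data.Finset.Sort

/-!
# Schubert conditions in terms of vanishing minors
-/

set_option autoImplicit false
universe u

open Matrix Finset Module

noncomputable section

namespace BlowRegLib.SchubertMinor

variable {K : Type u} [Field K] {n d : ℕ} (A : Matrix (Fin d) (Fin n) K)

/-- The columns of index at least `j`. -/
def tailCols (j : ℕ) : Matrix (Fin d) {l : Fin n // j ≤ (l : ℕ)} K := A.submatrix id Subtype.val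

theorem finrank_inf (hA : LinearIndependent K (fun i : Fin d => A i)) (j : ℕ) (V : Submodule K (Fin n → K))
    (hV : ∀ v : Fin n → K, v ∈ V ↔ ∀ l : Fin n, j ≤ (l : ℕ) → v l = 0) :
    finrank K ↥(Submodule.span K (Set.range fun i : Fin d => A i) ⊓ V) + (tailCols A j).rank = d := by
  have hsp : Submodule.span K (Set.range fun i : Fin d => A i) = LinearMap.range A.vecMulLinear :=
    (range_vecMulLinear A).symm
  have hinj : Function.Injective A.vecMulLinear := Matrix.vecMul_injective_iff.2 hA
  have hker : LinearMap.ker (tailCols A j).vecMulLinear = V.comap A.vecMulLinear := by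
    ext c
    rw [LinearMap.mem_ker, Submodule.mem_comap, hV]
    exact ⟨fun h l hl => congrFun h ⟨l, hl⟩, fun h => funext fun l => h l.1 l.2⟩
  have h2 : (LinearMap.ker (tailCols A j).vecMulLinear).map A.vecMulLinear =
      Submodule.span K (Set.range fun i : Fin d => A i) ⊓ V := by
    rw [hker, Submodule.map_comap_eq, hsp]
  rw [← h2, (Submodule.equivMapOfInjective _ hinj _).finrank_eq.symm]
  have h3 := LinearMap.finrank_range_add_finrank_ker (tailCols A j).vecMulLinear
  have h4 : finrank K (LinearMap.range (tailCols A j).vecMulLinear) = (tailCols A j).rank := by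
    rw [range_vecMulLinear, rank_eq_finrank_span_row]
  rw [h4, finrank_fin_fun] at h3
  omega

theorem rank_ge_of_indep {J : Fin d → Fin n} (hJ : StrictMono J) (hdet : (A.submatrix id J).det ≠ 0)
    (i : Fin d) (j : ℕ) (hij : j ≤ (J i : ℕ)) : d ≤ (tailCols A j).rank + i := by
  have hcol : LinearIndependent K (A.submatrix id J).col :=
    linearIndependent_cols_iff_isUnit.2 ((Matrix.isUnit_iff_isUnit_det _).2 (isUnit_iff_ne_zero.2 hdet))
  let S : Type := {m : Fin d // i ≤ m}
  have hS : LinearIndependent K (fun m : S => (A.submatrix id J).col m.1) := hcol.comp _ Subtype.val_injective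
  have hle : Submodule.span K (Set.range fun m : S => (A.submatrix id J).col m.1) ≤
      Submodule.span K (Set.range (tailCols A j).col) := by
    refine Submodule.span_mono ?_
    rintro _ ⟨m, rfl⟩
    exact ⟨⟨J m.1, hij.trans (hJ.monotone m.2)⟩, rfl⟩
  have h1 := Submodule.finrank_mono hle
  rw [finrank_span_eq_card hS, ← rank_eq_finrank_span_cols] at h1
  have h2 : Fintype.card S = d - i := by
    rw [Fintype.card_subtype, show ({x | i ≤ x} : Finset (Fin d)) = Finset.Ici i by ext; simp, Fin.card_Ici]
  omega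

theorem exists_minor (hA : LinearIndependent K (fun i : Fin d => A i)) (i : Fin d) (j : ℕ)
    (h : d ≤ (tailCols A j).rank + i) :
    ∃ J : Fin d → Fin n, StrictMono J ∧ j ≤ (J i : ℕ) ∧ (A.submatrix id J).det ≠ 0 := by
  classical
  let S : Set (Fin n) := {l | j ≤ (l : ℕ)}
  obtain ⟨b, hbS, -, hbspan, hb⟩ := exists_linearIndepOn_extension (v := A.col)
    (linearIndependent_empty_type : LinearIndepOn K A.col (∅ : Set (Fin n))) (Set.empty_subset S)
  obtain ⟨c, -, hbc, hcspan, hc⟩ := exists_linearIndepOn_extension hb (Set.subset_univ b)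
  have hcard : ∀ (t : Set (Fin n)), LinearIndepOn K A.col t →
      finrank K (Submodule.span K (A.col '' t)) = t.toFinset.card := by
    intro t ht
    have h1 := finrank_span_eq_card (R := K) (b := fun x : t => A.col x) ht
    rw [Set.image_eq_range, Set.toFinset_card]
    exact h1
  have hb' : d ≤ b.toFinset.card + i := by
    rw [← hcard b hb]
    refine h.trans (Nat.add_le_add_right ?_ _)
    rw [rank_eq_finrank_span_cols]
    refine Submodule.finrank_mono (Submodule.span_le.2 ?_)
    rintro _ ⟨l, rfl⟩
    exact hbspan ⟨l.1, l.2, rfl⟩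
  have hc' : c.toFinset.card = d := by
    rw [← hcard c hc]
    have h1 : A.rank = d := by
      rw [rank_eq_finrank_span_row]
      exact (finrank_span_eq_card hA).trans (Fintype.card_fin d)
    refine le_antisymm ((Submodule.finrank_le _).trans (finrank_fin_fun K).le) ?_
    refine h1.ge.trans ?_
    rw [rank_eq_finrank_span_cols]
    refine Submodule.finrank_mono (Submodule.span_le.2 ?_)
    rintro _ ⟨l, rfl⟩
    exact hcspan ⟨l, trivial, rfl⟩
  let J := c.toFinset.orderEmbOfFin hc'
  refine ⟨J, J.strictMono, ?_, ?_⟩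
  · by_contra hlt
    have hsub : (Finset.Iic i).image J ⊆ c.toFinset \ b.toFinset := by
      intro x hx
      obtain ⟨m, hm, rfl⟩ := Finset.mem_image.1 hx
      refine Finset.mem_sdiff.2 ⟨Finset.orderEmbOfFin_mem _ _ _, fun hb => hlt ?_⟩
      exact le_trans (hbS (Set.mem_toFinset.1 hb)) (J.monotone (Finset.mem_Iic.1 hm))
    have h1 := Finset.card_le_card hsub
    rw [Finset.card_image_of_injective _ J.injective, Fin.card_Iic,
      Finset.card_sdiff_of_subset (Set.toFinset_mono hbc), hc'] at h1
    omega
  · refine isUnit_iff_ne_zero.1 ((Matrix.isUnit_iff_isUnit_det _).1 (linearIndependent_cols_iff_isUnit.1 ?_))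
    exact LinearIndependent.comp hc (fun m => (⟨J m, Set.mem_toFinset.1 (Finset.orderEmbOfFin_mem _ _ _)⟩ : c))
      fun a b e => J.injective (congrArg (fun x : c => x.1) e)

theorem schubert_iff (V : ℕ → Submodule K (Fin n → K))
    (hV : ∀ (j : ℕ) (v : Fin n → K), v ∈ V j ↔ ∀ l : Fin n, j ≤ (l : ℕ) → v l = 0)
    (lam : Fin d → ℕ) (hA : LinearIndependent K (fun i : Fin d => A i)) :
    (∀ i : Fin d, (i : ℕ) + 1 ≤
        Module.finrank K ↥(Submodule.span K (Set.range fun i : Fin d => A i) ⊓
          V (n - d + ((i : ℕ) + 1) - lam i))) ↔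
      ∀ J : Fin d → Fin n, StrictMono J →
        (∃ i : Fin d, n - d + ((i : ℕ) + 1) - lam i < (J i : ℕ) + 1) →
          (A.submatrix id J).det = 0 := by
  constructor
  · rintro h J hJ ⟨i, hi⟩
    by_contra hdet
    have h1 := rank_ge_of_indep A hJ hdet i _ (Nat.lt_succ_iff.1 hi)
    have h2 := finrank_inf A hA _ _ (hV (n - d + ((i : ℕ) + 1) - lam i))
    have := h i
    omega
  · intro h i
    by_contra hlt
    have h2 := finrank_inf A hA _ _ (hV (n - d + ((i : ℕ) + 1) - lam i))
    obtain ⟨J, hJ, hij, hdet⟩ := exists_minor A hA i (n - d + ((i : ℕ) + 1) - lam i) (by omega)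
    exact hdet (h J hJ ⟨i, Nat.lt_succ_iff.2 hij⟩)

end BlowRegLib.SchubertMinor
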