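import Groth.Prelude.Def_W4c2movlemaddchowShuffle
import Mathlib.Algebra.MonoidAlgebra.Basic
import Mathlib.Data.Fin.Tuple.Sort
import Mathlib.GroupTheory.Perm.Sign
import Mathlib.Algebra.BigOperators.Group.Finset.Sigma
import Mathlib.Logic.Equiv.Fin.Basic

/-!
# Associativity of signed shuffle sums
-/

set_option autoImplicit false

open Equiv W4c2movlemaddchow

noncomputable section

namespace BlowRegLib.ShuffleSum

variable {a N : ℕ}

theorem sum_factor (e : Fin a → Fin N) (E : Perm (Fin a) → Perm (Fin N)) (he : Function.Injective e)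
    (hE : ∀ σ i, E σ (e i) = e (σ i))
    (hsign : ∀ σ, Perm.sign (E σ) = Perm.sign σ)
    (A C : Perm (Fin N) → Prop) (B : Perm (Fin a) → Prop) [DecidablePred A] [DecidablePred B] [DecidablePred C]
    (Q : Perm (Fin N) → Prop) (hA : ∀ τ, A τ ↔ Monotone (fun i => τ (e i)) ∧ Q τ)
    (hC : ∀ τ σ, Monotone (fun i => τ (e i)) → (C (τ * E σ) ↔ Q τ ∧ B σ)) :
    (∑ ν ∈ Finset.univ.filter C, MonoidAlgebra.single ν (((Perm.sign ν : ℤˣ) : ℤ))) =
      ∑ τ ∈ Finset.univ.filter A, ∑ σ ∈ Finset.univ.filter B,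
        MonoidAlgebra.single (τ * E σ) (((Perm.sign τ : ℤˣ) : ℤ) * ((Perm.sign σ : ℤˣ) : ℤ)) := by
  rw [← Finset.sum_product']
  symm
  refine Finset.sum_bij (fun p _ => p.1 * E p.2) ?_ ?_ ?_ ?_
  · intro p hp
    simp only [Finset.mem_product, Finset.mem_filter, Finset.mem_univ, true_and] at hp ⊢
    exact (hC _ _ ((hA _).1 hp.1).1).2 ⟨((hA _).1 hp.1).2, hp.2⟩
  · intro p hp q hq h
    simp only [Finset.mem_product, Finset.mem_filter, Finset.mem_univ, true_and] at hp hq
    have hm := ((hA _).1 hp.1).1.strictMono_of_injective (p.1.injective.comp he)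
    have hm' := ((hA _).1 hq.1).1.strictMono_of_injective (q.1.injective.comp he)
    have hv : ∀ i, p.1 (e (p.2 i)) = q.1 (e (q.2 i)) := fun i => by
      have := congrArg (fun π : Perm (Fin N) => π (e i)) h
      simpa [hE] using this
    have hr : Set.range (fun i => p.1 (e i)) = Set.range (fun i => q.1 (e i)) := by
      ext x
      constructor
      · rintro ⟨i, rfl⟩
        obtain ⟨j, rfl⟩ := p.2.surjective i
        exact ⟨q.2 j, (hv j).symm⟩
      · rintro ⟨i, rfl⟩
        obtain ⟨j, rfl⟩ := q.2.surjective i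
        exact ⟨p.2 j, hv j⟩
    have heq := (hm.range_inj hm').1 hr
    have hσ : p.2 = q.2 := Equiv.ext fun i => hm'.injective ((congrFun heq _).symm.trans (hv i))
    refine Prod.ext (mul_right_cancel (b := E p.2) ?_) hσ
    exact h.trans (by rw [hσ])
  · intro ν hν
    simp only [Finset.mem_filter, Finset.mem_univ, true_and] at hν
    let σ : Perm (Fin a) := (Tuple.sort fun i => ν (e i))⁻¹
    let τ : Perm (Fin N) := ν * (E σ)⁻¹
    have hτe : ∀ i, τ (e i) = ν (e (σ⁻¹ i)) := fun i => by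
      have h2 : E σ (e (σ⁻¹ i)) = e i := by rw [hE]; simp
      show ν ((E σ)⁻¹ (e i)) = _
      exact congrArg ν ((E σ).symm_apply_eq.2 h2.symm)
    have hmono : Monotone (fun i => τ (e i)) := by
      simp only [hτe, σ, inv_inv]
      exact Tuple.monotone_sort (fun i => ν (e i))
    have hν' : τ * E σ = ν := inv_mul_cancel_right _ _
    have h3 := (hC τ σ hmono).1 (by rw [hν']; exact hν)
    exact ⟨(τ, σ), by simp [hA, hmono, h3.1, h3.2], hν'⟩
  · intro p _
    rw [Perm.sign_mul, hsign, Units.val_mul]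

theorem first_half (r s t : ℕ) :
    ((∑ ν ∈ Finset.univ.filter (IsShuffle₃ r s t),
        MonoidAlgebra.single ν (((Perm.sign ν : ℤˣ) : ℤ)) :
          MonoidAlgebra ℤ (Perm (Fin (r + s + t)))) =
      ∑ τ ∈ Finset.univ.filter (IsShuffle₂ (r + s) t),
        ∑ σ ∈ Finset.univ.filter (IsShuffle₂ r s),
          MonoidAlgebra.single (τ * extRight (r + s) t σ)
            (((Perm.sign τ : ℤˣ) : ℤ) * ((Perm.sign σ : ℤˣ) : ℤ))) := by
  refine sum_factor (Fin.castAdd t) (extRight (r + s) t) (Fin.castAdd_injective _ _) ?_ ?_ _ _ _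
    (fun τ => Monotone fun l : Fin t => τ (Fin.natAdd (r + s) l)) (fun τ => Iff.rfl) ?_
  · intro σ i
    simp [extRight]
  · intro σ
    simp [extRight, Perm.sign_sumCongr, ← Perm.one_def]
  · intro τ σ hm
    have hs := hm.strictMono_of_injective (τ.injective.comp (Fin.castAdd_injective _ _))
    have e1 : ∀ i, (τ * extRight (r + s) t σ) (Fin.castAdd t i) = τ (Fin.castAdd t (σ i)) := fun i => by
      simp [extRight]
    have e2 : ∀ l, (τ * extRight (r + s) t σ) (Fin.natAdd (r + s) l) = τ (Fin.natAdd (r + s) l) := fun l => by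
      simp [extRight]
    simp only [IsShuffle₃, IsShuffle₂, e1, e2]
    constructor
    · rintro ⟨h1, h2, h3⟩
      exact ⟨h3, fun i j h => hs.le_iff_le.1 (h1 h), fun i j h => hs.le_iff_le.1 (h2 h)⟩
    · rintro ⟨h3, h1, h2⟩
      exact ⟨fun i j h => hm (h1 h), fun i j h => hm (h2 h), h3⟩

theorem second_half (r s t : ℕ) :
    ((∑ ν ∈ Finset.univ.filter (IsShuffle₃ r s t),
        MonoidAlgebra.single ν (((Perm.sign ν : ℤˣ) : ℤ)) :
          MonoidAlgebra ℤ (Perm (Fin (r + s + t)))) =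
      ∑ τ ∈ Finset.univ.filter (fun τ : Perm (Fin (r + s + t)) =>
          IsShuffle₂ r (s + t) ((finCongr (Nat.add_assoc r s t)).permCongr τ)),
        ∑ σ ∈ Finset.univ.filter (IsShuffle₂ s t),
          MonoidAlgebra.single (τ * extLeft r s t σ)
            (((Perm.sign τ : ℤˣ) : ℤ) * ((Perm.sign σ : ℤˣ) : ℤ))) := by
  let c := finCongr (Nat.add_assoc r s t)
  refine sum_factor (fun i => c.symm (Fin.natAdd r i)) (extLeft r s t)
    (c.symm.injective.comp (Fin.natAdd_injective _ _)) ?_ ?_ _ _ _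
    (fun τ => Monotone fun i : Fin r => τ (c.symm (Fin.castAdd (s + t) i))) (fun τ => ?_) ?_
  · intro σ i
    simp [extLeft, c]
  · intro σ
    simp [extLeft, Perm.sign_sumCongr, ← Perm.one_def]
  · simp only [IsShuffle₂, Equiv.permCongr_apply, Monotone, c, finCongr_apply, finCongr_symm, Fin.le_def,
      Fin.val_cast]
    exact and_comm
  · intro τ σ hm
    have hs := hm.strictMono_of_injective (τ.injective.comp (c.symm.injective.comp (Fin.natAdd_injective _ _)))
    have e1 : ∀ i : Fin r, (τ * extLeft r s t σ) (Fin.castAdd t (Fin.castAdd s i)) =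
        τ (c.symm (Fin.castAdd (s + t) i)) := fun i => by
      have h : Fin.castAdd t (Fin.castAdd s i) = c.symm (Fin.castAdd (s + t) i) := Fin.ext rfl
      rw [h]
      simp [extLeft, c]
    have e2 : ∀ j : Fin s, (τ * extLeft r s t σ) (Fin.castAdd t (Fin.natAdd r j)) =
        τ (c.symm (Fin.natAdd r (σ (Fin.castAdd t j)))) := fun j => by
      have h : Fin.castAdd t (Fin.natAdd r j) = c.symm (Fin.natAdd r (Fin.castAdd t j)) := Fin.ext rfl
      rw [h]
      simp [extLeft, c]
    have e3 : ∀ l : Fin t, (τ * extLeft r s t σ) (Fin.natAdd (r + s) l) =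
        τ (c.symm (Fin.natAdd r (σ (Fin.natAdd s l)))) := fun l => by
      have h : Fin.natAdd (r + s) l = c.symm (Fin.natAdd r (Fin.natAdd s l)) := Fin.ext (Nat.add_assoc r s l)
      rw [h]
      simp [extLeft, c]
    simp only [IsShuffle₃, IsShuffle₂, e1, e2, e3]
    constructor
    · rintro ⟨h1, h2, h3⟩
      exact ⟨h1, fun i j h => hs.le_iff_le.1 (h2 h), fun i j h => hs.le_iff_le.1 (h3 h)⟩
    · rintro ⟨h1, h2, h3⟩
      exact ⟨h1, fun i j h => hm (h2 h), fun i j h => hm (h3 h)⟩

end BlowRegLib.ShuffleSum
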