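import Groth.Agent.S14280
import Groth.Agent.SpSeqLib.Degenerate
import Groth.Agent.RichLib.TameDiff
import Mathlib.Algebra.Category.ModuleCat.ChangeOfRings
import Mathlib.Algebra.Homology.ShortComplex.ModuleCat
import Mathlib.LinearAlgebra.Eigenspace.Basic
import Mathlib.Algebra.BigOperators.NatAntidiagonal
import Mathlib.Data.Finset.NatAntidiagonal

/-!
# Traces on spectral sequences of vector spaces with an endomorphism
-/

set_option autoImplicit false
set_option linter.unusedSectionVars false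
set_option linter.style.haveILetI false
set_option backward.isDefEq.respectTransparency false
set_option backward.isDefEq.respectTransparency.types false

universe u
open CategoryTheory CategoryTheory.Limits

namespace Groth.Agent.BlowRegLib.SpTrace

noncomputable section

/-- Vector spaces with an endomorphism. -/
abbrev P : Type := Polynomial ℂ

/-- The underlying vector space. -/
abbrev V (M : ModuleCat.{u} P) : ModuleCat.{u} ℂ := (ModuleCat.restrictScalars (algebraMap ℂ P)).obj M

/-- The endomorphism. -/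
abbrev Φ (M : ModuleCat.{u} P) : V M →ₗ[ℂ] V M :=
  ((ModuleCat.restrictScalars (algebraMap ℂ P)).map ((Polynomial.X : P) • 𝟙 M)).hom

/-- The trace. -/
def t (M : ModuleCat.{u} P) : ℂ := LinearMap.trace ℂ (V M) (Φ M)

/-- A map, on the underlying vector spaces. -/
abbrev Vm {M N : ModuleCat.{u} P} (f : M ⟶ N) : V M →ₗ[ℂ] V N :=
  ((ModuleCat.restrictScalars (algebraMap ℂ P)).map f).hom

theorem Φ_comm {M N : ModuleCat.{u} P} (f : M ⟶ N) : Φ N ∘ₗ Vm f = Vm f ∘ₗ Φ M := by
  ext x
  exact (f.hom.map_smul (Polynomial.X : P) x).symm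

/-- Finite dimension, eigenvalues and dimension bounded. -/
def Bd (M : ModuleCat.{u} P) (A : ℝ) (D : ℕ) : Prop :=
  Module.Finite ℂ (V M) ∧ (∀ μ : ℂ, Module.End.HasEigenvalue (Φ M) μ → ‖μ‖ ≤ A) ∧ Module.finrank ℂ (V M) ≤ D

theorem finite_of_mono {M N : ModuleCat.{u} P} (f : M ⟶ N) (hf : Function.Injective f) [Module.Finite ℂ (V N)] :
    Module.Finite ℂ (V M) :=
  Module.Finite.of_injective (Vm f) hf

theorem finite_of_epi {M N : ModuleCat.{u} P} (f : M ⟶ N) (hf : Function.Surjective f) [Module.Finite ℂ (V M)] :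
    Module.Finite ℂ (V N) :=
  Module.Finite.of_surjective (Vm f) hf

theorem Bd.of_injective {M N : ModuleCat.{u} P} (f : M ⟶ N) (hf : Function.Injective f) {A : ℝ} {D : ℕ}
    (h : Bd N A D) : Bd M A D := by
  haveI := h.1
  refine ⟨finite_of_mono f hf, fun μ hμ => h.2.1 μ ?_, (LinearMap.finrank_le_finrank_of_injective (f := Vm f) hf).trans h.2.2⟩
  obtain ⟨x, hx⟩ := hμ.exists_hasEigenvector
  refine Module.End.hasEigenvalue_of_hasEigenvector (x := Vm f x) ⟨Module.End.mem_eigenspace_iff.mpr ?_, fun h0 => hx.2 (hf ?_)⟩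
  · exact (LinearMap.congr_fun (Φ_comm f) x).trans ((congrArg (Vm f) hx.apply_eq_smul).trans ((Vm f).map_smul μ x))
  · exact h0.trans (map_zero (Vm f)).symm

theorem Bd.of_surjective {M N : ModuleCat.{u} P} (f : M ⟶ N) (hf : Function.Surjective f) {A : ℝ} {D : ℕ}
    (h : Bd M A D) : Bd N A D := by
  haveI := h.1
  haveI := finite_of_epi f hf
  refine ⟨inferInstance, fun μ hμ => h.2.1 μ ?_, (LinearMap.finrank_le_finrank_of_surjective (f := Vm f) hf).trans h.2.2⟩
  by_contra hc
  obtain ⟨x, hx⟩ := hμ.exists_hasEigenvector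
  have hinj : Function.Injective (Φ M - μ • (LinearMap.id : V M →ₗ[ℂ] V M)) := by
    rw [injective_iff_map_eq_zero]
    intro m hm
    by_contra hm0
    exact hc (Module.End.hasEigenvalue_of_hasEigenvector (x := m)
      ⟨Module.End.mem_eigenspace_iff.mpr (sub_eq_zero.mp hm), hm0⟩)
  have hsurj := LinearMap.injective_iff_surjective.mp hinj
  have hN : Function.Surjective (Φ N - μ • (LinearMap.id : V N →ₗ[ℂ] V N)) := fun n => by
    obtain ⟨m, rfl⟩ := hf n
    obtain ⟨m', rfl⟩ := hsurj m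
    refine ⟨Vm f m', ?_⟩
    show Φ N (Vm f m') - μ • Vm f m' = Vm f (Φ M m' - μ • m')
    rw [map_sub, map_smul]
    exact congrArg (· - _) (LinearMap.congr_fun (Φ_comm f) m')
  refine hx.2 (LinearMap.injective_iff_surjective.mpr hN ?_)
  rw [map_zero]
  exact sub_eq_zero.mpr hx.apply_eq_smul

theorem Bd.of_iso {M N : ModuleCat.{u} P} (e : M ≅ N) {A : ℝ} {D : ℕ} (h : Bd M A D) : Bd N A D :=
  h.of_surjective e.hom e.toLinearEquiv.surjective

theorem finite_of_extension {U M Q : ModuleCat.{u} P} (i : U ⟶ M) (p : M ⟶ Q) (hi : Function.Injective i)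
    (hex : ∀ x, p x = 0 ↔ ∃ y, i y = x) [Module.Finite ℂ (V U)] [Module.Finite ℂ (V Q)] :
    Module.Finite ℂ (V M) := by
  haveI : Module.Finite ℂ (LinearMap.ker (Vm p)) := by
    have he : LinearMap.ker (Vm p) = LinearMap.range (Vm i) :=
      Submodule.ext fun x => LinearMap.mem_ker.trans ((hex x).trans LinearMap.mem_range.symm)
    rw [he]
    exact Module.Finite.range _
  haveI : Module.Finite ℂ (V M ⧸ LinearMap.ker (Vm p)) :=
    Module.Finite.equiv (LinearMap.quotKerEquivRange (Vm p)).symm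
  exact Module.Finite.of_submodule_quotient (LinearMap.ker (Vm p))

theorem t_add {U M Q : ModuleCat.{u} P} (i : U ⟶ M) (p : M ⟶ Q) (hi : Function.Injective i)
    (hp : Function.Surjective p) (hex : ∀ x, p x = 0 ↔ ∃ y, i y = x) [Module.Finite ℂ (V M)] :
    t M = t U + t Q :=
  RichLib.TameDiff.trace_eq_add_of_exact (Vm i) (Vm p) hi hp
    (Submodule.ext fun x => LinearMap.mem_range.trans ((hex x).symm.trans LinearMap.mem_ker.symm))
    (Φ M) (Φ U) (Φ Q) (Φ_comm i) (Φ_comm p).symm

theorem t_eq_zero_of_subsingleton (M : ModuleCat.{u} P) [Subsingleton M] : t M = 0 := by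
  haveI : Subsingleton (V M) := ‹Subsingleton M›
  rw [t, show Φ M = 0 from Subsingleton.elim _ _, map_zero]

theorem t_of_iso {M N : ModuleCat.{u} P} (e : M ≅ N) [Module.Finite ℂ (V M)] : t M = t N := by
  have h := t_add (U := ModuleCat.of P PUnit.{u + 1}) (ModuleCat.ofHom 0) e.hom (fun _ _ _ => Subsingleton.elim _ _)
    e.toLinearEquiv.surjective (fun x => ?_)
  · rw [t_eq_zero_of_subsingleton (ModuleCat.of P PUnit.{u + 1}), zero_add] at h
    exact h
  · refine ⟨fun hx => ⟨PUnit.unit, ?_⟩, ?_⟩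
    · exact ((map_eq_zero_iff _ e.toLinearEquiv.injective).mp hx).symm
    · rintro ⟨y, rfl⟩
      exact map_zero _

/-- The trace on an image. -/
def tIm {M N : ModuleCat.{u} P} (f : M ⟶ N) : ℂ := t (ModuleCat.of P (LinearMap.range f.hom))

theorem bd_range {M N : ModuleCat.{u} P} (f : M ⟶ N) {A : ℝ} {D : ℕ} (h : Bd M A D) :
    Bd (ModuleCat.of P (LinearMap.range f.hom)) A D :=
  h.of_surjective (ModuleCat.ofHom f.hom.rangeRestrict) f.hom.surjective_rangeRestrict

/-- The subquotient formula. -/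
theorem t_homology (S : ShortComplex (ModuleCat.{u} P)) [Module.Finite ℂ (V S.X₂)] :
    t S.homology = t S.X₂ - tIm S.f - tIm S.g := by
  let Z := ModuleCat.of P (LinearMap.ker S.g.hom)
  haveI : Module.Finite ℂ (V Z) := finite_of_mono (ModuleCat.ofHom (LinearMap.ker S.g.hom).subtype) Subtype.val_injective
  have h1 : t S.X₂ = t Z + tIm S.g :=
    t_add (ModuleCat.ofHom (LinearMap.ker S.g.hom).subtype) (ModuleCat.ofHom S.g.hom.rangeRestrict)
      Subtype.val_injective S.g.hom.surjective_rangeRestrict fun x =>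
        ⟨fun hx => ⟨⟨x, congrArg Subtype.val hx⟩, rfl⟩, by rintro ⟨y, rfl⟩; exact Subtype.ext y.2⟩
  let B := ModuleCat.of P (LinearMap.range S.moduleCatToCycles)
  let H := ModuleCat.of P (LinearMap.ker S.g.hom ⧸ LinearMap.range S.moduleCatToCycles)
  have h2 : t Z = t B + t H :=
    t_add (ModuleCat.ofHom (LinearMap.range S.moduleCatToCycles).subtype)
      (ModuleCat.ofHom (LinearMap.range S.moduleCatToCycles).mkQ) Subtype.val_injective
      (Submodule.mkQ_surjective _) fun x =>
        (Submodule.Quotient.mk_eq_zero _).trans ⟨fun hx => ⟨⟨x, hx⟩, rfl⟩, by rintro ⟨y, rfl⟩; exact y.2⟩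
  haveI : Module.Finite ℂ (V H) := finite_of_epi (ModuleCat.ofHom (LinearMap.range S.moduleCatToCycles).mkQ)
    (Submodule.mkQ_surjective _)
  haveI : Module.Finite ℂ (V B) :=
    finite_of_mono (ModuleCat.ofHom (LinearMap.range S.moduleCatToCycles).subtype) Subtype.val_injective
  let g : B ⟶ ModuleCat.of P (LinearMap.range S.f.hom) := ModuleCat.ofHom
    (((LinearMap.ker S.g.hom).subtype ∘ₗ (LinearMap.range S.moduleCatToCycles).subtype).codRestrict _ fun y => by
      obtain ⟨_, x, rfl⟩ := y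
      exact ⟨x, rfl⟩)
  have hg : Function.Bijective g := by
    refine ⟨fun a b h => Subtype.ext (Subtype.ext (congrArg Subtype.val h :)), ?_⟩
    rintro ⟨_, x, rfl⟩
    exact ⟨⟨S.moduleCatToCycles x, x, rfl⟩, rfl⟩
  have h3 : t B = tIm S.f := t_of_iso (LinearEquiv.ofBijective g.hom hg).toModuleIso
  haveI : Module.Finite ℂ (V S.moduleCatLeftHomologyData.H) := ‹Module.Finite ℂ (V H)›
  haveI : Module.Finite ℂ (V S.homology) := finite_of_epi S.moduleCatHomologyIso.inv
    S.moduleCatHomologyIso.symm.toLinearEquiv.surjective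
  have h4 : t S.homology = t H := t_of_iso S.moduleCatHomologyIso
  rw [h4, h1, h2, h3]
  ring

theorem bd_homology (S : ShortComplex (ModuleCat.{u} P)) {A : ℝ} {D : ℕ} (h : Bd S.X₂ A D) : Bd S.homology A D :=
  ((h.of_injective (ModuleCat.ofHom (LinearMap.ker S.g.hom).subtype) Subtype.val_injective).of_surjective
    (ModuleCat.ofHom (LinearMap.range S.moduleCatToCycles).mkQ) (Submodule.mkQ_surjective _)).of_iso
      S.moduleCatHomologyIso.symm

section Sum

/-- The sign. -/
def sg (pq : ℤ × ℤ) : ℂ := (-1) ^ (pq.1 + pq.2)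

theorem norm_sg (pq : ℤ × ℤ) : ‖sg pq‖ = 1 := by simp [sg]

/-- The places of the first quadrant. -/
def quad (x : ℕ × ℕ) : ℤ × ℤ := ((x.1 : ℤ), (x.2 : ℤ))

theorem quad_injective : Function.Injective quad := fun a b h => by
  simpa [quad, Prod.ext_iff] using h

variable (N : ℕ) (a c : ℕ → ℝ) (b d : ℕ → ℕ)

/-- The boundedness condition. -/
def Cond (M : ℤ × ℤ → ModuleCat.{u} P) : Prop :=
  (∀ pq : ℤ × ℤ, pq.1 < 0 ∨ pq.2 < 0 → Subsingleton (M pq)) ∧
    (∀ pq, Module.Finite ℂ (V (M pq))) ∧ (∀ p q : ℕ, N < q → Subsingleton (M (quad (p, q)))) ∧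
      ∀ p q : ℕ, Bd (M (quad (p, q))) (a q * c p) (b q * d p)

variable {N a c b d} (ha : ∀ q, 0 ≤ a q) (hc : ∀ p, 0 ≤ c p) (hsum : Summable fun p : ℕ => c p * (d p : ℝ))

include ha hc hsum in
theorem summable_t {M : ℤ × ℤ → ModuleCat.{u} P} (h : Cond N a c b d M) : Summable fun pq => ‖t (M pq)‖ := by
  haveI := h.2.1
  have h0 := Groth.Agent.S14280.result (fun p q => V (M (quad (p, q)))) (fun p q => Φ (M (quad (p, q)))) N a c b d ha hc
    (fun p q hq => h.2.2.1 p q hq) (fun p q μ hμ => (h.2.2.2 p q).2.1 μ hμ) (fun p q => (h.2.2.2 p q).2.2) hsum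
  refine (quad_injective.summable_iff fun pq hpq => ?_).mp h0
  haveI := h.1 pq (by
    by_contra hh
    push Not at hh
    exact hpq ⟨(pq.1.toNat, pq.2.toNat), Prod.ext (Int.toNat_of_nonneg hh.1) (Int.toNat_of_nonneg hh.2)⟩)
  rw [t_eq_zero_of_subsingleton, norm_zero]

theorem tsum_quad {M : ℤ × ℤ → ModuleCat.{u} P} (h : Cond N a c b d M) :
    ∑' x : ℕ × ℕ, (-1 : ℂ) ^ (x.1 + x.2) * t (M (quad x)) = ∑' pq, sg pq * t (M pq) := by
  rw [← quad_injective.tsum_eq (f := fun pq => sg pq * t (M pq))]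
  · refine tsum_congr fun x => ?_
    rw [sg]
    simp only [quad, ← Nat.cast_add, zpow_natCast]
  · intro pq hpq
    by_contra hh
    have : pq.1 < 0 ∨ pq.2 < 0 := by
      by_contra h'
      push Not at h'
      exact hh ⟨(pq.1.toNat, pq.2.toNat), Prod.ext (Int.toNat_of_nonneg h'.1) (Int.toNat_of_nonneg h'.2)⟩
    haveI := h.1 pq this
    exact hpq (by simp [t_eq_zero_of_subsingleton])

include ha hc hsum in
theorem summable_sg {M : ℤ × ℤ → ModuleCat.{u} P} (h : Cond N a c b d M) : Summable fun pq => sg pq * t (M pq) :=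
  Summable.of_norm (by simpa [norm_sg] using summable_t ha hc hsum h)

end Sum

section Page

variable {r₀ : ℤ} (E : CohomologicalSpectralSequence (ModuleCat.{u} P) r₀) (r : ℤ) (hr : r₀ ≤ r)
variable {N : ℕ} {a c : ℕ → ℝ} {b d : ℕ → ℕ}

/-- The terms of a page. -/
abbrev pg : ℤ × ℤ → ModuleCat.{u} P := fun pq => (E.page r hr).X pq

/-- The images of the differentials. -/
abbrev img : ℤ × ℤ → ModuleCat.{u} P := fun pq =>
  ModuleCat.of P (LinearMap.range ((E.page r hr).d pq (pq + (r, 1 - r))).hom)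

variable (hr' : r₀ ≤ r + 1)

/-- The next page is the homology. -/
def nextIso (pq : ℤ × ℤ) : ((E.page r hr).sc pq).homology ≅ pg E (r + 1) hr' pq := E.iso r (r + 1) pq rfl hr

theorem cond_img (h : Cond N a c b d (pg E r hr)) : Cond N a c b d (img E r hr) := by
  have hs : ∀ pq, Subsingleton (pg E r hr pq) → Subsingleton (img E r hr pq) := fun pq hh =>
    ((E.page r hr).d pq (pq + (r, 1 - r))).hom.surjective_rangeRestrict.subsingleton
  refine ⟨fun pq hpq => hs pq (h.1 pq hpq), fun pq => ?_, fun p q hq => hs _ (h.2.2.1 p q hq),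
    fun p q => bd_range _ (h.2.2.2 p q)⟩
  haveI := h.2.1 pq
  exact finite_of_epi (ModuleCat.ofHom ((E.page r hr).d pq (pq + (r, 1 - r))).hom.rangeRestrict)
    (LinearMap.surjective_rangeRestrict _)

theorem cond_next (h : Cond N a c b d (pg E r hr)) : Cond N a c b d (pg E (r + 1) hr') := by
  have hs : ∀ pq, Subsingleton (pg E r hr pq) → Subsingleton (pg E (r + 1) hr' pq) := fun pq hh =>
    ModuleCat.subsingleton_of_isZero ((ShortComplex.isZero_homology_of_isZero_X₂ ((E.page r hr).sc pq)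
      (haveI : Subsingleton ((E.page r hr).sc pq).X₂ := hh; ModuleCat.isZero_of_subsingleton _)).of_iso
        (nextIso E r hr hr' pq).symm)
  refine ⟨fun pq hpq => hs pq (h.1 pq hpq), fun pq => ?_, fun p q hq => hs _ (h.2.2.1 p q hq),
    fun p q => (bd_homology ((E.page r hr).sc _) (h.2.2.2 p q)).of_iso (nextIso E r hr hr' _)⟩
  haveI := h.2.1 pq
  let S := (E.page r hr).sc pq
  haveI : Module.Finite ℂ (V S.X₂) := h.2.1 pq
  haveI : Module.Finite ℂ (V (ModuleCat.of P (LinearMap.ker S.g.hom))) :=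
    finite_of_mono (ModuleCat.ofHom (LinearMap.ker S.g.hom).subtype) Subtype.val_injective
  haveI : Module.Finite ℂ (V S.moduleCatLeftHomologyData.H) :=
    finite_of_epi (ModuleCat.ofHom (LinearMap.range S.moduleCatToCycles).mkQ) (Submodule.mkQ_surjective _)
  exact finite_of_epi (S.moduleCatHomologyIso.inv ≫ (nextIso E r hr hr' pq).hom)
    (S.moduleCatHomologyIso.symm ≪≫ nextIso E r hr hr' pq).toLinearEquiv.surjective

theorem t_next (h : Cond N a c b d (pg E r hr)) (pq : ℤ × ℤ) :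
    t (pg E (r + 1) hr' pq) = t (pg E r hr pq) - t (img E r hr (pq - (r, 1 - r))) - t (img E r hr pq) := by
  haveI : Module.Finite ℂ (V ((E.page r hr).sc pq).X₂) := h.2.1 pq
  haveI : Module.Finite ℂ (V ((E.page r hr).sc pq).homology) := by
    haveI := (cond_next E r hr hr' h).2.1 pq
    exact finite_of_epi (nextIso E r hr hr' pq).inv (nextIso E r hr hr' pq).symm.toLinearEquiv.surjective
  rw [← t_of_iso (nextIso E r hr hr' pq), t_homology]
  have hp : (ComplexShape.up' (⟨r, 1 - r⟩ : ℤ × ℤ)).prev pq = pq - (r, 1 - r) :=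
    ComplexShape.prev_eq' _ (by simp)
  have hn : (ComplexShape.up' (⟨r, 1 - r⟩ : ℤ × ℤ)).next pq = pq + (r, 1 - r) :=
    ComplexShape.next_eq' _ (by simp)
  have hf : tIm ((E.page r hr).d ((ComplexShape.up' (⟨r, 1 - r⟩ : ℤ × ℤ)).prev pq) pq) =
      t (img E r hr (pq - (r, 1 - r))) := by
    have : ∀ x y z, x = y → z = pq → tIm ((E.page r hr).d x z) = tIm ((E.page r hr).d y pq) := by
      rintro x _ z rfl rfl
      rfl
    exact (this _ _ _ hp rfl).trans ((this (pq - (r, 1 - r)) (pq - (r, 1 - r)) (pq - (r, 1 - r) + (r, 1 - r)) rfl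
      (sub_add_cancel _ _)).symm.trans rfl)
  have hg : tIm ((E.page r hr).d pq ((ComplexShape.up' (⟨r, 1 - r⟩ : ℤ × ℤ)).next pq)) = t (img E r hr pq) := by
    rw [hn]
    rfl
  change t ((E.page r hr).X pq) - tIm ((E.page r hr).d _ pq) - tIm ((E.page r hr).d pq _) = _
  rw [hf, hg]

theorem tsum_next (ha : ∀ q, 0 ≤ a q) (hc : ∀ p, 0 ≤ c p) (hsum : Summable fun p : ℕ => c p * (d p : ℝ))
    (h : Cond N a c b d (pg E r hr)) :
    ∑' pq, sg pq * t (pg E (r + 1) hr' pq) = ∑' pq, sg pq * t (pg E r hr pq) := by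
  have h1 := summable_sg ha hc hsum h
  have h3 := summable_sg ha hc hsum (cond_img E r hr h)
  let e : ℤ × ℤ ≃ ℤ × ℤ := Equiv.subRight (r, 1 - r)
  have hsg : ∀ pq : ℤ × ℤ, sg pq = -sg (e pq) := fun pq => by
    simp only [e, sg, Equiv.subRight_apply, Prod.fst_sub, Prod.snd_sub]
    rw [show pq.1 + pq.2 = (pq.1 - r + (pq.2 - (1 - r))) + 1 by ring, zpow_add₀ (by norm_num), zpow_one]
    ring
  have h2 : Summable fun pq => sg pq * t (img E r hr (pq - (r, 1 - r))) := by
    refine (((e.summable_iff).mpr h3).neg).congr fun pq => ?_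
    simp only [Function.comp_apply, hsg pq, e, Equiv.subRight_apply, neg_mul]
  simp only [t_next E r hr hr' h, mul_sub]
  rw [(h1.sub h2).tsum_sub h3, h1.tsum_sub h2]
  have h4 : ∑' pq, sg pq * t (img E r hr (pq - (r, 1 - r))) = -∑' pq, sg pq * t (img E r hr pq) := by
    rw [← tsum_neg, ← e.tsum_eq (fun pq => -(sg pq * t (img E r hr pq)))]
    exact tsum_congr fun pq => by simp only [hsg pq, e, Equiv.subRight_apply, neg_mul]
  rw [h4]
  ring

end Page

section Abut

variable {E : E₂CohomologicalSpectralSequence (ModuleCat.{u} P)} {N : ℕ} {a c : ℕ → ℝ} {b d : ℕ → ℕ}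
variable (ha : ∀ q, 0 ≤ a q) (hc : ∀ p, 0 ≤ c p) (hsum : Summable fun p : ℕ => c p * (d p : ℝ))
  (h : Cond N a c b d (pg E 2 le_rfl))

include ha hc hsum h in
theorem cond_page (k : ℤ) (hk : 2 ≤ k) : Cond N a c b d (pg E k hk) ∧
    ∑' pq, sg pq * t (pg E k hk pq) = ∑' pq, sg pq * t (pg E 2 le_rfl pq) := by
  induction k, hk using Int.leInduction with
  | base => exact ⟨h, rfl⟩
  | succ k hk ih => exact ⟨cond_next E k hk (by omega) ih.1, (tsum_next E k hk (by omega) ha hc hsum ih.1).trans ih.2⟩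

include ha hc hsum h in
theorem stationary (pq : ℤ × ℤ) : SpSeq.StationaryAt E pq ((N : ℤ) + 2) := by
  refine ⟨by omega, fun k h₀ hk => ?_⟩
  have hc' := (cond_page ha hc hsum h k h₀).1
  have key : ∀ x y : ℤ × ℤ, x + (k, 1 - k) = y → (E.page k h₀).d x y = 0 := by
    intro x y hxy
    have hy : y.2 = x.2 + (1 - k) := by rw [← hxy]; rfl
    by_cases hx : x.1 < 0 ∨ x.2 < 0
    · haveI := hc'.1 x hx
      exact (ModuleCat.isZero_of_subsingleton _).eq_of_src _ _
    · by_cases hN : (N : ℤ) < x.2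
      · obtain ⟨p, hp⟩ := Int.eq_ofNat_of_zero_le (show (0 : ℤ) ≤ x.1 by omega)
        obtain ⟨q, hq⟩ := Int.eq_ofNat_of_zero_le (show (0 : ℤ) ≤ x.2 by omega)
        haveI : Subsingleton (pg E k h₀ x) := by
          rw [show x = quad (p, q) from Prod.ext hp hq]
          exact hc'.2.2.1 p q (by omega)
        exact (ModuleCat.isZero_of_subsingleton _).eq_of_src _ _
      · haveI := hc'.1 y (Or.inr (by omega))
        exact (ModuleCat.isZero_of_subsingleton _).eq_of_tgt _ _
  exact ⟨key _ _ (sub_add_cancel _ _), key _ _ rfl⟩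

variable {H : ℤ → ModuleCat.{u} P} (ab : SpSeq.Abutment E H)

include ha hc hsum h in
theorem t_abut (n : ℤ) (hfin : ab.IsFinite n) :
    t (H n) = ∑ p ∈ Finset.Icc (0 : ℤ) n, t (pg E ((N : ℤ) + 2) (by omega) (p, n - p)) := by
  classical
  let M := pg E ((N : ℤ) + 2) (by omega)
  have hM : Cond N a c b d M := (cond_page ha hc hsum h ((N : ℤ) + 2) (by omega)).1
  let G : ℤ → ModuleCat.{u} P := fun p => SpSeq.grPiece (ab.fil n) (ab.anti n) p
  have eG : ∀ p, Nonempty (M (p, n - p) ≅ G p) := fun p => by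
    have h' : ∀ m, m = n → ∀ (e : (E.page (ab.rk (p, n - p)) (ab.stat (p, n - p)).1).X (p, n - p) ≅
        SpSeq.grPiece (ab.fil m) (ab.anti m) p), Nonempty ((E.page (ab.rk (p, n - p)) (ab.stat (p, n - p)).1).X (p, n - p) ≅ G p) := by
      rintro m rfl e
      exact ⟨e⟩
    obtain ⟨eβ⟩ := h' _ (by simp) (ab.β (p, n - p))
    let st := stationary ha hc hsum h (p, n - p)
    obtain ⟨e1⟩ := SpSeqLib.nonempty_page_iso_of_stationary E _ _ (ab.stat (p, n - p)) (max (ab.rk (p, n - p)) ((N : ℤ) + 2))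
      (le_max_left _ _)
    obtain ⟨e2⟩ := SpSeqLib.nonempty_page_iso_of_stationary E _ _ st (max (ab.rk (p, n - p)) ((N : ℤ) + 2))
      (le_max_right _ _)
    exact ⟨e2.symm ≪≫ e1 ≪≫ eβ⟩
  let F : ℤ → ModuleCat.{u} P := fun p => (ab.fil n p : ModuleCat.{u} P)
  let i : ∀ p, F (p + 1) ⟶ F p := fun p => (ab.fil n (p + 1)).ofLE (ab.fil n p) (ab.anti n (Int.le_add_one le_rfl))
  have hi : ∀ p, Function.Injective (i p) := fun p => (ModuleCat.mono_iff_injective _).mp inferInstance
  have hp' : ∀ p, Function.Surjective (cokernel.π (i p)) := fun p => (ModuleCat.epi_iff_surjective _).mp inferInstance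
  have hex : ∀ p x, cokernel.π (i p) x = 0 ↔ ∃ y, i p y = x := fun p x => by
    have := (ShortComplex.moduleCat_exact_iff_range_eq_ker _).mp
      (ShortComplex.exact_of_g_is_cokernel (ShortComplex.mk (i p) (cokernel.π (i p)) (cokernel.condition _))
        (cokernelIsCokernel _))
    exact (SetLike.ext_iff.mp this x).symm.trans LinearMap.mem_range
  obtain ⟨⟨A, hA⟩, B, hB⟩ := hfin
  change ab.fil n A = ⊤ at hA
  change ab.fil n B = ⊥ at hB
  have hG : ∀ p, Module.Finite ℂ (V (G p)) := fun p => by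
    haveI := hM.2.1 (p, n - p)
    exact finite_of_epi (eG p).some.hom (eG p).some.toLinearEquiv.surjective
  have hz : ∀ p ≥ B, Subsingleton (F p) := fun p hp => by
    have : ab.fil n p = ⊥ := le_bot_iff.1 (hB ▸ ab.anti n hp)
    change Subsingleton (ab.fil n p : ModuleCat.{u} P)
    rw [this]
    exact ModuleCat.subsingleton_of_isZero ((isZero_zero _).of_iso (Subobject.botCoeIsoZero (B := H n)))
  have hF : ∀ (k : ℕ) p, B ≤ p + k → Module.Finite ℂ (V (F p)) := by
    intro k
    induction k with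
    | zero =>
      intro p hp
      haveI := hz p (by simpa using hp)
      haveI : Subsingleton (V (F p)) := ‹Subsingleton (F p)›
      exact Module.Finite.of_finite
    | succ k ih =>
      intro p hp
      haveI := ih (p + 1) (by push_cast at hp ⊢; omega)
      haveI := hG p
      exact finite_of_extension (U := F (p + 1)) (Q := G p) (i p) (cokernel.π (i p)) (hi p) (hex p)
  have hstep : ∀ p, t (F p) = t (F (p + 1)) + t (M (p, n - p)) := fun p => by
    haveI := hF (B - p).toNat p (by omega)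
    haveI := hM.2.1 (p, n - p)
    rw [t_of_iso (eG p).some]
    exact t_add (i p) (cokernel.π (i p)) (hi p) (hp' p) (hex p)
  let L := min A 0
  have htel : ∀ k : ℕ, t (F L) = (∑ j ∈ Finset.range k, t (M (L + j, n - (L + j)))) + t (F (L + k)) := by
    intro k
    induction k with
    | zero => simp
    | succ k ih =>
      rw [ih, hstep (L + k), Finset.sum_range_succ]
      push_cast
      rw [← add_assoc L]
      ring
  let k := (max B (n + 1) - L).toNat
  haveI := hz (L + k) (by omega)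
  have hk := htel k
  rw [t_eq_zero_of_subsingleton (F (L + k)), add_zero] at hk
  haveI := hF (B - L).toNat L (by omega)
  have hTop : t (F L) = t (H n) := by
    have : ab.fil n L = ⊤ := top_le_iff.1 (hA ▸ ab.anti n (min_le_left _ _))
    haveI : IsIso (ab.fil n L).arrow := by rw [this]; infer_instance
    exact t_of_iso (asIso (ab.fil n L).arrow)
  rw [← hTop, hk, ← Finset.sum_filter_add_sum_filter_not (Finset.range k) (fun j : ℕ => 0 ≤ L + j ∧ L + j ≤ n),
    Finset.sum_eq_zero (s := Finset.filter (fun j : ℕ => ¬ _) _) (fun j hj => by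
      have hj' := (Finset.mem_filter.1 hj).2
      haveI := hM.1 (L + j, n - (L + j)) (by simp only; omega)
      exact t_eq_zero_of_subsingleton _), add_zero]
  refine Finset.sum_nbij' (fun j => L + j) (fun s => (s - L).toNat) ?_ ?_ ?_ ?_ ?_
  · intro j hj; simp at hj ⊢; omega
  · intro s hs; simp at hs ⊢; omega
  · intro j hj; simp
  · intro s hs; simp at hs ⊢; omega
  · intro j hj; rfl

include ha hc hsum h in
theorem main (hfin : ∀ n, ab.IsFinite n) :
    Summable (fun n : ℕ => ‖t (H n)‖) ∧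
      ∑' n : ℕ, (-1 : ℂ) ^ n * t (H n) = ∑' x : ℕ × ℕ, (-1 : ℂ) ^ (x.1 + x.2) * t (pg E 2 le_rfl (quad x)) := by
  classical
  have hM := cond_page ha hc hsum h ((N : ℤ) + 2) (by omega)
  set M := pg E ((N : ℤ) + 2) (by omega) with hMdef
  have hnorm : Summable fun x : ℕ × ℕ => ‖t (M (quad x))‖ :=
    (summable_t ha hc hsum hM.1).comp_injective quad_injective
  have hH : ∀ n : ℕ, t (H n) = ∑ x ∈ Finset.HasAntidiagonal.antidiagonal n, t (M (quad x)) := fun n => by
    rw [t_abut ha hc hsum h ab n (hfin n)]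
    refine Finset.sum_nbij' (fun p => (p.toNat, n - p.toNat)) (fun x => (x.1 : ℤ)) ?_ ?_ ?_ ?_ ?_
    · intro p hp; simp at hp ⊢; omega
    · intro x hx; simp at hx ⊢; omega
    · intro p hp; simp at hp ⊢; omega
    · intro x hx; simp at hx ⊢; ext <;> simp <;> omega
    · intro p hp
      simp at hp
      refine congrArg (fun z => t (M z)) (Prod.ext ?_ ?_) <;> simp [quad] <;> omega
  let e := Finset.HasAntidiagonal.sigmaAntidiagonalEquivProd (A := ℕ)
  have hsig := (e.summable_iff (f := fun x : ℕ × ℕ => ‖t (M (quad x))‖)).mpr hnorm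
  refine ⟨Summable.of_nonneg_of_le (fun _ => norm_nonneg _) (fun n => ?_) hsig.sigma, ?_⟩
  · rw [hH]
    refine (norm_sum_le _ _).trans (le_of_eq ?_)
    exact (Finset.tsum_subtype (Finset.HasAntidiagonal.antidiagonal n) (fun x => ‖t (M (quad x))‖)).symm
  · have hs2 : Summable fun x : ℕ × ℕ => (-1 : ℂ) ^ (x.1 + x.2) * t (M (quad x)) :=
      Summable.of_norm (by simpa using hnorm)
    rw [tsum_quad h, ← hM.2, ← tsum_quad hM.1, ← e.tsum_eq (fun x : ℕ × ℕ => (-1 : ℂ) ^ (x.1 + x.2) * t (M (quad x)))]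
    refine Eq.trans ?_ ((e.summable_iff.mpr hs2).tsum_sigma).symm
    refine tsum_congr fun n => ?_
    refine Eq.trans ?_ (Finset.tsum_subtype (Finset.HasAntidiagonal.antidiagonal n)
      (fun x : ℕ × ℕ => (-1 : ℂ) ^ (x.1 + x.2) * t (M (quad x)))).symm
    rw [hH, Finset.mul_sum]
    refine Finset.sum_congr rfl fun x hx => ?_
    rw [Finset.HasAntidiagonal.mem_antidiagonal.mp hx]

end Abut

end

end Groth.Agent.BlowRegLib.SpTrace
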