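import Groth.Agent.BlowRegLib.SplitDescVanish
import Groth.Agent.BlowRegLib.BiSSAb
import Groth.Agent.S2570
import Mathlib.Algebra.Category.Grp.AB
import Mathlib.Algebra.Category.Grp.EnoughInjectives
import Mathlib.AlgebraicGeometry.Morphisms.UniversallyOpen

/-!
# Descent along morphisms which split after finite coverings
-/

set_option autoImplicit false
set_option linter.style.haveILetI false
set_option linter.unusedSectionVars false
set_option backward.isDefEq.respectTransparency false
set_option backward.isDefEq.respectTransparency.types false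
universe u

open CategoryTheory CategoryTheory.Limits AlgebraicGeometry Opposite CategoryTheory.Abelian Groth.Agent.EpsLib
  EtDescentLib

namespace BlowRegLib.SplitDesc

noncomputable section

open BlowRegLib.IntegralDesc (P base)

section Cech

variable {C : Type (u + 1)} [Category.{u} C] {W' W : C} {π : W' ⟶ W} (N : Nerve π)

/-- The Čech complex of a presheaf. -/
def cechObj (M : Cᵒᵖ ⥤ AddCommGrpCat.{u + 1}) : CochainComplex AddCommGrpCat.{u + 1} ℕ :=
  CochainComplex.of (fun n => M.obj (op (N.obj n)))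
    (fun n => AddCommGrpCat.ofHom (cechD N M n))
    (fun n => AddCommGrpCat.ext fun x => cechD_cechD N M n x)

theorem cechObj_d (M : Cᵒᵖ ⥤ AddCommGrpCat.{u + 1}) (n : ℕ) :
    (cechObj N M).d n (n + 1) = AddCommGrpCat.ofHom (cechD N M n) := by
  simp [cechObj, CochainComplex.of, CochainComplex.of.d]

/-- The Čech complex, as a functor. -/
def cechN : (Cᵒᵖ ⥤ AddCommGrpCat.{u + 1}) ⥤ CochainComplex AddCommGrpCat.{u + 1} ℕ where
  obj M := cechObj N M
  map φ :=
    { f := fun n => φ.app _
      comm' := fun i j hij => by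
        obtain rfl : i + 1 = j := hij
        rw [cechObj_d, cechObj_d]
        exact AddCommGrpCat.ext fun x => (cechD_natural N φ i x).symm }

instance additive_cechN : (cechN N).Additive where
  map_add := by intros; ext n : 1; rfl

end Cech

variable {X S : Scheme.{u}} (f : X ⟶ S)

/-- The final object. -/
abbrev topS (S : Scheme.{u}) : Over S := Over.mk (𝟙 S)

/-- The Čech complexes of sheaves. -/
abbrev cechS : BAb S ⥤ CochainComplex AddCommGrpCat.{u + 1} ℕ :=
  sheafToPresheaf _ _ ⋙ cechN (nerveAt f (topS S))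

theorem cechS_d (M : BAb S) (n : ℕ) :
    ((cechS f).obj M).d n (n + 1) = (secW (topS S)).map (dC f M n) :=
  cechObj_d (nerveAt f (topS S)) M.obj n

/-- The Čech complexes, indexed by integers. -/
abbrev extCo : BAb S ⥤ CochainComplex AddCommGrpCat.{u + 1} ℤ :=
  cechS f ⋙ ComplexShape.embeddingUpNat.extendFunctor AddCommGrpCat.{u + 1}

/-- Čech cocycles of degree zero. -/
def Ψ : BAb S ⥤ AddCommGrpCat.{u + 1} where
  obj M := kernel (((cechS f).obj M).d 0 1)
  map φ := kernel.map _ _ (((cechS f).map φ).f 0) (((cechS f).map φ).f 1) (((cechS f).map φ).comm 0 1).symm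
  map_id M := by
    refine (cancel_mono (kernel.ι _)).1 ?_
    simp
  map_comp φ ψ := by
    refine (cancel_mono (kernel.ι _)).1 ?_
    simp

instance additive_Ψ : (Ψ f).Additive where
  map_add {M M' φ ψ} := by
    refine (cancel_mono (kernel.ι _)).1 ?_
    simp only [Ψ, Preadditive.add_comp, kernel.lift_ι]
    show _ ≫ ((cechS f).map (φ + ψ)).f 0 = _
    rw [Functor.map_add, HomologicalComplex.add_f_apply, Preadditive.comp_add]

/-- The inclusion of cocycles. -/
def ιΨ (M : BAb S) : (Ψ f).obj M ⟶ ((cechS f).obj M).X 0 := kernel.ι _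

theorem ιΨ_natural {M M' : BAb S} (φ : M ⟶ M') :
    (Ψ f).map φ ≫ ιΨ f M' = ιΨ f M ≫ ((cechS f).map φ).f 0 :=
  kernel.lift_ι _ _ _

theorem injective_ιΨ (M : BAb S) : Function.Injective (ιΨ f M) := by
  rw [← AddCommGrpCat.mono_iff_injective]
  exact inferInstanceAs (Mono (kernel.ι _))

theorem exact_ιΨ (M : BAb S) :
    (ShortComplex.mk (ιΨ f M) (((cechS f).obj M).d 0 1) (kernel.condition _)).Exact :=
  ShortComplex.exact_of_f_is_kernel _ (kernelIsKernel _)

/-- The augmented Čech complex. -/
def augC (M : BAb S) :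
    (CochainComplex.single₀ AddCommGrpCat.{u + 1}).obj ((Ψ f).obj M) ⟶ (cechS f).obj M :=
  (CochainComplex.fromSingle₀Equiv _ _).symm ⟨ιΨ f M, kernel.condition _⟩

theorem augC_f_zero (M : BAb S) : (augC f M).f 0 = ιΨ f M :=
  CochainComplex.fromSingle₀Equiv_symm_apply_f_zero _ _

theorem quasiIso_augC (M : BAb S) [Injective M] : QuasiIso (augC f M) := ⟨fun n => by
  cases n with
  | zero =>
    haveI : Mono (ιΨ f M) := inferInstanceAs (Mono (kernel.ι _))
    rw [quasiIsoAt_iff' _ 0 0 1 (by simp) (by simp)]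
    refine (ShortComplex.quasiIso_iff_of_zeros _ ?_ ?_ ?_).2 ⟨?_, ?_⟩
    · show ((CochainComplex.single₀ AddCommGrpCat.{u + 1}).obj ((Ψ f).obj M)).d 0 0 = 0
      simp
    · show ((CochainComplex.single₀ AddCommGrpCat.{u + 1}).obj ((Ψ f).obj M)).d 0 1 = 0
      simp
    · show ((cechS f).obj M).d 0 0 = 0
      exact HomologicalComplex.shape _ _ _ (by simp)
    · refine ShortComplex.exact_of_iso (ShortComplex.isoMk (Iso.refl _) (Iso.refl _) (Iso.refl _) ?_ ?_) (exact_ιΨ f M)
      · exact ((Category.id_comp _).trans (augC_f_zero f M)).trans (Category.comp_id _).symm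
      · exact (Category.id_comp _).trans (Category.comp_id _).symm
    · simp only [HomologicalComplex.shortComplexFunctor'_map_τ₂, augC_f_zero]
      infer_instance
  | succ n =>
    rw [quasiIsoAt_iff_exactAt']
    · exact CochainComplex.exactAt_succ_single_obj _ _
    · rw [HomologicalComplex.exactAt_iff' _ n (n + 1) (n + 2) (by simp) (by simp), ShortComplex.ab_exact_iff]
      intro x hx
      change ((cechS f).obj M).d (n + 1) (n + 2) x = 0 at hx
      rw [cechS_d f M (n + 1)] at hx
      obtain ⟨y, hy⟩ := hExact_injective_sheaf M (nerveAt f (topS S)) n x hx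
      refine ⟨y, ?_⟩
      change ((cechS f).obj M).d n (n + 1) y = x
      rw [cechS_d f M n]
      exact hy⟩

/-- The augmentation in degree zero. -/
def η : Ψ f ⟶ extCo f ⋙ HomologicalComplex.eval _ (ComplexShape.up ℤ) 0 where
  app M := ιΨ f M ≫ (((cechS f).obj M).extendXIso ComplexShape.embeddingUpNat (i := 0) (i' := (0 : ℤ)) rfl).inv
  naturality M M' φ := by
    refine ((Category.assoc _ _ _).symm.trans (congrArg (· ≫ _) (ιΨ_natural f φ))).trans ?_
    change _ = (ιΨ f M ≫ _) ≫ (HomologicalComplex.extendMap ((cechS f).map φ) ComplexShape.embeddingUpNat).f 0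
    rw [HomologicalComplex.extendMap_f _ ComplexShape.embeddingUpNat (i := 0) (i' := (0 : ℤ)) rfl]
    simp only [Category.assoc, Iso.inv_hom_id_assoc]

theorem η_d (M : BAb S) (j : ℤ) : (η f).app M ≫ ((extCo f).obj M).d 0 j = 0 := by
  by_cases hj : (ComplexShape.up ℤ).Rel 0 j
  · obtain rfl : (1 : ℤ) = j := by simpa using hj
    change (ιΨ f M ≫ _) ≫ (((cechS f).obj M).extend ComplexShape.embeddingUpNat).d 0 1 = 0
    rw [HomologicalComplex.extend_d_eq _ ComplexShape.embeddingUpNat (i := 0) (j := 1) (i' := (0 : ℤ)) (j' := (1 : ℤ)) rfl rfl]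
    simp only [Category.assoc, Iso.inv_hom_id_assoc]
    exact (Category.assoc _ _ _).symm.trans
      ((congrArg (· ≫ _) (show ιΨ f M ≫ ((cechS f).obj M).d 0 1 = 0 from kernel.condition _)).trans zero_comp)
  · rw [HomologicalComplex.shape _ _ _ hj, comp_zero]

/-- The augmentation of one row. -/
abbrev rowAug (M : BAb S) :
    (HomologicalComplex.single AddCommGrpCat.{u + 1} (ComplexShape.up ℤ) 0).obj ((Ψ f).obj M) ⟶ (extCo f).obj M :=
  HomologicalComplex.mkHomFromSingle ((η f).app M) fun j _ => η_d f M j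

theorem quasiIso_rowAug (M : BAb S) [Injective M] : QuasiIso (rowAug f M) := by
  haveI := quasiIso_augC f M
  have : rowAug f M = (HomologicalComplex.extendSingleIso ComplexShape.embeddingUpNat ((Ψ f).obj M)
      (i := 0) (i' := (0 : ℤ)) rfl).inv ≫
      HomologicalComplex.extendMap (augC f M) ComplexShape.embeddingUpNat := by
    refine HomologicalComplex.from_single_hom_ext ?_
    rw [HomologicalComplex.mkHomFromSingle_f, HomologicalComplex.comp_f,
      HomologicalComplex.extendMap_f _ ComplexShape.embeddingUpNat (i := 0) (i' := (0 : ℤ)) rfl, augC_f_zero]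
    simp [η, HomologicalComplex.extendSingleIso]
  rw [this]
  infer_instance

variable (G : CochainComplex (BAb S) ℤ)

/-- The bicomplex. -/
abbrev bi : SpSeqLib.BiTotal.Bi AddCommGrpCat.{u + 1} :=
  HomologicalComplex₂.flip (((extCo f).mapHomologicalComplex (ComplexShape.up ℤ)).obj G)

/-- The cocycles. -/
abbrev cocG : CochainComplex AddCommGrpCat.{u + 1} ℤ :=
  ((Ψ f).mapHomologicalComplex (ComplexShape.up ℤ)).obj G

/-- The sections over the base. -/
abbrev secG : CochainComplex AddCommGrpCat.{u + 1} ℤ :=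
  ((secW (topS S)).mapHomologicalComplex (ComplexShape.up ℤ)).obj G

/-- The killed sections over the base. -/
abbrev killG : CochainComplex AddCommGrpCat.{u + 1} ℤ :=
  ((secW (topS S)).mapHomologicalComplex (ComplexShape.up ℤ)).obj (((KF f).mapHomologicalComplex (ComplexShape.up ℤ)).obj G)

/-- The augmentation of the bicomplex, in degree zero. -/
def η₀ : cocG f G ⟶ (bi f G).X 0 where
  f q := (η f).app (G.X q)
  comm' q q' _ := ((η f).naturality (G.d q q')).symm

/-- The augmentation of the bicomplex. -/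
def ε : (HomologicalComplex.single (CochainComplex AddCommGrpCat.{u + 1} ℤ) (ComplexShape.up ℤ) 0).obj (cocG f G) ⟶
    bi f G :=
  HomologicalComplex.mkHomFromSingle (η₀ f G) fun j _ => by
    ext q : 1
    exact η_d f (G.X q) j

/-- The columns. -/
def colIso (p : ℕ) :
    (bi f G).X (p : ℤ) ≅
      ((secW (Φ f p (topS S))).mapHomologicalComplex (ComplexShape.up ℤ)).obj G :=
  HomologicalComplex.Hom.isoOfComponents
    (fun q => ((cechS f).obj (G.X q)).extendXIso ComplexShape.embeddingUpNat (i := p) rfl) fun q q' _ => by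
      change _ ≫ (G.d q q').hom.app (op (Φ f p (topS S))) =
        (HomologicalComplex.extendMap ((cechS f).map (G.d q q')) ComplexShape.embeddingUpNat).f (p : ℤ) ≫ _
      rw [HomologicalComplex.extendMap_f _ ComplexShape.embeddingUpNat (i := p) (i' := (p : ℤ)) rfl]
      simp only [Category.assoc, Iso.inv_hom_id, Category.comp_id]
      rfl

theorem isZero_bi [G.IsStrictlyGE 0] (p q : ℤ) (h : p < 0 ∨ q < 0) : IsZero (((bi f G).X p).X q) := by
  change IsZero (((extCo f).obj (G.X q)).X p)
  rcases h with h | h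
  · exact HomologicalComplex.isZero_extend_X _ _ p fun k hk => by
      change (k : ℤ) = p at hk
      omega
  · exact Functor.map_isZero (extCo f ⋙ HomologicalComplex.eval _ (ComplexShape.up ℤ) p)
      (G.isZero_of_isStrictlyGE 0 q h)

theorem mono_ε : Mono (ε f G) := by
  haveI : ∀ m, Mono ((ε f G).f m) := fun m => by
    by_cases hm : m = 0
    · subst hm
      haveI : Mono (η₀ f G) := by
        haveI : ∀ q, Mono ((η₀ f G).f q) := fun q => by
          haveI : Mono (ιΨ f (G.X q)) := inferInstanceAs (Mono (kernel.ι _))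
          change Mono ((η f).app (G.X q))
          dsimp only [η]
          infer_instance
        exact HomologicalComplex.mono_of_mono_f _ inferInstance
      rw [ε, HomologicalComplex.mkHomFromSingle_f]
      infer_instance
    · exact ⟨fun _ _ _ => (HomologicalComplex.isZero_single_obj_X _ _ _ _ hm).eq_of_tgt _ _⟩
  exact HomologicalComplex.mono_of_mono_f _ inferInstance

theorem quasiIso_row (q : ℤ) [Injective (G.X q)] :
    QuasiIso (((HomologicalComplex.eval AddCommGrpCat.{u + 1} (ComplexShape.up ℤ) q).mapHomologicalComplex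
      (ComplexShape.up ℤ)).map (ε f G)) := by
  haveI := quasiIso_rowAug f (G.X q)
  let e := (HomologicalComplex.singleMapHomologicalComplex (HomologicalComplex.eval AddCommGrpCat.{u + 1} (ComplexShape.up ℤ) q)
    (ComplexShape.up ℤ) 0).app (cocG f G)
  have : e.inv ≫ ((HomologicalComplex.eval AddCommGrpCat.{u + 1} (ComplexShape.up ℤ) q).mapHomologicalComplex
      (ComplexShape.up ℤ)).map (ε f G) = rowAug f (G.X q) := by
    refine HomologicalComplex.from_single_hom_ext ?_
    rw [HomologicalComplex.comp_f, HomologicalComplex.mkHomFromSingle_f]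
    change e.inv.f 0 ≫ ((ε f G).f 0).f q = _
    rw [ε, HomologicalComplex.mkHomFromSingle_f, HomologicalComplex.comp_f]
    simp [e, η₀, HomologicalComplex.singleMapHomologicalComplex]
    rfl
  haveI : QuasiIso (e.inv ≫ ((HomologicalComplex.eval AddCommGrpCat.{u + 1} (ComplexShape.up ℤ) q).mapHomologicalComplex
      (ComplexShape.up ℤ)).map (ε f G)) := this ▸ ‹QuasiIso (rowAug f (G.X q))›
  exact quasiIso_of_comp_left e.inv _

/-- From sections to cocycles. -/
def ν (M : BAb S) : (secW (topS S)).obj M ⟶ (Ψ f).obj M :=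
  kernel.lift _ ((secW (topS S)).map ((aug f).app M))
    ((congrArg (_ ≫ ·) (cechS_d f M 0)).trans
      (((secW (topS S)).map_comp _ _).symm.trans ((congrArg (secW (topS S)).map (aug_dC f M)).trans
        ((secW (topS S)).map_zero _ _))))

theorem ν_ι (M : BAb S) : ν f M ≫ ιΨ f M = (secW (topS S)).map ((aug f).app M) := kernel.lift_ι _ _ _

theorem ν_natural {M M' : BAb S} (φ : M ⟶ M') :
    (secW (topS S)).map φ ≫ ν f M' = ν f M ≫ (Ψ f).map φ := by
  haveI : Mono (ιΨ f M') := inferInstanceAs (Mono (kernel.ι _))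
  rw [← cancel_mono (ιΨ f M'), Category.assoc, Category.assoc, ν_ι, ιΨ_natural, ← Category.assoc (ν f M), ν_ι,
    ← Functor.map_comp, show φ ≫ (aug f).app M' = (aug f).app M ≫ (CF f 0).map φ from (aug f).naturality φ,
    Functor.map_comp]
  rfl

/-- Killed sections, sections and cocycles. -/
def seqG : ShortComplex (CochainComplex AddCommGrpCat.{u + 1} ℤ) :=
  ShortComplex.mk (X₁ := killG f G) (X₂ := secG G) (X₃ := cocG f G)
    { f := fun q => (secW (topS S)).map ((ιK f).app (G.X q))
      comm' := fun q q' _ => by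
        show (secW (topS S)).map _ ≫ (secW (topS S)).map _ = (secW (topS S)).map _ ≫ (secW (topS S)).map _
        rw [← Functor.map_comp, ← Functor.map_comp]
        exact congrArg (secW (topS S)).map ((ιK f).naturality (G.d q q')).symm }
    { f := fun q => ν f (G.X q)
      comm' := fun q q' _ => (ν_natural f (G.d q q')).symm }
    (by
      ext q : 1
      haveI : Mono (ιΨ f (G.X q)) := inferInstanceAs (Mono (kernel.ι _))
      show (secW (topS S)).map ((ιK f).app (G.X q)) ≫ ν f (G.X q) = 0
      rw [← cancel_mono (ιΨ f (G.X q)), Category.assoc, ν_ι, ← Functor.map_comp, zero_comp,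
        show (ιK f).app (G.X q) ≫ (aug f).app (G.X q) = 0 from
          congrArg (fun k : KF f ⟶ CF f 0 => k.app (G.X q)) (ιK_aug f)]
      exact (secW (topS S)).map_zero _ _)

theorem shortExact_seqG [∀ q, Injective (G.X q)] : (seqG f G).ShortExact := by
  refine HomologicalComplex.shortExact_of_degreewise_shortExact _ fun q => ?_
  let M := G.X q
  have hinj := (exact_ιK f M (topS S)).1
  refine
    { exact := ?_
      mono_f := ?_
      epi_g := ?_ }
  · rw [ShortComplex.ab_exact_iff]
    intro x hx
    change ν f M x = 0 at hx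
    refine (exact_ιK f M (topS S)).2 x ?_
    show (secW (topS S)).map ((aug f).app M) x = 0
    rw [← ν_ι, ConcreteCategory.comp_apply]
    exact (congrArg (ιΨ f M) hx).trans (map_zero _)
  · exact (AddCommGrpCat.mono_iff_injective _).2 hinj
  · refine (AddCommGrpCat.epi_iff_surjective _).2 fun y => ?_
    have hy : ((cechS f).obj M).d 0 1 (ιΨ f M y) = 0 :=
      ConcreteCategory.congr_hom (show ιΨ f M ≫ ((cechS f).obj M).d 0 1 = 0 from kernel.condition _) y
    rw [cechS_d f M 0] at hy
    obtain ⟨s, hs⟩ := exists_aug_of_injective f M (topS S) (ιΨ f M y) hy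
    refine ⟨s, injective_ιΨ f M ?_⟩
    show ιΨ f M (ν f M s) = _
    rw [← ConcreteCategory.comp_apply, ν_ι]
    exact hs

theorem nonempty_cocG_iso [∀ q, Injective (G.X q)] (h : (killG f G).Acyclic) (n : ℤ) :
    Nonempty ((secG G).homology n ≅ (cocG f G).homology n) := by
  have hS := shortExact_seqG f G
  have hz : ∀ k, IsZero ((killG f G).homology k) := fun k => ((killG f G).exactAt_iff_isZero_homology k).1 (h k)
  haveI : Mono (HomologicalComplex.homologyMap (seqG f G).g n) :=
    (hS.homology_exact₂ n).mono_g ((hz n).eq_of_src _ _)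
  haveI : Epi (HomologicalComplex.homologyMap (seqG f G).g n) :=
    (hS.homology_exact₃ n (n + 1) rfl).epi_f ((hz (n + 1)).eq_of_tgt _ _)
  haveI := isIso_of_mono_of_epi (HomologicalComplex.homologyMap (seqG f G).g n)
  exact ⟨asIso (HomologicalComplex.homologyMap (seqG f G).g n)⟩

/-- An injective resolution computes étale cohomology of the localisations. -/
theorem nonempty_homology_iso {T : Scheme.{u}} (g : T ⟶ S) (F : EtCoh.Ab S)
    (I : InjectiveResolution ((BigSite.piEtPull Scheme.etalePrecoverage S).obj F)) (q : ℕ) :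
    Nonempty ((((secW ((Over.map g).obj ((Over.pullback g).obj (topS S)))).mapHomologicalComplex _).obj
        I.cocomplex).homology q ≅ AddCommGrpCat.of (EtCoh.H T ((EtCoh.pull g).obj F) q)) := by
  let R : BAb S ⥤ BAb T := BigSite.pullBig Scheme.etalePrecoverage g AddCommGrpCat.{u + 1}
  haveI : R.Additive := { }
  haveI : R.PreservesHomology := BigEtLib.preservesHomology_pullBig g Scheme.etalePrecoverage
  haveI : R.PreservesInjectiveObjects := BigEtLib.preservesInjective_pullBig g Scheme.etalePrecoverage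
  haveI : PreservesLimitsOfSize.{0, 0} (Over.pullback g) := (Over.mapPullbackAdj g).rightAdjoint_preservesLimits
  have hT : IsTerminal ((Over.pullback g).obj (topS S)) :=
    IsTerminal.isTerminalObj (Over.pullback g) (topS S) Over.mkIdTerminal
  let eB := fun (M : BAb T) => BigEtLib.homEquivTop (QuotSh.J Scheme.etalePrecoverage T) hT M
  obtain ⟨e⟩ := CohLib.nonempty_homology_iso_ext_of_injective (LocSuppLib.mapRes R I)
    (((secW ((Over.map g).obj ((Over.pullback g).obj (topS S)))).mapHomologicalComplex _).obj I.cocomplex)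
    (X := (constantSheaf (QuotSh.J Scheme.etalePrecoverage T) AddCommGrpCat.{u + 1}).obj
      (AddCommGrpCat.of (ULift.{u + 1} ℤ)))
    (fun m => (eB (R.obj (I.cocomplex.X m))).symm) (fun m x => by
      apply (eB (R.obj (I.cocomplex.X (m + 1)))).injective
      refine ((eB _).apply_symm_apply _).trans ?_
      refine Eq.trans ?_ (BigEtLib.homEquivTop_comp (QuotSh.J Scheme.etalePrecoverage T) hT
        (R.map (I.cocomplex.d m (m + 1))) ((eB (R.obj (I.cocomplex.X m))).symm x)).symm
      exact (congrArg ((R.map (I.cocomplex.d m (m + 1))).hom.app (op ((Over.pullback g).obj (topS S))))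
        ((eB _).apply_symm_apply x)).symm) q
  obtain ⟨e'⟩ := BigEtLib.nonempty_HU_piEtPull g q F
  exact ⟨e ≪≫ AddEquiv.toAddCommGrpIso
    (X := AddCommGrpCat.of (BigSite.H Scheme.etalePrecoverage T (R.obj ((BigSite.piEtPull Scheme.etalePrecoverage S).obj F)) q))
    (Y := AddCommGrpCat.of (EtCoh.H T ((EtCoh.pull g).obj F) q)) e'⟩

/-- An injective resolution computes étale cohomology of the base. -/
theorem nonempty_homology_iso_top (F : EtCoh.Ab S)
    (I : InjectiveResolution ((BigSite.piEtPull Scheme.etalePrecoverage S).obj F)) (q : ℕ) :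
    Nonempty ((((secW (topS S)).mapHomologicalComplex _).obj I.cocomplex).homology q ≅
      AddCommGrpCat.of (EtCoh.H S F q)) := by
  let eB := fun (M : BAb S) => BigEtLib.homEquivTop (QuotSh.J Scheme.etalePrecoverage S) (Over.mkIdTerminal (X := S)) M
  obtain ⟨e⟩ := CohLib.nonempty_homology_iso_ext_of_injective I
    (((secW (topS S)).mapHomologicalComplex _).obj I.cocomplex)
    (X := (constantSheaf (QuotSh.J Scheme.etalePrecoverage S) AddCommGrpCat.{u + 1}).obj
      (AddCommGrpCat.of (ULift.{u + 1} ℤ)))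
    (fun m => (eB (I.cocomplex.X m)).symm) (fun m x => by
      apply (eB (I.cocomplex.X (m + 1))).injective
      refine ((eB _).apply_symm_apply _).trans ?_
      refine Eq.trans ?_ (BigEtLib.homEquivTop_comp (QuotSh.J Scheme.etalePrecoverage S) (Over.mkIdTerminal (X := S))
        (I.cocomplex.d m (m + 1)) ((eB (I.cocomplex.X m)).symm x)).symm
      exact (congrArg ((I.cocomplex.d m (m + 1)).hom.app (op (Over.mk (𝟙 S))))
        ((eB _).apply_symm_apply x)).symm) q
  obtain ⟨e'⟩ := BigEtLib.nonempty_H_resEt S ((BigSite.piEtPull Scheme.etalePrecoverage S).obj F) q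
  haveI : IsIso (BigSite.piEtAdj Scheme.etalePrecoverage S).unit := BigEtLib.isIso_piEtAdj_unit S
  exact ⟨e ≪≫ (AddEquiv.toAddCommGrpIso
    (X := AddCommGrpCat.of (EtCoh.H S ((BigSite.resEt Scheme.etalePrecoverage S).obj
      ((BigSite.piEtPull Scheme.etalePrecoverage S).obj F)) q))
    (Y := AddCommGrpCat.of (BigSite.H Scheme.etalePrecoverage S ((BigSite.piEtPull Scheme.etalePrecoverage S).obj F) q))
      e').symm ≪≫ ((EtCoh.HF S q).mapIso (asIso ((BigSite.piEtAdj Scheme.etalePrecoverage S).unit.app F))).symm⟩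

/-- Homology of the sections of an extended resolution. -/
theorem nonempty_extend_homology (W : Over S) {A : BAb S} (I : InjectiveResolution A) (q : ℕ) :
    Nonempty ((((secW W).mapHomologicalComplex (ComplexShape.up ℤ)).obj I.cochainComplex).homology (q : ℤ) ≅
      (((secW W).mapHomologicalComplex _).obj I.cocomplex).homology q) :=
  ⟨(HomologicalComplex.homologyFunctor _ _ (q : ℤ)).mapIso (SpSeqLib.mapExtendNatIso (secW W) I.cocomplex) ≪≫
    (((secW W).mapHomologicalComplex _).obj I.cocomplex).extendHomologyIso ComplexShape.embeddingUpNat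
      (j := q) (j' := (q : ℤ)) rfl⟩

/-- **The descent spectral sequence.** -/
theorem main (hf : LocSplit f) (F : EtCoh.Ab S) :
    ∃ (E : CohomologicalSpectralSequence AddCommGrpCat.{u + 1} 1)
      (a : SpSeq.Abutment E (fun n : ℤ =>
        if 0 ≤ n then AddCommGrpCat.of (EtCoh.H S F n.toNat) else AddCommGrpCat.of PUnit.{u + 2})),
      (∀ n, a.IsFinite n) ∧ SpSeq.IsBounded E ∧
      ∀ p q : ℤ, Nonempty ((E.page 1 le_rfl).X (p, q) ≅
        (if 0 ≤ p ∧ 0 ≤ q then
          AddCommGrpCat.of (EtCoh.H (widePullback S (fun _ : Fin (p.toNat + 1) => X) (fun _ => f))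
            ((EtCoh.pull (WidePullback.base (fun _ : Fin (p.toNat + 1) => f) :
              widePullback S (fun _ : Fin (p.toNat + 1) => X) (fun _ => f) ⟶ S)).obj F) q.toNat)
         else AddCommGrpCat.of PUnit.{u + 2})) := by
  let I : InjectiveResolution ((BigSite.piEtPull Scheme.etalePrecoverage S).obj F) := injectiveResolution _
  let G := I.cochainComplex
  haveI := mono_ε f G
  have hK : (killG f G).Acyclic :=
    acyclic_sections f hf _ (EtDescentLib.hasGerms_piEtPull S F) I (topS S)
  haveI : G.IsStrictlyGE 0 := inferInstanceAs (I.cochainComplex.IsStrictlyGE 0)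
  haveI : (cocG f G).IsStrictlyGE 0 := by
    rw [CochainComplex.isStrictlyGE_iff]
    exact fun k hk => (Ψ f).map_isZero (G.isZero_of_isStrictlyGE 0 k hk)
  have hPU : IsZero (AddCommGrpCat.of PUnit.{u + 2}) := AddCommGrpCat.isZero_of_subsingleton _
  haveI : AB4OfSize.{0} AddCommGrpCat.{u + 1} := AB4OfSize_shrink.{0, u + 1} _
  obtain ⟨E, ab, h1, h2, h3, h4⟩ := BiSSAb.exists_spectralSequence.{u + 1, u + 2} (C := AddCommGrpCat.{u + 1}) (bi f G) (isZero_bi f G) (cocG f G) (ε f G)
    (fun q => quasiIso_row f G q)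
    (fun n : ℤ => if 0 ≤ n then AddCommGrpCat.of (EtCoh.H S F n.toNat) else AddCommGrpCat.of PUnit.{u + 2})
    (fun n => by
      obtain ⟨e₀⟩ := nonempty_cocG_iso f G hK (n : ℤ)
      obtain ⟨e₁⟩ := nonempty_extend_homology (topS S) I n
      obtain ⟨e₂⟩ := nonempty_homology_iso_top F I n
      exact ⟨eqToIso (by simp) ≪≫ (e₁ ≪≫ e₂).symm ≪≫ e₀⟩)
    (fun n hn => by
      simp only [if_neg (not_le.mpr hn)]
      exact hPU)
  refine ⟨E, ab, h1, h2, fun p q => ?_⟩
  by_cases hpq : 0 ≤ p ∧ 0 ≤ q
  · rw [if_pos hpq]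
    obtain ⟨a, rfl⟩ := Int.eq_ofNat_of_zero_le hpq.1
    obtain ⟨b, rfl⟩ := Int.eq_ofNat_of_zero_le hpq.2
    obtain ⟨e₀⟩ := h3 a b
    obtain ⟨e₁⟩ := nonempty_extend_homology (Φ f a (topS S)) I b
    obtain ⟨e₂⟩ := nonempty_homology_iso (base f a) F I b
    exact ⟨e₀ ≪≫ (HomologicalComplex.homologyFunctor _ _ (b : ℤ)).mapIso (colIso f G a) ≪≫ e₁ ≪≫ e₂⟩
  · rw [if_neg hpq]
    exact ⟨(h4 p q (by omega)).iso hPU⟩

/-- Universally open surjections locally of finite type over locally noetherian schemes split after finite coverings. -/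
theorem locSplit_of_universallyOpen [IsLocallyNoetherian S] [UniversallyOpen f] [LocallyOfFiniteType f]
    [Surjective f] : LocSplit f := by
  intro y
  obtain ⟨V, hV, hy, -⟩ := exists_isAffineOpen_mem_and_subset (X := S) (U := ⊤) (x := y) trivial
  haveI : CompactSpace (V : Scheme.{u}) := isCompact_iff_compactSpace.mp hV.isCompact
  haveI : IsLocallyNoetherian (V : Scheme.{u}) := isLocallyNoetherian_of_isOpenImmersion V.ι
  haveI : IsNoetherian (V : Scheme.{u}) := { }
  haveI : UniversallyOpen (pullback.snd f V.ι) := MorphismProperty.pullback_snd (P := @UniversallyOpen) _ _ ‹_›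
  haveI : LocallyOfFiniteType (pullback.snd f V.ι) := MorphismProperty.pullback_snd (P := @LocallyOfFiniteType) _ _ ‹_›
  haveI : Surjective (pullback.snd f V.ι) := MorphismProperty.pullback_snd (P := @Surjective) _ _ ‹_›
  obtain ⟨T, h, hfin, hsur, hU⟩ := Groth.Agent.S2570.result (pullback.snd f V.ι)
  refine ⟨V, V.ι, inferInstance, T, h, hfin, hsur, by rw [Scheme.Opens.range_ι]; exact hy, fun W z => ?_⟩
  obtain ⟨U, hzU, s, hs⟩ := hU (W.hom z)
  refine ⟨Over.mk (pullback.fst W.hom U.ι ≫ W.hom), Over.homMk (pullback.fst W.hom U.ι) rfl,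
    inferInstanceAs (Etale (pullback.fst W.hom U.ι)), ?_,
    pullback.snd W.hom U.ι ≫ s ≫ pullback.fst _ _ ≫ pullback.fst f V.ι, ?_⟩
  · show z ∈ Set.range (pullback.fst W.hom U.ι).base
    rw [IsOpenImmersion.range_pullbackFst]
    exact Set.mem_preimage.2 (by simpa using hzU)
  · show _ = (pullback.fst W.hom U.ι ≫ W.hom) ≫ h ≫ V.ι
    rw [pullback.condition (f := W.hom)]
    simp only [Category.assoc, pullback.condition (f := f), pullback.condition_assoc]
    rw [reassoc_of% hs]

end

end BlowRegLib.SplitDesc
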