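import Groth.Agent.BlowRegLib.IntegralDesc
import Groth.Agent.BigEtLib.Compare
import Groth.Agent.EpsLib.Cartan
import Groth.Agent.RDerLib.LeftExact

/-!
# Sections killed by a morphism, as a functor on the big étale site
-/

set_option autoImplicit false
set_option linter.style.haveILetI false
set_option linter.unusedSectionVars false
set_option backward.isDefEq.respectTransparency false
set_option backward.isDefEq.respectTransparency.types false
universe u

open CategoryTheory CategoryTheory.Limits AlgebraicGeometry Opposite CategoryTheory.Abelian Groth.Agent.EpsLib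
  EtDescentLib

namespace BlowRegLib.SplitDesc

noncomputable section

open BlowRegLib.IntegralDesc (P base secF_spec map_map)

/-- Abelian sheaves on the big étale site. -/
abbrev BAb (S : Scheme.{u}) := BigSite.Ab Scheme.etalePrecoverage S

variable {X S : Scheme.{u}} (f : X ⟶ S)

/-- The fibre power over an object. -/
abbrev Φ (n : ℕ) (W : Over S) : Over S := (Over.map (base f n)).obj ((Over.pullback (base f n)).obj W)

/-- The covering of an object. -/
def cov (W : Over S) : (Over.map f).obj ((Over.pullback f).obj W) ⟶ W :=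
  Over.homMk (pullback.fst W.hom f) pullback.condition

/-- The projections. -/
def prj (n : ℕ) (k : Fin (n + 1)) (W : Over S) : Φ f n W ⟶ (Over.map f).obj ((Over.pullback f).obj W) :=
  Over.homMk (pullback.lift (pullback.fst W.hom (base f n))
      (pullback.snd W.hom (base f n) ≫ WidePullback.π (fun _ : Fin (n + 1) => f) k) (by
        rw [Category.assoc, WidePullback.π_arrow, pullback.condition]))
    (show pullback.lift _ _ _ ≫ pullback.snd W.hom f ≫ f = pullback.snd W.hom (base f n) ≫ base f n by
      rw [pullback.lift_snd_assoc, Category.assoc, WidePullback.π_arrow])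

/-- The nerve over an object. -/
def nerveAt (W : Over S) : Nerve (cov f W) where
  obj n := Φ f n W
  pr n k := prj f n k W
  w n k := Over.OverMorphism.ext (by
    show pullback.lift _ _ _ ≫ pullback.fst W.hom f = pullback.lift _ _ _ ≫ pullback.fst W.hom f
    rw [pullback.lift_fst, pullback.lift_fst])
  lift n T t _ := Over.homMk (pullback.lift ((t 0).left ≫ pullback.fst W.hom f)
      (WidePullback.lift T.hom (fun k => (t k).left ≫ pullback.snd W.hom f)
        (fun k => (Category.assoc _ _ _).trans (Over.w (t k)))) (by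
        rw [Category.assoc, pullback.condition, WidePullback.lift_base]
        exact Over.w (t 0)))
    (show pullback.lift _ _ _ ≫ pullback.snd W.hom (base f n) ≫ base f n = T.hom by
      rw [pullback.lift_snd_assoc, WidePullback.lift_base])
  fac n T t h k := Over.OverMorphism.ext (pullback.hom_ext
    (show (pullback.lift _ _ _ ≫ pullback.lift _ _ _) ≫ pullback.fst W.hom f = (t k).left ≫ pullback.fst W.hom f by
      rw [Category.assoc, pullback.lift_fst, pullback.lift_fst]
      exact (congrArg (fun c => c.left) (h k)).symm)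
    (show (pullback.lift _ _ _ ≫ pullback.lift _ _ _) ≫ pullback.snd W.hom f = (t k).left ≫ pullback.snd W.hom f by
      rw [Category.assoc, pullback.lift_snd, pullback.lift_snd_assoc, WidePullback.lift_π]))
  ext n T a b h := Over.OverMorphism.ext (by
    have h' : ∀ k, a.left ≫ (prj f n k W).left = b.left ≫ (prj f n k W).left := fun k =>
      congrArg (fun c => c.left) (h k)
    refine pullback.hom_ext ?_ (WidePullback.hom_ext _ _ _ (fun k => ?_) ?_)
    · have := congrArg (· ≫ pullback.fst W.hom f) (h' 0)
      simpa [prj, Category.assoc] using this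
    · have := congrArg (· ≫ pullback.snd W.hom f) (h' k)
      simpa [prj, Category.assoc] using this
    · exact ((Category.assoc _ _ _).trans (Over.w a)).trans ((Category.assoc _ _ _).trans (Over.w b)).symm)

theorem map_prj {W' W : Over S} (a : W' ⟶ W) (n : ℕ) (k : Fin (n + 1)) :
    (Over.map (base f n)).map ((Over.pullback (base f n)).map a) ≫ prj f n k W =
      prj f n k W' ≫ (Over.map f).map ((Over.pullback f).map a) := by
  refine Over.OverMorphism.ext (pullback.hom_ext ?_ ?_) <;> simp [prj]

theorem map_face {W' W : Over S} (a : W' ⟶ W) (n : ℕ) (i : Fin (n + 2)) :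
    (nerveAt f W').face n i ≫ (Over.map (base f n)).map ((Over.pullback (base f n)).map a) =
      (Over.map (base f (n + 1))).map ((Over.pullback (base f (n + 1))).map a) ≫ (nerveAt f W).face n i := by
  refine (nerveAt f W).ext n _ _ fun k => ?_
  rw [Category.assoc, Category.assoc, Nerve.face_pr]
  show (nerveAt f W').face n i ≫ _ ≫ prj f n k W = _ ≫ prj f (n + 1) (i.succAbove k) W
  rw [map_prj, map_prj, ← Category.assoc]
  exact congrArg (· ≫ _) ((nerveAt f W').face_pr n i k)

/-- The functor of terms. -/
abbrev CF (n : ℕ) : BAb S ⥤ BAb S :=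
  BigSite.pullBig Scheme.etalePrecoverage (base f n) AddCommGrpCat.{u + 1} ⋙
    BigSite.pushBig Scheme.etalePrecoverage (base f n) AddCommGrpCat.{u + 1}

theorem preservesFiniteLimits_CF (n : ℕ) : PreservesFiniteLimits (CF f n) := by
  haveI := BigEtLib.preservesHomology_pullBig (base f n) Scheme.etalePrecoverage
  haveI : (BigSite.pullBig Scheme.etalePrecoverage (base f n) AddCommGrpCat.{u + 1}).Additive := { }
  haveI := (BigSite.pullBig Scheme.etalePrecoverage (base f n) AddCommGrpCat.{u + 1}).preservesFiniteLimits_of_preservesHomology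
  haveI : PreservesLimitsOfSize.{0, 0} (BigSite.pushBig Scheme.etalePrecoverage (base f n) AddCommGrpCat.{u + 1}) :=
    (BigSite.bigAdj Scheme.etalePrecoverage (base f n) _).rightAdjoint_preservesLimits
  haveI : PreservesFiniteLimits (BigSite.pushBig Scheme.etalePrecoverage (base f n) AddCommGrpCat.{u + 1}) :=
    PreservesLimitsOfSize.preservesFiniteLimits _
  exact comp_preservesFiniteLimits _ _

theorem injective_CF (n : ℕ) (I : BAb S) [Injective I] : Injective ((CF f n).obj I) := by
  haveI := BigEtLib.preservesInjective_pullBig (base f n) Scheme.etalePrecoverage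
  haveI := BigEtLib.preservesHomology_pullBig (base f n) Scheme.etalePrecoverage
  haveI : (BigSite.pullBig Scheme.etalePrecoverage (base f n) AddCommGrpCat.{u + 1}).Additive := { }
  haveI := (BigSite.pullBig Scheme.etalePrecoverage (base f n) AddCommGrpCat.{u + 1}).preservesFiniteLimits_of_preservesHomology
  haveI : (BigSite.pushBig Scheme.etalePrecoverage (base f n) AddCommGrpCat.{u + 1}).PreservesInjectiveObjects :=
    Functor.preservesInjectiveObjects_of_adjunction_of_preservesMonomorphisms
      (BigSite.bigAdj Scheme.etalePrecoverage (base f n) _)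
  exact inferInstanceAs (Injective ((BigSite.pushBig Scheme.etalePrecoverage (base f n) AddCommGrpCat.{u + 1}).obj
    ((BigSite.pullBig Scheme.etalePrecoverage (base f n) AddCommGrpCat.{u + 1}).obj I)))

variable (G : BAb S)

/-- The differentials. -/
def dC (n : ℕ) : (CF f n).obj G ⟶ (CF f (n + 1)).obj G :=
  ⟨{ app := fun W => AddCommGrpCat.ofHom (cechD (nerveAt f W.unop) G.obj n)
     naturality := fun W W' a => AddCommGrpCat.ext fun x => by
      show cechD (nerveAt f W'.unop) G.obj n
          (G.obj.map ((Over.map (base f n)).map ((Over.pullback (base f n)).map a.unop)).op x) =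
        G.obj.map ((Over.map (base f (n + 1))).map ((Over.pullback (base f (n + 1))).map a.unop)).op
          (cechD (nerveAt f W.unop) G.obj n x)
      rw [cechD_apply, cechD_apply, map_sum]
      refine Finset.sum_congr rfl fun i _ => ?_
      rw [map_zsmul]
      refine congrArg (_ • ·) ?_
      exact (map_map G.obj _ _ _ (map_face f a.unop n i) x).trans (map_map G.obj _ _ _ rfl x).symm }⟩

theorem dC_dC (n : ℕ) : dC f G n ≫ dC f G (n + 1) = 0 :=
  Sheaf.hom_ext (NatTrans.ext (funext fun W => AddCommGrpCat.ext fun x => cechD_cechD (nerveAt f W.unop) G.obj n x))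

/-- The augmentation. -/
def aug : 𝟭 (BAb S) ⟶ CF f 0 where
  app M :=
    ⟨{ app := fun W => M.obj.map (prj f 0 0 W.unop ≫ cov f W.unop).op
       naturality := fun W W' a => by
        show M.obj.map a ≫ M.obj.map _ = M.obj.map _ ≫ M.obj.map _
        rw [← Functor.map_comp, ← Functor.map_comp]
        refine congrArg M.obj.map (Quiver.Hom.unop_inj ?_)
        show (prj f 0 0 W'.unop ≫ cov f W'.unop) ≫ a.unop =
          (Over.map (base f 0)).map ((Over.pullback (base f 0)).map a.unop) ≫ prj f 0 0 W.unop ≫ cov f W.unop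
        rw [← Category.assoc, map_prj, Category.assoc, Category.assoc]
        refine congrArg (prj f 0 0 W'.unop ≫ ·) (Over.OverMorphism.ext ?_)
        simp [cov] }⟩
  naturality M M' φ := Sheaf.hom_ext (NatTrans.ext (funext fun W =>
    (φ.hom.naturality (prj f 0 0 W.unop ≫ cov f W.unop).op).symm))

theorem aug_dC : (aug f).app G ≫ dC f G 0 = 0 := by
  refine Sheaf.hom_ext (NatTrans.ext (funext fun W => AddCommGrpCat.ext fun x => ?_))
  show cechD (nerveAt f W.unop) G.obj 0 (G.obj.map (prj f 0 0 W.unop ≫ cov f W.unop).op x) = 0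
  rw [cechD_apply, Fin.sum_univ_two]
  have : ∀ i, G.obj.map ((nerveAt f W.unop).face 0 i).op (G.obj.map (prj f 0 0 W.unop ≫ cov f W.unop).op x) =
      G.obj.map ((nerveAt f W.unop).pr 1 0 ≫ cov f W.unop).op x := fun i => by
    refine map_map G.obj _ _ _ ?_ x
    exact ((Category.assoc _ _ _).symm.trans (congrArg (· ≫ cov f W.unop) ((nerveAt f W.unop).face_pr 0 i 0))).trans
      ((nerveAt f W.unop).w 1 _)
  rw [this 0, this 1]
  simp

/-- Sections killed by the augmentation are those killed on every object over the source. -/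
theorem aug_eq_zero_iff (W : Over S) (s : G.obj.obj (op W)) :
    ((aug f).app G).hom.app (op W) s = 0 ↔
      ∀ (T : Over S) (a : T ⟶ W) (g : T.left ⟶ X), g ≫ f = T.hom → G.obj.map a.op s = 0 := by
  constructor
  · intro h T a g hg
    let t : T ⟶ (Over.map f).obj ((Over.pullback f).obj W) := Over.homMk
      (pullback.lift a.left g ((Over.w a).trans hg.symm))
      (show pullback.lift _ _ _ ≫ pullback.snd W.hom f ≫ f = T.hom by rw [pullback.lift_snd_assoc, hg])
    let l := (nerveAt f W).lift 0 (fun _ : Fin 1 => t) fun _ => rfl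
    have hl : l ≫ prj f 0 0 W ≫ cov f W = a := by
      rw [← Category.assoc, show l ≫ prj f 0 0 W = t from (nerveAt f W).fac _ _ _ _]
      exact Over.OverMorphism.ext (pullback.lift_fst _ _ _)
    have := congrArg (G.obj.map l.op) h
    rw [map_zero] at this
    exact (map_map G.obj _ _ _ hl s).symm.trans this
  · intro h
    exact h _ _ (pullback.snd W.hom (base f 0) ≫ WidePullback.π (fun _ : Fin 1 => f) 0) (by
      rw [Category.assoc, WidePullback.π_arrow]; rfl)

/-- Čech cocycles of degree zero of an injective sheaf are restrictions. -/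
theorem exists_aug_of_injective (I : BAb S) [Injective I] (W : Over S) (x : ((CF f 0).obj I).obj.obj (op W))
    (hx : (dC f I 0).hom.app (op W) x = 0) : ∃ s, ((aug f).app I).hom.app (op W) s = x := by
  haveI : Injective I.obj :=
    Injective.injective_of_adjoint (sheafificationAdjunction (QuotSh.J Scheme.etalePrecoverage S) AddCommGrpCat.{u + 1}) I
  let N := nerveAt f W
  let QW : (Over S)ᵒᵖ ⥤ AddCommGrpCat.{u + 1} := uliftYoneda.{u + 1}.obj W ⋙ AddCommGrpCat.free.{u + 1}
  let e : Q N 0 ⟶ QW := Functor.whiskerRight (uliftYoneda.{u + 1}.map (N.pr 0 0 ≫ cov f W)) AddCommGrpCat.free.{u + 1}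
  obtain ⟨φ, hφ⟩ := exists_el_eq N (P := I.obj) (n := 0) x
  have hb : bd N 0 ≫ φ = 0 := by
    apply ((AddCommGrpCat.adj.{u + 1}.whiskerRight (Over S)ᵒᵖ).homEquiv _ I.obj).injective
    apply (uliftYonedaEquiv.{u + 1} (F := I.obj ⋙ forget AddCommGrpCat.{u + 1})).injective
    refine Eq.trans ?_ rfl
    exact ((el_bd N φ).trans (by rw [hφ]; exact hx))
  have h1 : kernel.ι e ≫ φ = 0 := by
    ext V z
    show φ.app V ((kernel.ι e).app V z) = 0
    have hz : e.app V ((kernel.ι e).app V z) = 0 :=
      ConcreteCategory.congr_hom (congr_arg (fun k => k.app V) (kernel.condition e)) z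
    rcases isEmpty_or_nonempty (V.unop ⟶ (Over.map f).obj ((Over.pullback f).obj W)) with h | ⟨⟨a₀⟩⟩
    · haveI : IsEmpty (ULift.{u + 1} (V.unop ⟶ N.obj 0)) := ⟨fun w => h.elim (w.down ≫ N.pr 0 0)⟩
      haveI : Subsingleton ((Q N 0).obj V) :=
        inferInstanceAs (Subsingleton (FreeAbelianGroup (ULift.{u + 1} (V.unop ⟶ N.obj 0))))
      exact (congrArg (φ.app V) (Subsingleton.elim _ (0 : (Q N 0).obj V))).trans (map_zero _)
    · obtain ⟨sc, hsc, -⟩ := exists_section_choice (π := cov f W) V.unop a₀
      let back : QW.obj V →+ (Q N 0).obj V :=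
        FreeAbelianGroup.map fun w => ULift.up (N.lift 0 (fun _ => sc w.down) fun _ => rfl)
      have key : ((bd N 0).app V).hom.comp (hom' N sc hsc 0) =
          AddMonoidHom.id _ - back.comp (e.app V).hom := by
        refine FreeAbelianGroup.lift_ext _ _ fun w => ?_
        obtain ⟨w⟩ := w
        show (bd N 0).app (op V.unop) (hom' N sc hsc 0 (gen N w)) = gen N w - back (e.app V (gen N w))
        rw [bd_zero_hom' N sc hsc w]
        refine congrArg (gen N w - ·) ?_
        show gen N _ = back (FreeAbelianGroup.map _ (FreeAbelianGroup.of (ULift.up w)))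
        rw [FreeAbelianGroup.map_of_apply]
        refine Eq.trans ?_ (FreeAbelianGroup.map_of_apply _).symm
        show gen N _ = gen N (N.lift 0 (fun _ => sc (w ≫ N.pr 0 0 ≫ cov f W)) _)
        simp only [Category.assoc]
      have hk := DFunLike.congr_fun key ((kernel.ι e).app V z)
      simp only [AddMonoidHom.comp_apply, AddMonoidHom.sub_apply, AddMonoidHom.id_apply] at hk
      change (bd N 0).app V _ = _ - back (e.app V _) at hk
      rw [hz, map_zero, sub_zero] at hk
      rw [← hk]
      exact ConcreteCategory.congr_hom (congr_arg (fun k => k.app V) hb) _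
  let g : Abelian.coimage e ⟶ I.obj := cokernel.desc (kernel.ι e) φ h1
  let χ := Injective.factorThru g (Abelian.factorThruCoimage e)
  have hχ : e ≫ χ = φ := by
    refine (congrArg (· ≫ χ) (Abelian.coimage.fac e).symm).trans ?_
    rw [Category.assoc, Injective.comp_factorThru]
    exact cokernel.π_desc _ _ _
  refine ⟨χ.app (op W) (FreeAbelianGroup.of (ULift.up (𝟙 W))), ?_⟩
  show I.obj.map (N.pr 0 0 ≫ cov f W).op _ = x
  rw [← hφ, el, ← hχ]
  show _ = χ.app (op (N.obj 0)) (e.app (op (N.obj 0)) (gen N (𝟙 _)))
  rw [← NatTrans.naturality_apply χ]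
  refine congrArg (χ.app (op (N.obj 0))) ?_
  show FreeAbelianGroup.map _ (FreeAbelianGroup.of (ULift.up (𝟙 W))) =
    FreeAbelianGroup.map _ (FreeAbelianGroup.of (ULift.up (𝟙 (N.obj 0))))
  rw [FreeAbelianGroup.map_of_apply, FreeAbelianGroup.map_of_apply]
  exact congrArg (fun w => FreeAbelianGroup.of (ULift.up w))
    ((Category.comp_id (N.pr 0 0 ≫ cov f W)).trans (Category.id_comp (N.pr 0 0 ≫ cov f W)).symm)

/-- The subsheaf of sections killed by the morphism. -/
def KF : BAb S ⥤ BAb S := kernel (aug f)

/-- Its inclusion. -/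
def ιK : KF f ⟶ 𝟭 (BAb S) := kernel.ι (aug f)

theorem ιK_aug : ιK f ≫ aug f = 0 := kernel.condition _

instance preservesFiniteLimits_KF : PreservesFiniteLimits (KF f) := by
  haveI := preservesFiniteLimits_CF f 0
  let D := parallelPair (aug f) 0
  haveI : ∀ j, PreservesFiniteLimits (D.obj j) := by
    rintro ⟨⟩
    · exact inferInstanceAs (PreservesFiniteLimits (𝟭 (BAb S)))
    · exact inferInstanceAs (PreservesFiniteLimits (CF f 0))
  haveI : PreservesFiniteLimits D.flip := ⟨fun J _ _ => preservesLimitsOfShape_of_evaluation _ _ fun j =>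
    preservesLimitsOfShape_of_natIso (F := D.obj j) (NatIso.ofComponents fun _ => Iso.refl _)⟩
  haveI : (lim : (WalkingParallelPair ⥤ BAb S) ⥤ BAb S).IsRightAdjoint := constLimAdj.isRightAdjoint
  haveI : PreservesLimitsOfSize.{0, 0} (lim : (WalkingParallelPair ⥤ BAb S) ⥤ BAb S) :=
    constLimAdj.rightAdjoint_preservesLimits
  haveI : PreservesFiniteLimits (lim : (WalkingParallelPair ⥤ BAb S) ⥤ BAb S) :=
    PreservesLimitsOfSize.preservesFiniteLimits _
  haveI : PreservesFiniteLimits (D.flip ⋙ lim) := comp_preservesFiniteLimits _ _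
  exact preservesFiniteLimits_of_natIso (limitIsoFlipCompLim D).symm

instance additive_KF : (KF f).Additive := Functor.additive_of_preserves_binary_products _

theorem exact_ιK (M : BAb S) (W : Over S) :
    Function.Injective (((ιK f).app M).hom.app (op W)) ∧ ∀ s : M.obj.obj (op W),
      ((aug f).app M).hom.app (op W) s = 0 → ∃ t, ((ιK f).app M).hom.app (op W) t = s := by
  let Sq : ShortComplex (BAb S ⥤ BAb S) := ShortComplex.mk (ιK f) (aug f) (ιK_aug f)
  have hSq : Sq.Exact := ShortComplex.exact_of_f_is_kernel _ (kernelIsKernel _)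
  haveI : Mono Sq.f := inferInstanceAs (Mono (kernel.ι (aug f)))
  let E₁ : (BAb S ⥤ BAb S) ⥤ BAb S := (evaluation _ _).obj M
  let E₂ : BAb S ⥤ AddCommGrpCat.{u + 1} := sheafToPresheaf _ _ ⋙ (evaluation _ _).obj (op W)
  haveI : PreservesFiniteLimits E₁ := inferInstance
  haveI : PreservesFiniteLimits E₂ := comp_preservesFiniteLimits _ _
  haveI : Mono (Sq.map E₁).f := inferInstanceAs (Mono (E₁.map Sq.f))
  have h₁ : (Sq.map E₁).Exact := hSq.map_of_mono_of_preservesKernel E₁ ‹_› inferInstance
  have h₂ : ((Sq.map E₁).map E₂).Exact := h₁.map_of_mono_of_preservesKernel E₂ ‹_› inferInstance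
  haveI : Mono (E₁.map Sq.f) := ‹Mono (Sq.map E₁).f›
  haveI : Mono (E₂.map (E₁.map Sq.f)) := E₂.map_mono _
  exact ⟨(AddCommGrpCat.mono_iff_injective (E₂.map (E₁.map Sq.f))).1 inferInstance,
    (ShortComplex.ab_exact_iff _).1 h₂⟩

/-- A section killed by the morphism is killed by the augmentation. -/
theorem aug_ιK (M : BAb S) (W : Over S) (t : ((KF f).obj M).obj.obj (op W)) :
    ((aug f).app M).hom.app (op W) (((ιK f).app M).hom.app (op W) t) = 0 :=
  ConcreteCategory.congr_hom (congrArg (fun k => k.hom.app (op W))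
    (show (ιK f).app M ≫ (aug f).app M = 0 from congrArg (fun k : KF f ⟶ CF f 0 => k.app M) (ιK_aug f))) t

/-- Local preimages from exactness. -/
theorem exists_local_of_exact (T : ShortComplex (BAb S)) (hT : T.Exact) (W : Over S) (s : T.X₂.obj.obj (op W))
    (hs : T.g.hom.app (op W) s = 0) (z : W.left) :
    ∃ (E : Over S) (e : E ⟶ W) (_ : Etale e.left) (t : T.X₁.obj.obj (op E)),
      z ∈ Set.range e.left.base ∧ T.f.hom.app (op E) t = T.X₂.obj.map e.op s := by
  haveI := (T.exact_iff_epi_toCycles).1 hT
  haveI : Sheaf.IsLocallySurjective T.toCycles :=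
    (Sheaf.isLocallySurjective_iff_epi' (J := QuotSh.J Scheme.etalePrecoverage S) (A := AddCommGrpCat.{u + 1}) _).2
      inferInstance
  let C : ShortComplex (BAb S) := ShortComplex.mk T.iCycles T.g T.iCycles_g
  haveI : Mono C.f := inferInstanceAs (Mono T.iCycles)
  have hC : C.Exact := ShortComplex.exact_of_f_is_kernel _ T.cyclesIsKernel
  let E₂ : BAb S ⥤ AddCommGrpCat.{u + 1} := sheafToPresheaf _ _ ⋙ (evaluation _ _).obj (op W)
  haveI : PreservesFiniteLimits E₂ := comp_preservesFiniteLimits _ _
  obtain ⟨c, hc⟩ := (ShortComplex.ab_exact_iff _).1 (hC.map_of_mono_of_preservesKernel E₂ ‹_› inferInstance) s hs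
  obtain ⟨E, e, he, w, hw, t, ht⟩ := EtDescentLib.exists_etale_of_mem
    (Presheaf.imageSieve_mem (QuotSh.J Scheme.etalePrecoverage S) T.toCycles.hom (U := op W) c) z
  refine ⟨E, e, he, t, ⟨w, hw⟩, ?_⟩
  rw [show T.f.hom.app (op E) t = T.iCycles.hom.app (op E) (T.toCycles.hom.app (op E) t) from
    (ConcreteCategory.congr_hom (congrArg (fun k => k.hom.app (op E)) T.toCycles_i) t).symm, ht,
    NatTrans.naturality_apply]
  exact congrArg (T.X₂.obj.map e.op) hc

/-- Etale-local factorisation of a morphism through `f`. -/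
def Split {T : Scheme.{u}} (b : T ⟶ S) : Prop :=
  ∀ (W : Over T) (z : W.left), ∃ (E : Over T) (e : E ⟶ W) (_ : Etale e.left),
    z ∈ Set.range e.left.base ∧ ∃ g : E.left ⟶ X, g ≫ f = E.hom ≫ b

/-- Nothing over a split base is killed by the morphism. -/
theorem isZero_KF_pushBig {T : Scheme.{u}} (b : T ⟶ S) (hb : Split f b) (H : BAb T) :
    IsZero ((KF f).obj ((BigSite.pushBig Scheme.etalePrecoverage b AddCommGrpCat.{u + 1}).obj H)) := by
  let M := (BigSite.pushBig Scheme.etalePrecoverage b AddCommGrpCat.{u + 1}).obj H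
  rw [IsZero.iff_id_eq_zero]
  refine Sheaf.hom_ext (NatTrans.ext (funext fun W => AddCommGrpCat.ext fun t => ?_))
  show t = 0
  apply (exact_ιK f M W.unop).1
  rw [map_zero]
  have h0 := (aug_eq_zero_iff f M W.unop _).1 (aug_ιK f M W.unop t)
  let W₁ := (Over.pullback b).obj W.unop
  choose E e he hz g hg using fun z : W₁.left => hb W₁ z
  refine sheaf_sect_ext H _ (EtDescentLib.ofArrows_mem E e he fun z => ⟨z, hz z⟩) _ _ ?_
  rintro V a ha
  obtain ⟨z, c, rfl⟩ := (Sieve.mem_ofArrows_iff _ _ _).1 ha
  rw [map_zero, op_comp, Functor.map_comp_apply]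
  refine (congrArg (H.obj.map c.op) ?_).trans (map_zero _)
  let E' : Over S := (Over.map b).obj (E z)
  let a' : E' ⟶ W.unop := Over.homMk ((e z).left ≫ pullback.fst W.unop.hom b) (by
    show ((e z).left ≫ pullback.fst W.unop.hom b) ≫ W.unop.hom = (E z).hom ≫ b
    rw [Category.assoc, pullback.condition, ← Category.assoc]
    exact congrArg (· ≫ b) (Over.w (e z)))
  have := h0 E' a' (g z) (hg z)
  let σ : E z ⟶ (Over.pullback b).obj E' :=
    Over.homMk (pullback.lift (𝟙 _) (E z).hom (by simp [E'])) (pullback.lift_snd _ _ _)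
  have hσ : σ ≫ (Over.pullback b).map a' = e z := by
    refine Over.OverMorphism.ext (pullback.hom_ext ?_ ?_)
    · show (pullback.lift (𝟙 (E z).left) (E z).hom _ ≫ pullback.lift (pullback.fst E'.hom b ≫ a'.left) _ _) ≫
        pullback.fst W.unop.hom b = _
      rw [Category.assoc, pullback.lift_fst, pullback.lift_fst_assoc, Category.id_comp]
      rfl
    · show (pullback.lift (𝟙 (E z).left) (E z).hom _ ≫ pullback.lift _ (pullback.snd E'.hom b) _) ≫
        pullback.snd W.unop.hom b = _
      rw [Category.assoc, pullback.lift_snd, pullback.lift_snd]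
      exact (Over.w (e z)).symm
  have h2 := congrArg (H.obj.map σ.op) this
  rw [map_zero] at h2
  exact (map_map H.obj _ _ _ hσ _).symm.trans h2

end

end BlowRegLib.SplitDesc
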