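import Groth.Agent.BlowRegLib.SplitDescKer
import Groth.Agent.EtFppfLib.Finite
import Groth.Agent.RpushLib.Ab

/-!
# Vanishing of sections killed by a morphism split after finite coverings
-/

set_option autoImplicit false
set_option linter.style.haveILetI false
set_option linter.unusedSectionVars false
set_option backward.isDefEq.respectTransparency false
set_option backward.isDefEq.respectTransparency.types false
universe u

open CategoryTheory CategoryTheory.Limits AlgebraicGeometry Opposite CategoryTheory.Abelian Groth.Agent.EpsLib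
  EtDescentLib

attribute [local instance] HasDerivedCategory.standard

namespace BlowRegLib.SplitDesc

noncomputable section

variable {X S : Scheme.{u}} (f : X ⟶ S)

theorem split_comp {T T' : Scheme.{u}} {b : T ⟶ S} (hb : Split f b) (c : T' ⟶ T) : Split f (c ≫ b) := by
  intro W z
  obtain ⟨E, e, he, hz, g, hg⟩ := hb ((Over.map c).obj W) z
  refine ⟨Over.mk (e.left ≫ W.hom), Over.homMk e.left rfl, he, hz, g, ?_⟩
  show g ≫ f = (e.left ≫ W.hom) ≫ c ≫ b
  rw [hg, ← Over.w e]
  simp

theorem isFinite_base {T : Scheme.{u}} (h : T ⟶ S) [IsFinite h] :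
    ∀ n, IsFinite (IntegralDesc.base h n) := fun n => by
  haveI : LocallyOfFiniteType (IntegralDesc.base h n) := by
    haveI : HasPullbacks Scheme.{u} := inferInstance
    suffices H : ∀ {m : ℕ} (X : Fin m → Scheme.{u}) (g : ∀ i, X i ⟶ S) [∀ i, LocallyOfFiniteType (g i)],
        LocallyOfFiniteType (WidePullback.base g) from H (fun _ : Fin (n + 1) => T) (fun _ => h)
    intro m
    induction m with
    | zero =>
      intro X g _
      haveI : IsIso (WidePullback.base g) := by
        refine ⟨WidePullback.lift (𝟙 S) (fun i => i.elim0) (fun i => i.elim0), ?_, WidePullback.lift_base ..⟩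
        exact WidePullback.hom_ext _ _ _ (fun i => i.elim0)
          (by rw [Category.assoc, WidePullback.lift_base, Category.comp_id, Category.id_comp])
      infer_instance
    | succ m ih =>
      intro X g _
      haveI := ih (fun i => X i.castSucc) (fun i => g i.castSucc)
      let r : widePullback S X g ⟶ widePullback S (fun i : Fin m => X i.castSucc) (fun i => g i.castSucc) :=
        WidePullback.lift (WidePullback.base g) (fun i => WidePullback.π g i.castSucc) (fun i => WidePullback.π_arrow g _)
      let e : widePullback S X g ⟶ pullback (WidePullback.base (fun i : Fin m => g i.castSucc)) (g (Fin.last m)) :=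
        pullback.lift r (WidePullback.π g (Fin.last m))
          (by simp only [r, WidePullback.lift_base, WidePullback.π_arrow])
      let e' : pullback (WidePullback.base (fun i : Fin m => g i.castSucc)) (g (Fin.last m)) ⟶ widePullback S X g :=
        WidePullback.lift (pullback.fst _ _ ≫ WidePullback.base _)
          (fun i => Fin.lastCases (pullback.snd _ _) (fun j => pullback.fst _ _ ≫ WidePullback.π _ j) i)
          (fun i => by
            refine Fin.lastCases ?_ (fun j => ?_) i
            · rw [Fin.lastCases_last, ← pullback.condition]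
            · rw [Fin.lastCases_castSucc, Category.assoc, WidePullback.π_arrow])
      haveI : IsIso e := by
        refine ⟨e', WidePullback.hom_ext _ _ _ (fun i => ?_) ?_, pullback.hom_ext ?_ ?_⟩
        · refine Fin.lastCases ?_ (fun j => ?_) i
          · rw [Category.assoc, WidePullback.lift_π, Fin.lastCases_last, pullback.lift_snd, Category.id_comp]
          · rw [Category.assoc, WidePullback.lift_π, Fin.lastCases_castSucc, pullback.lift_fst_assoc,
              WidePullback.lift_π, Category.id_comp]
        · rw [Category.assoc, WidePullback.lift_base, pullback.lift_fst_assoc, WidePullback.lift_base, Category.id_comp]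
        · rw [Category.assoc, pullback.lift_fst, Category.id_comp]
          refine WidePullback.hom_ext _ _ _ (fun i => ?_) ?_
          · rw [Category.assoc, WidePullback.lift_π, WidePullback.lift_π, Fin.lastCases_castSucc]
          · rw [Category.assoc, WidePullback.lift_base, WidePullback.lift_base]
        · rw [Category.assoc, pullback.lift_snd, WidePullback.lift_π, Fin.lastCases_last, Category.id_comp]
      rw [show WidePullback.base g = e ≫ pullback.fst _ _ ≫ WidePullback.base (fun i : Fin m => g i.castSucc) by
        rw [pullback.lift_fst_assoc, WidePullback.lift_base]]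
      haveI : LocallyOfFiniteType (pullback.fst (WidePullback.base (fun i : Fin m => g i.castSucc)) (g (Fin.last m))) :=
        MorphismProperty.pullback_fst (P := @LocallyOfFiniteType) _ _ inferInstance
      infer_instance
  haveI := IntegralDesc.isIntegral_base h n
  exact (IsFinite.iff_isIntegralHom_and_locallyOfFiniteType _).2 ⟨inferInstance, inferInstance⟩

theorem preservesHomology_pushBig {T : Scheme.{u}} (b : T ⟶ S) [IsFinite b] :
    (BigSite.pushBig Scheme.etalePrecoverage b AddCommGrpCat.{u + 1}).PreservesHomology := by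
  haveI := EtFppfLib.preservesFiniteLimits_pushBig b Scheme.etalePrecoverage
  haveI : (BigSite.pushBig Scheme.etalePrecoverage b AddCommGrpCat.{u + 1}).PreservesEpimorphisms := ⟨fun g hg =>
    EtFppfLib.epi_pushBig_map b le_rfl g fun M s p => by
      haveI := hg
      haveI : Sheaf.IsLocallySurjective g :=
        (Sheaf.isLocallySurjective_iff_epi' (J := QuotSh.J Scheme.etalePrecoverage T) (A := AddCommGrpCat.{u + 1}) _).2
          inferInstance
      obtain ⟨U, u, hu, w, hw, t, ht⟩ := EtDescentLib.exists_etale_of_mem
        (Presheaf.imageSieve_mem (QuotSh.J Scheme.etalePrecoverage T) g.hom (U := op M) s) p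
      exact ⟨U, u, hu, t, ⟨w, hw⟩, ht⟩⟩
  exact Functor.preservesHomology_of_preservesEpis_and_kernels _

/-- Derived sections killed by the morphism of direct images from split bases vanish. -/
theorem isZero_rightDerived_pushBig {T : Scheme.{u}} (b : T ⟶ S) [IsFinite b] (hb : Split f b) (H : BAb T) (q : ℕ) :
    IsZero (((KF f).rightDerived q).obj ((BigSite.pushBig Scheme.etalePrecoverage b AddCommGrpCat.{u + 1}).obj H)) := by
  haveI := preservesHomology_pushBig b
  haveI := BigEtLib.preservesHomology_pullBig b Scheme.etalePrecoverage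
  haveI : (BigSite.pullBig Scheme.etalePrecoverage b AddCommGrpCat.{u + 1}).Additive := { }
  haveI := (BigSite.pullBig Scheme.etalePrecoverage b AddCommGrpCat.{u + 1}).preservesFiniteLimits_of_preservesHomology
  haveI : (BigSite.pushBig Scheme.etalePrecoverage b AddCommGrpCat.{u + 1}).PreservesInjectiveObjects :=
    Functor.preservesInjectiveObjects_of_adjunction_of_preservesMonomorphisms
      (BigSite.bigAdj Scheme.etalePrecoverage b _)
  let I : InjectiveResolution H := injectiveResolution H
  let I' := LocSuppLib.mapRes (BigSite.pushBig Scheme.etalePrecoverage b AddCommGrpCat.{u + 1}) I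
  exact (ShortComplex.isZero_homology_of_isZero_X₂ _ (isZero_KF_pushBig f b hb (I.cocomplex.X q))).of_iso
    (I'.isoRightDerivedObj (KF f) q)

/-- Derived sections killed by the morphism vanish if it splits after a finite covering. -/
theorem isZero_rightDerived_of_finite {T : Scheme.{u}} (h : T ⟶ S) [IsFinite h] [Surjective h] (hT : Split f h)
    (G : BAb S) (hG : HasGerms (G.obj ⋙ forget AddCommGrpCat.{u + 1})) (q : ℕ) :
    IsZero (((KF f).rightDerived q).obj G) := by
  haveI := IntegralDesc.quasiIso_augC h G hG
  have hsplit : ∀ n, Split f (IntegralDesc.base h n) := fun n => by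
    show Split f (WidePullback.base (fun _ : Fin (n + 1) => h))
    rw [← WidePullback.π_arrow (fun _ : Fin (n + 1) => h) 0]
    exact split_comp f hT _
  have hK : ∀ n, SpSeqLib.IsSAcyclic (KF f) ((IntegralDesc.cxBig h G).X n) := fun n => by
    haveI := isFinite_base h n
    rw [SpSeqLib.isSAcyclic_iff]
    intro p _
    exact isZero_rightDerived_pushBig f (IntegralDesc.base h n) (hsplit n) _ p
  obtain ⟨e⟩ := RpushLib.nonempty_rightDerived_iso_of_acyclic (KF f) (IntegralDesc.cxBig h G)
    (IntegralDesc.augC h G) hK q
  haveI := isFinite_base h q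
  exact (ShortComplex.isZero_homology_of_isZero_X₂ _
    (isZero_KF_pushBig f (IntegralDesc.base h q) (hsplit q) _)).of_iso e

/-- The morphism splits, locally on the base, after finite coverings. -/
def LocSplit : Prop :=
  ∀ y : S, ∃ (V : Scheme.{u}) (j : V ⟶ S) (_ : IsOpenImmersion j) (T : Scheme.{u}) (h : T ⟶ V)
    (_ : IsFinite h) (_ : Surjective h), y ∈ Set.range j.base ∧ Split f (h ≫ j)

theorem split_snd {V T : Scheme.{u}} (j : V ⟶ S) (h : T ⟶ V) (hs : Split f (h ≫ j)) :
    Split (pullback.snd f j) h := by
  intro W z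
  obtain ⟨E, e, he, hz, g, hg⟩ := hs W z
  exact ⟨E, e, he, hz, pullback.lift g (E.hom ≫ h) (by rw [hg, Category.assoc]), pullback.lift_snd _ _ _⟩

/-- The kernel complex of a resolution is exact. -/
theorem isZero_rightDerived (hf : LocSplit f) (G : BAb S) (hG : HasGerms (G.obj ⋙ forget AddCommGrpCat.{u + 1}))
    (n : ℕ) : IsZero (((KF f).rightDerived n).obj G) := by
  let I : InjectiveResolution G := injectiveResolution G
  refine IsZero.of_iso ?_ (I.isoRightDerivedObj (KF f) n)
  refine (ShortComplex.exact_iff_isZero_homology _).1 (IntegralDesc.exact_of_local _ fun W s hs z => ?_)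
  obtain ⟨V, j, hj, T, h, hfin, hsur, hy, hspl⟩ := hf (W.hom z)
  haveI := hj; haveI := hfin; haveI := hsur
  let fV := pullback.snd f j
  let W₀ : Over V := Over.mk (pullback.snd W.hom j)
  let e₀ : (Over.map j).obj W₀ ⟶ W := Over.homMk (pullback.fst W.hom j) pullback.condition
  haveI : Etale e₀.left := inferInstanceAs (Etale (pullback.fst W.hom j))
  obtain ⟨z₀, hz₀⟩ : z ∈ Set.range e₀.left.base := by
    show z ∈ Set.range (pullback.fst W.hom j).base
    rw [IsOpenImmersion.range_pullbackFst]
    exact hy
  let p := (ComplexShape.up ℕ).prev n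
  let m := (ComplexShape.up ℕ).next n
  let R := BigSite.pullBig Scheme.etalePrecoverage j AddCommGrpCat.{u + 1}
  haveI : R.Additive := { }
  haveI : R.PreservesHomology := BigEtLib.preservesHomology_pullBig j Scheme.etalePrecoverage
  haveI : R.PreservesInjectiveObjects := BigEtLib.preservesInjective_pullBig j Scheme.etalePrecoverage
  let IV := LocSuppLib.mapRes R I
  have hV : ((((KF fV).mapHomologicalComplex _).obj IV.cocomplex).sc n).Exact :=
    (ShortComplex.exact_iff_isZero_homology _).2 ((isZero_rightDerived_of_finite fV h (split_snd f j h hspl) _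
      (EtProperH0Lib.hasGerms_restrict hG j) n).of_iso (IV.isoRightDerivedObj (KF fV) n).symm)
  let s₀ := (I.cocomplex.X n).obj.map e₀.op (((ιK f).app (I.cocomplex.X n)).hom.app (op W) s)
  have hs₀ : ((aug fV).app (R.obj (I.cocomplex.X n))).hom.app (op W₀) s₀ = 0 := by
    rw [aug_eq_zero_iff]
    intro P a g hg
    have hn := (aug_eq_zero_iff f (I.cocomplex.X n) W _).1 (aug_ιK f (I.cocomplex.X n) W s)
      ((Over.map j).obj P) ((Over.map j).map a ≫ e₀) (g ≫ pullback.fst f j) (by
        show (g ≫ pullback.fst f j) ≫ f = P.hom ≫ j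
        rw [Category.assoc, pullback.condition, ← Category.assoc, hg])
    exact (IntegralDesc.map_map (I.cocomplex.X n).obj _ _ _ rfl _).trans hn
  obtain ⟨s₁, hs₁⟩ := (exact_ιK fV (R.obj (I.cocomplex.X n)) W₀).2 s₀ hs₀
  have hd : ((KF fV).map (R.map (I.cocomplex.d n m))).hom.app (op W₀) s₁ = 0 := by
    apply (exact_ιK fV (R.obj (I.cocomplex.X m)) W₀).1
    rw [map_zero]
    refine (ConcreteCategory.congr_hom (congrArg (fun k => k.hom.app (op W₀))
      ((ιK fV).naturality (R.map (I.cocomplex.d n m)))) s₁).trans ?_
    show (I.cocomplex.d n m).hom.app (op ((Over.map j).obj W₀)) (((ιK fV).app _).hom.app (op W₀) s₁) = 0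
    rw [hs₁, NatTrans.naturality_apply]
    refine (congrArg ((I.cocomplex.X m).obj.map e₀.op) ?_).trans (map_zero _)
    refine (ConcreteCategory.congr_hom (congrArg (fun k => k.hom.app (op W))
      ((ιK f).naturality (I.cocomplex.d n m))) s).symm.trans ?_
    exact (congrArg (((ιK f).app (I.cocomplex.X m)).hom.app (op W)) hs).trans (map_zero _)
  obtain ⟨E, e, he, t, hz, ht⟩ := exists_local_of_exact _ hV W₀ s₁ hd z₀
  let r := ((ιK fV).app (R.obj (I.cocomplex.X p))).hom.app (op E) t
  have hr : ((aug f).app (I.cocomplex.X p)).hom.app (op ((Over.map j).obj E)) r = 0 := by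
    rw [aug_eq_zero_iff]
    intro P a g hg
    let P' : Over V := Over.mk (a.left ≫ E.hom)
    let a' : P' ⟶ E := Over.homMk a.left rfl
    let e₁ : P ⟶ (Over.map j).obj P' := Over.homMk (𝟙 _) (by
      show 𝟙 _ ≫ (a.left ≫ E.hom) ≫ j = P.hom
      rw [Category.id_comp, Category.assoc]
      exact Over.w a)
    have hn := (aug_eq_zero_iff fV (R.obj (I.cocomplex.X p)) E _).1 (aug_ιK fV (R.obj (I.cocomplex.X p)) E t) P' a'
      (pullback.lift g (a.left ≫ E.hom) (by rw [hg, Category.assoc]; exact (Over.w a).symm))
      (pullback.lift_snd _ _ _)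
    have h2 := congrArg ((I.cocomplex.X p).obj.map e₁.op) hn
    rw [map_zero] at h2
    exact (IntegralDesc.map_map (I.cocomplex.X p).obj _ _ _ (Over.OverMorphism.ext (Category.id_comp a.left)) r).symm.trans h2
  obtain ⟨t', ht'⟩ := (exact_ιK f (I.cocomplex.X p) ((Over.map j).obj E)).2 r hr
  haveI := he
  refine ⟨(Over.map j).obj E, (Over.map j).map e ≫ e₀, by rw [Over.comp_left, Over.map_map_left]; infer_instance, t', ?_, ?_⟩
  · obtain ⟨w, hw⟩ := hz
    exact ⟨w, show e₀.left (e.left w) = z by rw [hw, hz₀]⟩
  · apply (exact_ιK f (I.cocomplex.X n) ((Over.map j).obj E)).1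
    refine (ConcreteCategory.congr_hom (congrArg (fun k => k.hom.app (op ((Over.map j).obj E)))
      ((ιK f).naturality (I.cocomplex.d p n))) t').trans ?_
    show (I.cocomplex.d p n).hom.app (op ((Over.map j).obj E))
      (((ιK f).app (I.cocomplex.X p)).hom.app (op ((Over.map j).obj E)) t') = _
    rw [ht']
    refine (ConcreteCategory.congr_hom (congrArg (fun k => k.hom.app (op E))
      ((ιK fV).naturality (R.map (I.cocomplex.d p n)))) t).symm.trans ?_
    refine (congrArg (((ιK fV).app _).hom.app (op E)) ht).trans ?_
    erw [NatTrans.naturality_apply, hs₁]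
    refine Eq.trans ?_ (NatTrans.naturality_apply ((ιK f).app (I.cocomplex.X n)).hom ((Over.map j).map e ≫ e₀).op s).symm
    exact IntegralDesc.map_map (I.cocomplex.X n).obj _ _ _ rfl _

/-- The complex of terms. -/
def cxC (J : BAb S) : CochainComplex (BAb S) ℕ :=
  CochainComplex.of (fun n => (CF f n).obj J) (dC f J) (dC_dC f J)

theorem cxC_d (J : BAb S) (n : ℕ) : (cxC f J).d n (n + 1) = dC f J n := by
  simp [cxC, CochainComplex.of, CochainComplex.of.d]

theorem aug_cxC (J : BAb S) : (aug f).app J ≫ (cxC f J).d 0 1 = 0 :=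
  (congrArg ((aug f).app J ≫ ·) (cxC_d f J 0)).trans (aug_dC f J)

/-- A resolution of the sheaf of killed sections of an injective sheaf. -/
abbrev resK (J : BAb S) : CochainComplex (BAb S) ℕ := (cxC f J).augment ((aug f).app J) (aug_cxC f J)

/-- Its augmentation. -/
def resKι (J : BAb S) : (CochainComplex.single₀ (BAb S)).obj ((KF f).obj J) ⟶ resK f J :=
  (CochainComplex.fromSingle₀Equiv _ _).symm ⟨(ιK f).app J,
    (congrArg ((ιK f).app J ≫ ·) (CochainComplex.augment_d_zero_one _ _ _)).trans
      (congrArg (fun k : KF f ⟶ CF f 0 => k.app J) (ιK_aug f))⟩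

/-- Exactness of the resolution on sections. -/
theorem exists_preimage_resK (J : BAb S) [Injective J] (W : Over S) (n : ℕ) (x : ((resK f J).X (n + 1)).obj.obj (op W))
    (hx : ((resK f J).d (n + 1) (n + 2)).hom.app (op W) x = 0) :
    ∃ y, ((resK f J).d n (n + 1)).hom.app (op W) y = x := by
  cases n with
  | zero =>
    rw [show (resK f J).d 1 2 = dC f J 0 from (CochainComplex.augment_d_succ_succ _ _ _ 0 1).trans (cxC_d f J 0)] at hx
    obtain ⟨y, hy⟩ := exists_aug_of_injective f J W x hx
    refine ⟨y, ?_⟩
    rw [show (resK f J).d 0 1 = (aug f).app J from CochainComplex.augment_d_zero_one _ _ _]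
    exact hy
  | succ n =>
    rw [show (resK f J).d (n + 2) (n + 3) = dC f J (n + 1) from
      (CochainComplex.augment_d_succ_succ _ _ _ (n + 1) (n + 2)).trans (cxC_d f J (n + 1))] at hx
    obtain ⟨y, hy⟩ := hExact_injective_sheaf J (nerveAt f W) n x hx
    refine ⟨y, ?_⟩
    rw [show (resK f J).d (n + 1) (n + 2) = dC f J n from
      (CochainComplex.augment_d_succ_succ _ _ _ n (n + 1)).trans (cxC_d f J n)]
    exact hy

theorem quasiIso_resKι (J : BAb S) [Injective J] : QuasiIso (resKι f J) := ⟨fun n => by
  cases n with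
  | zero =>
    haveI : Mono ((ιK f).app J) := by
      haveI : ∀ W, Mono (((ιK f).app J).hom.app W) := fun W =>
        (AddCommGrpCat.mono_iff_injective _).2 (exact_ιK f J W.unop).1
      haveI : Mono ((ιK f).app J).hom := NatTrans.mono_of_mono_app _
      haveI : Mono ((sheafToPresheaf _ _).map ((ιK f).app J)) := ‹Mono ((ιK f).app J).hom›
      exact (sheafToPresheaf _ _).mono_of_mono_map (f := (ιK f).app J) ‹_›
    rw [quasiIsoAt_iff' _ 0 0 1 (by simp) (by simp)]
    refine (ShortComplex.quasiIso_iff_of_zeros _ ?_ ?_ ?_).2 ⟨?_, ?_⟩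
    · show ((CochainComplex.single₀ (BAb S)).obj ((KF f).obj J)).d 0 0 = 0
      simp
    · show ((CochainComplex.single₀ (BAb S)).obj ((KF f).obj J)).d 0 1 = 0
      simp
    · show (resK f J).d 0 0 = 0
      exact HomologicalComplex.shape _ _ _ (by simp)
    · refine ShortComplex.exact_of_iso
        (S₁ := ShortComplex.mk ((ιK f).app J) ((aug f).app J) (congrArg (fun k : KF f ⟶ CF f 0 => k.app J) (ιK_aug f)))
        (ShortComplex.isoMk (Iso.refl _) (Iso.refl _) (Iso.refl _) ?_ ?_)
        (IntegralDesc.exact_of_local _ fun W s hs z => ⟨W, 𝟙 W, inferInstanceAs (Etale (𝟙 W.left)),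
          ((exact_ιK f J W).2 s hs).choose, ⟨z, rfl⟩,
          ((exact_ιK f J W).2 s hs).choose_spec.trans (ConcreteCategory.congr_hom (J.obj.map_id (op W)) s).symm⟩)
      · exact ((Category.id_comp _).trans (CochainComplex.fromSingle₀Equiv_symm_apply_f_zero _ _)).trans
          (Category.comp_id _).symm
      · exact ((Category.id_comp ((resK f J).d 0 1)).trans
          (CochainComplex.augment_d_zero_one _ _ _)).trans (Category.comp_id ((aug f).app J)).symm
    · simp only [HomologicalComplex.shortComplexFunctor'_map_τ₂, resKι,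
        CochainComplex.fromSingle₀Equiv_symm_apply_f_zero]
      infer_instance
  | succ n =>
    rw [quasiIsoAt_iff_exactAt']
    · exact CochainComplex.exactAt_succ_single_obj _ _
    · rw [HomologicalComplex.exactAt_iff' _ n (n + 1) (n + 2) (by simp) (by simp)]
      refine IntegralDesc.exact_of_local _ fun W s hs z => ?_
      obtain ⟨y, hy⟩ := exists_preimage_resK f J W n s hs
      exact ⟨W, 𝟙 W, inferInstanceAs (Etale (𝟙 W.left)), y, ⟨z, rfl⟩,
        hy.trans (ConcreteCategory.congr_hom (((resK f J).X (n + 1)).obj.map_id (op W)) s).symm⟩⟩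

/-- Sections over an object. -/
abbrev secW (W : Over S) : BAb S ⥤ AddCommGrpCat.{u + 1} :=
  (sheafSections (QuotSh.J Scheme.etalePrecoverage S) AddCommGrpCat.{u + 1}).obj (op W)

instance additive_secW (W : Over S) : (secW W).Additive := { }

theorem preservesFiniteLimits_secW (W : Over S) : PreservesFiniteLimits (secW W) :=
  inferInstanceAs (PreservesFiniteLimits (sheafToPresheaf (QuotSh.J Scheme.etalePrecoverage S) AddCommGrpCat.{u + 1} ⋙
    (evaluation _ _).obj (op W)))

/-- Killed sections of injective sheaves are acyclic. -/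
theorem isSAcyclic_KF (J : BAb S) [Injective J] (W : Over S) : SpSeqLib.IsSAcyclic (secW W) ((KF f).obj J) := by
  haveI := preservesFiniteLimits_secW W
  haveI := quasiIso_resKι f J
  rw [SpSeqLib.isSAcyclic_iff]
  intro q hq
  obtain ⟨e⟩ := RpushLib.nonempty_rightDerived_iso_of_acyclic (secW W) (resK f J) (resKι f J) (fun n => by
    haveI : Injective ((resK f J).X n) := by
      cases n with
      | zero => exact ‹Injective J›
      | succ n => exact injective_CF f n J
    exact SpSeqLib.isSAcyclic_of_injective _ _) q
  refine IsZero.of_iso ?_ e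
  obtain ⟨n, rfl⟩ : ∃ n, q = n + 1 := ⟨q - 1, by omega⟩
  refine ((((secW W).mapHomologicalComplex _).obj (resK f J)).exactAt_iff_isZero_homology (n + 1)).1 ?_
  rw [HomologicalComplex.exactAt_iff' _ n (n + 1) (n + 2) (by simp) (by simp), ShortComplex.ab_exact_iff]
  exact fun x hx => exists_preimage_resK f J W n x hx

/-- The sections of the kernel complex are exact. -/
theorem acyclic_sections (hf : LocSplit f) (G : BAb S) (hG : HasGerms (G.obj ⋙ forget AddCommGrpCat.{u + 1}))
    (I : InjectiveResolution G) (W : Over S) :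
    (((secW W).mapHomologicalComplex _).obj (((KF f).mapHomologicalComplex _).obj I.cochainComplex)).Acyclic := by
  haveI := preservesFiniteLimits_secW W
  let M : CochainComplex (BAb S) ℤ := ((KF f).mapHomologicalComplex (ComplexShape.up ℤ)).obj I.cochainComplex
  haveI : M.IsStrictlyGE 0 := by
    rw [CochainComplex.isStrictlyGE_iff]
    exact fun k hk => (KF f).map_isZero (I.cochainComplex.isZero_of_isStrictlyGE 0 k hk)
  refine SpSeqLib.acyclic_map_of_isSAcyclic (secW W) M 0 (fun k => ?_) (fun k => isSAcyclic_KF f _ W)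
  by_cases hk : 0 ≤ k
  · obtain ⟨n, rfl⟩ := Int.eq_ofNat_of_zero_le hk
    rw [HomologicalComplex.exactAt_iff_isZero_homology]
    refine IsZero.of_iso ?_ ((HomologicalComplex.homologyFunctor _ _ (n : ℤ)).mapIso
      (SpSeqLib.mapExtendNatIso (KF f) I.cocomplex) ≪≫
      (((KF f).mapHomologicalComplex _).obj I.cocomplex).extendHomologyIso ComplexShape.embeddingUpNat
        (j := n) (j' := (n : ℤ)) rfl)
    exact (isZero_rightDerived f hf G hG n).of_iso (I.isoRightDerivedObj (KF f) n).symm
  · exact ShortComplex.exact_of_isZero_X₂ _ (M.isZero_of_isStrictlyGE 0 k (by omega))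

end

end BlowRegLib.SplitDesc
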