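import Groth.Prelude.Def_W4c1hurwitzcptBd
import Mathlib.RingTheory.PowerSeries.Order
import Mathlib.RingTheory.PowerSeries.NoZeroDivisors
import Mathlib.RingTheory.PowerSeries.Inverse
import Mathlib.RingTheory.PowerSeries.Substitution
import Mathlib.LinearAlgebra.Matrix.ToLinearEquiv
import Mathlib.LinearAlgebra.Basis.Basic
import Mathlib.LinearAlgebra.Matrix.Basis
import Mathlib.RingTheory.LocalRing.Module
import Mathlib.LinearAlgebra.Dimension.Free
import Mathlib.LinearAlgebra.FreeModule.Finite.Basic

/-!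
# Bases of lattices in `k⟦x⟧` over `k⟦x²⟧` with distinct valuations
-/

set_option autoImplicit false
universe u

open PowerSeries Matrix
open scoped BigOperators

noncomputable section

namespace BlowRegLib.Disk2

open W4c1hurwitzcpt

variable {k : Type u} [Field k]


/-- The component in residue class `r`. -/
def comp2 (r : Fin 2) : (RootDisk 2 k) →ₗ[(PowerSeries k)] (PowerSeries k) where
  toFun f := PowerSeries.mk fun n => PowerSeries.coeff (2 * n + (r : ℕ)) (RootDisk.val f)
  map_add' f g := by
    ext n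
    simp
  map_smul' a f := by
    ext n
    rw [PowerSeries.coeff_mk, RingHom.id_apply, smul_eq_mul, PowerSeries.coeff_mul, Algebra.smul_def, map_mul]
    change PowerSeries.coeff _ (PowerSeries.expand 2 (by norm_num) a * RootDisk.val f) = _
    rw [PowerSeries.coeff_mul]
    refine (Finset.sum_of_injOn (fun p : ℕ × ℕ => (2 * p.1, 2 * p.2 + (r : ℕ))) ?_ ?_ ?_ ?_).symm
    · intro p _ q _ h
      simp only [Prod.mk.injEq] at h
      ext <;> omega
    · intro p hp
      simp only [Finset.mem_coe, Finset.mem_antidiagonal] at hp ⊢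
      omega
    · intro p hp hp'
      simp only [Finset.mem_antidiagonal] at hp
      rw [PowerSeries.coeff_expand]
      split_ifs with h2'
      · exfalso
        refine hp' ⟨(p.1 / 2, n - p.1 / 2), ?_, ?_⟩
        · simp only [Finset.mem_coe, Finset.mem_antidiagonal]
          have := r.2
          omega
        · have := r.2
          ext <;> simp only <;> omega
      · rw [zero_mul]
    · intro p _
      rw [PowerSeries.coeff_mk, PowerSeries.coeff_expand_mul]

theorem comp2_apply (r : Fin 2) (f : (RootDisk 2 k)) (n : ℕ) :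
    PowerSeries.coeff n (comp2 r f) = PowerSeries.coeff (2 * n + (r : ℕ)) (RootDisk.val f) := by
  simp only [comp2, LinearMap.coe_mk, AddHom.coe_mk, PowerSeries.coeff_mk]

theorem eq_zero_of_comp2 (f : (RootDisk 2 k)) (h : ∀ r, comp2 r f = 0) : f = 0 := by
  apply (RootDisk.val (p := 2) (k := k)).injective
  rw [map_zero]
  ext n
  have h1 := congrArg (PowerSeries.coeff (n / 2)) (h ⟨n % 2, Nat.mod_lt _ (by norm_num)⟩)
  rw [comp2_apply, map_zero] at h1
  simpa [Nat.div_add_mod] using h1

variable {M : Submodule (PowerSeries k) (RootDisk 2 k)}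

/-- The valuation of an element. -/
abbrev ordM (m : M) : ℕ := (PowerSeries.order (RootDisk.val (m : (RootDisk 2 k)))).toNat

theorem val_ne_zero {m : M} (hm : m ≠ 0) : RootDisk.val (m : (RootDisk 2 k)) ≠ 0 := fun h =>
  hm (Subtype.ext ((RootDisk.val (p := 2) (k := k)).injective (h.trans (map_zero _).symm)))

theorem ord_bounded (b : Module.Basis (Fin 2) (PowerSeries k) M) :
    ∃ D : ℕ, ∀ (g : Module.Basis (Fin 2) (PowerSeries k) M) (j : Fin 2), ordM (g j) < D := by
  classical
  let A : Matrix (Fin 2) (Fin 2) (PowerSeries k) := Matrix.of fun r i => comp2 r (b i : (RootDisk 2 k))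
  have hA : A.det ≠ 0 := fun h => by
    obtain ⟨v, hv, hv0⟩ := Matrix.exists_mulVec_eq_zero_iff.2 h
    refine hv ?_
    have hs : ∑ i, v i • b i = 0 := by
      refine Subtype.ext (eq_zero_of_comp2 _ fun r => ?_)
      have := congrFun hv0 r
      simp only [Matrix.mulVec, dotProduct, A, Matrix.of_apply, Pi.zero_apply] at this
      simp only [Submodule.coe_sum, Submodule.coe_smul, map_sum, map_smul, smul_eq_mul]
      rw [← this]
      exact Finset.sum_congr rfl fun i _ => mul_comm _ _
    exact funext fun i => Fintype.linearIndependent_iff.1 b.linearIndependent v hs i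
  refine ⟨2 * (A.det.order.toNat + 1), fun g j => ?_⟩
  by_contra hlt
  rw [not_lt] at hlt
  set N := A.det.order.toNat + 1
  let B : Matrix (Fin 2) (Fin 2) (PowerSeries k) := Matrix.of fun r i => comp2 r (g i : (RootDisk 2 k))
  have hBA : A = B * g.toMatrix b := by
    ext1 r i
    simp only [Matrix.mul_apply, A, B, Matrix.of_apply, Module.Basis.toMatrix_apply]
    conv_lhs => rw [← g.sum_repr (b i)]
    simp only [Submodule.coe_sum, Submodule.coe_smul, map_sum, map_smul, smul_eq_mul]
    exact Finset.sum_congr rfl fun l _ => mul_comm _ _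
  have hcol : ∀ r, (PowerSeries.X : PowerSeries k) ^ N ∣ B r j := fun r => by
    rw [PowerSeries.X_pow_dvd_iff]
    intro n hn
    simp only [B, Matrix.of_apply, comp2_apply]
    refine PowerSeries.coeff_of_lt_order_toNat _ (lt_of_lt_of_le ?_ hlt)
    have := r.2
    omega
  have hdvd : (PowerSeries.X : PowerSeries k) ^ N ∣ B.det := by
    rw [Matrix.det_apply]
    refine Finset.dvd_sum fun σ _ => ?_
    rw [Units.smul_def, zsmul_eq_mul]
    refine Dvd.dvd.mul_left ?_ _
    exact (hcol (σ j)).trans (Finset.dvd_prod_of_mem (fun i => B (σ i) i) (Finset.mem_univ j))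
  have hdvdA : (PowerSeries.X : PowerSeries k) ^ N ∣ A.det := by
    rw [hBA, Matrix.det_mul]
    exact dvd_mul_of_dvd_left hdvd _
  rw [PowerSeries.X_pow_dvd_iff] at hdvdA
  exact PowerSeries.coeff_order hA (hdvdA _ (Nat.lt_succ_self _))

theorem exists_improve (g : Module.Basis (Fin 2) (PowerSeries k) M) {i j : Fin 2} (hij : i ≠ j)
    (hmod : Nat.ModEq 2 (ordM (g i)) (ordM (g j))) (hle : ordM (g i) ≤ ordM (g j)) :
    ∃ g' : Module.Basis (Fin 2) (PowerSeries k) M, ∑ l, ordM (g l) < ∑ l, ordM (g' l) := by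
  classical
  obtain ⟨q, hq⟩ : ∃ q, ordM (g j) = ordM (g i) + 2 * q := by
    refine ⟨(ordM (g j) - ordM (g i)) / 2, ?_⟩
    have := Nat.ModEq.dvd hmod
    omega
  have hi := PowerSeries.coeff_order (val_ne_zero (g.ne_zero i))
  let c : k := PowerSeries.coeff (ordM (g j)) (RootDisk.val (g j : (RootDisk 2 k))) /
    PowerSeries.coeff (ordM (g i)) (RootDisk.val (g i : (RootDisk 2 k)))
  let a : (PowerSeries k) := PowerSeries.C c * PowerSeries.X ^ q
  let t : M →ₗ[(PowerSeries k)] M := (g.coord j).smulRight (a • g i)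
  have htt : t ∘ₗ t = 0 := LinearMap.ext fun m => by
    simp [t, Finsupp.single_apply, hij, hij.symm]
  let e : M ≃ₗ[(PowerSeries k)] M := LinearEquiv.ofLinear (LinearMap.id - t) (LinearMap.id + t)
    (by
      rw [LinearMap.sub_comp, LinearMap.comp_add, LinearMap.comp_add, LinearMap.id_comp, LinearMap.id_comp,
        LinearMap.comp_id, htt]
      abel)
    (by
      rw [LinearMap.add_comp, LinearMap.comp_sub, LinearMap.comp_sub, LinearMap.id_comp, LinearMap.id_comp,
        LinearMap.comp_id, htt]
      abel)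
  refine ⟨g.map e, ?_⟩
  have hl : ∀ l, l ≠ j → g.map e l = g l := fun l hl => by
    simp [e, t, Finsupp.single_apply, hl, Ne.symm hl]
  have hj : g.map e j = g j - a • g i := by simp [e, t]
  have hkey : ordM (g j) < ordM (g.map e j) := by
    have hne := val_ne_zero ((g.map e).ne_zero j)
    refine lt_of_not_ge fun hge => PowerSeries.coeff_order hne ?_
    change PowerSeries.coeff (ordM (g.map e j)) (RootDisk.val (g.map e j : (RootDisk 2 k))) = 0
    have hval : RootDisk.val (g.map e j : (RootDisk 2 k)) = RootDisk.val (g j : (RootDisk 2 k)) -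
        PowerSeries.C c * PowerSeries.X ^ (2 * q) * RootDisk.val (g i : (RootDisk 2 k)) := by
      rw [hj, Submodule.coe_sub, Submodule.coe_smul, map_sub, Algebra.smul_def, map_mul]
      congr 2
      change PowerSeries.expand 2 (by norm_num) a = _
      rw [map_mul, map_pow, PowerSeries.expand_C, PowerSeries.expand_X, ← pow_mul]
    rw [hval, map_sub, mul_assoc, PowerSeries.coeff_C_mul, PowerSeries.coeff_X_pow_mul']
    rcases lt_or_eq_of_le hge with hlt | heq
    · rw [PowerSeries.coeff_of_lt_order_toNat _ hlt]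
      split_ifs with h
      · rw [PowerSeries.coeff_of_lt_order_toNat _ (show _ - 2 * q < ordM (g i) by omega), mul_zero, sub_zero]
      · rw [mul_zero, sub_zero]
    · rw [heq, if_pos (by omega), show ordM (g j) - 2 * q = ordM (g i) by omega]
      simp only [c]
      rw [div_mul_cancel₀ _ hi, sub_self]
  refine Finset.sum_lt_sum (fun l _ => ?_) ⟨j, Finset.mem_univ j, hkey⟩
  rcases eq_or_ne l j with rfl | h
  · exact hkey.le
  · rw [hl l h]

theorem exists_basis_distinct (b : Module.Basis (Fin 2) (PowerSeries k) M) :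
    ∃ g : Module.Basis (Fin 2) (PowerSeries k) M, ∀ i j : Fin 2, i ≠ j → ¬ Nat.ModEq 2 (ordM (g i)) (ordM (g j)) := by
  classical
  obtain ⟨D, hD⟩ := ord_bounded b
  let T : Set ℕ := {n | ∃ g : Module.Basis (Fin 2) (PowerSeries k) M, ∑ l, ordM (g l) = n}
  have hfin : T.Finite := (Set.finite_lt_nat (2 * D + 1)).subset fun n hn => by
    obtain ⟨g, rfl⟩ := hn
    have h0 := hD g 0
    have h1 := hD g 1
    simp only [Set.mem_setOf_eq, Fin.sum_univ_two]
    omega
  obtain ⟨n, hnT, hmax⟩ := hfin.exists_maximal ⟨_, b, rfl⟩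
  obtain ⟨g, rfl⟩ := hnT
  refine ⟨g, fun i j hij hmod => ?_⟩
  rcases le_total (ordM (g i)) (ordM (g j)) with hle | hle
  · obtain ⟨g', hg'⟩ := exists_improve g hij hmod hle
    exact absurd (hmax ⟨g', rfl⟩ hg'.le) (not_le.2 hg')
  · obtain ⟨g', hg'⟩ := exists_improve g hij.symm hmod.symm hle
    exact absurd (hmax ⟨g', rfl⟩ hg'.le) (not_le.2 hg')


theorem exists_span (M : Submodule (PowerSeries k) (RootDisk 2 k × PowerSeries k))
    (h1 : (1 : RootDisk 2 k × PowerSeries k) ∈ M)
    (bM : Module.Basis (Fin 3) (PowerSeries k) M) :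
    ∃ f₁ f₂ : RootDisk 2 k,
      ¬ Nat.ModEq 2 (PowerSeries.order (RootDisk.val f₁)).toNat (PowerSeries.order (RootDisk.val f₂)).toNat ∧
      M = Submodule.span (PowerSeries k) {(1 : RootDisk 2 k × PowerSeries k), (f₁, 0), (f₂, 0)} := by
  classical
  let N : Submodule (PowerSeries k) (RootDisk 2 k) := M.comap (LinearMap.inl _ _ _)
  have hmem : ∀ m : M, ((m : RootDisk 2 k × PowerSeries k).1 -
      (m : RootDisk 2 k × PowerSeries k).2 • (1 : RootDisk 2 k)) ∈ N := fun m => by
    have h := M.sub_mem m.2 (M.smul_mem (m : RootDisk 2 k × PowerSeries k).2 h1)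
    rw [Submodule.mem_comap]
    convert h using 1
    ext <;> simp
  let e : M ≃ₗ[PowerSeries k] PowerSeries k × N := LinearEquiv.ofLinear
    ((LinearMap.snd _ _ _ ∘ₗ M.subtype).prod
      (((LinearMap.fst _ _ _ - (LinearMap.snd _ _ _).smulRight (1 : RootDisk 2 k)) ∘ₗ M.subtype).codRestrict N hmem))
    ((((LinearMap.id.smulRight (1 : RootDisk 2 k × PowerSeries k)).coprod
      (LinearMap.inl _ _ _ ∘ₗ N.subtype))).codRestrict M fun x => M.add_mem (M.smul_mem _ h1) x.2.2)
    (by
      refine LinearMap.ext fun x => Prod.ext ?_ (Subtype.ext ?_)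
      · change (x.1 • (1 : RootDisk 2 k × PowerSeries k) + ((x.2 : RootDisk 2 k), 0)).2 = x.1
        simp
      · change (x.1 • (1 : RootDisk 2 k × PowerSeries k) + ((x.2 : RootDisk 2 k), 0)).1 -
          (x.1 • (1 : RootDisk 2 k × PowerSeries k) + ((x.2 : RootDisk 2 k), 0)).2 • (1 : RootDisk 2 k) = x.2
        simp)
    (by
      refine LinearMap.ext fun m => Subtype.ext ?_
      change (m : RootDisk 2 k × PowerSeries k).2 • (1 : RootDisk 2 k × PowerSeries k) +
        (((m : RootDisk 2 k × PowerSeries k).1 -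
          (m : RootDisk 2 k × PowerSeries k).2 • (1 : RootDisk 2 k), 0) : RootDisk 2 k × PowerSeries k) =
            (m : RootDisk 2 k × PowerSeries k)
      refine Prod.ext ?_ ?_ <;> simp)
  haveI : Module.Finite (PowerSeries k) M := Module.Finite.of_basis bM
  haveI : Module.Free (PowerSeries k) M := Module.Free.of_basis bM
  haveI : Module.Finite (PowerSeries k) N :=
    Module.Finite.of_surjective (LinearMap.snd _ _ _ ∘ₗ e.toLinearMap)
      (Prod.snd_surjective.comp e.surjective)
  haveI : Module.Projective (PowerSeries k) N := by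
    haveI : Module.Projective (PowerSeries k) (PowerSeries k × N) := Module.Projective.of_equiv e
    exact Module.Projective.of_split (LinearMap.inr (PowerSeries k) (PowerSeries k) N) (LinearMap.snd (PowerSeries k) (PowerSeries k) N) (LinearMap.snd_comp_inr (PowerSeries k) (PowerSeries k) N)
  haveI : Module.Free (PowerSeries k) N := Module.free_of_flat_of_isLocalRing
  have hN : Module.finrank (PowerSeries k) N = 2 := by
    have h := e.finrank_eq
    rw [Module.finrank_prod, Module.finrank_self, Module.finrank_eq_card_basis bM, Fintype.card_fin] at h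
    omega
  obtain ⟨g, hg⟩ := exists_basis_distinct (M := N) (Module.finBasisOfFinrankEq _ _ hN)
  refine ⟨(g 0 : RootDisk 2 k), (g 1 : RootDisk 2 k), hg 0 1 (by decide), ?_⟩
  refine le_antisymm (fun m hm => ?_) (Submodule.span_le.2 ?_)
  · let m' : M := ⟨m, hm⟩
    have hs := g.sum_repr (e m').2
    rw [Fin.sum_univ_two] at hs
    have hs' := congrArg (fun z : N => (z : RootDisk 2 k)) hs
    simp only [Submodule.coe_add, Submodule.coe_smul] at hs'
    refine Submodule.mem_span_triple.2 ⟨m.2, g.repr (e m').2 0, g.repr (e m').2 1, ?_⟩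
    refine Prod.ext ?_ ?_
    · simp only [Prod.fst_add, Prod.smul_fst, Prod.fst_one]
      rw [add_assoc, hs']
      change m.2 • (1 : RootDisk 2 k) + (m.1 - m.2 • (1 : RootDisk 2 k)) = m.1
      abel
    · simp
  · intro x hx
    rcases hx with rfl | rfl | rfl
    exacts [h1, (g 0).2, (g 1).2]

end BlowRegLib.Disk2
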