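import Groth.Agent.BlowRegLib.QuotRestr
import Mathlib.CategoryTheory.Subobject.Basic

/-!
# Subobjects of a quotient of sheaves of sets
-/

set_option autoImplicit false
universe w v₁ u₁

open CategoryTheory CategoryTheory.Limits Opposite

noncomputable section

namespace BlowRegLib

variable {C : Type u₁} [Category.{v₁} C] {J : GrothendieckTopology C} [HasSheafify J (Type w)]

/-- The component of a morphism of sheaves of sets. -/
abbrev ev {A B : Sheaf J (Type w)} (f : A ⟶ B) (V : Cᵒᵖ) :
    ((sheafToPresheaf J (Type w)).obj A).obj V ⟶ ((sheafToPresheaf J (Type w)).obj B).obj V :=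
  ((sheafToPresheaf J (Type w)).map f).app V

theorem mono_eval {A B : Sheaf J (Type w)} (m : A ⟶ B) [Mono m] (V : Cᵒᵖ) :
    Function.Injective (ev m V) := by
  haveI : Mono ((sheafToPresheaf J (Type w)).map m) := inferInstance
  exact (CategoryTheory.mono_iff_injective _).1 (NatTrans.mono_iff_mono_app _ |>.1 ‹_› V)

theorem imageSieve_mem_of_split {A B : Sheaf J (Type w)} (c : A ⟶ B) [Epi c]
    {s : B ⟶ Sheaf.image c} (hs : c ≫ s = Sheaf.toImage c) {U : Cᵒᵖ}
    (a : ((sheafToPresheaf J _).obj B).obj U) :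
    Presheaf.imageSieve ((sheafToPresheaf J _).map c) (U := U.unop) a ∈ J U.unop := by
  have hid : s ≫ Sheaf.imageι c = 𝟙 B := by
    rw [← cancel_epi c, reassoc_of% hs, Sheaf.toImage_ι, Category.comp_id]
  have ha : ((sheafToPresheaf J _).map (s ≫ Sheaf.imageι c)).app U a = a := by rw [hid]; rfl
  have hmem := (((sheafToPresheaf J _).map s).app U a).2
  change ((((sheafToPresheaf J _).map s).app U a).1 :) ∈ _ at hmem
  rw [show (((sheafToPresheaf J _).map s).app U a).1 = a from ha] at hmem
  refine J.superset_covering ?_ hmem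
  intro W i hi
  obtain ⟨y, hy⟩ := hi
  exact ⟨y, hy⟩

/-- A section which is locally in a subsheaf is in the subsheaf. -/
theorem exists_of_locally {A B : Sheaf J (Type w)} (m : A ⟶ B) [Mono m] {U : C}
    (a : ((sheafToPresheaf J _).obj B).obj (op U)) (S : Sieve U) (hS : S ∈ J U)
    (h : ∀ ⦃W : C⦄ (i : W ⟶ U), S i → ∃ y, ev m (op W) y =
      ((sheafToPresheaf J _).obj B).map i.op a) :
    ∃ y, ev m (op U) y = a := by
  choose y hy using h
  have hA := (isSheaf_iff_isSheaf_of_type _ _).1 A.2
  have hcomp : Presieve.FamilyOfElements.Compatible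
      (fun W i hi => y i hi : Presieve.FamilyOfElements ((sheafToPresheaf J (Type w)).obj A) S.arrows) := by
    intro W₁ W₂ V g₁ g₂ i₁ i₂ h₁ h₂ hcomm
    refine mono_eval m (op V) ?_
    have n1 := NatTrans.naturality_apply ((sheafToPresheaf J (Type w)).map m) g₁.op (y i₁ h₁)
    have n2 := NatTrans.naturality_apply ((sheafToPresheaf J (Type w)).map m) g₂.op (y i₂ h₂)
    refine n1.trans (Eq.trans ?_ n2.symm)
    erw [hy i₁ h₁, hy i₂ h₂]
    rw [← Functor.map_comp_apply, ← Functor.map_comp_apply, ← op_comp, ← op_comp, hcomm]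
  refine ⟨(hA S hS).amalgamate _ hcomp, ?_⟩
  have hB := Presieve.IsSheaf.isSeparated ((isSheaf_iff_isSheaf_of_type _ _).1 B.2)
  refine hB S hS |>.ext fun W i hi => ?_
  refine (NatTrans.naturality_apply ((sheafToPresheaf J (Type w)).map m) i.op _).symm.trans ?_
  exact (congr_arg _ ((hA S hS).valid_glue hcomp i hi)).trans (hy i hi)

/-- A morphism whose values lie in a subsheaf factors through it. -/
theorem exists_lift_of_eval {A B D : Sheaf J (Type w)} (m : A ⟶ B) [Mono m] (f : D ⟶ B)
    (h : ∀ (V : Cᵒᵖ) a, ∃ y, ev m V y = ev f V a) : ∃ g : D ⟶ A, g ≫ m = f := by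
  choose y hy using h
  let φ : (sheafToPresheaf J (Type w)).obj D ⟶ (sheafToPresheaf J (Type w)).obj A :=
    { app := fun V => ↾(y V)
      naturality := fun V W i => by
        ext a
        refine mono_eval m W ?_
        have n1 := NatTrans.naturality_apply ((sheafToPresheaf J (Type w)).map f) i a
        have n2 := NatTrans.naturality_apply ((sheafToPresheaf J (Type w)).map m) i (y V a)
        exact (hy W _).trans (n1.trans ((congr_arg _ (hy V a).symm).trans n2.symm)) }
  refine ⟨(fullyFaithfulSheafToPresheaf J (Type w)).preimage φ, ?_⟩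
  refine (sheafToPresheaf J (Type w)).map_injective ?_
  rw [Functor.map_comp, Functor.FullyFaithful.map_preimage]
  ext V a
  exact hy V a

theorem le_of_eval {X : Sheaf J (Type w)} {P Q : Subobject X}
    (h : ∀ (V : Cᵒᵖ) a, ∃ y, ev Q.arrow V y = ev P.arrow V a) : P ≤ Q := by
  obtain ⟨g, hg⟩ := exists_lift_of_eval Q.arrow P.arrow h
  exact Subobject.le_of_comm g hg

theorem mem_pullback {A B : Sheaf J (Type w)} (f : A ⟶ B) (P : Subobject B) (V : Cᵒᵖ)
    (a : ((sheafToPresheaf J _).obj A).obj V) :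
    (∃ y, ev ((Subobject.pullback f).obj P).arrow V y = a) ↔
      ∃ z, ev P.arrow V z = ev f V a := by
  have hsq := isPullback_eval (Subobject.isPullback f P) V
  constructor
  · rintro ⟨y, rfl⟩
    exact ⟨_, ConcreteCategory.congr_hom hsq.w y⟩
  · rintro ⟨z, hz⟩
    obtain ⟨y, -, hy⟩ := Types.exists_of_isPullback hsq z a hz
    exact ⟨y, hy⟩

variable {R X : Sheaf J (Type w)} {p₁ p₂ : R ⟶ X}

theorem pullback_quotient_bijection (e : UniversallyEffectiveEquivalenceRelation p₁ p₂) :
    Function.Injective (Subobject.pullback e.π).obj ∧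
      Set.range (Subobject.pullback e.π).obj =
        {Y : Subobject X | (Subobject.pullback p₁).obj Y = (Subobject.pullback p₂).obj Y} := by
  have hcol := e.toEffectiveEquivalenceRelation.isCoequalizer
  haveI : Epi e.π := epi_of_isColimit_cofork hcol
  obtain ⟨s, hs⟩ : ∃ s, e.π ≫ s = Sheaf.toImage e.π := by
    obtain ⟨s, hs⟩ := Cofork.IsColimit.desc' hcol (Sheaf.toImage e.π) (by
      rw [← cancel_mono (Sheaf.imageι _), Category.assoc, Category.assoc, Sheaf.toImage_ι]
      exact e.isKernelPair.w)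
    exact ⟨s, hs⟩
  have hloc := fun {U : Cᵒᵖ} a => imageSieve_mem_of_split e.π hs (U := U) a
  have key : ∀ P Q : Subobject e.B,
      (Subobject.pullback e.π).obj P = (Subobject.pullback e.π).obj Q → P ≤ Q := by
    intro P Q hPQ
    refine le_of_eval fun V z => exists_of_locally Q.arrow _ _ (hloc (ev P.arrow V z)) ?_
    rintro W i ⟨x, hx⟩
    have h1 : ∃ y, ev P.arrow (op W) y = ev e.π (op W) x :=
      ⟨_, (NatTrans.naturality_apply ((sheafToPresheaf J (Type w)).map P.arrow) i.op z).trans hx.symm⟩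
    have h2 := (mem_pullback e.π P (op W) x).2 h1
    rw [hPQ] at h2
    obtain ⟨y, hy⟩ := (mem_pullback e.π Q (op W) x).1 h2
    exact ⟨y, hy.trans hx⟩
  refine ⟨fun P Q h => le_antisymm (key P Q h) (key Q P h.symm), Set.ext fun Y => ⟨?_, fun hY => ?_⟩⟩
  · rintro ⟨Z, rfl⟩
    change (Subobject.pullback p₁).obj ((Subobject.pullback e.π).obj Z) =
      (Subobject.pullback p₂).obj ((Subobject.pullback e.π).obj Z)
    rw [← Subobject.pullback_comp, ← Subobject.pullback_comp, e.isKernelPair.w]
  · let f := Y.arrow ≫ e.π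
    refine ⟨Subobject.mk (Sheaf.imageι f), le_antisymm (le_of_eval fun V y => ?_) ?_⟩
    · obtain ⟨z, hz⟩ := (mem_pullback e.π _ V _).1 ⟨y, rfl⟩
      set x := ev ((Subobject.pullback e.π).obj (Subobject.mk (Sheaf.imageι f))).arrow V y
      let z' := ev (Subobject.underlyingIso (Sheaf.imageι f)).hom V z
      have hz' : ev (Sheaf.imageι f) V z' = ev e.π V x := by
        refine Eq.trans ?_ hz
        exact congr_arg (fun φ : _ ⟶ e.B => ev φ V z) (Subobject.underlyingIso_hom_comp_eq_mk _)
      obtain ⟨U⟩ := V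
      have hmem := z'.2
      refine exists_of_locally Y.arrow x _ (J.superset_covering (le_refl _) hmem) ?_
      rintro W i ⟨a, ha⟩
      have ha' : ev e.π (op W) (((sheafToPresheaf J _).obj X).map i.op x) =
          ev e.π (op W) (ev Y.arrow (op W) a) :=
        ((NatTrans.naturality_apply ((sheafToPresheaf J (Type w)).map e.π) i.op x).trans
          ((congr_arg _ hz'.symm).trans ha.symm))
      obtain ⟨r, hr₁, hr₂⟩ := Types.exists_of_isPullback (isPullback_eval e.isKernelPair (op W))
        _ _ ha'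
      have h2 := (mem_pullback p₂ Y (op W) r).2 ⟨a, hr₂.symm⟩
      rw [← show (Subobject.pullback p₁).obj Y = (Subobject.pullback p₂).obj Y from hY] at h2
      obtain ⟨b, hb⟩ := (mem_pullback p₁ Y (op W) r).1 h2
      exact ⟨b, hb.trans hr₁⟩
    · refine le_of_eval fun V y => (mem_pullback e.π _ V _).2 ?_
      refine ⟨ev (Sheaf.toImage f ≫ (Subobject.underlyingIso (Sheaf.imageι f)).inv) V y, ?_⟩
      have : (Sheaf.toImage f ≫ (Subobject.underlyingIso (Sheaf.imageι f)).inv) ≫
          (Subobject.mk (Sheaf.imageι f)).arrow = Y.arrow ≫ e.π := by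
        rw [Category.assoc, Subobject.underlyingIso_arrow, Sheaf.toImage_ι]
      exact congr_arg (fun φ : _ ⟶ e.B => ev φ V y) this

end BlowRegLib
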