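import Groth.Agent.QCohLib.AffineFinite
import Groth.Agent.QCohLib.Coherent
import Groth.Agent.DevissLib.Basic
import Groth.Prelude.Def_ClSub2

/-!
Ideals of definition killing a module supported on a closed set.
-/

set_option autoImplicit false
set_option linter.style.haveILetI false

noncomputable section

universe u

open CategoryTheory AlgebraicGeometry TopologicalSpace Opposite

namespace BlowRegLib

variable {X : Scheme.{u}} (F : X.Modules) [Coh.IsQCoh F]

omit [Coh.IsQCoh F] in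
theorem sections_eq_zero_of_stalks (U : X.Opens) (h : ∀ p ∈ U, Subsingleton (F.presheaf.stalk p)) (s : Γ(F, U)) :
    s = 0 :=
  TopCat.Presheaf.section_ext ((QCohLib.toAbF X).obj F : TopCat.Sheaf AddCommGrpCat.{u} X.toTopCat) U s 0
    fun p hp => @Subsingleton.elim _ (h p hp) _ _

theorem exists_pow_le_ann (I : X.IdealSheafData) (hI : ∀ V : X.affineOpens, (I.ideal V).FG) (hF : CohB1.IsFT F)
    (hs : CohB1.support F ⊆ (I.support : Set X)) (U : X.affineOpens) :
    ∃ N : ℕ, (I.ideal U) ^ N ≤ Module.annihilator Γ(X, U.1) Γ(F, U.1) := by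
  haveI := QCohLib.finite_of_isFT hF U.2
  refine Ideal.exists_pow_le_of_le_radical_of_fg (fun g hg => ?_) (hI U)
  obtain ⟨-, h2⟩ := QCohLib.localizingAt_of_isQCoh U.2 F g
  have h0 : ∀ m : Γ(F, U.1), ∃ n : ℕ, g ^ n • m = 0 := fun m => by
    obtain ⟨n, hn⟩ := h2 m (sections_eq_zero_of_stalks F _ (fun p hp => by
      by_contra hsp
      exact (X.mem_zeroLocus_iff _ p).1 ((Scheme.IdealSheafData.mem_support_iff_of_mem (X.basicOpen_le g hp)).1 (hs hsp)) g hg hp) _)
    exact ⟨n, by simpa using hn⟩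
  obtain ⟨s, hs'⟩ := (Module.Finite.fg_top : (⊤ : Submodule Γ(X, U.1) Γ(F, U.1)).FG)
  choose n hn using h0
  refine ⟨∑ m ∈ s, n m, Module.mem_annihilator.2 fun m => ?_⟩
  have hm : m ∈ Submodule.span Γ(X, U.1) (s : Set Γ(F, U.1)) := hs' ▸ Submodule.mem_top
  induction hm using Submodule.span_induction with
  | mem x hx =>
    obtain ⟨e, he⟩ := Nat.exists_eq_add_of_le (Finset.single_le_sum (fun i _ => Nat.zero_le (n i)) hx)
    rw [he, pow_add, mul_comm, mul_smul, hn, smul_zero]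
  | zero => rw [smul_zero]
  | add x y _ _ hx hy => rw [smul_add, hx, hy, add_zero]
  | smul r x _ hx => rw [smul_comm, hx, smul_zero]

theorem exists_killing [CompactSpace X] (I : X.IdealSheafData) (hI : ∀ V : X.affineOpens, (I.ideal V).FG)
    (hF : CohB1.IsFT F) (hs : CohB1.support F ⊆ (I.support : Set X)) :
    ∃ n : ℕ, ∀ (V : X.affineOpens) (a : Γ(X, V.1)), a ∈ (I ^ (n + 1)).ideal V → ∀ m : Γ(F, V.1), a • m = 0 := by
  choose N hN using exists_pow_le_ann F I hI hF hs
  choose W hW hxW _ using fun x : X => exists_isAffineOpen_mem_and_subset (U := (⊤ : X.Opens)) (x := x) trivial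
  obtain ⟨t, ht⟩ := isCompact_univ.elim_finite_subcover (fun x : X => ((W x : X.Opens) : Set X)) (fun x => (W x).2)
    (fun x _ => Set.mem_iUnion.2 ⟨x, hxW x⟩)
  refine ⟨t.sup (fun x => N ⟨W x, hW x⟩), fun V a ha m => ?_⟩
  have key : ∀ (p : X), p ∈ V.1 → ∃ (D : X.Opens) (hD : D ≤ V.1), p ∈ D ∧ F.presheaf.map (homOfLE hD).op (a • m) = 0 := by
    intro p hp
    obtain ⟨x, hx, hpx⟩ := Set.mem_iUnion₂.1 (ht (Set.mem_univ p))
    obtain ⟨g, hgV, hpg⟩ := QCohLib.exists_basicOpen_nhd (hW x) (V := V.1 ⊓ W x) ⟨hp, hpx⟩ hpx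
    let U : X.affineOpens := ⟨W x, hW x⟩
    let D : X.affineOpens := X.affineBasicOpen (U := U) g
    have hDV : D.1 ≤ V.1 := hgV.trans inf_le_left
    have hDU : D.1 ≤ U.1 := X.basicOpen_le g
    refine ⟨D.1, hDV, hpg, ?_⟩
    rw [F.map_smul]
    have haD : X.presheaf.map (homOfLE hDV).op a ∈ ((I ^ (t.sup (fun x => N ⟨W x, hW x⟩) + 1)).ideal U).map
        (X.presheaf.map (homOfLE hDU).op).hom := by
      refine (Scheme.IdealSheafData.map_ideal' _ (U := D) (V := U) (homOfLE hDU).op).ge ?_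
      exact (Scheme.IdealSheafData.map_ideal' _ (U := D) (V := V) (homOfLE hDV).op).le (Ideal.mem_map_of_mem _ ha)
    suffices h : ∀ c ∈ ((I ^ (t.sup (fun x => N ⟨W x, hW x⟩) + 1)).ideal U).map
        (X.presheaf.map (homOfLE hDU).op).hom, ∀ z : Γ(F, D.1), c • z = 0 from h _ haD _
    intro c hc
    induction hc using Submodule.span_induction with
    | mem c hc' =>
      obtain ⟨b, hb, rfl⟩ := hc'
      intro z
      obtain ⟨h1, -⟩ := QCohLib.localizingAt_of_isQCoh U.2 F g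
      obtain ⟨k, w, hw⟩ := h1 z
      have hbw : b • w = 0 := by
        refine Module.mem_annihilator.1 (hN U ?_) w
        rw [SetLike.mem_coe, Scheme.IdealSheafData.ideal_pow, Pi.pow_apply] at hb
        exact Ideal.pow_le_pow_right ((Finset.le_sup (f := fun x => N ⟨W x, hW x⟩) hx).trans (Nat.le_succ _)) hb
      have hu : IsUnit (X.presheaf.map (homOfLE hDU).op g) := RingedSpace.isUnit_res_basicOpen _ g
      refine (hu.pow k).smul_eq_zero.1 ?_
      refine (smul_comm _ _ _).trans ?_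
      refine (congrArg _ hw.symm).trans ?_
      exact (F.map_smul (homOfLE hDU) b w).symm.trans ((congrArg _ hbw).trans (map_zero _))
    | zero => intro z; rw [zero_smul]
    | add c c' _ _ h h' => intro z; rw [add_smul, h, h', add_zero]
    | smul r c _ h => intro z; rw [smul_eq_mul, mul_smul, h, smul_zero]
  choose D hD hpD h0 using key
  refine TopCat.Sheaf.eq_of_locally_eq' ((QCohLib.toAbF X).obj F : TopCat.Sheaf AddCommGrpCat.{u} X.toTopCat)
    (fun p : V.1 => D p.1 p.2) V.1 (fun p => homOfLE (hD p.1 p.2))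
    (fun p hp => Opens.mem_iSup.2 ⟨⟨p, hp⟩, hpD p hp⟩) _ _ fun p => ?_
  exact (h0 p.1 p.2).trans (map_zero _).symm

theorem support_subset_iff [CompactSpace X] (I₀ : X.IdealSheafData) (hI₀ : ∀ V : X.affineOpens, (I₀.ideal V).FG)
    (hF : CohB1.IsFT F) :
    CohB1.support F ⊆ (I₀.support : Set X) ↔
      ∃ I : X.IdealSheafData, (∀ V : X.affineOpens, (I.ideal V).FG) ∧ (I.support : Set X) = (I₀.support : Set X) ∧
        ∀ (V : X.affineOpens) (a : Γ(X, V.1)), a ∈ I.ideal V → ∀ m : Γ(F, V.1), a • m = 0 := by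
  refine ⟨fun hs => ?_, fun ⟨I, _, hsupp, hkill⟩ p hp => ?_⟩
  · obtain ⟨n, hn⟩ := exists_killing F I₀ hI₀ hF hs
    refine ⟨I₀ ^ (n + 1), fun V => ?_, by rw [Scheme.IdealSheafData.support_pow_succ], hn⟩
    rw [Scheme.IdealSheafData.ideal_pow, Pi.pow_apply]
    exact (hI₀ V).pow
  · rw [← hsupp]
    by_contra hpI
    refine hp ⟨fun z z' => ?_⟩
    suffices h0 : ∀ z : (DevissLib.St p).obj F, z = 0 from (h0 z).trans (h0 z').symm
    intro z
    obtain ⟨O, hpO, w, rfl⟩ := DevissLib.exists_gm_eq F p z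
    obtain ⟨V, hV, hpV, hVO⟩ := exists_isAffineOpen_mem_and_subset (U := O) (x := p) hpO
    have h : ∃ a ∈ I.ideal ⟨V, hV⟩, p ∈ X.basicOpen a := by
      by_contra h
      refine hpI ((Scheme.IdealSheafData.mem_support_iff_of_mem (U := ⟨V, hV⟩) hpV).2 ?_)
      exact (X.mem_zeroLocus_iff _ p).2 fun a ha hpa => h ⟨a, ha, hpa⟩
    obtain ⟨a, ha, hpa⟩ := h
    rw [← DevissLib.gm_map F (hVO : V ≤ O) p hpV w]
    refine ((X.mem_basicOpen a p hpV).1 hpa).smul_eq_zero.1 ?_
    exact (DevissLib.gm_smul F p hpV a _).symm.trans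
      ((congrArg (DevissLib.gm F p hpV) (hkill ⟨V, hV⟩ a ha _)).trans (DevissLib.gm_zero F p hpV))

end BlowRegLib
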