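import Groth.Prelude.Def_Coh
import Mathlib.AlgebraicGeometry.Modules.Sheaf
import Mathlib.FieldTheory.IsAlgClosed.Basic

/-!
# Linear forms with equal symmetric powers differ by a root of unity at a generic point
-/

set_option autoImplicit false
universe u v

open CategoryTheory AlgebraicGeometry

noncomputable section

namespace BlowRegLib

theorem exists_root_of_pow_eq_one {k : Type u} [Field k] [IsAlgClosed k] {K : Type v} [CommRing K] [IsDomain K]
    (f : k →+* K) {d : ℕ} (hd : 1 ≤ d) {r : K} (hr : r ^ d = 1) : ∃ ξ : k, ξ ^ d = 1 ∧ f ξ = r := by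
  classical
  let P : Polynomial k := Polynomial.X ^ d - Polynomial.C 1
  have hP : P ≠ 0 := Polynomial.X_pow_sub_C_ne_zero hd 1
  have hsplit : P.Splits := IsAlgClosed.splits P
  have hmem : r ∈ (P.map f).roots := by
    rw [Polynomial.mem_roots (Polynomial.map_ne_zero_iff f.injective |>.2 hP)]
    simp [P, hr]
  rw [hsplit.roots_map f, Multiset.mem_map] at hmem
  obtain ⟨ξ, hξ, hξr⟩ := hmem
  refine ⟨ξ, ?_, hξr⟩
  rw [Polynomial.mem_roots hP] at hξ
  simpa [P, sub_eq_zero] using hξ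

theorem exists_root_germ {k : Type u} [Field k] [IsAlgClosed k] {X : Scheme.{u}} (η : X) (f : k →+* X.presheaf.stalk η)
    (hη : IsField (X.presheaf.stalk η)) (F : X.Modules) (τ τ' : F ⟶ Coh.structureModule X) (d : ℕ) (hd : 1 ≤ d)
    (hS : ∀ (U : X.Opens) (a : Fin d → Γ(F, U)),
      (∏ i, (τ.app U (a i) : Γ(X, U)) : Γ(X, U)) = (∏ i, (τ'.app U (a i) : Γ(X, U)) : Γ(X, U))) :
    ∃ ξ : k, ξ ^ d = 1 ∧ ∀ (U : X.Opens) (hU : η ∈ U) (a : Γ(F, U)),
      (X.presheaf.germ U η hU (τ'.app U a : Γ(X, U)) : X.presheaf.stalk η) =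
        f ξ * X.presheaf.germ U η hU (τ.app U a : Γ(X, U)) := by
  classical
  let g : (F ⟶ Coh.structureModule X) → ∀ U : X.Opens, η ∈ U → Γ(F, U) → X.presheaf.stalk η :=
    fun σ U hU a => X.presheaf.germ U η hU (show Γ(X, U) from σ.app U a)
  have hres : ∀ (σ : F ⟶ Coh.structureModule X) {U V : X.Opens} (h : V ≤ U) (hV : η ∈ V) (a : Γ(F, U)),
      g σ V hV (F.presheaf.map (homOfLE h).op a) = g σ U (h hV) a := fun σ U V h hV a => by
    refine Eq.trans (congrArg (X.presheaf.germ V η hV) ?_)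
      (TopCat.Presheaf.germ_res_apply X.presheaf (homOfLE h) η hV (show Γ(X, U) from σ.app U a))
    exact ConcreteCategory.congr_hom (σ.mapPresheaf.naturality (homOfLE h).op) a
  have hprod : ∀ (U : X.Opens) (hU : η ∈ U) (a : Fin d → Γ(F, U)),
      ∏ i, g τ U hU (a i) = ∏ i, g τ' U hU (a i) := fun U hU a => by
    exact (map_prod _ _ _).symm.trans ((congrArg _ (hS U a)).trans (map_prod _ _ _))
  haveI : IsDomain (X.presheaf.stalk η) := hη.isDomain
  obtain ⟨d', rfl⟩ := Nat.exists_eq_add_of_le hd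
  by_cases h0 : ∀ (U : X.Opens) (hU : η ∈ U) (a : Γ(F, U)), g τ U hU a = 0
  · refine ⟨1, one_pow _, fun U hU a => ?_⟩
    have h1 := hprod U hU fun _ => a
    rw [Finset.prod_const, Finset.prod_const, h0, zero_pow (by simp)] at h1
    rw [map_one, one_mul]
    exact (eq_zero_of_pow_eq_zero h1.symm).trans (h0 U hU a).symm
  · push Not at h0
    obtain ⟨U₀, hU₀, a₀, ha₀⟩ := h0
    obtain ⟨s, hs⟩ := hη.mul_inv_cancel ha₀
    have hr : (g τ' U₀ hU₀ a₀ * s) ^ (1 + d') = 1 := by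
      have h1 := hprod U₀ hU₀ fun _ => a₀
      rw [Finset.prod_const, Finset.prod_const, Finset.card_univ, Fintype.card_fin] at h1
      rw [mul_pow, ← h1, ← mul_pow, hs, one_pow]
    obtain ⟨ξ, hξ, hξr⟩ := exists_root_of_pow_eq_one f hd hr
    refine ⟨ξ, hξ, fun U hU a => ?_⟩
    let a' : Fin (1 + d') → Γ(F, U ⊓ U₀) := fun i => if i = ⟨0, by omega⟩ then F.presheaf.map (homOfLE inf_le_left).op a
      else F.presheaf.map (homOfLE inf_le_right).op a₀
    have h1 := hprod (U ⊓ U₀) ⟨hU, hU₀⟩ a'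
    rw [← Finset.mul_prod_erase _ _ (Finset.mem_univ (⟨0, by omega⟩ : Fin (1 + d'))),
      ← Finset.mul_prod_erase _ _ (Finset.mem_univ (⟨0, by omega⟩ : Fin (1 + d')))] at h1
    have he : ∀ σ, ∀ i ∈ Finset.univ.erase (⟨0, by omega⟩ : Fin (1 + d')), g σ (U ⊓ U₀) ⟨hU, hU₀⟩ (a' i) =
        g σ U₀ hU₀ a₀ := fun σ i hi => by
      simp only [a', if_neg (Finset.mem_erase.1 hi).1]
      exact hres σ inf_le_right _ a₀
    rw [Finset.prod_congr rfl (he τ), Finset.prod_congr rfl (he τ'), Finset.prod_const, Finset.prod_const,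
      Finset.card_erase_of_mem (Finset.mem_univ _), Finset.card_univ, Fintype.card_fin] at h1
    simp only [a', if_pos] at h1
    have e1 := hres τ (inf_le_left : U ⊓ U₀ ≤ U) ⟨hU, hU₀⟩ a
    have e2 := hres τ' (inf_le_left : U ⊓ U₀ ≤ U) ⟨hU, hU₀⟩ a
    rw [e1, e2, show 1 + d' - 1 = d' by omega] at h1
    change g τ' U hU a = f ξ * g τ U hU a
    have h2 : g τ' U₀ hU₀ a₀ = f ξ * g τ U₀ hU₀ a₀ := by
      rw [hξr, mul_assoc, mul_comm s, hs, mul_one]
    have hξd : (f ξ) * (f ξ) ^ d' = 1 := by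
      rw [← pow_succ', add_comm d' 1, ← map_pow, hξ, map_one]
    rw [h2, mul_pow] at h1
    have h3 : g τ U hU a = g τ' U hU a * f ξ ^ d' :=
      mul_right_cancel₀ (pow_ne_zero d' ha₀) (h1.trans (mul_assoc _ _ _).symm)
    rw [h3, mul_left_comm, hξd, mul_one]

end BlowRegLib
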