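import Groth.Agent.BlowRegLib.GermInjTf
import Groth.Agent.InjModLib.ExtCrit
import Mathlib.Topology.Sober

/-!
# Maps to torsion free modules are determined on a dense open
-/

set_option autoImplicit false
set_option linter.style.haveILetI false
universe u

open CategoryTheory CategoryTheory.Limits AlgebraicGeometry TopologicalSpace Opposite
open DevissLib

noncomputable section

namespace BlowRegLib

variable {X : Scheme.{u}}

/-- A section of a torsion free module vanishing at the generic points vanishes. -/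
theorem eq_zero_of_generic_germs [IsLocallyNoetherian X] [AlgebraicGeometry.IsReduced X] {F : X.Modules}
    (hF : Coh.IsCoh F) (htF : TorSh.IsTorsionFree F) {U : X.Opens} (s : Γ(F, U))
    (hs : ∀ (η : X) (hη : η ∈ U), IsField (X.presheaf.stalk η) → gm F η hη s = 0) : s = 0 := by
  haveI : Coh.IsQCoh F := hF.1
  refine TopCat.Presheaf.section_ext
    ((QCohLib.toAbF X).obj F : TopCat.Sheaf AddCommGrpCat _) U s 0 fun y hy => ?_
  change gm F y hy s = gm F y hy 0
  rw [gm_zero]
  by_contra hne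
  obtain ⟨V, hV, hyV, hVU⟩ := exists_isAffineOpen_mem_and_subset (U := U) hy
  haveI : IsNoetherianRing Γ(X, V) := IsLocallyNoetherian.component_noetherian ⟨V, hV⟩
  set t : Γ(F, V) := F.presheaf.map (homOfLE hVU).op s with ht
  have hty : gm F y hyV t ≠ 0 := fun h => hne ((gm_map F hVU y hyV s).symm.trans h)
  set N : Submodule Γ(X, V) Γ(F, V) := Submodule.span Γ(X, V) {t} with hN
  haveI : Module.Finite Γ(X, V) N := Module.Finite.span_singleton _ _
  have hle : Module.annihilator Γ(X, V) N ≤ (hV.primeIdealOf ⟨y, hyV⟩).asIdeal := fun r hr => by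
    by_contra hr'
    refine hty ((gm_eq_zero_iff hV y hyV t).2 ⟨r, hr', ?_⟩)
    have h1 := Module.mem_annihilator.1 hr ⟨t, Submodule.mem_span_singleton_self t⟩
    exact congr_arg Subtype.val h1
  obtain ⟨q, hq, hqy⟩ := Ideal.exists_minimalPrimes_le hle
  obtain ⟨hprime, n, hn⟩ := isAssociatedPrime_iff.mp
    (Module.associatedPrimes.minimalPrimes_annihilator_subset_associatedPrimes Γ(X, V) N hq)
  obtain ⟨a, ha⟩ := Submodule.mem_span_singleton.1 n.2
  have hs' : ∀ r, r ∈ q ↔ r • (n : Γ(F, V)) = 0 := fun r => by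
    rw [hn, Submodule.mem_colon_singleton, Submodule.mem_bot, Subtype.ext_iff]
    rfl
  let q' : PrimeSpectrum Γ(X, V) := ⟨q, hprime⟩
  set η : X := hV.fromSpec q' with hη
  have hηV : η ∈ V := by
    have : hV.fromSpec q' ∈ Set.range hV.fromSpec := ⟨q', rfl⟩
    rwa [hV.range_fromSpec] at this
  have hqη : hV.primeIdealOf ⟨η, hηV⟩ = q' :=
    hV.fromSpec.isOpenEmbedding.injective (hV.fromSpec_primeIdealOf ⟨_, hηV⟩)
  have hn0 : gm F η hηV (n : Γ(F, V)) ≠ 0 := fun h => by
    obtain ⟨r, hr, hrs⟩ := (gm_eq_zero_iff hV η hηV _).mp h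
    rw [hqη] at hr
    exact hr ((hs' r).mpr hrs)
  have hA : Asso F η := ⟨_, hn0, maximalIdeal_smul_gm hV η hηV _ fun b hb => by
    rw [hqη] at hb
    rw [(hs' b).mp hb, gm_zero]⟩
  refine hn0 ?_
  rw [← ha, gm_smul]
  exact (congr_arg _ ((gm_map F hVU η hηV s).trans (hs η (hVU hηV) (isField_stalk_of_asso htF hA)))).trans (smul_zero _)

theorem mem_of_isField_stalk [NoetherianSpace X] [AlgebraicGeometry.IsReduced X] {U : X.Opens} (hU : Dense (U : Set X))
    {η : X} (hη : IsField (X.presheaf.stalk η)) : η ∈ U := by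
  have hgen : ∀ x : X, x ⤳ η → x = η := fun x hx => by
    haveI : Subsingleton (PrimeSpectrum (X.presheaf.stalk η)) :=
      PrimeSpectrum.subsingleton_iff_isField_of_isReduced.2 hη
    have h1 : x ∈ Set.range (X.fromSpecStalk η) := by rw [Scheme.range_fromSpecStalk]; exact hx
    have h2 : η ∈ Set.range (X.fromSpecStalk η) := by rw [Scheme.range_fromSpecStalk]; exact specializes_refl η
    obtain ⟨a, rfl⟩ := h1
    obtain ⟨b, hb⟩ := h2
    exact (congrArg (X.fromSpecStalk η) (Subsingleton.elim (α := PrimeSpectrum (X.presheaf.stalk η)) a b)).trans hb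
  let C : Set X := ⋃ T ∈ {T ∈ irreducibleComponents X | η ∉ T}, T
  have hC : IsClosed C := Set.Finite.isClosed_biUnion
    (NoetherianSpace.finite_irreducibleComponents.subset fun T hT => hT.1)
    fun T hT => isClosed_of_mem_irreducibleComponents T hT.1
  have hηC : η ∈ Cᶜ := fun h => by
    obtain ⟨T, hT, hη'⟩ := Set.mem_iUnion₂.1 h
    exact hT.2 hη'
  obtain ⟨u, huC, huU⟩ := hU.inter_open_nonempty _ hC.isOpen_compl ⟨η, hηC⟩
  have hηT : η ∈ irreducibleComponent u := by
    by_contra h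
    exact huC (Set.mem_iUnion₂.2 ⟨irreducibleComponent u,
      ⟨irreducibleComponent_mem_irreducibleComponents u, h⟩, mem_irreducibleComponent⟩)
  obtain ⟨g, hg⟩ := QuasiSober.sober (isIrreducible_irreducibleComponent (x := u)) isClosed_irreducibleComponent
  obtain rfl := hgen g (hg.specializes hηT)
  exact (hg.specializes mem_irreducibleComponent).mem_open U.2 huU

theorem hom_eq_zero_of_dense [IsLocallyNoetherian X] [NoetherianSpace X] [AlgebraicGeometry.IsReduced X] {A F : X.Modules}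
    (hF : Coh.IsCoh F) (htF : TorSh.IsTorsionFree F) (φ : A ⟶ F) {U : X.Opens} (hU : Dense (U : Set X))
    (h : (Scheme.Modules.restrictFunctor U.ι).map φ = 0) : φ = 0 := by
  refine Scheme.Modules.hom_ext _ _ fun W => ?_
  ext s
  refine eq_zero_of_generic_germs hF htF _ fun η hη hf => ?_
  have hηU := mem_of_isField_stalk hU hf
  have hle : W ⊓ U ≤ W := inf_le_left
  refine (gm_map F hle η (show η ∈ W ⊓ U from ⟨hη, hηU⟩) _).symm.trans ((congrArg (gm F η (show η ∈ W ⊓ U from ⟨hη, hηU⟩)) (QCohLib.app_map φ (homOfLE hle) s).symm).trans ?_)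
  have hV : U.ι ''ᵁ (U.ι ⁻¹ᵁ (W ⊓ U)) = W ⊓ U := by
    rw [Scheme.Hom.image_preimage_eq_opensRange_inf, Scheme.Opens.opensRange_ι]
    exact inf_eq_right.mpr inf_le_right
  have hzero : ∀ (V : X.Opens) (hV' : U.ι ''ᵁ (U.ι ⁻¹ᵁ (W ⊓ U)) = V) (t : Γ(A, V)), φ.app V t = 0 := by
    rintro _ rfl t
    exact congrArg (fun ψ => ψ.app (U.ι ⁻¹ᵁ (W ⊓ U)) t) h
  rw [hzero _ hV, gm_zero]

theorem exists_iso_of_dense [IsLocallyNoetherian X] [NoetherianSpace X] [AlgebraicGeometry.IsReduced X]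
    {E F₁ F₂ : X.Modules} (hF₁ : Coh.IsCoh F₁) (hF₂ : Coh.IsCoh F₂) (ht₁ : TorSh.IsTorsionFree F₁)
    (ht₂ : TorSh.IsTorsionFree F₂) (q₁ : E ⟶ F₁) (q₂ : E ⟶ F₂) [Epi q₁] [Epi q₂] {U : X.Opens}
    (hU : Dense (U : Set X)) (φ : F₁.restrict U.ι ≅ F₂.restrict U.ι)
    (hφ : (Scheme.Modules.restrictFunctor U.ι).map q₁ ≫ φ.hom = (Scheme.Modules.restrictFunctor U.ι).map q₂) :
    ∃ ψ : F₁ ≅ F₂, q₁ ≫ ψ.hom = q₂ ∧ (Scheme.Modules.restrictFunctor U.ι).map ψ.hom = φ.hom := by
  have h₁ : kernel.ι q₁ ≫ q₂ = 0 := hom_eq_zero_of_dense hF₂ ht₂ _ hU (by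
    rw [Functor.map_comp, ← hφ, ← Category.assoc, ← Functor.map_comp, kernel.condition, Functor.map_zero, zero_comp])
  have h₂ : kernel.ι q₂ ≫ q₁ = 0 := hom_eq_zero_of_dense hF₁ ht₁ _ hU (by
    rw [← cancel_mono φ.hom, Functor.map_comp, Category.assoc, hφ, ← Functor.map_comp, kernel.condition,
      Functor.map_zero, zero_comp])
  let a := Abelian.epiDesc q₁ q₂ h₁
  let b := Abelian.epiDesc q₂ q₁ h₂
  have ha : q₁ ≫ a = q₂ := Abelian.comp_epiDesc _ _ _
  have hb : q₂ ≫ b = q₁ := Abelian.comp_epiDesc _ _ _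
  refine ⟨⟨a, b, ?_, ?_⟩, ha, ?_⟩
  · rw [← cancel_epi q₁, ← Category.assoc, ha, hb, Category.comp_id]
  · rw [← cancel_epi q₂, ← Category.assoc, hb, ha, Category.comp_id]
  · haveI : Epi ((Scheme.Modules.restrictFunctor U.ι).map q₁) := by
      haveI := Functor.preservesEpimorphisms_of_adjunction (Scheme.Modules.restrictAdjunction U.ι)
      infer_instance
    rw [← cancel_epi ((Scheme.Modules.restrictFunctor U.ι).map q₁), hφ, ← Functor.map_comp]
    exact congrArg _ ha

end BlowRegLib
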