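import Mathlib.RingTheory.Noetherian.Basic
import Mathlib.RingTheory.Artinian.Module
import Mathlib.RingTheory.Artinian.Ring
import Mathlib.RingTheory.Artinian.Instances
import Mathlib.RingTheory.Ideal.Maximal
import Mathlib.Algebra.Module.LocalizedModule.Basic
import Mathlib.LinearAlgebra.FiniteDimensional.Basic
import Mathlib.Data.Nat.Nth
import Mathlib.Data.Nat.Pairing

/-!
# Towers of modules whose limit is countably generated near every point

Core of the stabilisation argument: if infinitely many transition maps of a surjective tower over a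
Noetherian algebra of countable dimension over a field are not injective, then there are a prime `p`
and, for any countable family of germs, a compatible sequence which is not a combination of the
family near `p`.
-/

set_option autoImplicit false

universe u

noncomputable section

namespace BlowRegLib.TowerCore

variable {R : Type u} [CommRing R]

/-- From infinitely many primes: an infinite subfamily accumulating at a prime. -/
theorem exists_accumulation [IsNoetherianRing R] (x : ℕ → Ideal R) (hx : ∀ n, (x n).IsPrime) (B : Set ℕ)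
    (hB : B.Infinite) :
    ∃ (I : Set ℕ) (p : Ideal R), I ⊆ B ∧ I.Infinite ∧ p.IsPrime ∧
      ∀ h, h ∉ p → {n ∈ I | h ∈ x n}.Finite := by
  classical
  let S : Set (Ideal R) := {a | ∃ I : Set ℕ, I ⊆ B ∧ I.Infinite ∧ a = ⨅ n ∈ I, x n}
  have hne : S.Nonempty := ⟨_, B, subset_rfl, hB, rfl⟩
  obtain ⟨p, ⟨I, hIB, hI, hp⟩, hmax⟩ := set_has_maximal_iff_noetherian.mpr inferInstance S hne
  have key : ∀ h, h ∉ p → {n ∈ I | h ∈ x n}.Finite := by
    intro h hh
    by_contra hinf
    let J := {n ∈ I | h ∈ x n}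
    have hJI : J ⊆ I := fun n hn => hn.1
    have hle : p ≤ ⨅ n ∈ J, x n := by
      rw [hp]
      exact le_iInf₂ fun n hn => iInf₂_le n (hJI hn)
    have hhJ : h ∈ ⨅ n ∈ J, x n := by
      simp only [Submodule.mem_iInf]
      exact fun n hn => hn.2
    exact hmax _ ⟨J, hJI.trans hIB, hinf, rfl⟩ (lt_of_le_of_ne hle fun e => hh (e ▸ hhJ))
  refine ⟨I, p, hIB, hI, ⟨?_, ?_⟩, key⟩
  · intro htop
    obtain ⟨n, hn⟩ := hI.nonempty
    exact (hx n).ne_top (top_le_iff.mp (htop ▸ hp ▸ iInf₂_le n hn))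
  · intro a b hab
    by_contra hcon
    obtain ⟨ha, hb⟩ := not_or.mp hcon
    obtain ⟨n, hn, hn'⟩ := hI.exists_notMem_finite ((key a ha).union (key b hb))
    rw [hp] at hab
    simp only [Submodule.mem_iInf] at hab
    rcases (hx n).mem_or_mem (hab n hn) with h | h
    · exact hn' (Or.inl ⟨hn, h⟩)
    · exact hn' (Or.inr ⟨hn, h⟩)

/-- A countable spanning family of the coefficient space. -/
theorem exists_coeff_span (k : Type u) [Field k] [Algebra k R]
    (hR : ∃ s : Set R, s.Countable ∧ Submodule.span k s = ⊤) :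
    ∃ e : ℕ → R × (ℕ →₀ R), Submodule.span k (Set.range e) = ⊤ := by
  classical
  obtain ⟨s, hs, hspan⟩ := hR
  let T : Set (R × (ℕ →₀ R)) :=
    {0} ∪ (LinearMap.inl k R (ℕ →₀ R)) '' s ∪
      ⋃ j : ℕ, (LinearMap.inr k R (ℕ →₀ R) ∘ₗ Finsupp.lsingle j) '' s
  have hT : T.Countable :=
    ((Set.countable_singleton _).union (hs.image _)).union (Set.countable_iUnion fun j => hs.image _)
  obtain ⟨e, he⟩ := hT.exists_eq_range ⟨0, Or.inl (Or.inl rfl)⟩
  refine ⟨e, ?_⟩
  rw [← he, eq_top_iff]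
  rintro ⟨a, r⟩ -
  have h1 : ∀ a : R, LinearMap.inl k R (ℕ →₀ R) a ∈ Submodule.span k T := fun a => by
    have : a ∈ Submodule.span k s := hspan ▸ Submodule.mem_top
    exact Submodule.span_mono (fun y hy => Or.inl (Or.inr hy))
      (Submodule.apply_mem_span_image_of_mem_span _ this)
  have h2 : ∀ (j : ℕ) (a : R), LinearMap.inr k R (ℕ →₀ R) (Finsupp.single j a) ∈ Submodule.span k T := fun j a => by
    have : a ∈ Submodule.span k s := hspan ▸ Submodule.mem_top
    exact Submodule.span_mono (fun y hy => Or.inr (Set.mem_iUnion.2 ⟨j, hy⟩))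
      (Submodule.apply_mem_span_image_of_mem_span (LinearMap.inr k R (ℕ →₀ R) ∘ₗ Finsupp.lsingle j) this)
  have h3 : ∀ r : ℕ →₀ R, LinearMap.inr k R (ℕ →₀ R) r ∈ Submodule.span k T := fun r => by
    induction r using Finsupp.induction with
    | zero => rw [map_zero]; exact zero_mem _
    | single_add j a r _ _ ih => rw [map_add]; exact add_mem (h2 j a) ih
  have : ((a, r) : R × (ℕ →₀ R)) = LinearMap.inl k R (ℕ →₀ R) a + LinearMap.inr k R (ℕ →₀ R) r := by
    simp
  rw [this]
  exact add_mem (h1 a) (h3 r)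

variable (M : ℕ → Type u) [∀ n, AddCommGroup (M n)] [∀ n, Module R (M n)]
  (t : ∀ n, M (n + 1) →ₗ[R] M n)

section Build

variable (x : ℕ → Ideal R) [∀ n, (x n).IsPrime]

/-- The germ of a level. -/
abbrev germ (n : ℕ) : M (n + 1) →ₗ[R] LocalizedModule (x n).primeCompl (M (n + 1)) :=
  LocalizedModule.mkLinearMap _ _

variable (c : ℕ → ∀ n, LocalizedModule (x n).primeCompl (M (n + 1)))

/-- The equation of `(h, r)` at level `n` for the value `y`. -/
def eqn (n : ℕ) (y : M (n + 1)) : R × (ℕ →₀ R) →ₗ[R] LocalizedModule (x n).primeCompl (M (n + 1)) :=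
  (LinearMap.toSpanSingleton R _ (germ M x n y)).comp (LinearMap.fst R R (ℕ →₀ R)) -
    (Finsupp.linearCombination R (fun j => c j n)).comp (LinearMap.snd R R (ℕ →₀ R))

theorem eqn_apply (n : ℕ) (y : M (n + 1)) (h : R) (r : ℕ →₀ R) :
    eqn M x c n y (h, r) = germ M x n (h • y) - r.sum (fun j a => a • c j n) := by
  simp [eqn, Finsupp.linearCombination_apply, map_smul]

end Build

/-- The main statement. -/
theorem exists_bad [IsNoetherianRing R] (k : Type u) [Field k] [Algebra k R]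
    (hR : ∃ s : Set R, s.Countable ∧ Submodule.span k s = ⊤)
    (ht : ∀ n, Function.Surjective (t n)) (hinf : ∀ N, ∃ n, N ≤ n ∧ ¬ Function.Injective (t n)) :
    ∃ (x : ℕ → Ideal R) (hx : ∀ n, (x n).IsPrime) (I : Set ℕ) (p : Ideal R),
      p.IsPrime ∧ (∀ h, h ∉ p → ∃ N, ∀ n ∈ I, N ≤ n → h ∉ x n) ∧
      ∀ c : ℕ → ∀ n, LocalizedModule ((x n).primeCompl (hp := hx n)) (M (n + 1)),
        ∃ s : ∀ n, M n, (∀ n, t n (s (n + 1)) = s n) ∧
          ∀ (h : R) (r : ℕ →₀ R) (N : ℕ), h ∉ p → ∃ n ∈ I, N ≤ n ∧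
            LocalizedModule.mkLinearMap ((x n).primeCompl (hp := hx n)) (M (n + 1)) (h • s (n + 1)) ≠
              r.sum (fun j a => a • c j n) := by
  classical
  let B : Set ℕ := {n | ¬ Function.Injective (t n)}
  have hB : B.Infinite := Set.infinite_of_forall_exists_gt fun N => by
    obtain ⟨n, hn, hn'⟩ := hinf (N + 1)
    exact ⟨n, hn', hn⟩
  have hk : ∀ n, ∃ z : M (n + 1), t n z = 0 ∧ (n ∈ B → z ≠ 0) := fun n => by
    by_cases hn : n ∈ B
    · have : LinearMap.ker (t n) ≠ ⊥ := fun e => hn (LinearMap.ker_eq_bot.mp e)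
      obtain ⟨z, hz, hz0⟩ := Submodule.exists_mem_ne_zero_of_ne_bot this
      exact ⟨z, hz, fun _ => hz0⟩
    · exact ⟨0, map_zero _, fun h => absurd h hn⟩
  choose z hz hz0 using hk
  have hnt : Nontrivial R := by
    obtain ⟨n, hn⟩ := hB.nonempty
    have : Nontrivial (M (n + 1)) := ⟨⟨z n, 0, hz0 n hn⟩⟩
    exact Module.nontrivial R (M (n + 1))
  have hx' : ∀ n, ∃ m : Ideal R, m.IsPrime ∧ (n ∈ B → ∀ a, a • z n = 0 → a ∈ m) := fun n => by
    by_cases hn : n ∈ B
    · have hne : LinearMap.ker (LinearMap.toSpanSingleton R (M (n + 1)) (z n)) ≠ ⊤ := fun e => hz0 n hn (by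
        have : (1 : R) ∈ LinearMap.ker (LinearMap.toSpanSingleton R (M (n + 1)) (z n)) := e ▸ Submodule.mem_top
        simpa using this)
      obtain ⟨m, hm, hle⟩ := Ideal.exists_le_maximal _ hne
      exact ⟨m, hm.isPrime, fun _ a ha => hle (by simpa using ha)⟩
    · obtain ⟨m, hm⟩ := Ideal.exists_maximal R
      exact ⟨m, hm.isPrime, fun h => absurd h hn⟩
  choose x hx hann using hx'
  obtain ⟨I, p, hIB, hI, hp, hfin⟩ := exists_accumulation x hx B hB
  refine ⟨x, hx, I, p, hp, fun h hh => ?_, fun c => ?_⟩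
  · obtain ⟨N, hN⟩ := (hfin h hh).bddAbove
    exact ⟨N + 1, fun n hn hNn hmem => by
      have := hN (show n ∈ {n ∈ I | h ∈ x n} from ⟨hn, hmem⟩)
      omega⟩
  -- a non-vanishing: multiples of `z n` by elements outside `x n`
  have hkill : ∀ n ∈ B, ∀ a, a ∉ x n → germ M x n (a • z n) ≠ 0 := fun n hn a ha e => by
    obtain ⟨b, hb⟩ := (IsLocalizedModule.eq_zero_iff (x n).primeCompl
      (LocalizedModule.mkLinearMap (x n).primeCompl (M (n + 1)))).mp e
    rw [Submonoid.smul_def, smul_smul] at hb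
    exact ((hx n).mem_or_mem (hann n hn _ hb)).elim b.2 ha
  obtain ⟨e, he⟩ := exists_coeff_span k hR
  let V : ℕ → Submodule k (R × (ℕ →₀ R)) := fun j => Submodule.span k (e '' Set.Iio j)
  have hV : ∀ j, Module.Finite k (V j) := fun j => Module.Finite.span_of_finite k ((Set.finite_Iio j).image e)
  have hVmem : ∀ v, ∃ j, v ∈ V j := fun v => by
    have hv : v ∈ Submodule.span k (Set.range e) := he ▸ Submodule.mem_top
    induction hv using Submodule.span_induction with
    | mem y hy =>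
      obtain ⟨i, rfl⟩ := hy
      exact ⟨i + 1, Submodule.subset_span ⟨i, Nat.lt_succ_self i, rfl⟩⟩
    | zero => exact ⟨0, zero_mem _⟩
    | add y y' _ _ hy hy' =>
      obtain ⟨j, hj⟩ := hy
      obtain ⟨j', hj'⟩ := hy'
      exact ⟨max j j', add_mem (Submodule.span_mono (Set.image_mono (Set.Iio_subset_Iio (le_max_left _ _))) hj)
        (Submodule.span_mono (Set.image_mono (Set.Iio_subset_Iio (le_max_right _ _))) hj')⟩
    | smul a y _ hy =>
      obtain ⟨j, hj⟩ := hy
      exact ⟨j, Submodule.smul_mem _ a hj⟩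
  let task : ℕ → ℕ := fun n => (Nat.unpair (Nat.count (· ∈ I) n)).1
  let act : ℕ → ℕ → Prop := fun m n => n ∈ I ∧ task n = m ∧ (Nat.unpair m).2 ≤ n
  let K : ∀ n, M (n + 1) → Submodule k (R × (ℕ →₀ R)) := fun n y =>
    (LinearMap.ker (eqn M x c n y)).restrictScalars k
  -- the choice of the next value
  have hchoice : ∀ n (sn : M n) (W : Submodule k (R × (ℕ →₀ R))), ∃ y : M (n + 1), t n y = sn ∧
      (n ∈ B → (∃ v ∈ W, v.1 ∉ x n) → ∃ v ∈ W, v ∉ K n y) := fun n sn W => by
    obtain ⟨l, hl⟩ := ht n sn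
    by_cases hW : n ∈ B ∧ ∃ v ∈ W, v.1 ∉ x n
    · obtain ⟨hn, v, hv, hv1⟩ := hW
      by_cases hvl : v ∈ K n l
      · refine ⟨l + z n, by rw [map_add, hl, hz, add_zero], fun _ _ => ⟨v, hv, fun hvy => hkill n hn v.1 hv1 ?_⟩⟩
        have e1 : eqn M x c n l v = 0 := hvl
        have e2 : eqn M x c n (l + z n) v = 0 := hvy
        obtain ⟨a, r⟩ := v
        rw [eqn_apply] at e1 e2
        rw [smul_add, map_add, add_sub_right_comm, e1, zero_add] at e2
        exact e2
      · exact ⟨l, hl, fun _ _ => ⟨v, hv, hvl⟩⟩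
    · exact ⟨l, hl, fun hn hv => absurd ⟨hn, hv⟩ hW⟩
  choose nxt hnxt hdrop using hchoice
  let T : ∀ n, M n × (ℕ → Submodule k (R × (ℕ →₀ R))) := fun n => Nat.rec (0, fun m => V (Nat.unpair m).1)
    (fun n st => (nxt n st.1 (st.2 (task n)),
      fun m => if act m n then st.2 m ⊓ K n (nxt n st.1 (st.2 (task n))) else st.2 m)) n
  let s : ∀ n, M n := fun n => (T n).1
  let W : ℕ → ℕ → Submodule k (R × (ℕ →₀ R)) := fun n => (T n).2
  have hs : ∀ n, s (n + 1) = nxt n (s n) (W n (task n)) := fun n => rfl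
  have hWs : ∀ n m, W (n + 1) m = if act m n then W n m ⊓ K n (s (n + 1)) else W n m := fun n m => rfl
  refine ⟨s, fun n => by rw [hs]; exact hnxt _ _ _, fun h r N hh => ?_⟩
  by_contra hcon
  push Not at hcon
  obtain ⟨j, hj⟩ := hVmem (h, r)
  let m := Nat.pair j N
  have hanti : Antitone fun n => W n m := antitone_nat_of_succ_le fun n => by
    rw [hWs]; split_ifs
    · exact inf_le_left
    · exact le_rfl
  have hle : ∀ n, W n m ≤ V j := fun n => le_trans (hanti (Nat.zero_le n)) (le_of_eq (by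
    show V (Nat.unpair m).1 = V j
    rw [Nat.unpair_pair]))
  have hv0 : ∀ n, (h, r) ∈ W n m := fun n => by
    induction n with
    | zero =>
      show (h, r) ∈ V (Nat.unpair m).1
      rwa [Nat.unpair_pair]
    | succ n ih =>
      rw [hWs]; split_ifs with hact
      · refine ⟨ih, ?_⟩
        have hN : N ≤ n := by
          have := hact.2.2
          rwa [Nat.unpair_pair] at this
        show eqn M x c n (s (n + 1)) (h, r) = 0
        rw [eqn_apply, sub_eq_zero]
        exact hcon n hact.1 hN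
      · exact ih
  haveI := hV j
  haveI : IsArtinian k (V j) := isArtinian_of_fg_of_artinian (V j) (Module.Finite.iff_fg.mp (hV j))
  obtain ⟨n₀, hn₀⟩ := IsArtinian.monotone_stabilizes (R := k) (M := V j)
    ⟨fun n => OrderDual.toDual ((W n m).comap (V j).subtype), fun a b hab =>
      Submodule.comap_mono (hanti hab)⟩
  obtain ⟨Nh, hNh⟩ := (hfin h hh).bddAbove
  let i := n₀ + N + Nh + 1
  let n := Nat.nth (· ∈ I) (Nat.pair m i)
  have hnI : n ∈ I := Nat.nth_mem_of_infinite hI _
  have hni : i ≤ n := le_trans (Nat.right_le_pair m i) (Nat.nth_strictMono hI).le_apply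
  have htask : task n = m := by
    show (Nat.unpair (Nat.count (· ∈ I) n)).1 = m
    rw [Nat.count_nth_of_infinite (p := fun a => a ∈ I) hI, Nat.unpair_pair]
  have hact : act m n := ⟨hnI, htask, by rw [Nat.unpair_pair]; show N ≤ n; omega⟩
  have hex : ∃ v ∈ W n m, v.1 ∉ x n := ⟨(h, r), hv0 n, fun hmem => by
    have := hNh (show n ∈ {n ∈ I | h ∈ x n} from ⟨hnI, hmem⟩)
    omega⟩
  obtain ⟨v, hv, hv'⟩ := hdrop n (s n) (W n (task n)) (hIB hnI) (htask.symm ▸ hex)
  rw [htask] at hv
  have heq : (W (n + 1) m).comap (V j).subtype = (W n m).comap (V j).subtype :=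
    (OrderDual.toDual.injective (hn₀ (n + 1) (by omega))).symm.trans
      (OrderDual.toDual.injective (hn₀ n (by omega)))
  have : (⟨v, hle n hv⟩ : V j) ∈ (W (n + 1) m).comap (V j).subtype := heq ▸ hv
  rw [Submodule.mem_comap, hWs, if_pos hact] at this
  exact hv' this.2

end BlowRegLib.TowerCore
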