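import Groth.Agent.BlowRegLib.TowerSec
import Groth.Agent.InjModLib.ClosedHom
import Groth.Prelude.Def_W4c2derhamsingLim
import Mathlib.CategoryTheory.Functor.OfSequence
import Mathlib.RingTheory.FiniteStability
import Mathlib.Data.List.TFAE

/-!
# Towers of countably generated quasi-coherent modules

Stabilisation, quasi-coherence of countably generated limits, the Mittag-Leffler criterion through
the first derived limit and the comparison with a flat tensor product.
-/

set_option autoImplicit false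
set_option backward.isDefEq.respectTransparency false
set_option backward.isDefEq.respectTransparency.types false
set_option linter.style.haveILetI false
set_option synthInstance.maxHeartbeats 400000
set_option maxHeartbeats 1000000

universe u

open CategoryTheory CategoryTheory.Limits AlgebraicGeometry TopologicalSpace Opposite
open FormalLimVanishLib (tr exists_limit_section limit_section_ext)
open BlowRegLib.TowerSec

noncomputable section

namespace BlowRegLib.TowerMain

variable {X : Scheme.{u}}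

/-! ### Affine pieces -/

/-- Sections over an affine open of a scheme of finite type over a field form a countably spanned
Noetherian algebra. -/
theorem exists_algebra (k : Type u) [Field k] [X.Over (Spec (CommRingCat.of k))]
    [LocallyOfFiniteType (X ↘ Spec (CommRingCat.of k))] {U : X.Opens} (hU : IsAffineOpen U) :
    ∃ _ : Algebra k Γ(X, U), IsNoetherianRing Γ(X, U) ∧
      ∃ s : Set Γ(X, U), s.Countable ∧ Submodule.span k s = ⊤ := by
  let f := X ↘ Spec (CommRingCat.of k)
  let ψ : CommRingCat.of k ⟶ Γ(X, U) :=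
    (Scheme.ΓSpecIso (CommRingCat.of k)).inv ≫ f.appLE ⊤ U (by simp)
  have h1 : (f.appLE ⊤ U (by simp)).hom.FiniteType :=
    HasRingHomProperty.appLE (P := @LocallyOfFiniteType) f inferInstance
      ⟨⊤, isAffineOpen_top _⟩ ⟨U, hU⟩ (by simp)
  have h2 : ψ.hom.FiniteType :=
    h1.comp (RingHom.FiniteType.of_surjective _
      (Scheme.ΓSpecIso (CommRingCat.of k)).commRingCatIsoToRingEquiv.symm.surjective)
  letI : Algebra k Γ(X, U) := ψ.hom.toAlgebra
  haveI : Algebra.FiniteType k Γ(X, U) := h2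
  exact ⟨_, Algebra.FiniteType.isNoetherianRing k _, DevissExLib.exists_countable_span k (C := Γ(X, U))⟩

theorem exists_cover [CompactSpace X] :
    ∃ S : Finset X.affineOpens, ∀ x : X, ∃ V ∈ S, x ∈ V.1 := by
  obtain ⟨S, hS⟩ := isCompact_univ.elim_finite_subcover (fun V : X.affineOpens => (V.1 : Set X))
    (fun V => V.1.isOpen) fun x _ => by
      have hx : x ∈ ⨆ V : X.affineOpens, V.1 := by rw [iSup_affineOpens_eq_top]; trivial
      exact Set.mem_iUnion.2 (Opens.mem_iSup.mp hx)
  exact ⟨S, fun x => by simpa using hS (Set.mem_univ x)⟩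

theorem app_surjective {M N : X.Modules} [Coh.IsQCoh M] [Coh.IsQCoh N] (φ : M ⟶ N) [Epi φ] {U : X.Opens}
    (hU : IsAffineOpen U) : Function.Surjective (φ.app U) := by
  have hS : (ShortComplex.mk _ _ (kernel.condition φ)).ShortExact :=
    { exact := ShortComplex.exact_of_f_is_kernel _ (kernelIsKernel φ) }
  have : Coh.IsQCoh (ShortComplex.mk _ _ (kernel.condition φ)).X₁ := QCohLib.isQCoh_kernel φ
  exact QCohLib.app_surjective_of_affine hS hU

theorem app_comp {M N P : X.Modules} (φ : M ⟶ N) (ψ : N ⟶ P) (U : X.Opens) (x : Γ(M, U)) :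
    (φ ≫ ψ).app U x = ψ.app U (φ.app U x) := rfl

theorem app_eq {M N : X.Modules} {φ ψ : M ⟶ N} (h : φ = ψ) (U : X.Opens) (x : Γ(M, U)) :
    φ.app U x = ψ.app U x := by rw [h]

theorem app_zero_hom {M N : X.Modules} (U : X.Opens) (x : Γ(M, U)) : (0 : M ⟶ N).app U x = 0 := rfl

theorem mono_of_app_injective {M N : X.Modules} [Coh.IsQCoh M] [Coh.IsQCoh N] (φ : M ⟶ N)
    (h : ∀ x : X, ∃ (U : X.Opens) (_ : IsAffineOpen U), x ∈ U ∧ Function.Injective (φ.app U)) : Mono φ := by
  haveI : Coh.IsQCoh (kernel φ) := QCohLib.isQCoh_kernel φ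
  have h0 : kernel.ι φ = 0 := HilbObsLib.eq_zero_of_app _ fun x => by
    obtain ⟨U, hU, hx, hinj⟩ := h x
    refine ⟨U, hU, hx, fun s => hinj ?_⟩
    rw [← app_comp, app_eq (kernel.condition φ), app_zero_hom, map_zero]
  exact Preadditive.mono_of_kernel_zero h0

theorem span_range_enum {R M : Type*} [Semiring R] [AddCommMonoid M] [Module R M] {s : Set M}
    (hs : s.Countable) (h : Submodule.span R s = ⊤) : ∃ g : ℕ → M, Submodule.span R (Set.range g) = ⊤ := by
  obtain ⟨g, hg⟩ := (hs.insert 0).exists_eq_range (Set.insert_nonempty 0 s)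
  exact ⟨g, by rw [← hg, eq_top_iff, ← h]; exact Submodule.span_mono (Set.subset_insert 0 s)⟩

/-- Hypothesis: countably generated sections over affine opens. -/
abbrev CtblGen (M : X.Modules) : Prop := ∀ U : X.affineOpens, ∃ s : Set (M.val.obj (op (U : X.Opens))),
  s.Countable ∧ Submodule.span (X.ringCatSheaf.obj.obj (op (U : X.Opens))) s = ⊤

theorem CtblGen.enum {M : X.Modules} (h : CtblGen M) {U : X.Opens} (hU : IsAffineOpen U) :
    ∃ g : ℕ → Γ(M, U), Submodule.span Γ(X, U) (Set.range g) = ⊤ := by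
  obtain ⟨s, hs, hspan⟩ := h ⟨U, hU⟩
  exact span_range_enum hs hspan

variable (k : Type u) [Field k] [X.Over (Spec (CommRingCat.of k))]
  [LocallyOfFiniteType (X ↘ Spec (CommRingCat.of k))]

/-! ### Stabilisation -/

section Stabilise

variable [CompactSpace X] (Q : ℕᵒᵖ ⥤ X.Modules) (hQ : ∀ n : ℕ, Coh.IsQCoh (Q.obj (op n))) (c : Cone Q)
  (hG : Coh.IsQCoh c.pt) (hGc : CtblGen c.pt) (hepi : ∀ n : ℕ, Epi (c.π.app (op n)))
  (hlim : Epi (limit.lift Q c))

include k hQ hG hGc hepi hlim in
theorem eventually_isIso :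
    ∃ N : ℕ, ∀ n : ℕ, N ≤ n → IsIso (Q.map (homOfLE (Nat.le_succ n)).op) := by
  classical
  have hepi' : ∀ n, Epi (tr Q n) := fun n => by
    have h : c.π.app (op (n + 1)) ≫ tr Q n = c.π.app (op n) := c.w _
    haveI : Epi (c.π.app (op (n + 1)) ≫ tr Q n) := h ▸ hepi n
    exact epi_of_epi (c.π.app (op (n + 1))) _
  have key : ∀ V : X.affineOpens, ∃ N, ∀ n, N ≤ n → Function.Injective ((tr Q n).app V.1) := fun V => by
    obtain ⟨_, _, hR⟩ := exists_algebra k V.2
    haveI := hG
    obtain ⟨g, hg⟩ := hGc.enum V.2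
    refine eventually_injective Q hQ V.2 k hR (fun n => by
      haveI := hQ n
      haveI := hQ (n + 1)
      haveI := hepi' n
      exact app_surjective (tr Q n) V.2) (limit.lift Q c) g hg fun η hη => ?_
    refine ⟨fun _ => V.1, fun _ => hη, fun _ => 0, fun s => ?_⟩
    obtain ⟨W, hW, hηW, y, hy⟩ := CohCmpLib.exists_local_lift (limit.lift Q c) s hη
    exact ⟨0, W, hW, y, hηW, by simp, by rw [hy, Finsupp.sum_zero_index, add_zero]⟩
  choose N hN using key
  obtain ⟨S, hS⟩ := exists_cover (X := X)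
  refine ⟨S.sup N, fun n hn => ?_⟩
  haveI := hQ n
  haveI := hQ (n + 1)
  haveI := hepi' n
  haveI : Mono (tr Q n) := mono_of_app_injective _ fun x => by
    obtain ⟨V, hVS, hxV⟩ := hS x
    exact ⟨V.1, V.2, hxV, hN V n (le_trans (Finset.le_sup hVS) hn)⟩
  exact isIso_of_mono_of_epi (tr Q n)

end Stabilise

/-- A tower that is eventually constant has its limit equal to a far enough term. -/
theorem isIso_π {C : Type*} [Category C] (Q : ℕᵒᵖ ⥤ C) [HasLimit Q] (N : ℕ)
    (h : ∀ n : ℕ, N ≤ n → IsIso (Q.map (homOfLE (Nat.le_succ n)).op)) : IsIso (limit.π Q (op N)) := by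
  have hiso : ∀ n (hn : N ≤ n), IsIso (Q.map (homOfLE hn).op) := by
    intro n hn
    induction n, hn using Nat.le_induction with
    | base => exact inferInstanceAs (IsIso (Q.map (𝟙 (op N))))
    | succ n hn ih =>
      rw [show (homOfLE (hn.trans (Nat.le_succ n))).op = (homOfLE (Nat.le_succ n)).op ≫ (homOfLE hn).op from rfl,
        Q.map_comp]
      haveI := h n hn
      haveI := ih
      infer_instance
  let comp : ∀ n : ℕ, Q.obj (op N) ⟶ Q.obj (op n) := fun n =>
    haveI := hiso (max n N) (le_max_right _ _)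
    inv (Q.map (homOfLE (le_max_right n N)).op) ≫ Q.map (homOfLE (le_max_left n N)).op
  have hcomp : ∀ (n m : ℕ) (h1 : n ≤ m) (h2 : N ≤ m),
      Q.map (homOfLE h2).op ≫ comp n = Q.map (homOfLE h1).op := by
    intro n m h1 h2
    haveI := hiso (max n N) (le_max_right _ _)
    rw [show (homOfLE h2).op = (homOfLE (max_le h1 h2)).op ≫ (homOfLE (le_max_right n N)).op from rfl,
      Q.map_comp, Category.assoc, IsIso.hom_inv_id_assoc, ← Q.map_comp]
    rfl
  let cn : Cone Q := ⟨Q.obj (op N), ⟨fun n => comp n.unop, fun n m f => by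
    haveI := hiso (max n.unop N) (le_max_right _ _)
    have hmn : m.unop ≤ n.unop := leOfHom f.unop
    rw [Functor.const_obj_map]
    erw [Category.id_comp]
    rw [← cancel_epi (Q.map (homOfLE (le_max_right n.unop N)).op),
      hcomp _ _ (hmn.trans (le_max_left _ _)) (le_max_right _ _), ← Category.assoc,
      hcomp _ _ (le_max_left _ _) (le_max_right _ _),
      show f = (homOfLE hmn).op from Subsingleton.elim _ _, ← Q.map_comp]
    rfl⟩⟩
  refine ⟨⟨limit.lift Q cn, limit.hom_ext fun n => ?_, ?_⟩⟩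
  · rw [Category.assoc, limit.lift_π, Category.id_comp]
    haveI := hiso (max n.unop N) (le_max_right _ _)
    show limit.π Q (op N) ≫ comp n.unop = _
    rw [← limit.w Q (homOfLE (le_max_right n.unop N)).op, Category.assoc,
      hcomp _ _ (le_max_left _ _) (le_max_right _ _)]
    exact limit.w Q _
  · rw [limit.lift_π]
    show comp N = _
    haveI := hiso (max N N) (le_max_right _ _)
    rw [← cancel_epi (Q.map (homOfLE (le_max_right N N)).op), hcomp _ _ (le_max_left _ _) (le_max_right _ _),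
      Category.comp_id]

/-! ### Images in a tower -/

section Images

variable (F : ℕᵒᵖ ⥤ X.Modules) {G : X.Modules} (φ : G ⟶ limit F)

/-- The image of `G` in a level. -/
abbrev img (n : ℕ) : X.Modules := Abelian.image (φ ≫ limit.π F (op n))

theorem img_map_zero (n : ℕ) : (Abelian.image.ι (φ ≫ limit.π F (op (n + 1))) ≫ tr F n) ≫
    cokernel.π (φ ≫ limit.π F (op n)) = 0 := by
  rw [← cancel_epi (Abelian.factorThruImage (φ ≫ limit.π F (op (n + 1)))), comp_zero, ← Category.assoc,
    ← Category.assoc, Abelian.image.fac, Category.assoc φ]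
  have : limit.π F (op (n + 1)) ≫ tr F n = limit.π F (op n) := limit.w F _
  rw [this, cokernel.condition]

/-- The transition maps between the images. -/
def imgMap (n : ℕ) : img F φ (n + 1) ⟶ img F φ n :=
  kernel.lift _ (Abelian.image.ι (φ ≫ limit.π F (op (n + 1))) ≫ tr F n) (img_map_zero F φ n)

/-- The tower of the images. -/
def imgTower : ℕᵒᵖ ⥤ X.Modules := Functor.ofOpSequence (imgMap F φ)

/-- The inclusion of the tower of images. -/
def imgIncl : imgTower F φ ⟶ F :=
  NatTrans.ofOpSequence (fun n => Abelian.image.ι (φ ≫ limit.π F (op n))) fun n => by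
    erw [Functor.ofOpSequence_map_homOfLE_succ]
    exact kernel.lift_ι _ _ _

/-- The projection onto the tower of images. -/
def imgProj : (Functor.const ℕᵒᵖ).obj G ⟶ imgTower F φ :=
  NatTrans.ofOpSequence (fun n => Abelian.factorThruImage (φ ≫ limit.π F (op n))) fun n => by
    erw [Functor.ofOpSequence_map_homOfLE_succ]
    rw [Functor.const_obj_map]
    erw [Category.id_comp]
    rw [← cancel_mono (Abelian.image.ι (φ ≫ limit.π F (op n))), Category.assoc, Abelian.image.fac]
    show φ ≫ limit.π F (op n) = _ ≫ kernel.lift _ _ _ ≫ kernel.ι _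
    rw [kernel.lift_ι, ← Category.assoc, Abelian.image.fac, Category.assoc]
    exact congrArg _ (limit.w F _).symm

variable [CompactSpace X] (hF : ∀ n : ℕ, Coh.IsQCoh (F.obj (op n))) (hG : Coh.IsQCoh G) (hGc : CtblGen G)
  [Epi φ]

include k φ hF hG hGc in
/-- A countably generated limit of quasi-coherent modules is a submodule of a far enough term. -/
theorem exists_isQCoh_and_mono_π : Coh.IsQCoh (limit F) ∧ ∃ N, ∀ n, N ≤ n → Mono (limit.π F (op n)) := by
  haveI := hG
  let I := imgTower F φ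
  let c : Cone I := ⟨G, imgProj F φ⟩
  have hI : ∀ n, Coh.IsQCoh (I.obj (op n)) := fun n => by
    haveI := hF n
    exact QCohLib.isQCoh_image _
  have hepi : ∀ n : ℕ, Epi (c.π.app (op n)) := fun n =>
    inferInstanceAs (Epi (Abelian.factorThruImage (φ ≫ limit.π F (op n))))
  haveI hmono : ∀ j, Mono ((imgIncl F φ).app j) := fun j =>
    inferInstanceAs (Mono (Abelian.image.ι (φ ≫ limit.π F (op j.unop))))
  haveI : Mono (limMap (imgIncl F φ)) := inferInstance
  have hfac : limit.lift I c ≫ limMap (imgIncl F φ) = φ := limit.hom_ext fun j => by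
    rw [Category.assoc, limMap_π, limit.lift_π_assoc]
    exact Abelian.image.fac _
  haveI : Epi (limMap (imgIncl F φ)) := by
    haveI : Epi (limit.lift I c ≫ limMap (imgIncl F φ)) := hfac.symm ▸ inferInstance
    exact epi_of_epi (limit.lift I c) _
  haveI : IsIso (limMap (imgIncl F φ)) := isIso_of_mono_of_epi _
  have hlim : Epi (limit.lift I c) := by
    rw [show limit.lift I c = φ ≫ inv (limMap (imgIncl F φ)) by rw [IsIso.eq_comp_inv, hfac]]
    infer_instance
  obtain ⟨N, hN⟩ := eventually_isIso k I hI c hG hGc hepi hlim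
  refine ⟨?_, N, fun n hn => ?_⟩
  · haveI := isIso_π I N hN
    haveI := hI N
    exact QCohLib.isQCoh_of_iso ((asIso (limit.π I (op N))).symm ≪≫ asIso (limMap (imgIncl F φ)))
  · haveI := isIso_π I n fun m hm => hN m (hn.trans hm)
    have : limit.π F (op n) = inv (limMap (imgIncl F φ)) ≫ limit.π I (op n) ≫ (imgIncl F φ).app (op n) := by
      rw [IsIso.eq_inv_comp, limMap_π]
    rw [this]
    infer_instance

include k φ hF hG hGc in
theorem limit_countably_qcoh : Coh.IsQCoh (limit F) ∧ CtblGen (limit F) ∧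
    (Coh.IsCoh G → Coh.IsCoh (limit F)) := by
  obtain ⟨hL, -⟩ := exists_isQCoh_and_mono_π k F φ hF hG hGc
  haveI := hL
  haveI := hG
  refine ⟨hL, fun U => ?_, fun h => ⟨hL, QCohLib.isFT_of_epi φ h.2⟩⟩
  obtain ⟨s, hs, hspan⟩ := hGc U
  refine ⟨secLin φ U.1 '' s, hs.image _, ?_⟩
  show Submodule.span Γ(X, U.1) _ = ⊤
  rw [eq_top_iff]
  intro y _
  obtain ⟨x, rfl⟩ := app_surjective φ U.2 y
  exact Submodule.apply_mem_span_image_of_mem_span (secLin φ U.1)
    (show x ∈ Submodule.span Γ(X, U.1) s from (show Submodule.span Γ(X, U.1) s = ⊤ from hspan) ▸ Submodule.mem_top)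

end Images

/-! ### Mittag-Leffler -/

section ML

variable (F : ℕᵒᵖ ⥤ X.Modules)

/-- Transition maps on sections, extended by zero. -/
def P (U : X.Opens) (n m : ℕ) : Γ(F.obj (op m), U) →+ Γ(F.obj (op n), U) :=
  if h : n ≤ m then AddMonoidHom.mk' ((F.map (homOfLE h).op).app U) (app_add _ U) else 0

theorem P_eq {U : X.Opens} {n m : ℕ} (h : n ≤ m) (x : Γ(F.obj (op m), U)) :
    P F U n m x = (F.map (homOfLE h).op).app U x := by
  rw [P, dif_pos h]; rfl

theorem P_refl {U : X.Opens} (n : ℕ) (x : Γ(F.obj (op n), U)) : P F U n n x = x := by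
  rw [P_eq F le_rfl]
  exact app_eq (F.map_id (op n)) U x

theorem P_P {U : X.Opens} {n m l : ℕ} (h : n ≤ m) (h' : m ≤ l) (x : Γ(F.obj (op l), U)) :
    P F U n m (P F U m l x) = P F U n l x := by
  rw [P_eq F h, P_eq F h', P_eq F (h.trans h'), ← app_comp, ← F.map_comp]
  rfl

theorem P_succ {U : X.Opens} (n : ℕ) (x : Γ(F.obj (op (n + 1)), U)) :
    P F U n (n + 1) x = (tr F n).app U x := P_eq F (Nat.le_succ n) x

/-- The Mittag-Leffler condition on the sections over an open. -/
def MLOn (U : X.Opens) : Prop := ∀ n, ∃ m, n ≤ m ∧ ∀ m', m ≤ m' → ∀ z, ∃ z', P F U n m' z' = P F U n m z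

/-- The stable images. -/
def stable (U : X.Opens) (n : ℕ) : AddSubgroup Γ(F.obj (op n), U) :=
  ⨅ (m : ℕ) (_ : n ≤ m), (P F U n m).range

theorem mem_stable {U : X.Opens} {n : ℕ} {x : Γ(F.obj (op n), U)} :
    x ∈ stable F U n ↔ ∀ m, n ≤ m → ∃ z, P F U n m z = x := by
  simp only [stable, AddSubgroup.mem_iInf, AddMonoidHom.mem_range]

theorem mem_stable_of_stable {U : X.Opens} {n m : ℕ} (hnm : n ≤ m)
    (hm : ∀ m', m ≤ m' → ∀ z, ∃ z', P F U n m' z' = P F U n m z) (z : Γ(F.obj (op m), U)) :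
    P F U n m z ∈ stable F U n := by
  rw [mem_stable]
  intro m' hm'
  obtain ⟨z', hz'⟩ := hm (max m m') (le_max_left _ _) z
  exact ⟨P F U m' (max m m') z', by rw [P_P F hm' (le_max_right _ _), hz']⟩

theorem exists_stable_lift {U : X.Opens} (hml : MLOn F U) (n : ℕ) {x : Γ(F.obj (op n), U)}
    (hx : x ∈ stable F U n) : ∃ y ∈ stable F U (n + 1), (tr F n).app U y = x := by
  obtain ⟨m, hnm, hm⟩ := hml (n + 1)
  obtain ⟨z, hz⟩ := (mem_stable F).mp hx m ((Nat.le_succ n).trans hnm)
  exact ⟨P F U (n + 1) m z, mem_stable_of_stable F hnm hm z, by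
    rw [← P_succ, P_P F (Nat.le_succ n) hnm, hz]⟩

theorem exists_compat {U : X.Opens} (hml : MLOn F U) (n : ℕ) {x : Γ(F.obj (op n), U)}
    (hx : x ∈ stable F U n) : ∃ s : Γ(limit F, U), (limit.π F (op n)).app U s = x := by
  choose lift hlift hlift' using fun j (y : stable F U j) => exists_stable_lift F hml j y.2
  let v : ∀ j, stable F U (n + j) := fun j => Nat.rec ⟨x, hx⟩ (fun i a => ⟨lift (n + i) a, hlift _ a⟩) j
  have hv : ∀ j, P F U (n + j) (n + (j + 1)) (v (j + 1)).1 = (v j).1 := fun j => by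
    show P F U (n + j) (n + j + 1) _ = _
    rw [P_succ]
    exact hlift' (n + j) (v j)
  have hv0 : ∀ j, P F U n (n + j) (v j).1 = x := fun j => by
    induction j with
    | zero => exact P_refl F n x
    | succ j ih => rw [← P_P F (Nat.le_add_right n j) (Nat.add_le_add_left (Nat.le_succ j) n), hv, ih]
  obtain ⟨s, hs⟩ := exists_limit_section F U (fun j => P F U j (n + j) (v j).1) fun j => by
    rw [← P_succ, P_P F (Nat.le_succ j) (Nat.le_add_left (j + 1) n),
      ← P_P F (Nat.le_add_left j n) (show n + j ≤ n + (j + 1) by omega)]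
    exact congrArg _ (hv j)
  exact ⟨s, (hs n).trans (hv0 n)⟩

theorem exists_diff_eq {U : X.Opens} (hml : MLOn F U) (b : ∀ n, Γ(F.obj (op n), U)) :
    ∃ a : ∀ n, Γ(F.obj (op n), U), ∀ n, a n - (tr F n).app U (a (n + 1)) = b n := by
  choose m hnm hm using hml
  let mm : ℕ → ℕ := fun n => n + 1 + ∑ i ∈ Finset.range (n + 1), m i
  have hmm : ∀ n, n + 1 ≤ mm n ∧ m n ≤ mm n ∧ mm n ≤ mm (n + 1) := fun n => by
    have h1 : m n ≤ ∑ i ∈ Finset.range (n + 1), m i :=
      Finset.single_le_sum (f := m) (fun i _ => Nat.zero_le _) (Finset.self_mem_range_succ n)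
    have h2 := Finset.sum_range_succ m (n + 1)
    exact ⟨by simp [mm], by simp only [mm]; omega, by simp only [mm]; omega⟩
  let c : ∀ n, Γ(F.obj (op n), U) := fun n => ∑ i ∈ Finset.Ico n (mm n), P F U n i (b i)
  have hc : ∀ n, b n - (c n - (tr F n).app U (c (n + 1))) ∈ stable F U n := fun n => by
    have e1 : (tr F n).app U (c (n + 1)) = ∑ i ∈ Finset.Ico (n + 1) (mm (n + 1)), P F U n i (b i) := by
      rw [← P_succ, map_sum]
      exact Finset.sum_congr rfl fun i hi => P_P F (Nat.le_succ n) (Finset.mem_Ico.mp hi).1 _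
    have e2 : c n = b n + ∑ i ∈ Finset.Ico (n + 1) (mm n), P F U n i (b i) := by
      show ∑ i ∈ Finset.Ico n (mm n), _ = _
      rw [Finset.sum_eq_sum_Ico_succ_bot (Nat.lt_of_succ_le (hmm n).1), P_refl]
    rw [e1, e2, ← Finset.sum_Ico_consecutive _ (hmm n).1 (hmm n).2.2]
    rw [show ∀ A C : Γ(F.obj (op n), U), b n - (b n + A - (A + C)) = C from fun A C => by abel]
    refine AddSubgroup.sum_mem _ fun i hi => ?_
    have hi' : m n ≤ i := (hmm n).2.1.trans (Finset.mem_Ico.mp hi).1
    rw [← P_P F (hnm n) hi']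
    exact mem_stable_of_stable F (hnm n) (hm n) _
  have hml' : MLOn F U := fun n => ⟨m n, hnm n, hm n⟩
  choose lift hlift hlift' using fun j (y : stable F U j) => exists_stable_lift F hml' j y.2
  let β : ∀ n, stable F U n := fun n => ⟨_, hc n⟩
  let a' : ∀ n, stable F U n := fun n =>
    Nat.rec 0 (fun i a => ⟨lift i (a - β i), hlift i _⟩) n
  refine ⟨fun n => c n + (a' n).1, fun n => ?_⟩
  rw [app_add]
  have e : (tr F n).app U (a' (n + 1)).1 = (a' n).1 - (β n).1 := hlift' n (a' n - β n)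
  rw [e]
  show c n + (a' n).1 - ((tr F n).app U (c (n + 1)) + ((a' n).1 - (b n - (c n - (tr F n).app U (c (n + 1)))))) = b n
  abel

/-- Sections of a countable product. -/
theorem exists_pi_section {M : ℕ → X.Modules} (V : X.Opens) (s : ∀ n, Γ(M n, V)) :
    ∃ t : Γ(∏ᶜ M, V), ∀ n, (Pi.π M n).app V t = s n := by
  haveI : PreservesLimitsOfShape (Discrete ℕ) (SheafOfModules.evaluation.{u} X.ringCatSheaf (op V)) :=
    SheafOfModules.evaluationPreservesLimitsOfShape.{u} (Discrete ℕ) X.ringCatSheaf (op V)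
  have : PreservesLimitsOfShape (Discrete ℕ) (FormalLimVanishLib.secM (X := X) V) := by
    refine @comp_preservesLimitsOfShape _ _ _ _ _ _ _ _ _ _ ?_ inferInstance
    assumption
  let hc := isLimitOfPreserves (forget AddCommGrpCat.{u})
    (isLimitOfPreserves (FormalLimVanishLib.secM (X := X) V) (limit.isLimit (Discrete.functor M)))
  let σ : ((Discrete.functor M ⋙ FormalLimVanishLib.secM V) ⋙ forget AddCommGrpCat.{u}).sections :=
    ⟨fun n => s n.as, fun {n m} f => by
      obtain ⟨n⟩ := n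
      obtain ⟨m⟩ := m
      obtain rfl := Discrete.eq_of_hom f
      rw [show f = 𝟙 _ from Subsingleton.elim _ _, CategoryTheory.Functor.map_id]
      rfl⟩
  exact ⟨(Types.isLimitEquivSections hc).symm σ, fun n =>
    Types.isLimitEquivSections_symm_apply hc σ ⟨n⟩⟩

theorem pi_section_ext {M : ℕ → X.Modules} (V : X.Opens) (s t : Γ(∏ᶜ M, V))
    (h : ∀ n, (Pi.π M n).app V s = (Pi.π M n).app V t) : s = t := by
  haveI : PreservesLimitsOfShape (Discrete ℕ) (SheafOfModules.evaluation.{u} X.ringCatSheaf (op V)) :=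
    SheafOfModules.evaluationPreservesLimitsOfShape.{u} (Discrete ℕ) X.ringCatSheaf (op V)
  have : PreservesLimitsOfShape (Discrete ℕ) (FormalLimVanishLib.secM (X := X) V) := by
    refine @comp_preservesLimitsOfShape _ _ _ _ _ _ _ _ _ _ ?_ inferInstance
    assumption
  exact Concrete.isLimit_ext _
    (isLimitOfPreserves (FormalLimVanishLib.secM (X := X) V) (limit.isLimit (Discrete.functor M))) s t
    fun n => h n.as

theorem towerDiff_π (n : ℕ) : LimSh.towerDiffSh F ≫ Pi.π (fun n : ℕ => F.obj (op n)) n =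
    Pi.π (fun n : ℕ => F.obj (op n)) n - Pi.π (fun n : ℕ => F.obj (op n)) (n + 1) ≫ tr F n :=
  Pi.lift_π _ _

theorem app_sub_hom {M N : X.Modules} (φ ψ : M ⟶ N) (U : X.Opens) (x : Γ(M, U)) :
    (φ - ψ).app U x = φ.app U x - ψ.app U x := rfl

theorem towerDiff_surjective {U : X.Opens} (hml : MLOn F U) :
    Function.Surjective ((LimSh.towerDiffSh F).app U) := fun b => by
  obtain ⟨a, ha⟩ := exists_diff_eq F hml fun n => (Pi.π (fun n : ℕ => F.obj (op n)) n).app U b
  obtain ⟨t, ht⟩ := exists_pi_section U a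
  refine ⟨t, pi_section_ext U _ _ fun n => ?_⟩
  rw [← app_comp, app_eq (towerDiff_π F n), app_sub_hom, app_comp, ht, ht, ha]

theorem mlOn_of_imageSubobject (hF : ∀ n : ℕ, Coh.IsQCoh (F.obj (op n)))
    (h : ∀ n : ℕ, ∃ (m : ℕ) (hm : n ≤ m), ∀ (m' : ℕ) (hm' : m ≤ m'),
      imageSubobject (F.map (homOfLE (hm.trans hm')).op) = imageSubobject (F.map (homOfLE hm).op))
    {U : X.Opens} (hU : IsAffineOpen U) : MLOn F U := fun n => by
  obtain ⟨m, hm, heq⟩ := h n
  refine ⟨m, hm, fun m' hm' z => ?_⟩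
  haveI := hF n
  haveI := hF m'
  let b := F.map (homOfLE hm).op
  let b' := F.map (homOfLE (hm.trans hm')).op
  haveI : Coh.IsQCoh (imageSubobject b' : X.Modules) :=
    haveI := QCohLib.isQCoh_image b'
    QCohLib.isQCoh_of_iso ((Abelian.imageIsoImage b') ≪≫ (imageSubobjectIso b').symm)
  obtain ⟨z', hz'⟩ := app_surjective (factorThruImageSubobject b') hU
    ((Subobject.ofLE _ _ (heq m' hm').ge).app U ((factorThruImageSubobject b).app U z))
  refine ⟨z', ?_⟩
  rw [P_eq F (hm.trans hm'), P_eq F hm]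
  show b'.app U z' = b.app U z
  rw [← app_eq (imageSubobject_arrow_comp b') U, app_comp, hz', ← app_comp, ← app_comp,
    ← app_eq (imageSubobject_arrow_comp b) U]
  refine app_eq ?_ U z
  exact congrArg (factorThruImageSubobject b ≫ ·) (Subobject.ofLE_arrow _)

theorem imageSubobject_eq_of_comp {A B C : X.Modules} (a : A ⟶ B) (b : B ⟶ C)
    (h : b ≫ cokernel.π (a ≫ b) = 0) : imageSubobject (a ≫ b) = imageSubobject b := by
  refine le_antisymm (imageSubobject_comp_le a b) ?_
  let ι := (imageSubobject (a ≫ b)).arrow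
  have h0 : (a ≫ b) ≫ cokernel.π ι = 0 :=
    (congrArg (· ≫ cokernel.π ι) (imageSubobject_arrow_comp (a ≫ b))).symm.trans (by
      rw [Category.assoc, cokernel.condition, comp_zero])
  have hb : b ≫ cokernel.π ι = 0 := by
    rw [show cokernel.π ι = cokernel.π (a ≫ b) ≫ cokernel.desc _ (cokernel.π ι) h0 from
      (cokernel.π_desc _ _ _).symm, ← Category.assoc, h, zero_comp]
  exact imageSubobject_le b (Abelian.monoLift ι b hb) (Abelian.monoLift_comp _ _ _)

theorem imageSubobject_eq_of_cover {A B C : X.Modules} [Coh.IsQCoh A] [Coh.IsQCoh B] [Coh.IsQCoh C]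
    (a : A ⟶ B) (b : B ⟶ C)
    (h : ∀ x : X, ∃ (U : X.Opens) (_ : IsAffineOpen U), x ∈ U ∧ ∀ s, ∃ z, b.app U s = (a ≫ b).app U z) :
    imageSubobject (a ≫ b) = imageSubobject b := by
  refine imageSubobject_eq_of_comp a b ?_
  haveI : Coh.IsQCoh (cokernel (a ≫ b)) := QCohLib.isQCoh_cokernel _
  refine HilbObsLib.eq_zero_of_app _ fun x => ?_
  obtain ⟨U, hU, hx, hs⟩ := h x
  refine ⟨U, hU, hx, fun s => ?_⟩
  obtain ⟨z, hz⟩ := hs s
  rw [app_comp, hz, ← app_comp, app_eq (cokernel.condition _), app_zero_hom]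

theorem imageSubobject_stable_of_mlOn [CompactSpace X] (hF : ∀ n : ℕ, Coh.IsQCoh (F.obj (op n)))
    (h : ∀ U : X.Opens, IsAffineOpen U → MLOn F U) (n : ℕ) :
    ∃ (m : ℕ) (hm : n ≤ m), ∀ (m' : ℕ) (hm' : m ≤ m'),
      imageSubobject (F.map (homOfLE (hm.trans hm')).op) = imageSubobject (F.map (homOfLE hm).op) := by
  classical
  choose m hnm hm using fun V : X.affineOpens => h V.1 V.2 n
  obtain ⟨S, hS⟩ := exists_cover (X := X)
  obtain ⟨M, hnM, hmM⟩ : ∃ M, n ≤ M ∧ ∀ V ∈ S, m V ≤ M :=
    ⟨n + S.sup m, Nat.le_add_right _ _, fun V hV => (Finset.le_sup hV).trans (Nat.le_add_left _ _)⟩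
  refine ⟨M, hnM, fun m' hm' => ?_⟩
  haveI := hF n
  haveI := hF m'
  haveI := hF M
  have e : F.map (homOfLE (hnM.trans hm')).op = F.map (homOfLE hm').op ≫ F.map (homOfLE hnM).op := by
    rw [← F.map_comp]; rfl
  rw [e]
  refine imageSubobject_eq_of_cover _ _ fun x => ?_
  obtain ⟨V, hVS, hxV⟩ := hS x
  refine ⟨V.1, V.2, hxV, fun s => ?_⟩
  obtain ⟨z', hz'⟩ := hm V m' ((hmM V hVS).trans hm') (P F V.1 (m V) M s)
  rw [P_P F (hnm V) (hmM V hVS)] at hz'
  exact ⟨z', by rw [← P_eq F hnM s, ← hz', P_eq F (hnM.trans hm'), app_eq e]⟩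

end ML

/-! ### The first derived limit -/

section LimOne

variable (F : ℕᵒᵖ ⥤ X.Modules) (n₀ : ℕ)

/-- The map from a later level to the fixed one. -/
abbrev ψ (d : ℕ) : F.obj (op (n₀ + d)) ⟶ F.obj (op n₀) := F.map (homOfLE (Nat.le_add_right n₀ d)).op

theorem ψ_succ (d : ℕ) : ψ F n₀ (d + 1) = tr F (n₀ + d) ≫ ψ F n₀ d := by
  rw [← F.map_comp]; rfl

theorem ψ_zero : ψ F n₀ 0 = 𝟙 _ := F.map_id (op n₀)

/-- The transition maps between the quotients by the images. -/
def quotMap (d : ℕ) : cokernel (ψ F n₀ (d + 1)) ⟶ cokernel (ψ F n₀ d) :=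
  cokernel.desc _ (cokernel.π _) (by rw [ψ_succ, Category.assoc, cokernel.condition, comp_zero])

/-- The tower of the quotients by the images. -/
def quotTower : ℕᵒᵖ ⥤ X.Modules :=
  Functor.ofOpSequence (X := fun d => cokernel (ψ F n₀ d)) (quotMap F n₀)

theorem quotTower_tr (d : ℕ) : tr (quotTower F n₀) d = quotMap F n₀ d :=
  Functor.ofOpSequence_map_homOfLE_succ _ d

/-- The projections onto the quotients. -/
def quotProj : (Functor.const ℕᵒᵖ).obj (F.obj (op n₀)) ⟶ quotTower F n₀ :=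
  NatTrans.ofOpSequence (fun d => cokernel.π (ψ F n₀ d)) fun d => by
    erw [Functor.ofOpSequence_map_homOfLE_succ]
    rw [Functor.const_obj_map]
    erw [Category.id_comp]
    exact (cokernel.π_desc _ _ _).symm

/-- The partial sums. -/
def psum (d : ℕ) : (∏ᶜ fun n : ℕ => F.obj (op n)) ⟶ F.obj (op n₀) :=
  ∑ i ∈ Finset.range d, Pi.π (fun n : ℕ => F.obj (op n)) (n₀ + i) ≫ ψ F n₀ i

/-- Partial sums modulo the images. -/
def psumProj : (Functor.const ℕᵒᵖ).obj (∏ᶜ fun n : ℕ => F.obj (op n)) ⟶ quotTower F n₀ :=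
  NatTrans.ofOpSequence (fun d => psum F n₀ d ≫ cokernel.π (ψ F n₀ d)) fun d => by
    erw [Functor.ofOpSequence_map_homOfLE_succ]
    rw [Functor.const_obj_map]
    erw [Category.id_comp]
    rw [quotMap, Category.assoc, cokernel.π_desc, psum, psum, Finset.sum_range_succ, Preadditive.add_comp,
      Category.assoc, cokernel.condition, comp_zero, add_zero]

/-- The map to the completion. -/
def σ : (∏ᶜ fun n : ℕ => F.obj (op n)) ⟶ limit (quotTower F n₀) :=
  limit.lift _ ⟨_, psumProj F n₀⟩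

/-- The map of the fixed level to the completion. -/
def τ : F.obj (op n₀) ⟶ limit (quotTower F n₀) := limit.lift _ ⟨_, quotProj F n₀⟩

theorem diff_psum (d : ℕ) : LimSh.towerDiffSh F ≫ psum F n₀ d =
    Pi.π (fun n : ℕ => F.obj (op n)) n₀ - Pi.π (fun n : ℕ => F.obj (op n)) (n₀ + d) ≫ ψ F n₀ d := by
  induction d with
  | zero => rw [psum, Finset.range_zero, Finset.sum_empty, comp_zero, ψ_zero]; erw [Category.comp_id, sub_self]
  | succ d ih =>
    rw [psum, Finset.sum_range_succ, Preadditive.comp_add, ← psum, ih, ← Category.assoc, towerDiff_π,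
      Preadditive.sub_comp, Category.assoc, ← ψ_succ, sub_add_sub_cancel]
    rfl

theorem diff_σ : LimSh.towerDiffSh F ≫ σ F n₀ = Pi.π (fun n : ℕ => F.obj (op n)) n₀ ≫ τ F n₀ :=
  limit.hom_ext fun j => by
    rw [Category.assoc, Category.assoc, σ, τ, limit.lift_π, limit.lift_π]
    show LimSh.towerDiffSh F ≫ psum F n₀ j.unop ≫ cokernel.π _ = _ ≫ cokernel.π _
    rw [← Category.assoc, diff_psum, Preadditive.sub_comp, Category.assoc, cokernel.condition, comp_zero, sub_zero]

variable (hF : ∀ n : ℕ, Coh.IsQCoh (F.obj (op n)))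

include hF in
theorem isQCoh_quotTower (d : ℕ) : Coh.IsQCoh ((quotTower F n₀).obj (op d)) := by
  haveI := hF n₀
  haveI := hF (n₀ + d)
  exact QCohLib.isQCoh_cokernel _

include hF in
theorem exists_preimage_ψ {U : X.Opens} (hU : IsAffineOpen U) (d : ℕ) (x : Γ(F.obj (op n₀), U))
    (hx : (cokernel.π (ψ F n₀ d)).app U x = 0) : ∃ y, (ψ F n₀ d).app U y = x := by
  haveI := hF n₀
  haveI := hF (n₀ + d)
  haveI : Coh.IsQCoh (Abelian.image (ψ F n₀ d)) := QCohLib.isQCoh_image _
  obtain ⟨w, hw⟩ := CohCmpLib.exists_lift_kernel (cokernel.π (ψ F n₀ d)) x hx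
  obtain ⟨y, hy⟩ := app_surjective (Abelian.factorThruImage (ψ F n₀ d)) hU w
  exact ⟨y, by rw [← app_eq (Abelian.image.fac (ψ F n₀ d)) U, app_comp, hy]; exact hw⟩

include hF in
theorem σ_surjective {U : X.Opens} (hU : IsAffineOpen U) : Function.Surjective ((σ F n₀).app U) := fun s => by
  classical
  let sd : ∀ d, Γ(cokernel (ψ F n₀ d), U) := fun d => (limit.π (quotTower F n₀) (op d)).app U s
  have hsd : ∀ d, (quotMap F n₀ d).app U (sd (d + 1)) = sd d := fun d => by
    rw [← quotTower_tr]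
    show (limit.π (quotTower F n₀) (op (d + 1)) ≫ tr (quotTower F n₀) d).app U s = _
    exact app_eq (limit.w (quotTower F n₀) _) U s
  have hsurj : ∀ d, Function.Surjective ((cokernel.π (ψ F n₀ d)).app U) := fun d => by
    haveI := hF n₀
    haveI := hF (n₀ + d)
    haveI : Coh.IsQCoh (cokernel (ψ F n₀ d)) := QCohLib.isQCoh_cokernel _
    exact app_surjective _ hU
  choose x₁ hx₁ using fun d => hsurj d (sd d)
  let x : ℕ → Γ(F.obj (op n₀), U) := fun d => if d = 0 then 0 else x₁ d
  have hx : ∀ d, (cokernel.π (ψ F n₀ d)).app U (x d) = sd d := fun d => by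
    by_cases hd : d = 0
    · subst hd
      haveI : Epi (ψ F n₀ 0) := by rw [ψ_zero]; infer_instance
      have hz : ∀ y : Γ(cokernel (ψ F n₀ 0), U), y = 0 := fun y => by
        rw [show y = (𝟙 _ : cokernel (ψ F n₀ 0) ⟶ _).app U y from rfl,
          app_eq ((IsZero.iff_id_eq_zero _).mp (isZero_cokernel_of_epi _)), app_zero_hom]
      rw [hz (sd 0)]
      exact hz _
    · simp only [x, if_neg hd]; exact hx₁ d
  have hy : ∀ d, ∃ y, (ψ F n₀ d).app U y = x (d + 1) - x d := fun d =>
    exists_preimage_ψ F n₀ hF hU d _ (by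
      rw [map_sub, hx, sub_eq_zero, ← hsd d, ← hx (d + 1), ← app_comp]
      exact (app_eq (cokernel.π_desc _ _ _) U _).symm)
  choose y hy using hy
  let b : ∀ n, Γ(F.obj (op n), U) := fun n =>
    if h : n₀ ≤ n then (Nat.add_sub_cancel' h) ▸ y (n - n₀) else 0
  have hb : ∀ d, b (n₀ + d) = y d := fun d => by
    simp only [b, dif_pos (Nat.le_add_right n₀ d)]
    have : ∀ (e : ℕ) (he : n₀ + e = n₀ + d), (he ▸ y e : Γ(F.obj (op (n₀ + d)), U)) = y d := by
      intro e he
      obtain rfl : e = d := Nat.add_left_cancel he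
      rfl
    exact this _ _
  obtain ⟨t, ht⟩ := exists_pi_section U b
  refine ⟨t, limit_section_ext _ U _ _ fun d => ?_⟩
  have hp : ∀ d, (psum F n₀ d).app U t = x d := fun d => by
    induction d with
    | zero => rw [psum, Finset.range_zero, Finset.sum_empty, app_zero_hom]; rfl
    | succ d ih =>
      rw [psum, Finset.sum_range_succ, ← psum]
      show (psum F n₀ d).app U t + (ψ F n₀ d).app U ((Pi.π (fun n : ℕ => F.obj (op n)) (n₀ + d)).app U t) = _
      rw [ih, ht, hb, hy, add_sub_cancel]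
  rw [← app_comp, app_eq (show σ F n₀ ≫ limit.π (quotTower F n₀) (op d) = _ from limit.lift_π _ _)]
  show Scheme.Modules.Hom.app (cokernel.π (ψ F n₀ d)) U ((psum F n₀ d).app U t) = sd d
  rw [hp, hx]

include k hF in
theorem mlOn_of_ctblGen (hFc : ∀ n : ℕ, CtblGen (F.obj (op n))) (hC : CtblGen (LimSh.limOneSh F))
    {U : X.Opens} (hU : IsAffineOpen U) : MLOn F U := fun n₀ => by
  classical
  obtain ⟨_, _, hR⟩ := exists_algebra k hU
  haveI := hF n₀
  obtain ⟨g, hg⟩ := (hFc n₀).enum hU
  obtain ⟨e, he⟩ := hC.enum hU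
  have hsurj : ∀ d, Function.Surjective ((tr (quotTower F n₀) d).app U) := fun d => by
    haveI := isQCoh_quotTower F n₀ hF d
    haveI := isQCoh_quotTower F n₀ hF (d + 1)
    haveI : Epi (tr (quotTower F n₀) d) := by
      rw [quotTower_tr]
      exact epi_of_epi_fac (cokernel.π_desc _ _ _)
    exact app_surjective _ hU
  let π₀ := cokernel.π (LimSh.towerDiffSh F)
  obtain ⟨D, hD⟩ := eventually_injective (quotTower F n₀) (isQCoh_quotTower F n₀ hF) hU k hR hsurj
    (τ F n₀) g hg fun η hη => by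
      choose W hWU hηW b hb using fun j => CohCmpLib.exists_local_lift π₀ (e j) hη
      refine ⟨W, hηW, fun j => (σ F n₀).app (W j) (b j), fun s => ?_⟩
      obtain ⟨t, rfl⟩ := σ_surjective F n₀ hF hU s
      obtain ⟨r, hr⟩ := Finsupp.mem_span_range_iff_exists_finsupp.mp
        (show π₀.app U t ∈ Submodule.span Γ(X, U) (Set.range e) from he ▸ Submodule.mem_top)
      let W₀ : X.Opens := r.support.inf W ⊓ U
      have hηW₀ : η ∈ W₀ := by
        refine ⟨?_, hη⟩
        have : ∀ S : Finset ℕ, η ∈ S.inf W := fun S => by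
          induction S using Finset.induction_on with
          | empty => exact Opens.mem_top η
          | insert j S _ ih => rw [Finset.inf_insert]; exact ⟨hηW j, ih⟩
        exact this _
      have hW₀ : ∀ j ∈ r.support, W₀ ≤ W j := fun j hj => inf_le_left.trans (Finset.inf_le hj)
      let u₀ : Γ(∏ᶜ fun n : ℕ => F.obj (op n), W₀) :=
        (∏ᶜ fun n : ℕ => F.obj (op n)).presheaf.map (homOfLE (inf_le_right : W₀ ≤ U)).op t -
          ∑ j ∈ r.support, X.presheaf.map (homOfLE (inf_le_right : W₀ ≤ U)).op (r j) • rz _ (b j)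
      have hu₀ : π₀.app W₀ u₀ = 0 := by
        rw [map_sub, QCohLib.app_map, app_sum, ← hr, Finsupp.sum, res_sum, sub_eq_zero]
        refine Finset.sum_congr rfl fun j hj => ?_
        rw [QCohLib.map_smul', QCohLib.app_smul, rz_eq (hW₀ j hj), QCohLib.app_map, hb, res_res]
      obtain ⟨W', hW', hηW', a, ha⟩ := CohCmpLib.exists_local_lift_of_exact
        (ShortComplex.exact_of_g_is_cokernel (ShortComplex.mk _ _ (cokernel.condition (LimSh.towerDiffSh F)))
          (cokernelIsCokernel _)) u₀ hu₀ hηW₀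
      refine ⟨r, W', hW'.trans inf_le_right, (Pi.π (fun n : ℕ => F.obj (op n)) n₀).app W' a, hηW',
        fun j hj => hW'.trans (hW₀ j hj), ?_⟩
      have h1 := congrArg ((σ F n₀).app W') ha
      rw [← app_comp, app_eq (diff_σ F n₀), app_comp] at h1
      rw [h1, map_sub, res_res, map_sub, res_sum, app_sum, ← QCohLib.app_map, Finsupp.sum, eq_comm,
        sub_add_eq_add_sub, add_sub_assoc, add_eq_left, sub_eq_zero]
      refine Finset.sum_congr rfl fun j hj => ?_
      rw [QCohLib.map_smul', resR_resR, QCohLib.app_smul]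
      refine congrArg _ ?_
      rw [rz_eq (hW'.trans (hW₀ j hj)), rz_eq (hW₀ j hj), res_res, QCohLib.app_map]
  refine ⟨n₀ + D, Nat.le_add_right _ _, fun m' hm' z => ?_⟩
  obtain ⟨d, rfl⟩ := Nat.exists_eq_add_of_le hm'
  have : ∀ d, ∃ z', P F U n₀ (n₀ + (D + d)) z' = P F U n₀ (n₀ + D) z := fun d => by
    induction d with
    | zero => exact ⟨z, rfl⟩
    | succ d ih =>
      obtain ⟨z', hz'⟩ := ih
      have h1 : (cokernel.π (ψ F n₀ (D + d + 1))).app U ((ψ F n₀ (D + d)).app U z') = 0 := by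
        refine hD (D + d) (Nat.le_add_right _ _) ?_
        have e : ∀ y, (quotMap F n₀ (D + d)).app U ((cokernel.π (ψ F n₀ (D + d + 1))).app U y) =
            (cokernel.π (ψ F n₀ (D + d))).app U y := fun y => app_eq (cokernel.π_desc _ _ _) U y
        rw [quotTower_tr]
        refine (e _).trans ?_
        rw [← app_comp, app_eq (cokernel.condition _), app_zero_hom]
        exact (map_zero _).symm
      obtain ⟨z'', hz''⟩ := exists_preimage_ψ F n₀ hF hU (D + d + 1) _ h1
      refine ⟨z'', ?_⟩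
      rw [P_eq F (Nat.le_add_right _ _)] at hz' ⊢
      exact hz''.trans hz'
  rw [Nat.add_assoc]
  exact this d

include k hF in
theorem tfae [CompactSpace X] (hFc : ∀ n : ℕ, CtblGen (F.obj (op n))) :
    List.TFAE
      [ ∀ n : ℕ, ∃ (m : ℕ) (hm : n ≤ m), ∀ (m' : ℕ) (hm' : m ≤ m'),
          imageSubobject (F.map (homOfLE (hm.trans hm')).op) = imageSubobject (F.map (homOfLE hm).op),
        IsZero (LimSh.limOneSh F),
        Coh.IsQCoh (LimSh.limOneSh F) ∧ CtblGen (LimSh.limOneSh F) ] := by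
  tfae_have 1 → 2 := fun h => by
    haveI : Epi (LimSh.towerDiffSh F) := QCohLib.epi_of_surjective_on_affines _ fun V s p hp => by
      obtain ⟨W, hW, hpW, hWV⟩ := Opens.isBasis_iff_nbhd.mp X.isBasis_affineOpens hp
      exact ⟨W, hWV, hpW, towerDiff_surjective F (mlOn_of_imageSubobject F hF h hW) _⟩
    exact isZero_cokernel_of_epi _
  tfae_have 2 → 3 := fun h => by
    refine ⟨?_, fun U => ⟨∅, Set.countable_empty, ?_⟩⟩
    · haveI := hF 0
      haveI : Coh.IsQCoh (cokernel (𝟙 (F.obj (op 0)))) := QCohLib.isQCoh_cokernel _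
      exact QCohLib.isQCoh_of_iso (IsZero.iso (isZero_cokernel_of_epi (𝟙 (F.obj (op 0)))) h)
    · rw [eq_top_iff]
      intro x _
      have : x = 0 := app_eq ((IsZero.iff_id_eq_zero _).mp h) U.1 x
      rw [this]
      exact zero_mem _
  tfae_have 3 → 1 := fun h =>
    imageSubobject_stable_of_mlOn F hF fun U hU => mlOn_of_ctblGen k F hF hFc h.2 hU
  tfae_finish

end LimOne

/-! ### Tensoring with a flat module -/

section Tensor

variable [CompactSpace X] (F : ℕᵒᵖ ⥤ X.Modules) (hF : ∀ n : ℕ, Coh.IsQCoh (F.obj (op n)))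
  (hFc : ∀ n : ℕ, CtblGen (F.obj (op n))) (E : X.Modules) (hE : FlatMod.IsFlat E)
  (hL : Coh.IsQCoh (limit F)) (hLc : CtblGen (limit F))

include hE in
theorem mono_tensor {A B : X.Modules} (m : A ⟶ B) [Mono m] : Mono ((LimSh.tensorRight E).map m) :=
  InjModLib.mono_tensor_of_isFlat m E hE

include hF hL in
theorem exists_factor_of_ml (h : ∀ U : X.Opens, IsAffineOpen U → MLOn F U) (n : ℕ)
    [Mono (limit.π F (op n))] :
    ∃ (m : ℕ) (hm : n ≤ m) (ρ : F.obj (op m) ⟶ limit F), ρ ≫ limit.π F (op n) = F.map (homOfLE hm).op := by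
  classical
  choose m hnm hm using fun V : X.affineOpens => h V.1 V.2 n
  obtain ⟨S, hS⟩ := exists_cover (X := X)
  haveI := hF n
  haveI := hF (n + S.sup m)
  haveI := hL
  have h0 : F.map (homOfLE (Nat.le_add_right n (S.sup m))).op ≫ cokernel.π (limit.π F (op n)) = 0 := by
    haveI : Coh.IsQCoh (cokernel (limit.π F (op n))) := QCohLib.isQCoh_cokernel _
    refine HilbObsLib.eq_zero_of_app _ fun x => ?_
    obtain ⟨V, hVS, hxV⟩ := hS x
    refine ⟨V.1, V.2, hxV, fun z => ?_⟩
    have hmV : m V ≤ n + S.sup m := (Finset.le_sup hVS).trans (Nat.le_add_left _ _)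
    obtain ⟨s, hs⟩ := exists_compat F (h V.1 V.2) n
      (mem_stable_of_stable F (hnm V) (hm V) (P F V.1 (m V) (n + S.sup m) z))
    rw [P_P F (hnm V) hmV, P_eq F (Nat.le_add_right n (S.sup m))] at hs
    rw [app_comp, ← hs, ← app_comp, app_eq (cokernel.condition _), app_zero_hom]
  exact ⟨_, Nat.le_add_right n (S.sup m), Abelian.monoLift _ _ h0, Abelian.monoLift_comp _ _ _⟩

include k hF hE hL hLc in
theorem mono_post : Mono (limit.post F (LimSh.tensorRight E)) := by
  obtain ⟨-, N, hN⟩ := exists_isQCoh_and_mono_π k F (𝟙 (limit F)) hF hL hLc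
  haveI := hN N le_rfl
  haveI := mono_tensor E hE (limit.π F (op N))
  haveI : Mono (limit.post F (LimSh.tensorRight E) ≫ limit.π (F ⋙ LimSh.tensorRight E) (op N)) := by
    rw [limit.post_π]; infer_instance
  exact mono_of_mono _ (limit.π (F ⋙ LimSh.tensorRight E) (op N))

include k hF hFc hL hLc in
theorem isIso_post (hz : IsZero (LimSh.limOneSh F)) : IsIso (limit.post F (LimSh.tensorRight E)) := by
  obtain ⟨-, N, hN⟩ := exists_isQCoh_and_mono_π k F (𝟙 (limit F)) hF hL hLc
  haveI := hN N le_rfl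
  have hgen : CtblGen (LimSh.limOneSh F) :=
    (((tfae k F hF hFc).out 1 2 : IsZero (LimSh.limOneSh F) ↔ Coh.IsQCoh (LimSh.limOneSh F) ∧ CtblGen (LimSh.limOneSh F)).mp hz).2
  have hml : ∀ U : X.Opens, IsAffineOpen U → MLOn F U := fun U hU => mlOn_of_ctblGen k F hF hFc hgen hU
  obtain ⟨m, hm, ρ, hρ⟩ := exists_factor_of_ml F hF hL hml N
  let T := LimSh.tensorRight E
  refine ⟨⟨limit.π (F ⋙ T) (op m) ≫ T.map ρ, ?_, limit.hom_ext fun j => ?_⟩⟩
  · rw [← Category.assoc, limit.post_π, ← T.map_comp, ← T.map_id]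
    refine congrArg T.map ?_
    rw [← cancel_mono (limit.π F (op N)), Category.assoc, hρ, Category.id_comp]
    exact limit.w F _
  · obtain ⟨n⟩ := j
    haveI := hN (max n N) (le_max_right _ _)
    obtain ⟨m', hm', ρ', hρ'⟩ := exists_factor_of_ml F hF hL hml (max n N)
    let M' := max m m'
    have e : F.map (homOfLE (le_max_left m m')).op ≫ ρ = F.map (homOfLE (le_max_right m m')).op ≫ ρ' := by
      rw [← cancel_mono (limit.π F (op N)), Category.assoc, Category.assoc, hρ,
        ← limit.w F (homOfLE (le_max_right n N)).op, ← Category.assoc ρ', hρ', ← F.map_comp, ← F.map_comp,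
        ← F.map_comp]
      rfl
    have e2 : F.map (homOfLE (le_max_left m m')).op ≫ ρ ≫ limit.π F (op n) =
        F.map (homOfLE (((le_max_left n N).trans hm').trans (le_max_right m m'))).op := by
      rw [← Category.assoc, e, Category.assoc, ← limit.w F (homOfLE (le_max_left n N)).op,
        ← Category.assoc ρ', hρ', ← F.map_comp, ← F.map_comp]
      rfl
    rw [Category.id_comp, Category.assoc, Category.assoc, limit.post_π, ← T.map_comp,
      ← limit.w (F ⋙ T) (homOfLE (le_max_left m m')).op, Category.assoc, Functor.comp_map, ← T.map_comp, e2]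
    exact limit.w (F ⋙ T) _

end Tensor

end BlowRegLib.TowerMain
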