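import Groth.Agent.BlowRegLib.TowerCore
import Groth.Agent.HilbObsLib.Sections
import Groth.Agent.FormalLimVanishLib.Main
import Groth.Agent.CohCmpLib.Eps
import Groth.Agent.DevissExLib.PureDescent
import Mathlib.AlgebraicGeometry.Morphisms.FiniteType

/-!
# Stabilisation of towers whose limit is countably generated near every point
-/

set_option autoImplicit false
set_option backward.isDefEq.respectTransparency false
set_option backward.isDefEq.respectTransparency.types false
set_option linter.style.haveILetI false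

universe u

open CategoryTheory CategoryTheory.Limits AlgebraicGeometry TopologicalSpace Opposite
open FormalLimVanishLib (tr exists_limit_section limit_section_ext)

noncomputable section

namespace BlowRegLib.TowerSec

variable {X : Scheme.{u}}

section Res

variable (M : X.Modules)

/-- Restriction, extended by zero. -/
def rz {W W' : X.Opens} (x : Γ(M, W)) : Γ(M, W') := by
  classical
  exact if h : W' ≤ W then M.presheaf.map (homOfLE h).op x else 0

variable {M}

theorem rz_eq {W W' : X.Opens} (h : W' ≤ W) (x : Γ(M, W)) : rz M x = M.presheaf.map (homOfLE h).op x :=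
  dif_pos h

theorem res_res {W V U : X.Opens} (h : W ≤ V) (h' : V ≤ U) (x : Γ(M, U)) :
    M.presheaf.map (homOfLE h).op (M.presheaf.map (homOfLE h').op x) =
      M.presheaf.map (homOfLE (h.trans h')).op x :=
  QCohLib.map_map' M _ _ x

theorem resR_resR {W V U : X.Opens} (h : W ≤ V) (h' : V ≤ U) (x : Γ(X, U)) :
    X.presheaf.map (homOfLE h).op (X.presheaf.map (homOfLE h').op x) =
      X.presheaf.map (homOfLE (h.trans h')).op x := by
  rw [← ConcreteCategory.comp_apply, ← Functor.map_comp]
  rfl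

theorem app_add {N : X.Modules} (φ : M ⟶ N) (V : X.Opens) (x y : Γ(M, V)) :
    φ.app V (x + y) = φ.app V x + φ.app V y := map_add _ x y

theorem app_sum {N : X.Modules} (φ : M ⟶ N) (V : X.Opens) {ι : Type*} (s : Finset ι) (x : ι → Γ(M, V)) :
    φ.app V (∑ i ∈ s, x i) = ∑ i ∈ s, φ.app V (x i) := map_sum _ x s

theorem res_sum {W V : X.Opens} (h : W ≤ V) {ι : Type*} (s : Finset ι) (x : ι → Γ(M, V)) :
    M.presheaf.map (homOfLE h).op (∑ i ∈ s, x i) = ∑ i ∈ s, M.presheaf.map (homOfLE h).op (x i) :=
  map_sum _ x s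

end Res

/-- The sections of a morphism on an open, as a linear map over the functions of that open. -/
def secLin {M N : X.Modules} (φ : M ⟶ N) (U : X.Opens) : Γ(M, U) →ₗ[Γ(X, U)] Γ(N, U) where
  toFun := φ.app U
  map_add' := app_add φ U
  map_smul' r x := QCohLib.app_smul φ U r x

/-- A point of an affine open given by a prime. -/
theorem exists_point {U : X.Opens} (hU : IsAffineOpen U) (p : Ideal Γ(X, U)) [hp : p.IsPrime] :
    ∃ η : X, η ∈ U ∧ ∀ f : Γ(X, U), η ∈ X.basicOpen f ↔ f ∉ p := by
  refine ⟨hU.fromSpec.base ⟨p, hp⟩, ?_, fun f => ?_⟩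
  · have : hU.fromSpec.base ⟨p, hp⟩ ∈ Set.range hU.fromSpec.base := ⟨_, rfl⟩
    rwa [hU.range_fromSpec] at this
  · rw [← hU.fromSpec_image_basicOpen f]
    constructor
    · rintro ⟨q, hq, he⟩
      obtain rfl := hU.fromSpec.isOpenEmbedding.injective he
      exact hq
    · exact fun h => ⟨⟨p, hp⟩, h, rfl⟩

/-- Equations between restrictions to a basic open give equations of germs. -/
theorem germ_eq_sum {M : X.Modules} [Coh.IsQCoh M] {U : X.Opens} (hU : IsAffineOpen U) (x : Ideal Γ(X, U))
    [x.IsPrime] {f : Γ(X, U)} (hf : f ∉ x) {ι : Type} (S : Finset ι) :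
    ∀ (a : Γ(M, U)) (r : ι → Γ(X, U)) (t : ι → Γ(M, U)) (w : ι → x.primeCompl)
      (y : ι → Γ(M, X.basicOpen f)),
      (∀ i ∈ S, M.presheaf.map (homOfLE (X.basicOpen_le f)).op (t i) =
        X.presheaf.map (homOfLE (X.basicOpen_le f)).op (w i : Γ(X, U)) • y i) →
      M.presheaf.map (homOfLE (X.basicOpen_le f)).op a =
        ∑ i ∈ S, X.presheaf.map (homOfLE (X.basicOpen_le f)).op (r i) • y i →
      LocalizedModule.mkLinearMap x.primeCompl Γ(M, U) a =
        ∑ i ∈ S, r i • LocalizedModule.mk (t i) (w i) := by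
  classical
  induction S using Finset.induction_on with
  | empty =>
    intro a r t w y _ ha
    rw [Finset.sum_empty] at ha ⊢
    obtain ⟨m, hm⟩ := (QCohLib.localizingAt_of_isQCoh hU M f).eq_zero a ha
    have hm' : f ^ m • a = 0 := by
      have e : X.presheaf.map (homOfLE (le_refl U)).op f = f :=
        (congrArg (fun φ => φ f) (X.presheaf.map_id (op U))).trans rfl
      rwa [e] at hm
    exact (IsLocalizedModule.eq_zero_iff x.primeCompl (LocalizedModule.mkLinearMap x.primeCompl Γ(M, U))).mpr
      ⟨⟨f ^ m, fun h => hf (Ideal.IsPrime.mem_of_pow_mem inferInstance m h)⟩, hm'⟩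
  | @insert i S hi ih =>
    intro a r t w y ht ha
    rw [Finset.sum_insert hi] at ha
    have key := ih ((w i : Γ(X, U)) • a - r i • t i) (fun j => (w i : Γ(X, U)) * r j) t w y
      (fun j hj => ht j (Finset.mem_insert_of_mem hj)) (by
        rw [map_sub, QCohLib.map_smul', QCohLib.map_smul', ha, ht i (Finset.mem_insert_self _ _), smul_add,
          smul_smul, smul_smul, mul_comm, add_sub_cancel_left, Finset.smul_sum]
        refine Finset.sum_congr rfl fun j _ => ?_
        rw [smul_smul, map_mul])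
    rw [Finset.sum_insert hi]
    apply IsLocalizedModule.smul_injective (LocalizedModule.mkLinearMap x.primeCompl Γ(M, U)) (w i)
    show (w i : Γ(X, U)) • LocalizedModule.mkLinearMap x.primeCompl Γ(M, U) a = (w i : Γ(X, U)) • _
    have hw : (w i : Γ(X, U)) • LocalizedModule.mk (t i) (w i) =
        LocalizedModule.mkLinearMap x.primeCompl Γ(M, U) (t i) := by
      rw [LocalizedModule.smul'_mk]
      exact LocalizedModule.mk_cancel (w i) (t i)
    rw [map_sub, map_smul, map_smul] at key
    rw [smul_add, smul_comm, hw, Finset.smul_sum]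
    rw [sub_eq_iff_eq_add'] at key
    rw [key]
    congr 1
    refine Finset.sum_congr rfl fun j _ => ?_
    rw [mul_smul]

/-- If every section of the limit of a tower with surjective transition maps on an affine open is, near
every point, the sum of a section coming from a countably generated module and of a combination of
countably many fixed germs, then the tower is eventually constant on that open. -/
theorem eventually_injective (Q : ℕᵒᵖ ⥤ X.Modules) (hQ : ∀ n, Coh.IsQCoh (Q.obj (op n))) {U : X.Opens}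
    (hU : IsAffineOpen U) (k : Type u) [Field k] [Algebra k Γ(X, U)] [IsNoetherianRing Γ(X, U)]
    (hR : ∃ s : Set Γ(X, U), s.Countable ∧ Submodule.span k s = ⊤)
    (hsurj : ∀ n, Function.Surjective ((tr Q n).app U))
    {G : X.Modules} [Coh.IsQCoh G] (φ : G ⟶ limit Q) (g : ℕ → Γ(G, U))
    (hg : Submodule.span Γ(X, U) (Set.range g) = ⊤)
    (hloc : ∀ η : X, η ∈ U → ∃ (W : ℕ → X.Opens) (_ : ∀ j, η ∈ W j) (c : ∀ j, Γ(limit Q, W j)),
      ∀ s : Γ(limit Q, U), ∃ (r : ℕ →₀ Γ(X, U)) (W' : X.Opens) (hW' : W' ≤ U) (y : Γ(G, W')),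
        η ∈ W' ∧ (∀ j ∈ r.support, W' ≤ W j) ∧
        (limit Q).presheaf.map (homOfLE hW').op s = φ.app W' y +
          r.sum (fun j a => X.presheaf.map (homOfLE hW').op a • rz (limit Q) (c j))) :
    ∃ N, ∀ n, N ≤ n → Function.Injective ((tr Q n).app U) := by
  classical
  by_contra hcon
  push Not at hcon
  obtain ⟨x, hx, I, p, hp, hfin, hbad⟩ := TowerCore.exists_bad (fun n => Γ(Q.obj (op n), U))
    (fun n => secLin (tr Q n) U) k hR hsurj hcon
  haveI := hp
  haveI : ∀ n, (x n).IsPrime := hx
  obtain ⟨η, hηU, hη⟩ := exists_point hU p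
  obtain ⟨W, hW, c, hc⟩ := hloc η hηU
  -- basic opens inside the given neighbourhoods
  have hbe : ∀ j, ∃ e : Γ(X, U), X.basicOpen e ≤ W j ∧ η ∈ X.basicOpen e := fun j =>
    QCohLib.exists_basicOpen_nhd hU (hW j) hηU
  choose e heW heη using hbe
  -- numerators
  have hnum : ∀ j n, ∃ (m : ℕ) (t : Γ(Q.obj (op (n + 1)), U)),
      (Q.obj (op (n + 1))).presheaf.map (homOfLE (X.basicOpen_le (e j))).op t =
        X.presheaf.map (homOfLE (X.basicOpen_le (e j))).op (e j) ^ m •
          (Q.obj (op (n + 1))).presheaf.map (homOfLE (heW j)).op ((limit.π Q (op (n + 1))).app (W j) (c j)) :=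
    fun j n => by
      haveI := hQ (n + 1)
      exact (QCohLib.localizingAt_of_isQCoh hU (Q.obj (op (n + 1))) (e j)).exists_extend _
  choose m t ht using hnum
  let γ : ℕ ⊕ ℕ → ∀ n, LocalizedModule (x n).primeCompl Γ(Q.obj (op (n + 1)), U) := fun i n => i.elim
    (fun j => LocalizedModule.mkLinearMap _ _ ((limit.π Q (op (n + 1))).app U (φ.app U (g j))))
    (fun j => if h : e j ∈ x n then 0 else LocalizedModule.mk (t j n)
      ⟨e j ^ m j n, fun hh => h (Ideal.IsPrime.mem_of_pow_mem (hx n) _ hh)⟩)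
  obtain ⟨s, hs, hbad'⟩ := hbad fun i => γ (Equiv.natSumNatEquivNat.symm i)
  obtain ⟨s', hs'⟩ := exists_limit_section Q U s hs
  obtain ⟨r, W', hW', y, hηW', hrW, heq⟩ := hc s'
  obtain ⟨f₀, hf₀, hηf₀⟩ := QCohLib.exists_basicOpen_nhd hU hηW' hηU
  obtain ⟨M, y', hy'⟩ := (QCohLib.localizingAt_of_isQCoh hU G f₀).exists_extend
    (G.presheaf.map (homOfLE hf₀).op y)
  obtain ⟨q, hq⟩ := Finsupp.mem_span_range_iff_exists_finsupp.mp
    (show y' ∈ Submodule.span Γ(X, U) (Set.range g) from hg ▸ Submodule.mem_top)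
  let h : Γ(X, U) := f₀ ^ M
  let E : ℕ ↪ ℕ := ⟨fun j => Equiv.natSumNatEquivNat (Sum.inl j), fun a b e => Sum.inl_injective
    (Equiv.natSumNatEquivNat.injective e)⟩
  let E' : ℕ ↪ ℕ := ⟨fun j => Equiv.natSumNatEquivNat (Sum.inr j), fun a b e => Sum.inr_injective
    (Equiv.natSumNatEquivNat.injective e)⟩
  let R' : ℕ →₀ Γ(X, U) := q.embDomain E + (h • r).embDomain E'
  have hh : h ∉ p := fun hh => (hη f₀).mp hηf₀ (Ideal.IsPrime.mem_of_pow_mem hp M hh)
  -- a bound past which the relevant basic opens contain the points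
  let P : Γ(X, U) := f₀ * ∏ j ∈ r.support, e j
  have hP : P ∉ p := fun hP => by
    rcases hp.mem_or_mem hP with h1 | h1
    · exact (hη f₀).mp hηf₀ h1
    · obtain ⟨j, _, hj⟩ := (Ideal.IsPrime.prod_mem_iff (p := p)).mp h1
      exact (hη (e j)).mp (heη j) hj
  obtain ⟨N, hN⟩ := hfin P hP
  obtain ⟨n, hnI, hNn, hne⟩ := hbad' h R' N hh
  have hPn : P ∉ x n := hN n hnI hNn
  have hen : ∀ j ∈ r.support, e j ∉ x n := fun j hj hmem =>
    hPn (Ideal.mul_mem_left _ _ (Ideal.prod_mem (x n) hj hmem))
  apply hne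
  haveI := hQ (n + 1)
  have hPle : X.basicOpen P ≤ X.basicOpen f₀ := by
    rw [Scheme.basicOpen_mul]; exact inf_le_left
  have hPe : ∀ j ∈ r.support, X.basicOpen P ≤ X.basicOpen (e j) := fun j hj => by
    rw [show P = e j * (f₀ * ∏ i ∈ r.support.erase j, e i) by
      rw [mul_left_comm, Finset.mul_prod_erase _ _ hj], Scheme.basicOpen_mul]
    exact inf_le_left
  have hPW : X.basicOpen P ≤ W' := hPle.trans hf₀
  -- the section of the level
  let π := limit.π Q (op (n + 1))
  let Mn := Q.obj (op (n + 1))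
  let gn : ℕ → Γ(Mn, U) := fun j => π.app U (φ.app U (g j))
  let cn : ℕ → Γ(Mn, X.basicOpen P) := fun j => rz Mn (π.app (W j) (c j))
  have hrzres : ∀ j ∈ r.support, (limit Q).presheaf.map (homOfLE hPW).op (rz (W' := W') (limit Q) (c j)) =
      rz (limit Q) (c j) := fun j hj => by
    rw [rz_eq (hrW j hj), rz_eq (hPW.trans (hrW j hj)), res_res]
  have e0 : (limit Q).presheaf.map (homOfLE (X.basicOpen_le P)).op s' =
      φ.app _ (G.presheaf.map (homOfLE hPW).op y) +
        ∑ j ∈ r.support, X.presheaf.map (homOfLE (X.basicOpen_le P)).op (r j) • rz (limit Q) (c j) := by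
    have := congrArg ((limit Q).presheaf.map (homOfLE hPW).op) heq
    rw [res_res, map_add, Finsupp.sum, res_sum, ← QCohLib.app_map] at this
    refine this.trans (congrArg₂ (· + ·) rfl (Finset.sum_congr rfl fun j hj => ?_))
    rw [QCohLib.map_smul', resR_resR, hrzres j hj]
  have e1 : Mn.presheaf.map (homOfLE (X.basicOpen_le P)).op (s (n + 1)) =
      π.app _ (φ.app _ (G.presheaf.map (homOfLE hPW).op y)) +
        ∑ j ∈ r.support, X.presheaf.map (homOfLE (X.basicOpen_le P)).op (r j) • cn j := by
    rw [← hs' (n + 1), ← QCohLib.app_map, e0, app_add, app_sum]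
    refine congrArg₂ (· + ·) rfl (Finset.sum_congr rfl fun j hj => ?_)
    rw [QCohLib.app_smul]
    refine congrArg _ ?_
    show π.app _ (rz (limit Q) (c j)) = rz Mn (π.app (W j) (c j))
    rw [rz_eq (hPW.trans (hrW j hj)), rz_eq (hPW.trans (hrW j hj)), QCohLib.app_map]
  have e2 : G.presheaf.map (homOfLE (X.basicOpen_le P)).op y' =
      X.presheaf.map (homOfLE (X.basicOpen_le P)).op h • G.presheaf.map (homOfLE hPW).op y := by
    have := congrArg (G.presheaf.map (homOfLE hPle).op) hy'
    rw [res_res, QCohLib.map_smul', res_res, map_pow, resR_resR] at this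
    rw [this, map_pow]
  have e3 : q.sum (fun j a => a • gn j) = π.app U (φ.app U y') := by
    rw [← hq, Finsupp.sum, Finsupp.sum, app_sum, app_sum]
    exact Finset.sum_congr rfl fun j _ => by rw [QCohLib.app_smul, QCohLib.app_smul]
  have hres : Mn.presheaf.map (homOfLE (X.basicOpen_le P)).op
      (h • s (n + 1) - q.sum (fun j a => a • gn j)) =
      ∑ j ∈ r.support, X.presheaf.map (homOfLE (X.basicOpen_le P)).op (h * r j) • cn j := by
    rw [map_sub, QCohLib.map_smul', e1, e3, ← QCohLib.app_map, ← QCohLib.app_map, e2, QCohLib.app_smul,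
      QCohLib.app_smul, smul_add, add_sub_cancel_left, Finset.smul_sum]
    exact Finset.sum_congr rfl fun j _ => by rw [smul_smul, map_mul]
  let w : ℕ → (x n).primeCompl := fun j => if hj : e j ∈ x n then 1 else
    ⟨e j ^ m j n, fun hh => hj (Ideal.IsPrime.mem_of_pow_mem (hx n) _ hh)⟩
  have hgerm := germ_eq_sum hU (x n) hPn r.support _ (fun j => h * r j) (fun j => t j n) w cn
    (fun j hj => by
      have := congrArg (Mn.presheaf.map (homOfLE (hPe j hj)).op) (ht j n)
      rw [res_res, QCohLib.map_smul', res_res, map_pow, resR_resR] at this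
      refine this.trans ?_
      show _ = X.presheaf.map (homOfLE (X.basicOpen_le P)).op (w j : Γ(X, U)) • cn j
      simp only [w, dif_neg (hen j hj), map_pow]
      refine congrArg _ ?_
      show _ = rz Mn (π.app (W j) (c j))
      rw [rz_eq ((hPe j hj).trans (heW j))]) hres
  rw [map_sub, sub_eq_iff_eq_add'] at hgerm
  refine hgerm.trans ?_
  rw [Finsupp.sum_add_index (by simp) (fun _ _ a b => add_smul a b _), Finsupp.sum_embDomain,
    Finsupp.sum_embDomain]
  refine congrArg₂ (· + ·) ?_ ?_
  · rw [Finsupp.sum, map_sum]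
    refine Finset.sum_congr rfl fun j _ => ?_
    rw [map_smul]
    simp [E, γ, gn, π, Mn]
  · rw [Finsupp.sum_smul_index' (h := fun a (b : Γ(X, U)) => b • γ (Equiv.natSumNatEquivNat.symm (E' a)) n)
      (fun _ => zero_smul _ _)]
    refine Finset.sum_congr rfl fun j hj => ?_
    simp [E', γ, w, dif_neg (hen j hj)]

end BlowRegLib.TowerSec
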