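import Groth.Prelude.Def_Red2
import Mathlib.AlgebraicGeometry.Morphisms.Smooth
import Mathlib.CategoryTheory.Monoidal.Cartesian.Grp_
import Mathlib.CategoryTheory.Limits.Constructions.Over.Connected

/-! # Intersections of transversal subgroups -/

set_option autoImplicit false
set_option linter.style.haveILetI false
universe u

open CategoryTheory CategoryTheory.Limits MonoidalCategory CartesianMonoidalCategory MonObj GrpObj AlgebraicGeometry

noncomputable section

namespace BlowRegLib.TransInter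

variable {C : Type*} [Category C] [CartesianMonoidalCategory C] {G P Q I : C} [GrpObj G] [GrpObj P] [GrpObj Q]

theorem isPullback_inter (p : P ⟶ G) (q : Q ⟶ G) [IsMonHom q] (m : I ⟶ P) (m' : I ⟶ Q)
    (hI : IsPullback m m' p q) :
    IsPullback (lift m (m' ≫ ι[Q])) (toUnit I) ((p ⊗ₘ q) ≫ μ[G]) η[G] := by
  have key : ∀ {Z : C} (x : Z ⟶ P) (y : Z ⟶ Q),
      lift x y ≫ (p ⊗ₘ q) ≫ μ[G] = toUnit Z ≫ η[G] ↔ x ≫ p = (y ≫ ι[Q]) ≫ q := by
    intro Z x y
    rw [lift_map_assoc, ← Hom.mul_def, ← Hom.one_def, mul_eq_one_iff_eq_inv, ← Hom.inv_def, GrpObj.inv_comp]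
  have hinv : ∀ {Z : C} (y : Z ⟶ Q), (y ≫ ι[Q]) ≫ ι[Q] = y := fun y => by
    rw [← Hom.inv_def, ← Hom.inv_def, _root_.inv_inv]
  refine ⟨⟨(key _ _).2 (by rw [hinv]; exact hI.w)⟩, ⟨PullbackCone.IsLimit.mk _
    (fun s => hI.lift (s.fst ≫ fst P Q) ((s.fst ≫ snd P Q) ≫ ι[Q]) ((key _ _).1 (by
      rw [show lift (s.fst ≫ fst P Q) (s.fst ≫ snd P Q) = s.fst by rw [← comp_lift, lift_fst_snd, Category.comp_id]]
      exact s.condition.trans (congrArg (· ≫ η[G]) (toUnit_unique _ _)))))
    (fun s => ?_) (fun s => toUnit_unique _ _) (fun s j hj _ => ?_)⟩⟩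
  · apply CartesianMonoidalCategory.hom_ext
    · simp only [Category.assoc, lift_fst, IsPullback.lift_fst]
    · simp only [Category.assoc, lift_snd]
      rw [← Category.assoc, hI.lift_snd]
      simp only [← Category.assoc]
      exact hinv _
  · apply hI.hom_ext
    · rw [hI.lift_fst, ← hj, Category.assoc, lift_fst]
    · rw [hI.lift_snd, ← hj, Category.assoc j (lift m _), lift_snd]
      simp only [← Category.assoc]
      exact (hinv _).symm

/-- S8513 -/
theorem smooth_inter {S : Scheme.{u}} {G P Q I : Over S} [GrpObj G] [GrpObj P] [GrpObj Q]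
    (p : P ⟶ G) (q : Q ⟶ G) (hQ : Red.IsParabolic q)
    (htr : Smooth ((p ⊗ₘ q) ≫ μ[G]).left) (m : I ⟶ P) (m' : I ⟶ Q) (hI : IsPullback m m' p q) :
    Smooth I.hom := by
  haveI := hQ.1
  have sq := (isPullback_inter p q m m' hI).map (Over.forget S)
  have h : Smooth (toUnit I).left := MorphismProperty.of_isPullback sq htr
  have e : (toUnit I).left = I.hom := by
    have := Over.w (toUnit I)
    simpa using this
  rwa [e] at h

end BlowRegLib.TransInter
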