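import Groth.Agent.ProjPtsLib.Basic
import Mathlib.LinearAlgebra.Dual.Lemmas
import Mathlib.LinearAlgebra.FiniteDimensional.Lemmas

/-!
# The three-secant line of a rational quintic
-/

set_option autoImplicit false
universe u

open MvPolynomial

noncomputable section

namespace BlowRegLib

theorem exists_unique_trisecant {K : Type u} [Field K] (V : Submodule K (MvPolynomial (Fin 2) K))
    (hV : V ≤ homogeneousSubmodule (Fin 2) K 5) (hdim : Module.finrank K ↥V = 5)
    (hsep : ∀ e ∈ homogeneousSubmodule (Fin 2) K 2, e ≠ 0 →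
      ∀ F ∈ homogeneousSubmodule (Fin 2) K 5, ∃ v ∈ V,
        ∃ h ∈ homogeneousSubmodule (Fin 2) K 3, F = v + e * h) :
    ∃ g ∈ homogeneousSubmodule (Fin 2) K 3, g ≠ 0 ∧
      (∀ h ∈ homogeneousSubmodule (Fin 2) K 2, g * h ∈ V) ∧
      ∀ g' ∈ homogeneousSubmodule (Fin 2) K 3,
        (∀ h ∈ homogeneousSubmodule (Fin 2) K 2, g' * h ∈ V) → ∃ c : K, g' = c • g := by
  have hd : ∀ m, Module.finrank K (homogeneousSubmodule (Fin 2) K m) = m + 1 := fun m => by
    rw [Groth.Agent.ProjPtsLib.finrank_homogeneous, show 2 + m - 1 = m + 1 by omega, Nat.choose_succ_self_right]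
  haveI hfin : ∀ m, Module.Finite K (homogeneousSubmodule (Fin 2) K m) := fun m =>
    Module.finite_of_finrank_pos (by rw [hd]; omega)
  obtain ⟨F, hF, hFV⟩ : ∃ F ∈ homogeneousSubmodule (Fin 2) K 5, F ∉ V := by
    by_contra h
    push Not at h
    have h1 := hd 5
    rw [← le_antisymm hV h, hdim] at h1
    omega
  obtain ⟨lam, hlamF, hlam⟩ := Submodule.exists_dual_map_eq_bot_of_notMem hFV inferInstance
  have hlamV : ∀ v ∈ V, lam v = 0 := fun v hv => (Submodule.mem_bot K).1 (hlam ▸ Submodule.mem_map_of_mem hv)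
  have hker : V = homogeneousSubmodule (Fin 2) K 5 ⊓ LinearMap.ker lam := by
    have hle : V ≤ homogeneousSubmodule (Fin 2) K 5 ⊓ LinearMap.ker lam :=
      le_inf hV fun v hv => hlamV v hv
    haveI : Module.Finite K ↥(homogeneousSubmodule (Fin 2) K 5 ⊓ LinearMap.ker lam) :=
      Module.Finite.of_injective (Submodule.inclusion inf_le_left) (Submodule.inclusion_injective _)
    refine Submodule.eq_of_le_of_finrank_le hle ?_
    have h1 := Submodule.finrank_lt_finrank_of_lt (s := homogeneousSubmodule (Fin 2) K 5 ⊓ LinearMap.ker lam)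
      (t := homogeneousSubmodule (Fin 2) K 5) (lt_of_le_not_ge inf_le_left fun h => hlamF (h hF).2)
    rw [hd] at h1
    omega
  let T : ↥(homogeneousSubmodule (Fin 2) K 3) →ₗ[K] Module.Dual K ↥(homogeneousSubmodule (Fin 2) K 2) :=
    ((LinearMap.mul K (MvPolynomial (Fin 2) K)).compr₂ lam).compl₁₂
      (homogeneousSubmodule (Fin 2) K 3).subtype (homogeneousSubmodule (Fin 2) K 2).subtype
  have hTapp : ∀ g h, T g h = lam (g.1 * h.1) := fun g h => rfl
  have hTmem : ∀ g : ↥(homogeneousSubmodule (Fin 2) K 3), T g = 0 ↔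
      ∀ h ∈ homogeneousSubmodule (Fin 2) K 2, g.1 * h ∈ V := fun g => by
    refine ⟨fun hg h hh => ?_, fun hg => LinearMap.ext fun h => hlamV _ (hg h.1 h.2)⟩
    rw [hker]
    exact ⟨(mem_homogeneousSubmodule _ _).2 (((mem_homogeneousSubmodule _ _).1 g.2).mul ((mem_homogeneousSubmodule _ _).1 hh)),
      LinearMap.congr_fun hg ⟨h, hh⟩⟩
  have hsurj : Function.Surjective T := by
    rw [← LinearMap.dualMap_injective_iff, injective_iff_map_eq_zero]
    intro φ hφ
    obtain ⟨e, rfl⟩ := (Module.evalEquiv K ↥(homogeneousSubmodule (Fin 2) K 2)).surjective φ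
    suffices he : e = 0 by simp [he]
    by_contra hne
    obtain ⟨v, hv, h, hh, hFe⟩ := hsep e.1 e.2 (fun h => hne (Subtype.ext h)) F hF
    apply hlamF
    rw [hFe, map_add, hlamV v hv, zero_add, mul_comm]
    exact LinearMap.congr_fun hφ ⟨h, hh⟩
  have hk : Module.finrank K (LinearMap.ker T) = 1 := by
    have h1 := LinearMap.finrank_range_add_finrank_ker T
    rw [LinearMap.range_eq_top.2 hsurj, finrank_top, Subspace.dual_finrank_eq, hd, hd] at h1
    omega
  obtain ⟨g, hgT, hg0⟩ := Submodule.exists_mem_ne_zero_of_ne_bot (p := LinearMap.ker T) fun h => by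
    rw [h, finrank_bot] at hk
    exact zero_ne_one hk
  refine ⟨g.1, g.2, fun h => hg0 (Subtype.ext h), (hTmem g).1 hgT, fun g' hg' hgV => ?_⟩
  have heq : Submodule.span K {g} = LinearMap.ker T :=
    Submodule.eq_of_le_of_finrank_le ((Submodule.span_singleton_le_iff_mem _ _).2 hgT) (by
      rw [hk, finrank_span_singleton hg0])
  have hm : (⟨g', hg'⟩ : ↥(homogeneousSubmodule (Fin 2) K 3)) ∈ Submodule.span K {g} :=
    heq ▸ (hTmem ⟨g', hg'⟩).2 hgV
  obtain ⟨c, hc⟩ := Submodule.mem_span_singleton.1 hm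
  exact ⟨c, (congrArg Subtype.val hc).symm⟩

end BlowRegLib
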