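import Groth.Agent.DefClassLib.Basic
import Groth.Agent.IntMultLib.Cartier

/-!
The Mayer–Vietoris sequence of two ideals with zero intersection.
-/

set_option autoImplicit false
set_option linter.style.haveILetI false

noncomputable section

universe u

open CategoryTheory CategoryTheory.Limits AlgebraicGeometry

namespace BlowRegLib

attribute [local instance] Abelian.hasFiniteBiproducts

variable {X : Scheme.{u}}

theorem toSubscheme_app_surjective (I : X.IdealSheafData) (V : X.affineOpens) :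
    Function.Surjective ((ClSub.toSubscheme I).app V.1) := I.subschemeι_app_surjective V

theorem mv_sequence (I₁ I₂ : X.IdealSheafData) (h : I₁ ⊓ I₂ = ⊥)
    (q₁ : ClSub.quotMod I₁ ⟶ ClSub.quotMod (I₁ ⊔ I₂)) (q₂ : ClSub.quotMod I₂ ⟶ ClSub.quotMod (I₁ ⊔ I₂))
    (hq₁ : ClSub.toSubscheme I₁ ≫ q₁ = ClSub.toSubscheme (I₁ ⊔ I₂))
    (hq₂ : ClSub.toSubscheme I₂ ≫ q₂ = ClSub.toSubscheme (I₁ ⊔ I₂)) :
    Epi (biprod.desc q₁ (-q₂)) ∧
      ∃ w : biprod.lift (ClSub.toSubscheme I₁) (ClSub.toSubscheme I₂) ≫ biprod.desc q₁ (-q₂) = 0,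
        Nonempty (IsLimit (KernelFork.ofι (biprod.lift (ClSub.toSubscheme I₁) (ClSub.toSubscheme I₂)) w)) := by
  have w : biprod.lift (ClSub.toSubscheme I₁) (ClSub.toSubscheme I₂) ≫ biprod.desc q₁ (-q₂) = 0 := by
    rw [biprod.lift_desc, Preadditive.comp_neg, hq₁, hq₂, add_neg_cancel]
  let S : ShortComplex X.Modules := ShortComplex.mk _ _ w
  have happ₁ : ∀ (V : X.affineOpens) (x : Γ(X, V.1)),
      q₁.app V.1 ((ClSub.toSubscheme I₁).app V.1 x) = (ClSub.toSubscheme (I₁ ⊔ I₂)).app V.1 x := fun V x => by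
    rw [← hq₁]; rfl
  have happ₂ : ∀ (V : X.affineOpens) (x : Γ(X, V.1)),
      q₂.app V.1 ((ClSub.toSubscheme I₂).app V.1 x) = (ClSub.toSubscheme (I₁ ⊔ I₂)).app V.1 x := fun V x => by
    rw [← hq₂]; rfl
  have hsub : ∀ (I : X.IdealSheafData) (V : X.affineOpens) (x y : Γ(X, V.1)), x - y ∈ I.ideal V →
      (ClSub.toSubscheme I).app V.1 x = (ClSub.toSubscheme I).app V.1 y := fun I V x y hxy => by
    rw [← sub_eq_zero]
    exact (map_sub _ _ _).symm.trans ((IntMultLib.toSubscheme_app_eq_zero_iff I V _).2 hxy)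
  have hdesc : ∀ (V : X.affineOpens) (m : Γ(ClSub.quotMod I₁ ⊞ ClSub.quotMod I₂, V.1)),
      (biprod.desc q₁ (-q₂)).app V.1 m =
        q₁.app V.1 ((biprod.fst : ClSub.quotMod I₁ ⊞ ClSub.quotMod I₂ ⟶ _).app V.1 m) -
          q₂.app V.1 ((biprod.snd : ClSub.quotMod I₁ ⊞ ClSub.quotMod I₂ ⟶ _).app V.1 m) := fun V m => by
    rw [show (biprod.desc q₁ (-q₂) : ClSub.quotMod I₁ ⊞ ClSub.quotMod I₂ ⟶ _) =
      biprod.fst ≫ q₁ - biprod.snd ≫ q₂ by apply biprod.hom_ext' <;> simp]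
    rfl
  have hS : S.ShortExact := by
    refine DefClassLib.shortExact_of_affines (fun V => ?_) (fun V m hm => ?_) (fun V z => ?_)
    · intro a b hab
      let a' : Γ(X, V.1) := a
      let b' : Γ(X, V.1) := b
      have h1 : (ClSub.toSubscheme I₁).app V.1 (a' - b') = 0 := by
        refine (map_sub _ _ _).trans (sub_eq_zero.2 ?_)
        refine ((congrArg (fun φ : Coh.structureModule X ⟶ ClSub.quotMod I₁ => φ.app V.1 a') (biprod.lift_fst _ _)).symm.trans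
          (congrArg ((biprod.fst : ClSub.quotMod I₁ ⊞ ClSub.quotMod I₂ ⟶ _).app V.1) hab)).trans ?_
        exact congrArg (fun φ : Coh.structureModule X ⟶ ClSub.quotMod I₁ => φ.app V.1 b') (biprod.lift_fst _ _)
      have h2 : (ClSub.toSubscheme I₂).app V.1 (a' - b') = 0 := by
        refine (map_sub _ _ _).trans (sub_eq_zero.2 ?_)
        refine ((congrArg (fun φ : Coh.structureModule X ⟶ ClSub.quotMod I₂ => φ.app V.1 a') (biprod.lift_snd _ _)).symm.trans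
          (congrArg ((biprod.snd : ClSub.quotMod I₁ ⊞ ClSub.quotMod I₂ ⟶ _).app V.1) hab)).trans ?_
        exact congrArg (fun φ : Coh.structureModule X ⟶ ClSub.quotMod I₂ => φ.app V.1 b') (biprod.lift_snd _ _)
      have h3 : a' - b' ∈ (I₁ ⊓ I₂).ideal V := by
        rw [Scheme.IdealSheafData.ideal_inf]
        exact ⟨(IntMultLib.toSubscheme_app_eq_zero_iff I₁ V _).1 h1, (IntMultLib.toSubscheme_app_eq_zero_iff I₂ V _).1 h2⟩
      rw [h, Scheme.IdealSheafData.ideal_bot] at h3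
      exact sub_eq_zero.1 (Ideal.mem_bot.1 h3 : a' - b' = 0)
    · obtain ⟨x, hx⟩ := toSubscheme_app_surjective I₁ V ((biprod.fst : ClSub.quotMod I₁ ⊞ ClSub.quotMod I₂ ⟶ _).app V.1 m)
      obtain ⟨y, hy⟩ := toSubscheme_app_surjective I₂ V ((biprod.snd : ClSub.quotMod I₁ ⊞ ClSub.quotMod I₂ ⟶ _).app V.1 m)
      have h0 := (hdesc V m).symm.trans hm
      rw [← hx, ← hy, sub_eq_zero] at h0
      have h4 : ((x : Γ(X, V.1)) - (y : Γ(X, V.1)) : Γ(X, V.1)) ∈ (I₁ ⊔ I₂).ideal V := (IntMultLib.toSubscheme_app_eq_zero_iff _ V _).1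
        ((map_sub _ _ _).trans (sub_eq_zero.2 ((happ₁ V x).symm.trans (h0.trans (happ₂ V y)))))
      rw [Scheme.IdealSheafData.ideal_sup] at h4
      obtain ⟨u, (hu : u ∈ I₁.ideal V), v, (hv : v ∈ I₂.ideal V), huv⟩ := (Submodule.mem_sup (R := Γ(X, V.1)) (M := Γ(X, V.1))).1 h4
      let x' : Γ(X, V.1) := x
      let y' : Γ(X, V.1) := y
      let z' : Γ(X, V.1) := x' - u
      refine ⟨z', ?_⟩
      have e₁ : (ClSub.toSubscheme I₁).app V.1 z' = (ClSub.toSubscheme I₁).app V.1 x :=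
        hsub I₁ V z' x' (by show x' - u - x' ∈ _; rw [sub_sub_cancel_left]; exact neg_mem hu)
      have e₂ : (ClSub.toSubscheme I₂).app V.1 z' = (ClSub.toSubscheme I₂).app V.1 y :=
        hsub I₂ V z' y' (by show x' - u - y' ∈ _; have huv' : u + v = x' - y' := huv; rw [show x' - u - y' = v by linear_combination -huv']; exact hv)
      have hp : ∀ p : Γ(ClSub.quotMod I₁ ⊞ ClSub.quotMod I₂, V.1), p =
          (biprod.inl : ClSub.quotMod I₁ ⟶ _ ⊞ ClSub.quotMod I₂).app V.1 ((biprod.fst : ClSub.quotMod I₁ ⊞ ClSub.quotMod I₂ ⟶ _).app V.1 p) +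
          (biprod.inr : ClSub.quotMod I₂ ⟶ ClSub.quotMod I₁ ⊞ _).app V.1 ((biprod.snd : ClSub.quotMod I₁ ⊞ ClSub.quotMod I₂ ⟶ _).app V.1 p) := fun p => by
        refine Eq.trans ?_ (congrArg (fun φ : ClSub.quotMod I₁ ⊞ ClSub.quotMod I₂ ⟶ _ => φ.app V.1 p) biprod.total.symm).symm.symm
        rfl
      rw [hp m, hp (S.f.app V.1 z'), ← hx, ← hy, ← e₁, ← e₂]
      congr 1
      · exact congrArg _ (congrArg (fun φ : Coh.structureModule X ⟶ ClSub.quotMod I₁ => φ.app V.1 z') (biprod.lift_fst _ _))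
      · exact congrArg _ (congrArg (fun φ : Coh.structureModule X ⟶ ClSub.quotMod I₂ => φ.app V.1 z') (biprod.lift_snd _ _))
    · obtain ⟨x, hx⟩ := toSubscheme_app_surjective (I₁ ⊔ I₂) V z
      refine ⟨(biprod.inl : ClSub.quotMod I₁ ⟶ ClSub.quotMod I₁ ⊞ ClSub.quotMod I₂).app V.1 ((ClSub.toSubscheme I₁).app V.1 x), ?_⟩
      refine (congrArg (fun φ : ClSub.quotMod I₁ ⟶ ClSub.quotMod (I₁ ⊔ I₂) => φ.app V.1 ((ClSub.toSubscheme I₁).app V.1 x))
        (biprod.inl_desc q₁ (-q₂))).trans ((happ₁ V x).trans hx)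
  exact ⟨hS.epi_g, w, ⟨hS.fIsKernel⟩⟩

end BlowRegLib
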