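import Groth.Agent.SecDivLib.Zero
import Groth.Agent.CohCmpLib.SectionPair

/-!
Sections with the same zero scheme differ by a unit.
-/

set_option autoImplicit false
set_option linter.style.haveILetI false

noncomputable section

universe u

open CategoryTheory CategoryTheory.Limits AlgebraicGeometry TopologicalSpace Opposite
open AmpleLib (res)

namespace BlowRegLib

variable {X : Scheme.{u}} [IsIntegral X] {L : X.Modules}

omit [IsIntegral X] in
theorem app_one_res {M : X.Modules} (t : Coh.structureModule X ⟶ M) (U : X.Opens) :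
    res M (le_top : U ≤ ⊤) (t.app ⊤ (show Γ(Coh.structureModule X, ⊤) from (1 : Γ(X, ⊤)))) =
      t.app U (show Γ(Coh.structureModule X, U) from (1 : Γ(X, U))) :=
  (NatTrans.naturality_apply t.mapPresheaf (homOfLE (le_top : U ≤ ⊤)).op (1 : Γ(X, (⊤ : X.Opens)))).symm.trans
    (congrArg (t.app U) (map_one (X.presheaf.map (homOfLE (le_top : U ≤ ⊤)).op).hom))

omit [IsIntegral X] in
theorem exists_factor (hL : PicF.IsInvertible L) (s s' : Coh.structureModule X ⟶ L) [Mono s]
    (h : PicF2.zeroScheme L s' = PicF2.zeroScheme L s) :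
    ∃ φ : Coh.structureModule X ⟶ Coh.structureModule X, φ ≫ s = s' := by
  have hz : s' ≫ cokernel.π s = 0 := by
    refine (KFlatLib.unitSecEquiv _).injective ?_
    change (s' ≫ cokernel.π s).app ⊤ (show Γ(Coh.structureModule X, ⊤) from (1 : Γ(X, ⊤))) =
      (0 : Γ(cokernel s, ⊤))
    choose U₀ e hxU he using fun x => TwistLib.exists_genOn hL x
    choose U hU hxU' hUU using fun x => exists_isAffineOpen_mem_and_subset (U := U₀ x) (x := x) (hxU x)
    refine TopCat.Sheaf.eq_of_locally_eq' ((QCohLib.toAbF X).obj (cokernel s) : TopCat.Sheaf AddCommGrpCat X.toTopCat)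
      U ⊤ (fun x => homOfLE le_top) (fun x _ => Opens.mem_iSup.2 ⟨x, hxU' x⟩) _ _ fun x => ?_
    change res (cokernel s) (le_top : U x ≤ ⊤) _ = res (cokernel s) (le_top : U x ≤ ⊤) _
    rw [app_one_res]
    refine Eq.trans ?_ (map_zero ((cokernel s).presheaf.map (homOfLE (le_top : U x ≤ ⊤)).op).hom).symm
    have heU := (he x).res (hUU x : U x ≤ U₀ x)
    obtain ⟨a, ha⟩ := (heU (U x) le_rfl).2 (MeroLib.secOn s (U x))
    obtain ⟨a', ha'⟩ := (heU (U x) le_rfl).2 (MeroLib.secOn s' (U x))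
    simp only [AmpleLib.res_refl] at ha ha'
    have hI := congrArg (fun I : X.IdealSheafData => I.ideal ⟨U x, hU x⟩) h
    rw [MeroLib.zeroScheme_ideal_of_genOn hL s' (W := ⟨U x, hU x⟩) heU ha',
      MeroLib.zeroScheme_ideal_of_genOn hL s (W := ⟨U x, hU x⟩) heU ha] at hI
    obtain ⟨b, hb⟩ := Ideal.mem_span_singleton'.1 (hI.le (Ideal.mem_span_singleton_self a'))
    have hb' : MeroLib.secOn s' (U x) = b • MeroLib.secOn s (U x) := by
      rw [← ha', ← ha, ← hb, mul_smul]
    have h0 : (cokernel.π s).app (U x) (MeroLib.secOn s (U x)) = 0 :=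
      congrArg (fun g : Coh.structureModule X ⟶ cokernel s =>
        g.app (U x) (show Γ(Coh.structureModule X, U x) from (1 : Γ(X, U x)))) (cokernel.condition s)
    refine Eq.trans (congrArg ((cokernel.π s).app (U x)) hb') ?_
    refine Eq.trans (QCohLib.app_smul (cokernel.π s) (U x) b _) ?_
    rw [h0]
    exact smul_zero b
  exact ⟨Abelian.monoLift s s' hz, Abelian.monoLift_comp s s' hz⟩

theorem zeroScheme_eq_iff (hL : PicF.IsInvertible L) (s s' : Coh.structureModule X ⟶ L) (hs : s ≠ 0) (hs' : s' ≠ 0) :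
    PicF2.zeroScheme L s' = PicF2.zeroScheme L s ↔
      ∃ h : Γ(X, ⊤), IsUnit h ∧ (SecTwist.val s' ⊤ : Γ(L, ⊤)) = h • (SecTwist.val s ⊤ : Γ(L, ⊤)) := by
  haveI : Mono s := CurvLib.mono_of_ne_zero CurvLib.isInvertible_structureModule hL hs
  haveI : Mono s' := CurvLib.mono_of_ne_zero CurvLib.isInvertible_structureModule hL hs'
  refine ⟨fun h => ?_, fun ⟨c, hc, he⟩ => SecDivLib.zeroScheme_congr hL s s' hc he⟩
  obtain ⟨φ, hφ⟩ := exists_factor hL s s' h
  obtain ⟨ψ, hψ⟩ := exists_factor hL s' s h.symm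
  have h1 : ψ ≫ φ = 𝟙 _ := by
    rw [← cancel_mono s, Category.assoc, hφ, hψ, Category.id_comp]
  refine ⟨CohCmpLib.endVal φ, IsUnit.of_mul_eq_one_right (CohCmpLib.endVal ψ)
    ((CohCmpLib.endVal_comp ψ φ).symm.trans ((congrArg CohCmpLib.endVal h1).trans CohCmpLib.endVal_id)), ?_⟩
  have h2 : KFlatLib.unitSecEquiv L s' = CohCmpLib.endVal φ • KFlatLib.unitSecEquiv L s := by
    rw [← hφ]
    refine (KFlatLib.unitSecEquiv_comp φ s).trans ?_
    refine Eq.trans ?_ (QCohLib.app_smul s ⊤ (CohCmpLib.endVal φ) (show Γ(Coh.structureModule X, ⊤) from (1 : Γ(X, ⊤))))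
    exact congrArg (fun z => s.app ⊤ z) (mul_one (CohCmpLib.endVal φ)).symm
  exact h2

end BlowRegLib
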